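/-
Endomorphisms `x_r(t) ↦ x_{ρ r}(ε_r f(t)^{λ_r})` of a tabulated Chevalley group, built from
Steinberg's presentation and a decidable check on the commutator tables.
-/
import Mathlib
import Cfsg.Agent.Lib.Chev.StTheta

set_option autoImplicit false

namespace CfsgLib.Chev

open Cfsg.Lie

universe v

/-- The combinatorial data of an endomorphism: a permutation of the roots, the induced map on the
fundamental roots, signs, exponents and the characteristic in which it is an endomorphism. -/
structure TwPar : Type where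
  rho : ℕ → ℕ
  pi : ℕ → ℕ
  eps : ℕ → ℤ
  lam : ℕ → ℕ
  p : ℕ

namespace TwPar

variable (P : TwPar) (D : ChevalleyDatum)

/-- Normal form of a term: the coefficient is reduced modulo `p`, vanishing terms are dropped. -/
def norm (l : List (ℕ × ℤ × ℕ × ℕ)) : List (ℕ × ℤ × ℕ × ℕ) :=
  (l.map fun c => (c.1, c.2.1 % (P.p : ℤ), c.2.2.1, c.2.2.2)).filter fun c => c.2.1 != 0

/-- The images of the terms of the commutator of `(r, s)`. -/
def imgTerms (r s : ℕ) : List (ℕ × ℤ × ℕ × ℕ) :=
  P.norm ((D.commTerms r s).map fun c =>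
    (P.rho c.1, P.eps c.1 * c.2.1 ^ P.lam c.1 * (-1) ^ (c.2.2.1 * P.lam c.1),
      c.2.2.1 * P.lam c.1, c.2.2.2 * P.lam c.1))

/-- The terms of the commutator of the images of `r` and `s`. -/
def tgtTerms (r s : ℕ) : List (ℕ × ℤ × ℕ × ℕ) :=
  P.norm ((D.commTerms (P.rho r) (P.rho s)).map fun c =>
    (c.1, c.2.1 * (-1) ^ c.2.2.1 * P.eps r ^ c.2.2.1 * P.eps s ^ c.2.2.2,
      P.lam r * c.2.2.1, P.lam s * c.2.2.2))

/-- Two roots whose root elements commute in characteristic `p`. -/
def commB (a b : ℕ) : Bool :=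
  a == b || (b != D.neg a && (D.commTerms a b).all fun c => c.2.1 % (P.p : ℤ) == 0)

/-- The check on one pair of roots. -/
def pairOK (r s : ℕ) : Bool :=
  s == r || s == D.neg r ||
    ((P.imgTerms D r s).isPerm (P.tgtTerms D r s) &&
      (P.imgTerms D r s).all fun a => (P.imgTerms D r s).all fun b => P.commB D a.1 b.1)

/-- All the conditions on the tables. -/
structure OK : Prop where
  rho_lt : ∀ r < D.nroots, P.rho r < D.nroots
  rho_inj : ∀ r < D.nroots, ∀ s < D.nroots, P.rho r = P.rho s → r = s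
  rho_neg : ∀ r < D.nroots, P.rho (D.neg r) = D.neg (P.rho r)
  rho_pos : ∀ r < D.nroots, D.nroots / 2 ≤ r → D.nroots / 2 ≤ P.rho r
  eps_pm : ∀ r < D.nroots, P.eps r = 1 ∨ P.eps r = -1
  eps_neg : ∀ r < D.nroots, P.eps (D.neg r) = P.eps r
  lam_neg : ∀ r < D.nroots, P.lam (D.neg r) = P.lam r
  lam_ok : ∀ r < D.nroots, P.lam r = 1 ∨ (P.lam r = P.p ∧ P.p.Prime)
  pi_lt : ∀ i < D.rank, P.pi i < D.rank
  rho_simple : ∀ i < D.rank, P.rho (D.simple i) = D.simple (P.pi i)
  eps_simple : ∀ i < D.rank, P.eps (D.simple i) = 1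
  rho_refl : ∀ i < D.rank, ∀ s < D.nroots,
    P.rho (D.reflectRoot i s) = D.reflectRoot (P.pi i) (P.rho s)
  comm : ∀ r < D.nroots, ∀ s < D.nroots, P.pairOK D r s = true

variable {K : Type v} [Field K]

/-- The map on coefficients. -/
def coef (f : K →+* K) (r : ℕ) (t : K) : K := (P.eps r : K) * f t ^ P.lam r

/-- The defining property of the endomorphism. -/
def IsTw (f : K →+* K) (σ : ↥(D.group K) →* GL D.Idx K) : Prop :=
  ∀ r, r < D.nroots → ∀ (t : K) (h : xU D r t ∈ D.group K),
    σ ⟨xU D r t, h⟩ = xU D (P.rho r) (P.coef f r t)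

end TwPar

variable {D : ChevalleyDatum} {co : ℕ → ℕ → ℤ} {K : Type v} [Field K] {P : TwPar}

theorem intCast_emod_p (hp : (P.p : K) = 0) (a : ℤ) : ((a % (P.p : ℤ) : ℤ) : K) = (a : K) := by
  have h := congrArg (fun z : ℤ => (z : K)) (Int.emod_add_mul_ediv a (P.p : ℤ))
  simpa [hp] using h

/-- The element attached to a term. -/
noncomputable def termU (D : ChevalleyDatum) {K : Type v} [Field K] (T U : K)
    (c : ℕ × ℤ × ℕ × ℕ) : GL D.Idx K :=
  xU D c.1 ((c.2.1 : K) * T ^ c.2.2.1 * U ^ c.2.2.2)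

theorem Facts.prod_norm (hF : Facts D co) (hp : (P.p : K) = 0) (T U : K) :
    ∀ l : List (ℕ × ℤ × ℕ × ℕ), (∀ c ∈ l, c.1 < D.nroots) →
      ((P.norm l).map (termU D T U)).prod = (l.map (termU D T U)).prod
  | [], _ => rfl
  | c :: l, h => by
    have ih := hF.prod_norm hp T U l fun x hx => h x (List.mem_cons_of_mem _ hx)
    simp only [TwPar.norm, List.map_cons] at ih ⊢
    have e : termU D T U c = termU D T U (c.1, c.2.1 % (P.p : ℤ), c.2.2.1, c.2.2.2) := by
      simp [termU, intCast_emod_p hp]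
    by_cases h0 : c.2.1 % (P.p : ℤ) = 0
    · rw [List.filter_cons_of_neg (by simp [h0]), ih, List.prod_cons, e, termU]
      simp only [h0, Int.cast_zero, zero_mul]
      rw [hF.xU_zero (h c List.mem_cons_self), one_mul]
    · rw [List.filter_cons_of_pos (by simp [h0]), List.map_cons, List.prod_cons, List.prod_cons,
        ih, e]

theorem Facts.commute_of_commB (hF : Facts D co) (hC : CommF.{v} D) (hp : (P.p : K) = 0) {a b : ℕ}
    (ha : a < D.nroots) (hb : b < D.nroots) (h : P.commB D a b = true) (t u : K) :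
    Commute (xU D a t) (xU D b u) := by
  simp only [TwPar.commB, Bool.or_eq_true, Bool.and_eq_true, beq_iff_eq, bne_iff_ne,
    List.all_eq_true] at h
  rcases h with rfl | ⟨hne, hc⟩
  · exact show _ = _ by rw [hF.xU_add ha, hF.xU_add ha, add_comm]
  by_cases e : b = a
  · subst e
    exact show _ = _ by rw [hF.xU_add ha, hF.xU_add ha, add_comm]
  have hw : wU D (cwR D a b t u) = 1 := by
    refine List.prod_eq_one fun x hx => ?_
    obtain ⟨q, hq, rfl⟩ := List.mem_map.1 hx
    obtain ⟨c, hc', rfl⟩ := List.mem_map.1 hq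
    have h0 : (c.2.1 : K) = 0 := by rw [← intCast_emod_p hp, hc c hc', Int.cast_zero]
    show xU D c.1 _ = 1
    rw [h0, zero_mul, zero_mul, hF.xU_zero (hF.commTerms_wt hF.isWeight_omega ha hb hc').1]
  have := hF.xU_comm hC ha hb e hne t u
  rw [hw, mul_one] at this
  exact this.symm

namespace TwPar.OK

variable (h : P.OK D) (f : K →+* K) (hp : (P.p : K) = 0)
include h hp

theorem lam_char {r : ℕ} (hr : r < D.nroots) :
    P.lam r = 1 ∨ ∃ q : ℕ, P.lam r = q ∧ q.Prime ∧ CharP K q := by
  rcases h.lam_ok r hr with h1 | ⟨h1, h2⟩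
  · exact Or.inl h1
  · exact Or.inr ⟨P.p, h1, h2, (CharP.charP_iff_prime_eq_zero h2).2 hp⟩

theorem coef_add {r : ℕ} (hr : r < D.nroots) (t u : K) :
    P.coef f r (t + u) = P.coef f r t + P.coef f r u := by
  rw [coef, coef, coef, ← mul_add, map_add]
  congr 1
  rcases h.lam_char hp hr with h1 | ⟨q, h1, hq, _⟩
  · simp [h1]
  · haveI := Fact.mk hq
    rw [h1, add_pow_char]

theorem coef_neg {r : ℕ} (hr : r < D.nroots) (t : K) : P.coef f r (-t) = -P.coef f r t := by
  have h0 := h.coef_add f hp hr t (-t)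
  have h1 := h.coef_add f hp hr (0 : K) 0
  rw [add_zero, left_eq_add] at h1
  rw [add_neg_cancel, h1] at h0
  exact eq_neg_of_add_eq_zero_right h0.symm

theorem coef_neg_inv {r : ℕ} (hr : r < D.nroots) (c : K) :
    P.coef f (D.neg r) (-c⁻¹) = -(P.coef f r c)⁻¹ := by
  have e : P.coef f (D.neg r) (-c⁻¹) = P.coef f r (-c⁻¹) := by
    rw [coef, coef, h.eps_neg r hr, h.lam_neg r hr]
  rw [e, h.coef_neg f hp hr, coef, coef, map_inv₀, inv_pow, mul_inv]
  rcases h.eps_pm r hr with e | e <;> simp [e]

end TwPar.OK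

theorem Facts.exists_sigma (hF : Facts D co) (hC : CommF.{v} D) (hN : HasNbr D) (h : P.OK D)
    (f : K →+* K) (hp : (P.p : K) = 0)
    (hs : ∀ r < D.nroots, Function.Surjective (P.coef f r)) :
    ∃ σ : ↥(D.group K) →* GL D.Idx K, P.IsTw D f σ := by
  classical
  set g : Fin D.nroots × K → GL D.Idx K := fun q => xU D (P.rho q.1.val) (P.coef f q.1.val q.2)
    with hg
  have hX : ∀ {r : ℕ}, r < D.nroots → ∀ t : K,
      FreeGroup.lift g (D.stX r t) = xU D (P.rho r) (P.coef f r t) := by
    intro r hr t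
    simp [ChevalleyDatum.stX, hr, hg]
  have hW : ∀ {w : List (ℕ × K)}, (∀ p ∈ w, p.1 < D.nroots) →
      FreeGroup.lift g (D.stWord w) = wU D (w.map fun p => (P.rho p.1, P.coef f p.1 p.2)) := by
    intro w hw
    rw [ChevalleyDatum.stWord, map_list_prod, List.map_map, wU, List.map_map]
    exact congrArg List.prod (List.map_congr_left fun p hp => hX (hw p hp) p.2)
  have hrel : ∀ z ∈ D.steinbergRels K, FreeGroup.lift g z = 1 := by
    rintro z ((⟨r, t, u, hr, rfl⟩ | ⟨r, s, t, u, hr, hs', h1, h2, rfl⟩) |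
      ⟨r, t, u, hr, ht, hu, rfl⟩)
    · rw [map_mul, map_mul, map_inv, hX hr, hX hr, hX hr, h.coef_add f hp hr,
        hF.xU_add (h.rho_lt r hr), mul_inv_cancel]
    · have hlt : ∀ c ∈ D.commTerms r s, c.1 < D.nroots := fun c hc =>
        (hF.commTerms_wt hF.isWeight_omega hr hs' hc).1
      have hlt' : ∀ c ∈ D.commTerms (P.rho r) (P.rho s), c.1 < D.nroots := fun c hc =>
        (hF.commTerms_wt hF.isWeight_omega (h.rho_lt r hr) (h.rho_lt s hs') hc).1
      have hk := h.comm r hr s hs'
      simp only [TwPar.pairOK, Bool.or_eq_true, Bool.and_eq_true, beq_iff_eq, h1, h2, false_or,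
        List.isPerm_iff, List.all_eq_true] at hk
      obtain ⟨hperm, hcomm⟩ := hk
      have hw : ∀ p ∈ D.commWord K r s t u, p.1 < D.nroots := fun p hp => by
        obtain ⟨c, hc, rfl⟩ := List.mem_map.1 hp
        exact hlt c hc
      have e1 : FreeGroup.lift g (D.stWord (D.commWord K r s t u)) =
          ((P.imgTerms D r s).map (termU D (f t) (f u))).prod := by
        rw [hW hw, TwPar.imgTerms, hF.prod_norm hp, wU, ChevalleyDatum.commWord, List.map_map,
          List.map_map, List.map_map]
        · refine congrArg List.prod (List.map_congr_left fun c hc => ?_)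
          simp only [Function.comp_apply, termU, TwPar.coef, map_mul, map_pow, map_neg, map_intCast,
            Int.cast_mul, Int.cast_pow, Int.cast_neg, Int.cast_one]
          congr 1
          rw [mul_pow, mul_pow, ← pow_mul, ← pow_mul, neg_pow (f t)]
          ring
        · intro c hc
          obtain ⟨c', hc', rfl⟩ := List.mem_map.1 hc
          exact h.rho_lt _ (hlt c' hc')
      have e2 : wU D (cwR D (P.rho r) (P.rho s) (P.coef f r t) (P.coef f s u)) =
          ((P.tgtTerms D r s).map (termU D (f t) (f u))).prod := by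
        rw [TwPar.tgtTerms, hF.prod_norm hp, wU, cwR, List.map_map, List.map_map]
        · refine congrArg List.prod (List.map_congr_left fun c hc => ?_)
          simp only [Function.comp_apply, termU, TwPar.coef, Int.cast_mul, Int.cast_pow,
            Int.cast_neg, Int.cast_one]
          congr 1
          rw [neg_pow, mul_pow, mul_pow, ← pow_mul, ← pow_mul]
          ring
        · intro c hc
          obtain ⟨c', hc', rfl⟩ := List.mem_map.1 hc
          exact hlt' c' hc'
      have hval : ∀ a ∈ P.imgTerms D r s, a.1 < D.nroots := by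
        intro a ha
        simp only [TwPar.imgTerms, TwPar.norm, List.mem_filter, List.mem_map] at ha
        obtain ⟨⟨_, ⟨c, hc, rfl⟩, rfl⟩, -⟩ := ha
        exact h.rho_lt _ (hlt c hc)
      have e3 : ((P.imgTerms D r s).map (termU D (f t) (f u))).prod =
          ((P.tgtTerms D r s).map (termU D (f t) (f u))).prod := by
        refine (hperm.map _).prod_eq' ?_
        rw [List.pairwise_map]
        refine List.Pairwise.imp_of_mem (fun {a b} ha hb _ => ?_)
          (List.pairwise_of_forall (fun _ _ => trivial) : List.Pairwise (fun _ _ => True) _)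
        exact hF.commute_of_commB hC hp (hval a ha) (hval b hb) (hcomm a ha b hb) _ _
      have hn1 : P.rho s ≠ P.rho r := fun e => h1 (h.rho_inj s hs' r hr e)
      have hn2 : P.rho s ≠ D.neg (P.rho r) := fun e =>
        h2 (h.rho_inj s hs' _ (hF.neg_lt hr) (by rw [e, h.rho_neg r hr]))
      rw [map_mul, map_mul, map_mul, map_mul, map_inv, map_inv, map_inv, hX hr, hX hs', e1, e3,
        ← e2, mul_inv_eq_one, mul_assoc _ (xU D (P.rho s) _),
        hF.xU_comm hC (h.rho_lt r hr) (h.rho_lt s hs') hn1 hn2]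
      group
    · have e : ∀ c : K, c ≠ 0 → FreeGroup.lift g (D.stH r c) =
          hU D (P.rho r) (f c ^ P.lam r) := by
        intro c hc
        have hlt : ∀ p ∈ D.hWord r c, p.1 < D.nroots := by
          intro p hp'
          simp only [ChevalleyDatum.hWord, ChevalleyDatum.nWord, List.mem_append, List.mem_cons,
            List.not_mem_nil, or_false] at hp'
          rcases hp' with (rfl | rfl | rfl) | (rfl | rfl | rfl)
          all_goals first | exact hr | exact hF.neg_lt hr
        rw [ChevalleyDatum.stH, hW hlt]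
        have e : wU D ((D.hWord r c).map fun p => (P.rho p.1, P.coef f p.1 p.2)) =
            nU D (P.rho r) (P.coef f r c) * nU D (P.rho r) (-(P.eps r : K)) := by
          have e1 : P.coef f r (-1) = -(P.eps r : K) := by
            rw [h.coef_neg f hp hr]; simp [TwPar.coef]
          simp only [wU, ChevalleyDatum.hWord, ChevalleyDatum.nWord, List.map_cons, List.map_nil,
            List.map_append, List.prod_append, List.prod_cons, List.prod_nil, mul_one,
            h.rho_neg r hr, h.coef_neg_inv f hp hr, e1, nU, mul_assoc]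
        have hρ := h.rho_lt r hr
        have hcl : f c ^ P.lam r ≠ 0 := pow_ne_zero _ ((map_ne_zero f).2 hc)
        rw [e, TwPar.coef]
        rcases h.eps_pm r hr with he | he
        · simp [he, hU]
        · simp only [he, Int.cast_neg, Int.cast_one, neg_one_mul, _root_.neg_neg]
          have e2 : hU D (P.rho r) (-(f c ^ P.lam r)) =
              hU D (P.rho r) (f c ^ P.lam r) * hU D (P.rho r) (-1) := by
            rw [← Units.val_mk0 hcl, show ((-1 : K)) = ((-1 : Kˣ) : K) by simp,
              show -((Units.mk0 _ hcl : Kˣ) : K) = ((Units.mk0 _ hcl * -1 : Kˣ) : K) by simp,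
              hF.hU_eq hρ, hF.hU_eq hρ, hF.hU_eq hρ, dU_mul]
            exact dU_congr fun s _ => mul_zpow _ _ _
          calc nU D (P.rho r) (-(f c ^ P.lam r)) * nU D (P.rho r) 1
              = hU D (P.rho r) (-(f c ^ P.lam r)) * (hU D (P.rho r) (-1))⁻¹ := by
                rw [hU, hU, mul_inv_rev, ← hF.nU_inv hρ 1]
                group
            _ = hU D (P.rho r) (f c ^ P.lam r) := by rw [e2, mul_inv_cancel_right]
      have hρ := h.rho_lt r hr
      have ht' : f t ^ P.lam r ≠ 0 := pow_ne_zero _ ((map_ne_zero f).2 ht)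
      have hu' : f u ^ P.lam r ≠ 0 := pow_ne_zero _ ((map_ne_zero f).2 hu)
      rw [map_mul, map_mul, map_inv, e t ht, e u hu, e _ (mul_ne_zero ht hu), map_mul, mul_pow,
        mul_inv_eq_one, ← Units.val_mk0 ht', ← Units.val_mk0 hu', ← Units.val_mul, hF.hU_eq hρ,
        hF.hU_eq hρ, hF.hU_eq hρ, dU_mul]
      exact dU_congr fun s _ => (mul_zpow _ _ _).symm
  let ψ : D.SteinbergGroup K →* GL D.Idx K := PresentedGroup.toGroup hrel
  have hψ : ∀ r < D.nroots, ∀ t : K, ψ (D.stGen K r t) = xU D (P.rho r) (P.coef f r t) :=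
    fun r hr t => hX hr t
  have hψG : ∀ x, ψ x ∈ D.group K := by
    intro x
    have hx : x ∈ stClosure D K (fun _ => True) := stClosure_top (D := D) (K := K) ▸ trivial
    induction hx using Subgroup.closure_induction with
    | mem y hy =>
      obtain ⟨r, t, hr, -, rfl⟩ := hy
      rw [hψ r hr]; exact hF.xU_mem_group (h.rho_lt r hr) _
    | one => simp
    | mul a b _ _ ha hb => rw [map_mul]; exact Subgroup.mul_mem _ ha hb
    | inv a _ ha => rw [map_inv]; exact Subgroup.inv_mem _ ha
  have hψsurj : ∀ g ∈ D.group K, ∃ x, ψ x = g := by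
    intro g hg
    rw [hF.group_eq] at hg
    induction hg using Subgroup.closure_induction with
    | mem y hy =>
      obtain ⟨r, t, hr, -, rfl⟩ := hy
      obtain ⟨r', hr', rfl⟩ : ∃ r', r' < D.nroots ∧ P.rho r' = r := by
        have hinj : Function.Injective (fun s : Fin D.nroots =>
            (⟨P.rho s, h.rho_lt _ s.isLt⟩ : Fin D.nroots)) := fun a b e =>
          Fin.ext (h.rho_inj _ a.isLt _ b.isLt (congrArg Fin.val e))
        obtain ⟨s, e⟩ := (Finite.injective_iff_surjective.1 hinj) ⟨r, hr⟩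
        exact ⟨s, s.isLt, congrArg Fin.val e⟩
      obtain ⟨t', rfl⟩ := hs r' hr' t
      exact ⟨_, hψ r' hr' t'⟩
    | one => exact ⟨1, map_one _⟩
    | mul a b _ _ ha hb =>
      obtain ⟨x, rfl⟩ := ha; obtain ⟨y, rfl⟩ := hb; exact ⟨x * y, map_mul _ _ _⟩
    | inv a _ ha => obtain ⟨x, rfl⟩ := ha; exact ⟨x⁻¹, map_inv _ _⟩
  obtain ⟨θ, hθs, hker, hθ⟩ := hF.exists_surj hC hN (K := K)
  have hle : θ.ker ≤ ψ.ker := by
    intro z hz
    rw [hker, Subgroup.mem_center_iff] at hz
    refine hF.group_center hC (hψG z) fun g hg => ?_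
    obtain ⟨x, rfl⟩ := hψsurj g hg
    rw [← map_mul, ← map_mul, hz x]
  refine ⟨θ.liftOfSurjective hθs ⟨ψ, hle⟩, fun r hr t hmem => ?_⟩
  have e : θ (D.stGen K r t) = ⟨xU D r t, hmem⟩ := by
    apply Subtype.ext
    apply Units.ext
    rw [hθ r t hr]; exact (hF.xU_val hr t).symm
  rw [← e, MonoidHom.liftOfRightInverse_comp_apply]
  exact hψ r hr t

end CfsgLib.Chev
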