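/-
The fixed subgroup of a graph endomorphism and its Bruhat decomposition.
-/
import Mathlib
import Cfsg.Agent.Lib.Chev.Twist.Sigma
import Cfsg.Agent.Lib.Chev.Poincare

set_option autoImplicit false

namespace CfsgLib.Chev

open Cfsg.Lie
open scoped Pointwise

universe v

variable {D : ChevalleyDatum} {co : ℕ → ℕ → ℤ} {K : Type v} [Field K] {P : TwPar}

/-- `g'` is the image of the group element `g`. -/
def Img (σ : ↥(D.group K) →* GL D.Idx K) (g g' : GL D.Idx K) : Prop :=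
  ∃ h : g ∈ D.group K, σ ⟨g, h⟩ = g'

/-- The subgroup of fixed elements. -/
def fixS (σ : ↥(D.group K) →* GL D.Idx K) : Subgroup (GL D.Idx K) where
  carrier := {g | Img σ g g}
  one_mem' := ⟨Subgroup.one_mem _, map_one σ⟩
  mul_mem' := by
    rintro a b ⟨ha, ea⟩ ⟨hb, eb⟩
    refine ⟨Subgroup.mul_mem _ ha hb, ?_⟩
    show σ (⟨a, ha⟩ * ⟨b, hb⟩) = _
    rw [map_mul, ea, eb]
  inv_mem' := by
    rintro a ⟨ha, ea⟩
    refine ⟨Subgroup.inv_mem _ ha, ?_⟩
    show σ (⟨a, ha⟩ : ↥(D.group K))⁻¹ = _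
    rw [map_inv, ea]

theorem mem_fixS {σ : ↥(D.group K) →* GL D.Idx K} {g : GL D.Idx K} :
    g ∈ fixS σ ↔ Img σ g g := Iff.rfl

namespace Img

variable {σ : ↥(D.group K) →* GL D.Idx K}

theorem mem {g g' : GL D.Idx K} (h : Img σ g g') : g ∈ D.group K := h.choose

theorem one : Img σ 1 1 := (fixS σ).one_mem

theorem mul {a a' b b' : GL D.Idx K} (h : Img σ a a') (h' : Img σ b b') :
    Img σ (a * b) (a' * b') := by
  obtain ⟨ha, ea⟩ := h; obtain ⟨hb, eb⟩ := h'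
  refine ⟨Subgroup.mul_mem _ ha hb, ?_⟩
  show σ (⟨a, ha⟩ * ⟨b, hb⟩) = _
  rw [map_mul, ea, eb]

theorem inv {a a' : GL D.Idx K} (h : Img σ a a') : Img σ a⁻¹ a'⁻¹ := by
  obtain ⟨ha, ea⟩ := h
  refine ⟨Subgroup.inv_mem _ ha, ?_⟩
  show σ (⟨a, ha⟩ : ↥(D.group K))⁻¹ = _
  rw [map_inv, ea]

theorem unique {a a' a'' : GL D.Idx K} (h : Img σ a a') (h' : Img σ a a'') : a' = a'' := by
  obtain ⟨ha, rfl⟩ := h; obtain ⟨hb, rfl⟩ := h'; rfl

theorem list {α : Type*} (g g' : α → GL D.Idx K) :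
    ∀ l : List α, (∀ a ∈ l, Img σ (g a) (g' a)) → Img σ (l.map g).prod (l.map g').prod
  | [], _ => by simpa using one (σ := σ)
  | a :: l, h => by
    simpa using (h a List.mem_cons_self).mul
      (list g g' l fun b hb => h b (List.mem_cons_of_mem _ hb))

end Img

/-- The standing hypotheses on an endomorphism. -/
structure Sig (D : ChevalleyDatum) (co : ℕ → ℕ → ℤ) {K : Type v} [Field K] (P : TwPar)
    (f : K →+* K) (σ : ↥(D.group K) →* GL D.Idx K) : Prop where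
  hF : Facts D co
  hC : CommF.{v} D
  ok : P.OK D
  char : (P.p : K) = 0
  tw : P.IsTw D f σ

namespace Sig

variable {f : K →+* K} {σ : ↥(D.group K) →* GL D.Idx K} (S : Sig D co P f σ)
include S

theorem img_xU {r : ℕ} (hr : r < D.nroots) (t : K) :
    Img σ (xU D r t) (xU D (P.rho r) (P.coef f r t)) :=
  ⟨S.hF.xU_mem_group hr t, S.tw r hr t _⟩

theorem img_rootClosure {A B : ℕ → Prop} (h : ∀ r < D.nroots, A r → B (P.rho r))
    {g : GL D.Idx K} (hg : g ∈ rootClosure D K A) :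
    ∃ g' ∈ rootClosure D K B, Img σ g g' := by
  induction hg using Subgroup.closure_induction with
  | mem x hx =>
    obtain ⟨r, t, hr, hA, rfl⟩ := hx
    exact ⟨_, xU_mem_rootClosure (P := B) (S.ok.rho_lt r hr) (h r hr hA) _, S.img_xU hr t⟩
  | one => exact ⟨1, Subgroup.one_mem _, Img.one⟩
  | mul a b _ _ ha hb =>
    obtain ⟨a', ha', ea⟩ := ha; obtain ⟨b', hb', eb⟩ := hb
    exact ⟨_, Subgroup.mul_mem _ ha' hb', ea.mul eb⟩
  | inv a _ ha =>
    obtain ⟨a', ha', ea⟩ := ha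
    exact ⟨_, Subgroup.inv_mem _ ha', ea.inv⟩

theorem rho_pos_iff {r : ℕ} (hr : r < D.nroots) :
    D.nroots / 2 ≤ P.rho r ↔ D.nroots / 2 ≤ r := by
  refine ⟨fun h => ?_, S.ok.rho_pos r hr⟩
  by_contra hn
  have h1 := S.ok.rho_pos _ (S.hF.neg_lt hr) ((S.hF.neg_lt_half hr).2 (not_le.1 hn))
  rw [S.ok.rho_neg r hr] at h1
  have := (S.hF.neg_lt_half (S.ok.rho_lt r hr)).1 h1
  omega

theorem pi_inj {i j : ℕ} (hi : i < D.rank) (hj : j < D.rank) (h : P.pi i = P.pi j) : i = j := by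
  refine S.hF.simple_inj hi hj (S.ok.rho_inj _ (S.hF.simple_lt' hi) _ (S.hF.simple_lt' hj) ?_)
  rw [S.ok.rho_simple i hi, S.ok.rho_simple j hj, h]

/-- The induced map on nodes. -/
def piF (i : Fin D.rank) : Fin D.rank := ⟨P.pi i.val, S.ok.pi_lt i.val i.isLt⟩

/-- The induced map on roots. -/
def rhoF (s : Fin D.nroots) : Fin D.nroots := ⟨P.rho s.val, S.ok.rho_lt s.val s.isLt⟩

theorem rhoF_simple (i : Fin D.rank) :
    S.rhoF (S.hF.simpleFin i) = S.hF.simpleFin (S.piF i) :=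
  Fin.ext (S.ok.rho_simple i.val i.isLt)

theorem rhoF_inj : Function.Injective S.rhoF := fun a b h =>
  Fin.ext (S.ok.rho_inj _ a.isLt _ b.isLt (congrArg Fin.val h))

theorem sW_map : ∀ (l : List (Fin D.rank)) (s : Fin D.nroots),
    sW D (l.map S.piF) (S.rhoF s) = S.rhoF (sW D l s)
  | [], s => rfl
  | j :: l, s => by
    rw [List.map_cons, sW_cons, sW_cons, Equiv.Perm.mul_apply, Equiv.Perm.mul_apply,
      sW_map l s]
    apply Fin.ext
    rw [S.hF.sP_val]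
    show D.reflectRoot (P.pi j.val) (P.rho (sW D l s).val) = P.rho (sP D j (sW D l s)).val
    rw [S.hF.sP_val, S.ok.rho_refl j.val j.isLt _ (sW D l s).isLt]

theorem coef_simple {i : ℕ} (hi : i < D.rank) (t : K) :
    P.coef f (D.simple i) t = f t ^ P.lam (D.simple i) := by
  simp [TwPar.coef, S.ok.eps_simple i hi]

theorem img_nU {r : ℕ} (hr : r < D.nroots) (c : K) :
    Img σ (nU D r c) (nU D (P.rho r) (P.coef f r c)) := by
  have h1 := S.img_xU (S.hF.neg_lt hr) (-c⁻¹)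
  rw [S.ok.rho_neg r hr, S.ok.coef_neg_inv f S.char hr] at h1
  exact ((S.img_xU hr c).mul h1).mul (S.img_xU hr c)

theorem img_nS (i : Fin D.rank) : Img σ (nS D K i) (nS D K (S.piF i)) := by
  have := S.img_nU (S.hF.simple_lt' i.isLt) (1 : K)
  rwa [S.ok.rho_simple i.val i.isLt, S.coef_simple i.isLt, map_one, one_pow] at this

theorem img_nW : ∀ l : List (Fin D.rank), Img σ (nW D K l) (nW D K (l.map S.piF))
  | [] => by simpa [nW_nil] using Img.one (σ := σ)
  | j :: l => by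
    rw [List.map_cons, nW_cons, nW_cons]
    exact (S.img_nS j).mul (img_nW l)

theorem img_hU {i : ℕ} (hi : i < D.rank) (c : K) :
    Img σ (hU D (D.simple i) c) (hU D (D.simple (P.pi i)) (f c ^ P.lam (D.simple i))) := by
  have hp := S.hF.simple_lt' hi
  have := (S.img_nU hp c).mul (S.img_nU hp (-1))
  rwa [S.ok.rho_simple i hi, S.ok.coef_neg f S.char hp, S.coef_simple hi, S.coef_simple hi,
    map_one, one_pow] at this

theorem img_diag {g : GL D.Idx K} (hg : g ∈ D.diagonalSubgroup K) :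
    ∃ g' ∈ D.diagonalSubgroup K, Img σ g g' := by
  obtain ⟨c, rfl⟩ := S.hF.mem_diagonal_iff.1 hg
  rw [S.hF.hT_eq_list]
  refine ⟨_, Subgroup.list_prod_mem _ ?_, Img.list _
    (fun i => hU D (D.simple (P.pi i)) (f (c i) ^ P.lam (D.simple i))) _ fun i hi =>
      S.img_hU (List.mem_range.1 hi) _⟩
  intro x hx
  obtain ⟨i, hi, rfl⟩ := List.mem_map.1 hx
  exact S.hF.hU_mem_diagonal (S.hF.simple_lt' (S.ok.pi_lt i (List.mem_range.1 hi)))
    (pow_ne_zero _ ((map_ne_zero f).2 (c i).ne_zero))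

theorem img_borel {g : GL D.Idx K} (hg : g ∈ D.borelSubgroup K) :
    ∃ g' ∈ D.borelSubgroup K, Img σ g g' := by
  obtain ⟨u, hu, h, hh, rfl⟩ := S.hF.mem_borel_iff.1 hg
  obtain ⟨u', hu', eu⟩ := S.img_rootClosure (B := (D.nroots / 2 ≤ ·))
    (fun r hr h => S.ok.rho_pos r hr h) hu
  obtain ⟨h', hh', eh⟩ := S.img_diag hh
  exact ⟨u' * h', S.hF.mem_borel_iff.2 ⟨u', hu', h', hh', rfl⟩, eu.mul eh⟩

/-- A permutation of the roots commuting with the permutation attached to the endomorphism. -/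
def WFix (w : Equiv.Perm (Fin D.nroots)) : Prop := ∀ s, w (S.rhoF s) = S.rhoF (w s)

theorem wfix_one : S.WFix 1 := fun _ => rfl

theorem wfix_mul {v w : Equiv.Perm (Fin D.nroots)} (hv : S.WFix v) (hw : S.WFix w) :
    S.WFix (v * w) := fun s => by
  simp only [Equiv.Perm.mul_apply, hw s, hv (w s)]

theorem wfix_inv {w : Equiv.Perm (Fin D.nroots)} (hw : S.WFix w) : S.WFix w⁻¹ := fun s => by
  apply w.injective
  rw [hw, ← Equiv.Perm.mul_apply, mul_inv_cancel, ← Equiv.Perm.mul_apply, mul_inv_cancel]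
  rfl

theorem posFlip_rho {w : Equiv.Perm (Fin D.nroots)} (hw : S.WFix w) :
    ∀ r < D.nroots, PosFlip w r → PosFlip w (P.rho r) := by
  rintro r hr ⟨hr', hp, hneg⟩
  refine ⟨S.ok.rho_lt r hr, S.ok.rho_pos r hr hp, ?_⟩
  have e := congrArg Fin.val (hw ⟨r, hr⟩)
  simp only [rhoF] at e
  rw [e]
  refine not_le.1 fun h => ?_
  have := (S.rho_pos_iff (w ⟨r, hr⟩).isLt).1 h
  omega

theorem img_monomial {n : GL D.Idx K} (hn : n ∈ D.monomialSubgroup K) :
    ∃ l : List (Fin D.rank), ∃ n' ∈ D.monomialSubgroup K, PermAct n (sW D l) ∧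
      Img σ n n' ∧ PermAct n' (sW D (l.map S.piF)) := by
  obtain ⟨l, h, hh, rfl⟩ := S.hF.exists_nW hn
  obtain ⟨h', hh', eh⟩ := S.img_diag hh
  have hHN : ∀ x ∈ D.diagonalSubgroup K, x ∈ D.monomialSubgroup K := fun x hx => by
    rw [← S.hF.borel_inf_monomial] at hx; exact hx.2
  refine ⟨l, _, Subgroup.mul_mem _ (S.hF.nW_mem (l.map S.piF)) (hHN h' hh'), ?_,
    (S.img_nW l).mul eh, ?_⟩
  · simpa using S.hF.permAct_mul (S.hF.permAct_nW l) (S.hF.permAct_diagonal hh)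
  · simpa using S.hF.permAct_mul (S.hF.permAct_nW (l.map S.piF)) (S.hF.permAct_diagonal hh')

theorem wfix_of_map {l : List (Fin D.rank)} (h : sW D (l.map S.piF) = sW D l) :
    S.WFix (sW D l) := fun s => by
  have := S.sW_map l s
  rwa [h] at this

theorem wfix_of_fixed {n : GL D.Idx K} {w : Equiv.Perm (Fin D.nroots)}
    (hn : n ∈ D.monomialSubgroup K) (hw : PermAct n w) (hfix : n ∈ fixS σ) : S.WFix w := by
  obtain ⟨l, n', -, h1, h2, h3⟩ := S.img_monomial hn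
  obtain rfl := h2.unique hfix
  obtain rfl := S.hF.permAct_unique hw h1
  exact S.wfix_of_map (S.hF.permAct_unique h3 h1)

/-- The Bruhat decomposition of a fixed element. -/
theorem bruhat_fix {g : GL D.Idx K} (hg : g ∈ fixS σ) :
    ∃ b ∈ D.borelSubgroup K, ∃ n ∈ D.monomialSubgroup K, ∃ w, PermAct n w ∧ S.WFix w ∧
      ∃ u, u ∈ fixS σ ∧ u ∈ rootClosure D K (PosFlip w) ∧ g = b * n * u := by
  have hF := S.hF
  obtain ⟨b, hb, n, hn, w, hw, u, hu, rfl⟩ := hF.bruhat_exists S.hC (Img.mem hg)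
  obtain ⟨b', hb', eb⟩ := S.img_borel hb
  obtain ⟨l, n', hn', hl, en, hn'l⟩ := S.img_monomial hn
  have hpl : ∀ r < D.nroots, PosFlip w r → D.nroots / 2 ≤ r := fun r _ ⟨_, h, _⟩ => h
  obtain ⟨u₁, hu₁, eu₁⟩ := S.img_rootClosure (B := (D.nroots / 2 ≤ ·))
    (fun r hr h => S.ok.rho_pos r hr (hpl r hr h)) hu
  have e0 : b' * n' * u₁ = b * n * u := ((eb.mul en).mul eu₁).unique hg
  have hh : n⁻¹ * n' ∈ D.diagonalSubgroup K :=
    hF.bruhat_eqv S.hC hb hb' hn hn' (hF.pos_le_borel (rootClosure_mono hpl hu))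
      (hF.pos_le_borel hu₁) e0.symm
  obtain rfl := hF.permAct_unique hw hl
  have hll : sW D (l.map S.piF) = sW D l := by
    refine hF.permAct_unique (g := n') hn'l ?_
    have := hF.permAct_mul hw (hF.permAct_diagonal hh)
    rwa [mul_inv_cancel_left, mul_one] at this
  have hwf := S.wfix_of_map hll
  obtain ⟨u', hu', eu⟩ := S.img_rootClosure (B := PosFlip (sW D l)) (S.posFlip_rho hwf) hu
  obtain rfl := eu₁.unique eu
  have hnh : n * (n⁻¹ * n') * n⁻¹ ∈ D.borelSubgroup K := by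
    refine hF.diagonal_le_borel (hF.mem_diagonal_of_permAct ?_ ?_)
    · exact Subgroup.mul_mem _ (Subgroup.mul_mem _ hn (Subgroup.mul_mem _ (Subgroup.inv_mem _ hn)
        hn')) (Subgroup.inv_mem _ hn)
    · simpa using hF.permAct_mul (hF.permAct_mul hw (hF.permAct_diagonal hh)) (hF.permAct_inv hn hw)
  obtain ⟨-, h2⟩ := hF.bruhat_unique hw hb (Subgroup.mul_mem _ hb' hnh) hu hu'
    (by rw [← e0]; group)
  subst h2
  exact ⟨b, hb, n, hn, _, hw, hwf, u, eu, hu, rfl⟩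

end Sig

end CfsgLib.Chev
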