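/-
Orbits of nodes, the descent in the fixed Weyl group and splittings of fixed unipotent elements.
-/
import Mathlib
import Cfsg.Agent.Lib.Chev.Twist.Fix
import Cfsg.Agent.Lib.Chev.Parabolic
import Cfsg.Agent.Lib.Chev.Order

set_option autoImplicit false

namespace CfsgLib.Chev

open Cfsg.Lie
open scoped Pointwise

universe v

variable {D : ChevalleyDatum} {co : ℕ → ℕ → ℤ} {K : Type v} [Field K] {P : TwPar}

/-- An orbit of nodes and a word for the longest element of its parabolic subgroup. -/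
structure Orb (D : ChevalleyDatum) : Type where
  nodes : List (Fin D.rank)
  word : List (Fin D.rank)

namespace Orb

/-- The set of indices of an orbit. -/
def set (o : Orb D) : Set ℕ := {j | ∃ i ∈ o.nodes, i.val = j}

/-- The roots in the subsystem of an orbit. -/
def InO (o : Orb D) (co : ℕ → ℕ → ℤ) (r : ℕ) : Prop := InSub D co o.set r

/-- The positive roots of an orbit. -/
def posO (o : Orb D) (co : ℕ → ℕ → ℤ) (r : ℕ) : Prop := D.nroots / 2 ≤ r ∧ o.InO co r

/-- The negative roots of an orbit. -/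
def negO (o : Orb D) (co : ℕ → ℕ → ℤ) (r : ℕ) : Prop := r < D.nroots / 2 ∧ o.InO co r

/-- The longest element. -/
noncomputable def wO (o : Orb D) : Equiv.Perm (Fin D.nroots) := sW D o.word

end Orb

/-- The conditions on a family of orbits. -/
structure OrbOK (co : ℕ → ℕ → ℤ) (P : TwPar) {ι : Type} (O : ι → Orb D) : Prop where
  cover : ∀ i : Fin D.rank, ∃ o, i ∈ (O o).nodes
  disjoint : ∀ o o' (i : Fin D.rank), i ∈ (O o).nodes → i ∈ (O o').nodes → o = o'
  nonempty : ∀ o, ∃ i, i ∈ (O o).nodes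
  trans : ∀ o, ∀ i ∈ (O o).nodes, ∀ j ∈ (O o).nodes,
    j.val = i.val ∨ j.val = P.pi i.val ∨ j.val = P.pi (P.pi i.val)
  word_mem : ∀ o, ∀ i ∈ (O o).word, i ∈ (O o).nodes
  sq : ∀ o, (O o).wO * (O o).wO = 1
  flip : ∀ o (s : Fin D.nroots), D.nroots / 2 ≤ s.val →
    (((O o).wO s).val < D.nroots / 2 ↔ (O o).InO co s.val)
  fixed : ∀ o (s : Fin D.nroots) (h : P.rho s.val < D.nroots),
    ((O o).wO ⟨P.rho s.val, h⟩).val = P.rho ((O o).wO s).val
  rho_in : ∀ o r, r < D.nroots → ((O o).InO co (P.rho r) ↔ (O o).InO co r)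

namespace Facts

variable (hF : Facts D co)
include hF

theorem exists_co_ne {r : ℕ} (hr : r < D.nroots) : ∃ j < D.rank, co r j ≠ 0 := by
  by_contra h
  push Not at h
  refine hF.neg_ne hr (hF.root_ext (hF.neg_lt hr) hr fun j hj => ?_)
  rw [hF.co_neg r hr j hj, h j hj, neg_zero]

theorem neg_of_co_nonpos {r : ℕ} (hr : r < D.nroots) (h : ∀ j < D.rank, co r j ≤ 0) :
    r < D.nroots / 2 := by
  by_contra hp
  obtain ⟨j, hj, hne⟩ := hF.exists_co_ne hr
  exact hne (le_antisymm (h j hj) (hF.co_nonneg r hr (not_lt.1 hp) j hj))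

theorem exists_simple_neg {l : List (Fin D.rank)} (h : sW D l ≠ 1) :
    ∃ i : Fin D.rank, (sW D l (hF.simpleFin i)).val < D.nroots / 2 := by
  by_contra hn
  push Not at hn
  exact h (hF.eq_one_of_pos l fun r hr =>
    hF.pos_of_dist (k := D.rank) (fun i _ => hn i) hr fun j h1 h2 => absurd h2 (not_lt.2 h1))

theorem inSub_simple {J : Set ℕ} {i : ℕ} (hi : i < D.rank) :
    InSub D co J (D.simple i) ↔ i ∈ J := by
  refine ⟨fun h => ?_, fun h j hj hjJ => ?_⟩
  · by_contra hn
    have := h i hi hn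
    rw [hF.co_simple i hi i hi, if_pos rfl] at this
    exact one_ne_zero this
  · rw [hF.co_simple i hi j hj, if_neg (by rintro rfl; exact hjJ h)]

/-- If the fundamental roots of `J` go to negative roots, so do all positive roots of `J`. -/
theorem neg_of_sub {J : Set ℕ} {l : List (Fin D.rank)}
    (h : ∀ i : Fin D.rank, i.val ∈ J → (sW D l (hF.simpleFin i)).val < D.nroots / 2)
    {r : Fin D.nroots} (hp : D.nroots / 2 ≤ r.val) (hr : InSub D co J r.val) :
    (sW D l r).val < D.nroots / 2 := by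
  refine hF.neg_of_co_nonpos (sW D l r).isLt fun j hj => ?_
  rw [hF.co_sW_expand l hp hj]
  refine Finset.sum_nonpos fun q _ => ?_
  by_cases hq : q.val ∈ J
  · exact mul_nonpos_of_nonneg_of_nonpos (hF.co_nonneg _ r.isLt hp _ q.isLt)
      (hF.co_nonpos (sW D l (hF.simpleFin q)).isLt (h q hq) hj)
  · simp [hr q.val q.isLt hq]

/-- If the fundamental roots of `J` stay positive, so do all positive roots of `J`. -/
theorem pos_of_sub {J : Set ℕ} {l : List (Fin D.rank)}
    (h : ∀ i : Fin D.rank, i.val ∈ J → D.nroots / 2 ≤ (sW D l (hF.simpleFin i)).val)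
    {r : Fin D.nroots} (hp : D.nroots / 2 ≤ r.val) (hr : InSub D co J r.val) :
    D.nroots / 2 ≤ (sW D l r).val := by
  refine hF.pos_of_co_nonneg (sW D l r).isLt fun j hj => ?_
  rw [hF.co_sW_expand l hp hj]
  refine Finset.sum_nonneg fun q _ => ?_
  by_cases hq : q.val ∈ J
  · exact mul_nonneg (hF.co_nonneg _ r.isLt hp _ q.isLt)
      (hF.co_nonneg _ (sW D l (hF.simpleFin q)).isLt (h q hq) j hj)
  · simp [hr q.val q.isLt hq]

theorem nW_mem_levi {J : Set ℕ} {l : List (Fin D.rank)} (h : ∀ i ∈ l, i.val ∈ J) :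
    nW D K l ∈ D.leviSubgroup K J := by
  rw [hF.levi_eq]
  refine Subgroup.mem_sup_right (Subgroup.list_prod_mem _ fun x hx => ?_)
  obtain ⟨i, hi, rfl⟩ := List.mem_map.1 hx
  have hp := hF.simple_lt' i.isLt
  have hJ := (hF.inSub_simple i.isLt).2 (h i hi)
  exact hF.nU_mem (fun t => xU_mem_rootClosure (P := InSub D co J) hp hJ t)
    (fun t => xU_mem_rootClosure (P := InSub D co J) (hF.neg_lt hp) (hF.inSub_neg hp hJ) t) 1

/-- Splitting along a normalised part. -/
theorem closure_split (hC : CommF.{v} D) {A Q₁ Q₂ : ℕ → Prop}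
    (hA : ∀ r < D.nroots, A r → Q₁ r ∨ Q₂ r)
    (hn : ∀ i < D.nroots, Q₂ i → ∀ j < D.nroots, Q₁ j →
      j ≠ D.neg i ∧ (i ≠ j → ∀ c ∈ D.commTerms i j, Q₁ c.1))
    {g : GL D.Idx K} (hg : g ∈ rootClosure D K A) :
    ∃ a ∈ rootClosure D K Q₁, ∃ c ∈ rootClosure D K Q₂, g = a * c := by
  have hle : rootClosure D K A ≤ rootClosure D K Q₁ ⊔ rootClosure D K Q₂ := by
    refine (Subgroup.closure_le _).2 ?_
    rintro x ⟨r, t, hr, hAr, rfl⟩
    rcases hA r hr hAr with h | h
    · exact Subgroup.mem_sup_left (xU_mem_rootClosure (P := Q₁) hr h t)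
    · exact Subgroup.mem_sup_right (xU_mem_rootClosure (P := Q₂) hr h t)
  have := hle hg
  rw [← SetLike.mem_coe, Subgroup.coe_mul_of_right_le_normalizer_left (rootClosure D K Q₁)
    (rootClosure D K Q₂) (hF.le_normalizer_rootClosure hC hn)] at this
  obtain ⟨a, ha, c, hc, e⟩ := Set.mem_mul.1 this
  exact ⟨a, ha, c, hc, e.symm⟩

end Facts

end CfsgLib.Chev
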