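/-
Twisted groups: representatives of the longest orbit elements, unipotent fixed points, the Bruhat
decomposition and the order.
-/
import Mathlib
import Cfsg.Agent.Lib.Chev.Twist.Orbit

set_option autoImplicit false

namespace CfsgLib.Chev

open Cfsg.Lie

universe v

variable {D : ChevalleyDatum} {co : ℕ → ℕ → ℤ} {K : Type v} [Field K] {P : TwPar}

/-- A twisted group: a group of fixed elements which contains the fixed elements of the positive
part of every orbit and a non-trivial element of the negative part. -/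
structure TwSys (D : ChevalleyDatum) (co : ℕ → ℕ → ℤ) {K : Type v} [Field K] (P : TwPar)
    (f : K →+* K) (σ : ↥(D.group K) →* GL D.Idx K) {ι : Type} (O : ι → Orb D)
    (G : Subgroup (GL D.Idx K)) : Prop where
  sig : Sig D co P f σ
  orb : OrbOK co P O
  le_fix : G ≤ fixS σ
  posO_le : ∀ o, fixS σ ⊓ rootClosure D K ((O o).posO co) ≤ G
  neg_ex : ∀ o, ∃ v ∈ G, v ∈ rootClosure D K ((O o).negO co) ∧ v ≠ 1

namespace TwSys

variable {f : K →+* K} {σ : ↥(D.group K) →* GL D.Idx K} {ι : Type} {O : ι → Orb D}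
  {G : Subgroup (GL D.Idx K)} (T : TwSys D co P f σ O G)
include T

theorem rho_posO (o : ι) : ∀ r < D.nroots, (O o).posO co r → (O o).posO co (P.rho r) :=
  fun r hr ⟨h1, h2⟩ => ⟨T.sig.ok.rho_pos r hr h1, (T.orb.rho_in o r hr).2 h2⟩

theorem rho_radical (o : ι) : ∀ r < D.nroots, (D.nroots / 2 ≤ r ∧ ¬ (O o).InO co r) →
    (D.nroots / 2 ≤ P.rho r ∧ ¬ (O o).InO co (P.rho r)) :=
  fun r hr ⟨h1, h2⟩ => ⟨T.sig.ok.rho_pos r hr h1, fun h => h2 ((T.orb.rho_in o r hr).1 h)⟩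

theorem wfix_wO (o : ι) : T.sig.WFix (O o).wO := fun s => Fin.ext (T.orb.fixed o s _)

theorem wO_posO (o : ι) {r : Fin D.nroots} (hp : D.nroots / 2 ≤ r.val)
    (h : ¬ (O o).InO co r.val) :
    D.nroots / 2 ≤ ((O o).wO r).val ∧ ¬ (O o).InO co ((O o).wO r).val := by
  have h1 : D.nroots / 2 ≤ ((O o).wO r).val := not_lt.1 fun e => h ((T.orb.flip o r hp).1 e)
  refine ⟨h1, fun e => ?_⟩
  have h2 := (T.orb.flip o _ h1).2 e
  rw [← Equiv.Perm.mul_apply, T.orb.sq o] at h2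
  exact absurd h2 (not_lt.2 hp)

theorem wO_inO (o : ι) {r : Fin D.nroots} (hp : D.nroots / 2 ≤ r.val)
    (h : (O o).InO co r.val) :
    ((O o).wO r).val < D.nroots / 2 ∧ (O o).InO co ((O o).wO r).val := by
  have hF := T.sig.hF
  have h1 := (T.orb.flip o r hp).2 h
  refine ⟨h1, ?_⟩
  set s := hF.negFin ((O o).wO r) with hs
  have hsp : D.nroots / 2 ≤ s.val := (hF.negFin_pos _).2 h1
  have h2 : (O o).wO s = hF.negFin r := by
    rw [hs, Orb.wO, hF.sW_neg, ← Equiv.Perm.mul_apply]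
    show hF.negFin (((O o).wO * (O o).wO) r) = _
    rw [T.orb.sq o]; rfl
  have h3 : ((O o).wO s).val < D.nroots / 2 := by
    rw [h2]
    exact not_le.1 fun e => absurd ((hF.negFin_pos _).1 e) (not_lt.2 hp)
  have h4 := hF.inSub_neg s.isLt ((T.orb.flip o s hsp).1 h3)
  rwa [show D.neg s.val = ((O o).wO r).val from hF.neg_neg ((O o).wO r).isLt] at h4

theorem wO_inv (o : ι) : ((O o).wO)⁻¹ = (O o).wO :=
  inv_eq_of_mul_eq_one_right (T.orb.sq o)

/-- An orbit meeting the set of flipped fundamental roots is flipped. -/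
theorem flips {w : Equiv.Perm (Fin D.nroots)} {l : List (Fin D.rank)} (hl : w = sW D l)
    (hw : T.sig.WFix w) (o : ι) {i : Fin D.rank} (hi : i ∈ (O o).nodes)
    (h : (w (T.sig.hF.simpleFin i)).val < D.nroots / 2) :
    ∀ r : Fin D.nroots, D.nroots / 2 ≤ r.val → (O o).InO co r.val →
      (w r).val < D.nroots / 2 := by
  have hF := T.sig.hF
  have step : ∀ j : Fin D.rank, (w (hF.simpleFin j)).val < D.nroots / 2 →
      (w (hF.simpleFin (T.sig.piF j))).val < D.nroots / 2 := fun j hj => by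
    rw [← T.sig.rhoF_simple, hw]
    exact not_le.1 fun e => absurd ((T.sig.rho_pos_iff (w (hF.simpleFin j)).isLt).1 e)
      (not_le.2 hj)
  intro r hp hr
  subst hl
  refine hF.neg_of_sub (J := (O o).set) ?_ hp hr
  rintro j ⟨j', hj', e⟩
  obtain rfl := Fin.ext e
  rcases T.orb.trans o i hi j' hj' with e | e | e
  · rw [Fin.ext e]; exact h
  · rw [show j' = T.sig.piF i from Fin.ext e]; exact step i h
  · rw [show j' = T.sig.piF (T.sig.piF i) from Fin.ext e]; exact step _ (step i h)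

theorem dichotomy {w : Equiv.Perm (Fin D.nroots)} {l : List (Fin D.rank)} (hl : w = sW D l)
    (hw : T.sig.WFix w) (o : ι) :
    (∀ r : Fin D.nroots, D.nroots / 2 ≤ r.val → (O o).InO co r.val →
      (w r).val < D.nroots / 2) ∨
    (∀ r : Fin D.nroots, D.nroots / 2 ≤ r.val → (O o).InO co r.val →
      D.nroots / 2 ≤ (w r).val) := by
  by_cases h : ∃ i ∈ (O o).nodes, (w (T.sig.hF.simpleFin i)).val < D.nroots / 2
  · obtain ⟨i, hi, h⟩ := h
    exact Or.inl (T.flips hl hw o hi h)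
  · push Not at h
    refine Or.inr fun r hp hr => ?_
    subst hl
    refine T.sig.hF.pos_of_sub (J := (O o).set) ?_ hp hr
    rintro j ⟨j', hj', e⟩
    obtain rfl := Fin.ext e
    exact h j' hj'

theorem exists_orbit {w : Equiv.Perm (Fin D.nroots)} {l : List (Fin D.rank)} (hl : w = sW D l)
    (hw : T.sig.WFix w) (h1 : w ≠ 1) :
    ∃ o, ∀ r : Fin D.nroots, D.nroots / 2 ≤ r.val → (O o).InO co r.val →
      (w r).val < D.nroots / 2 := by
  obtain ⟨i, hi⟩ := T.sig.hF.exists_simple_neg (l := l) (hl ▸ h1)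
  obtain ⟨o, ho⟩ := T.orb.cover i
  exact ⟨o, T.flips hl hw o ho (hl ▸ hi)⟩

/-- Splitting a fixed element into the radical part and the orbit part. -/
theorem split_fix (o : ι) {A : ℕ → Prop} (hAp : ∀ r < D.nroots, A r → D.nroots / 2 ≤ r)
    (hAc : ∀ i < D.nroots, (O o).posO co i → ∀ j < D.nroots, A j → ¬ (O o).InO co j → i ≠ j →
      ∀ c ∈ D.commTerms i j, A c.1)
    (hAρ : ∀ r < D.nroots, A r → A (P.rho r)) {g : GL D.Idx K}
    (hg : g ∈ rootClosure D K A) (hfix : g ∈ fixS σ) :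
    ∃ a, a ∈ fixS σ ∧ a ∈ rootClosure D K (fun r => A r ∧ ¬ (O o).InO co r) ∧
      ∃ c, c ∈ fixS σ ∧ c ∈ rootClosure D K ((O o).posO co) ∧ g = a * c := by
  have hF := T.sig.hF
  have hC := T.sig.hC
  obtain ⟨a, ha, c, hc, rfl⟩ := hF.closure_split hC (A := A)
    (Q₁ := fun r => A r ∧ ¬ (O o).InO co r) (Q₂ := (O o).posO co)
    (fun r hr h => (em ((O o).InO co r)).symm.imp (fun e => ⟨h, e⟩) fun e => ⟨hAp r hr h, e⟩)
    (by
      rintro i hi ⟨hip, hiO⟩ j hj ⟨hjA, hjO⟩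
      refine ⟨fun e => hjO (e ▸ hF.inSub_neg hi hiO), fun hij c hc => ⟨hAc i hi ⟨hip, hiO⟩ j hj
        hjA hjO hij c hc, fun e => ?_⟩⟩
      obtain ⟨-, -, h2, h3⟩ := hF.commTerms_wt (hF.isWeight_degJ (O o).set) hi hj hc
      rw [hF.degJ_eq_zero hiO, hF.degJ_eq_zero e, smul_zero, zero_add, nsmul_eq_mul] at h3
      rcases mul_eq_zero.1 h3.symm with h4 | h4
      · rw [Nat.cast_eq_zero] at h4; omega
      · exact absurd h4 (hF.degJ_pos hj (hAp j hj hjA) hjO).ne') hg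
  obtain ⟨a', ha', ea⟩ := T.sig.img_rootClosure (B := fun r => A r ∧ ¬ (O o).InO co r)
    (fun r hr h => ⟨hAρ r hr h.1, fun e => h.2 ((T.orb.rho_in o r hr).1 e)⟩) ha
  obtain ⟨c', hc', ec⟩ := T.sig.img_rootClosure (T.rho_posO o) hc
  have e : a' * c' = a * c := (ea.mul ec).unique hfix
  have hrad : rootClosure D K (fun r => A r ∧ ¬ (O o).InO co r) ≤
      D.unipotentRadical K (O o).set := by
    rw [hF.radical_eq]; exact rootClosure_mono fun r hr h => ⟨hAp r hr h.1, h.2⟩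
  have hlev : rootClosure D K ((O o).posO co) ≤ D.leviSubgroup K (O o).set := by
    rw [hF.levi_eq]; exact le_trans (rootClosure_mono fun r _ h => h.2) le_sup_right
  have e2 : a⁻¹ * a' = c * c'⁻¹ := by
    rw [eq_mul_inv_iff_mul_eq, mul_assoc, e, inv_mul_cancel_left]
  have h1 : a⁻¹ * a' ∈ D.unipotentRadical K (O o).set ⊓ D.leviSubgroup K (O o).set :=
    ⟨Subgroup.mul_mem _ (Subgroup.inv_mem _ (hrad ha)) (hrad ha'),
      e2 ▸ Subgroup.mul_mem _ (hlev hc) (Subgroup.inv_mem _ (hlev hc'))⟩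
  rw [hF.radical_inf_levi _, Subgroup.mem_bot] at h1
  have e3 : a' = a := (inv_mul_eq_one.1 h1).symm
  subst e3
  have e4 : c' = c := mul_left_cancel e
  subst e4
  exact ⟨a', ea, ha, c', ec, hc, rfl⟩

/-- The decomposition of a non-trivial fixed element of the negative part of an orbit. -/
theorem neg_decomp (o : ι) {v : GL D.Idx K} (hv : v ∈ G)
    (hvn : v ∈ rootClosure D K ((O o).negO co)) (hv1 : v ≠ 1) :
    ∃ u₁, u₁ ∈ fixS σ ∧ u₁ ∈ rootClosure D K ((O o).posO co) ∧ ∃ m, m ∈ G ∧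
      m ∈ D.monomialSubgroup K ∧ PermAct m (O o).wO ∧
      ∃ u, u ∈ fixS σ ∧ u ∈ rootClosure D K ((O o).posO co) ∧ v = u₁ * m * u := by
  have hF := T.sig.hF
  have hC := T.sig.hC
  set J := (O o).set with hJ
  obtain ⟨b, hb, n, hn, w, hw, hwf, u, hufix, hu, e⟩ := T.sig.bruhat_fix (T.le_fix hv)
  have hB : D.borelSubgroup K ≤ D.parabolicSubgroup K J := le_sup_left
  have hvP : v ∈ D.parabolicSubgroup K J := by
    rw [hF.parabolic_eq]
    exact Subgroup.mem_sup_right (rootClosure_mono (fun r _ h => Or.inr h.2) hvn)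
  have hnP : n ∈ D.parabolicSubgroup K J := by
    have hu' : u ∈ D.parabolicSubgroup K J :=
      hB (hF.pos_le_borel (rootClosure_mono (fun r _ ⟨_, h, _⟩ => h) hu))
    have : n = b⁻¹ * v * u⁻¹ := by rw [e]; group
    rw [this]
    exact Subgroup.mul_mem _ (Subgroup.mul_mem _ (Subgroup.inv_mem _ (hB hb)) hvP)
      (Subgroup.inv_mem _ hu')
  obtain ⟨l, h, hh, hnl⟩ := hF.exists_nW hn
  have hwl : w = sW D l := by
    refine hF.permAct_unique hw ?_
    rw [hnl]; simpa using hF.permAct_mul (hF.permAct_nW l) (hF.permAct_diagonal hh)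
  have hflip : ∀ r : Fin D.nroots, D.nroots / 2 ≤ r.val → (w r).val < D.nroots / 2 →
      (O o).InO co r.val := by
    intro r hp hneg
    by_contra hno
    obtain ⟨c, hc, hconj, -⟩ := hw r
    have h1 : n * xU D r.val 1 * n⁻¹ ∈ D.unipotentRadical K J := by
      refine (Subgroup.mem_normalizer_iff.1 (hF.parabolic_le_normalizer hC J hnP) _).1 ?_
      rw [hF.radical_eq]
      exact xU_mem_rootClosure (P := fun r => D.nroots / 2 ≤ r ∧ ¬ InSub D co J r) r.isLt
        ⟨hp, hno⟩ 1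
    rw [hconj, mul_one, hF.radical_eq] at h1
    have h2 : xU D (w r).val c ∈ D.borelSubgroup K ⊓ D.negUnipotent K := by
      refine ⟨hF.pos_le_borel (rootClosure_mono (fun r _ h => h.1) h1), ?_⟩
      rw [hF.negUnipotent_eq]
      exact xU_mem_rootClosure (P := (· < D.nroots / 2)) (w r).isLt hneg c
    rw [hF.borel_inf_neg, Subgroup.mem_bot] at h2
    exact hc (hF.xU_eq_one (w r).isLt h2)
  have hw1 : w ≠ 1 := by
    intro h1
    subst h1
    have hnH := hF.mem_diagonal_of_permAct hn hw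
    have hB' : v ∈ D.borelSubgroup K ⊓ D.negUnipotent K := by
      refine ⟨e ▸ Subgroup.mul_mem _ (Subgroup.mul_mem _ hb (hF.diagonal_le_borel hnH))
        (hF.pos_le_borel (rootClosure_mono (fun r _ ⟨_, h, _⟩ => h) hu)), ?_⟩
      rw [hF.negUnipotent_eq]
      exact rootClosure_mono (fun r _ h => h.1) hvn
    rw [hF.borel_inf_neg, Subgroup.mem_bot] at hB'
    exact hv1 hB'
  have hall : ∀ r : Fin D.nroots, D.nroots / 2 ≤ r.val → (O o).InO co r.val →
      (w r).val < D.nroots / 2 := by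
    obtain ⟨i, hi⟩ := hF.exists_simple_neg (l := l) (hwl ▸ hw1)
    obtain ⟨i', hi', ei⟩ := (hF.inSub_simple i.isLt).1
      (hflip (hF.simpleFin i) (hF.simple_lt i.val i.isLt).1 (hwl ▸ hi))
    obtain rfl := Fin.ext ei
    exact T.flips hwl hwf o hi' (hwl ▸ hi)
  have hweq : w = (O o).wO := by
    have h1 : sW D (l ++ (O o).word) = 1 := by
      refine hF.eq_one_of_pos _ fun r hp => ?_
      rw [sW_append, ← hwl, Equiv.Perm.mul_apply]
      show D.nroots / 2 ≤ (w ((O o).wO r)).val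
      by_cases hr : (O o).InO co r.val
      · obtain ⟨h2, h3⟩ := T.wO_inO o hp hr
        set s := hF.negFin ((O o).wO r) with hs
        have h4 := hall s ((hF.negFin_pos _).2 h2) (hF.inSub_neg ((O o).wO r).isLt h3)
        rw [hs, hwl, hF.sW_neg] at h4
        by_contra h5
        rw [hwl] at h5
        exact absurd ((hF.negFin_pos _).2 (not_le.1 h5)) (not_le.2 h4)
      · obtain ⟨h2, h3⟩ := T.wO_posO o hp hr
        exact not_lt.1 fun h4 => h3 (hflip _ h2 h4)
    rw [sW_append, ← hwl, mul_eq_one_iff_eq_inv] at h1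
    rw [h1]; exact T.wO_inv o
  have huO : u ∈ rootClosure D K ((O o).posO co) :=
    rootClosure_mono (fun r hr ⟨hr', hp, hneg⟩ => ⟨hp, hflip ⟨r, hr'⟩ hp hneg⟩) hu
  have huG : u ∈ G := T.posO_le o ⟨hufix, huO⟩
  have hbn : b * n ∈ G := by
    have : b * n = v * u⁻¹ := by rw [e]; group
    rw [this]; exact Subgroup.mul_mem _ hv (Subgroup.inv_mem _ huG)
  obtain ⟨u₁, hu₁, h₁, hh₁, rfl⟩ := hF.mem_borel_iff.1 hb
  set m := h₁ * n with hm
  have hHN : h₁ ∈ D.monomialSubgroup K := by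
    rw [← hF.borel_inf_monomial] at hh₁; exact hh₁.2
  have hmN : m ∈ D.monomialSubgroup K := Subgroup.mul_mem _ hHN hn
  have hmw : PermAct m w := by simpa using hF.permAct_mul (hF.permAct_diagonal hh₁) hw
  have hH' : (nW D K (O o).word)⁻¹ * m ∈ D.diagonalSubgroup K := by
    refine hF.mem_diagonal_of_permAct
      (Subgroup.mul_mem _ (Subgroup.inv_mem _ (hF.nW_mem _)) hmN) ?_
    have := hF.permAct_mul (hF.permAct_inv (hF.nW_mem (F := K) (O o).word) (hF.permAct_nW _)) hmw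
    rwa [hweq, show (sW D (O o).word)⁻¹ * (O o).wO = 1 from inv_mul_cancel _] at this
  have hlevH : D.diagonalSubgroup K ≤ D.leviSubgroup K J := le_sup_left
  have hmL : m ∈ D.leviSubgroup K J := by
    have := Subgroup.mul_mem _ (hF.nW_mem_levi (K := K) (J := J) (l := (O o).word)
      fun i hi => ⟨i, T.orb.word_mem o i hi, rfl⟩) (hlevH hH')
    rwa [mul_inv_cancel_left] at this
  have hu₁L : u₁ ∈ D.leviSubgroup K J := by
    have hvL : v ∈ D.leviSubgroup K J := by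
      rw [hF.levi_eq]; exact Subgroup.mem_sup_right (rootClosure_mono (fun r _ h => h.2) hvn)
    have huL : u ∈ D.leviSubgroup K J := by
      rw [hF.levi_eq]; exact Subgroup.mem_sup_right (rootClosure_mono (fun r _ h => h.2) huO)
    have : u₁ = v * u⁻¹ * m⁻¹ := by rw [e, hm]; group
    rw [this]
    exact Subgroup.mul_mem _ (Subgroup.mul_mem _ hvL (Subgroup.inv_mem _ huL))
      (Subgroup.inv_mem _ hmL)
  obtain ⟨a, ha, c, hc, hac⟩ := hF.closure_split hC (A := (D.nroots / 2 ≤ ·))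
    (Q₁ := fun r => D.nroots / 2 ≤ r ∧ ¬ InSub D co J r) (Q₂ := (O o).posO co)
    (fun r _ h => (em (InSub D co J r)).symm.imp (fun e => ⟨h, e⟩) fun e => ⟨h, e⟩)
    (by
      rintro i hi ⟨hip, hiO⟩ j hj ⟨hjp, hjO⟩
      refine ⟨fun e => hjO (e ▸ hF.inSub_neg hi hiO), fun hij c hc => ⟨?_, fun e => ?_⟩⟩
      · exact le_of_lt (lt_of_le_of_lt hip (hF.commTerms_lt hi hj hip hjp hc).2.1)
      obtain ⟨-, -, h2, h3⟩ := hF.commTerms_wt (hF.isWeight_degJ J) hi hj hc
      rw [hF.degJ_eq_zero hiO, hF.degJ_eq_zero e, smul_zero, zero_add, nsmul_eq_mul] at h3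
      rcases mul_eq_zero.1 h3.symm with h4 | h4
      · rw [Nat.cast_eq_zero] at h4; omega
      · exact absurd h4 (hF.degJ_pos hj hjp hjO).ne') hu₁
  have hu₁O : u₁ ∈ rootClosure D K ((O o).posO co) := by
    have hcL : c ∈ D.leviSubgroup K J := by
      rw [hF.levi_eq]; exact Subgroup.mem_sup_right (rootClosure_mono (fun r _ h => h.2) hc)
    have h1 : a ∈ D.unipotentRadical K J ⊓ D.leviSubgroup K J := by
      refine ⟨by rw [hF.radical_eq]; exact ha, ?_⟩
      have := Subgroup.mul_mem _ hu₁L (Subgroup.inv_mem _ hcL)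
      rwa [hac, mul_inv_cancel_right] at this
    rw [hF.radical_inf_levi _, Subgroup.mem_bot] at h1
    rwa [hac, h1, one_mul]
  have hbn' : u₁ * m ∈ G := by rw [hm, ← mul_assoc]; exact hbn
  obtain ⟨u₁', hu₁', eu₁⟩ := T.sig.img_rootClosure (B := (D.nroots / 2 ≤ ·))
    (fun r hr h => T.sig.ok.rho_pos r hr h) hu₁
  obtain ⟨-, m', hm', -, em', -⟩ := T.sig.img_monomial hmN
  have e0 : u₁' * m' = u₁ * m := (eu₁.mul em').unique (T.le_fix hbn')
  have h3 : u₁⁻¹ * u₁' ∈ rootClosure D K (D.nroots / 2 ≤ ·) ⊓ D.diagonalSubgroup K := by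
    refine ⟨Subgroup.mul_mem _ (Subgroup.inv_mem _ hu₁) hu₁', ?_⟩
    rw [← hF.borel_inf_monomial]
    refine ⟨hF.pos_le_borel (Subgroup.mul_mem _ (Subgroup.inv_mem _ hu₁) hu₁'), ?_⟩
    rw [show u₁⁻¹ * u₁' = m * m'⁻¹ by rw [eq_mul_inv_iff_mul_eq, mul_assoc, e0,
      inv_mul_cancel_left]]
    exact Subgroup.mul_mem _ hmN (Subgroup.inv_mem _ hm')
  rw [hF.pos_inf_diagonal, Subgroup.mem_bot, inv_mul_eq_one] at h3
  subst h3
  refine ⟨u₁, eu₁, hu₁O, m, ?_, hmN, hweq ▸ hmw, u, hufix, huO, by rw [e, hm]; group⟩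
  have := Subgroup.mul_mem _ (Subgroup.inv_mem _ (T.posO_le o ⟨eu₁, hu₁O⟩)) hbn'
  rwa [inv_mul_cancel_left] at this

theorem exists_nO (o : ι) :
    ∃ m, m ∈ G ∧ m ∈ D.monomialSubgroup K ∧ PermAct m (O o).wO := by
  obtain ⟨v, hv, hvn, hv1⟩ := T.neg_ex o
  obtain ⟨-, -, -, m, h1, h2, h3, -⟩ := T.neg_decomp o hv hvn hv1
  exact ⟨m, h1, h2, h3⟩

/-- The decomposition of the flipped roots. -/
theorem flip_mul {w : Equiv.Perm (Fin D.nroots)} (o : ι) {l : List (Fin D.rank)}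
    (hl : w = sW D l)
    (h : ∀ r : Fin D.nroots, D.nroots / 2 ≤ r.val → (O o).InO co r.val →
      (w r).val < D.nroots / 2) (r : Fin D.nroots) :
    (D.nroots / 2 ≤ r.val ∧ (w r).val < D.nroots / 2 ∧ ¬ (O o).InO co r.val) ↔
      (D.nroots / 2 ≤ ((O o).wO r).val ∧ ((w * (O o).wO) ((O o).wO r)).val < D.nroots / 2) := by
  have hF := T.sig.hF
  have e : (w * (O o).wO) ((O o).wO r) = w r := by
    rw [Equiv.Perm.mul_apply, ← Equiv.Perm.mul_apply (O o).wO, T.orb.sq o, Equiv.Perm.one_apply]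
  rw [e]
  constructor
  · rintro ⟨h1, h2, h3⟩
    exact ⟨(T.wO_posO o h1 h3).1, h2⟩
  · rintro ⟨h1, h2⟩
    have hr : (O o).wO ((O o).wO r) = r := by
      rw [← Equiv.Perm.mul_apply, T.orb.sq o, Equiv.Perm.one_apply]
    by_cases hI : (O o).InO co ((O o).wO r).val
    · exfalso
      obtain ⟨h3, h4⟩ := T.wO_inO o h1 hI
      rw [hr] at h3 h4
      have h5 := h (hF.negFin r) ((hF.negFin_pos r).2 h3) (hF.inSub_neg r.isLt h4)
      rw [hl, hF.sW_neg] at h5
      rw [hl] at h2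
      exact absurd ((hF.negFin_pos _).2 h2) (not_le.2 h5)
    · obtain ⟨h3, h4⟩ := T.wO_posO o h1 hI
      rw [hr] at h3 h4
      exact ⟨h3, h2, h4⟩

theorem flipNum_split {w : Equiv.Perm (Fin D.nroots)} (o : ι) {l : List (Fin D.rank)}
    (hl : w = sW D l)
    (h : ∀ r : Fin D.nroots, D.nroots / 2 ≤ r.val → (O o).InO co r.val →
      (w r).val < D.nroots / 2) :
    flipNum w = flipNum (O o).wO + flipNum (w * (O o).wO) := by
  classical
  rw [flipNum, flipNum, flipNum]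
  rw [← Finset.card_image_of_injective (Finset.univ.filter fun r : Fin D.nroots =>
    D.nroots / 2 ≤ r.val ∧ ((w * (O o).wO) r).val < D.nroots / 2) (O o).wO.injective]
  rw [← Finset.card_union_of_disjoint]
  · refine congrArg Finset.card (Finset.ext fun r => ?_)
    simp only [Finset.mem_filter, Finset.mem_univ, true_and, Finset.mem_union, Finset.mem_image]
    constructor
    · rintro ⟨h1, h2⟩
      by_cases hI : (O o).InO co r.val
      · exact Or.inl ⟨h1, (T.orb.flip o r h1).2 hI⟩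
      · exact Or.inr ⟨(O o).wO r, (T.flip_mul o hl h r).1 ⟨h1, h2, hI⟩,
          by rw [← Equiv.Perm.mul_apply, T.orb.sq o, Equiv.Perm.one_apply]⟩
    · rintro (⟨h1, h2⟩ | ⟨s, hs, rfl⟩)
      · exact ⟨h1, h r h1 ((T.orb.flip o r h1).1 h2)⟩
      · obtain ⟨h1, h2, -⟩ := (T.flip_mul o hl h ((O o).wO s)).2
          (by rwa [← Equiv.Perm.mul_apply (O o).wO (O o).wO, T.orb.sq o, Equiv.Perm.one_apply])
        exact ⟨h1, h2⟩
  · rw [Finset.disjoint_left]
    intro r hr hr'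
    simp only [Finset.mem_filter, Finset.mem_univ, true_and, Finset.mem_image] at hr hr'
    obtain ⟨s, hs, rfl⟩ := hr'
    obtain ⟨-, -, h3⟩ := (T.flip_mul o hl h ((O o).wO s)).2
      (by rwa [← Equiv.Perm.mul_apply (O o).wO (O o).wO, T.orb.sq o, Equiv.Perm.one_apply])
    exact h3 ((T.orb.flip o _ hr.1).1 hr.2)

theorem flipNum_wO_pos (o : ι) : 0 < flipNum (O o).wO := by
  classical
  obtain ⟨i, hi⟩ := T.orb.nonempty o
  rw [flipNum]
  refine Finset.card_pos.2 ⟨T.sig.hF.simpleFin i, ?_⟩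
  simp only [Finset.mem_filter, Finset.mem_univ, true_and]
  exact ⟨(T.sig.hF.simple_lt i.val i.isLt).1, (T.orb.flip o _ (T.sig.hF.simple_lt i.val i.isLt).1).2
    ((T.sig.hF.inSub_simple i.isLt).2 ⟨i, hi, rfl⟩)⟩

/-- Induction along orbit decompositions. -/
theorem w_induction {motive : Equiv.Perm (Fin D.nroots) → Prop} (h1 : motive 1)
    (step : ∀ (w : Equiv.Perm (Fin D.nroots)) (l : List (Fin D.rank)) (o : ι), w = sW D l →
      T.sig.WFix w → (∀ r : Fin D.nroots, D.nroots / 2 ≤ r.val → (O o).InO co r.val →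
      (w r).val < D.nroots / 2) → motive (w * (O o).wO) → motive w) :
    ∀ (w : Equiv.Perm (Fin D.nroots)) (l : List (Fin D.rank)), w = sW D l → T.sig.WFix w →
      motive w := by
  intro w
  induction h : flipNum w using Nat.strong_induction_on generalizing w with
  | _ n ih =>
    intro l hl hw
    by_cases e : w = 1
    · exact e ▸ h1
    obtain ⟨o, ho⟩ := T.exists_orbit hl hw e
    have hsplit := T.flipNum_split o hl ho
    have := T.flipNum_wO_pos o
    refine step w l o hl hw ho (ih _ (by omega) _ rfl (l ++ (O o).word) ?_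
      (T.sig.wfix_mul hw (T.wfix_wO o)))
    rw [sW_append, ← hl]; rfl

/-- The fixed points of a flipped part. -/
noncomputable def fixU (_T : TwSys D co P f σ O G) (w : Equiv.Perm (Fin D.nroots)) : Subgroup (GL D.Idx K) :=
  fixS σ ⊓ rootClosure D K (PosFlip w)

theorem fixU_wO (o : ι) :
    T.fixU (O o).wO = fixS σ ⊓ rootClosure D K ((O o).posO co) := by
  rw [fixU, rootClosure_congr (P := PosFlip (O o).wO) (Q := (O o).posO co) fun r hr =>
    ⟨fun ⟨h, hp, hn⟩ => ⟨hp, (T.orb.flip o ⟨r, h⟩ hp).1 hn⟩,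
      fun ⟨hp, hI⟩ => ⟨hr, hp, (T.orb.flip o ⟨r, hr⟩ hp).2 hI⟩⟩]

theorem fixU_one : T.fixU 1 = ⊥ := by
  rw [eq_bot_iff]
  rintro x ⟨-, hx⟩
  have : rootClosure D K (PosFlip (1 : Equiv.Perm (Fin D.nroots))) = ⊥ := by
    rw [eq_bot_iff]
    refine (Subgroup.closure_le _).2 ?_
    rintro y ⟨r, t, hr, ⟨h, h1, h2⟩, rfl⟩
    simp only [Equiv.Perm.one_apply] at h2
    omega
  rwa [this] at hx

/-- The product decomposition of the fixed points of a flipped part. -/
theorem fixU_equiv {w : Equiv.Perm (Fin D.nroots)} (o : ι) {l : List (Fin D.rank)}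
    (hl : w = sW D l) (hw : T.sig.WFix w)
    (h : ∀ r : Fin D.nroots, D.nroots / 2 ≤ r.val → (O o).InO co r.val →
      (w r).val < D.nroots / 2) :
    ∃ m, m ∈ G ∧ ∃ e : ↥(T.fixU (w * (O o).wO)) × ↥(T.fixU (O o).wO) ≃ ↥(T.fixU w),
      ∀ p, (e p : GL D.Idx K) = m * (p.1 : GL D.Idx K) * m⁻¹ * (p.2 : GL D.Idx K) := by
  have hF := T.sig.hF
  have hC := T.sig.hC
  obtain ⟨m, hmG, hmN, hm⟩ := T.exists_nO o
  have hm' : PermAct m⁻¹ (O o).wO := T.wO_inv o ▸ hF.permAct_inv hmN hm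
  have hmf : m ∈ fixS σ := T.le_fix hmG
  set Q : ℕ → Prop := fun r => PosFlip w r ∧ ¬ (O o).InO co r with hQ
  have hfwd : ∀ s : Fin D.nroots, PosFlip (w * (O o).wO) s.val → Q ((O o).wO s).val := by
    rintro s ⟨_, hp, hn⟩
    obtain ⟨h1, h2, h3⟩ := (T.flip_mul o hl h ((O o).wO s)).2
      (by rw [← Equiv.Perm.mul_apply (O o).wO (O o).wO, T.orb.sq o, Equiv.Perm.one_apply]
          exact ⟨hp, hn⟩)
    exact ⟨⟨((O o).wO s).isLt, h1, h2⟩, h3⟩
  have hbwd : ∀ s : Fin D.nroots, Q s.val → PosFlip (w * (O o).wO) ((O o).wO s).val := by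
    rintro s ⟨⟨_, hp, hn⟩, hI⟩
    obtain ⟨h1, h2⟩ := (T.flip_mul o hl h s).1 ⟨hp, hn, hI⟩
    exact ⟨((O o).wO s).isLt, h1, h2⟩
  have hQle : ∀ {a}, a ∈ rootClosure D K Q → a ∈ D.unipotentRadical K (O o).set := by
    intro a ha
    rw [hF.radical_eq]; exact rootClosure_mono (fun r _ ⟨⟨_, hp, _⟩, hI⟩ => ⟨hp, hI⟩) ha
  have hOle : ∀ {c}, c ∈ T.fixU (O o).wO → c ∈ D.leviSubgroup K (O o).set := by
    intro c hc
    rw [T.fixU_wO] at hc
    rw [hF.levi_eq]; exact Subgroup.mem_sup_right (rootClosure_mono (fun r _ h => h.2) hc.2)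
  let F : ↥(T.fixU (w * (O o).wO)) × ↥(T.fixU (O o).wO) → ↥(T.fixU w) := fun p =>
    ⟨m * (p.1 : GL D.Idx K) * m⁻¹ * (p.2 : GL D.Idx K),
      Subgroup.mul_mem _ (Subgroup.mul_mem _ (Subgroup.mul_mem _ hmf p.1.2.1)
        (Subgroup.inv_mem _ hmf)) p.2.2.1,
      Subgroup.mul_mem _ (rootClosure_mono (fun r _ hr => hr.1)
        (hF.conj_rootClosure hm (P := PosFlip (w * (O o).wO)) (Q := Q) hfwd p.1.2.2))
        (by
          have := (le_of_eq (T.fixU_wO o)) p.2.2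
          exact rootClosure_mono (fun r hr hh => ⟨hr, hh.1, h ⟨r, hr⟩ hh.1 hh.2⟩) this.2)⟩
  have hinj : Function.Injective F := by
    rintro ⟨a, c⟩ ⟨a', c'⟩ e
    have e' : m * (a : GL D.Idx K) * m⁻¹ * c = m * a' * m⁻¹ * c' := congrArg Subtype.val e
    have h1 : (m * (a : GL D.Idx K) * m⁻¹)⁻¹ * (m * a' * m⁻¹) ∈
        D.unipotentRadical K (O o).set ⊓ D.leviSubgroup K (O o).set := by
      refine ⟨Subgroup.mul_mem _ (Subgroup.inv_mem _ (hQle (hF.conj_rootClosure hm hfwd a.2.2)))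
        (hQle (hF.conj_rootClosure hm hfwd a'.2.2)), ?_⟩
      rw [show (m * (a : GL D.Idx K) * m⁻¹)⁻¹ * (m * a' * m⁻¹) = (c : GL D.Idx K) * (c' : GL D.Idx K)⁻¹
        by rw [eq_mul_inv_iff_mul_eq, mul_assoc, ← e']; group]
      exact Subgroup.mul_mem _ (hOle c.2) (Subgroup.inv_mem _ (hOle c'.2))
    rw [hF.radical_inf_levi _, Subgroup.mem_bot, inv_mul_eq_one] at h1
    obtain rfl : a = a' := Subtype.ext (mul_left_cancel (mul_right_cancel h1))
    obtain rfl : c = c' := Subtype.ext (mul_left_cancel e')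
    rfl
  have hsurj : Function.Surjective F := by
    rintro ⟨g, hgfix, hg⟩
    obtain ⟨a, hafix, ha, c, hcfix, hc, rfl⟩ := T.split_fix o (A := PosFlip w)
      (fun r _ ⟨_, hp, _⟩ => hp)
      (by
        rintro i hi ⟨hip, hiO⟩ j hj ⟨_, hjp, hjn⟩ hjO hij c hc
        obtain ⟨hc1, hc2, -⟩ := hF.commTerms_lt hi hj hip hjp hc
        refine ⟨hc1, le_of_lt (lt_of_le_of_lt hip hc2), hF.neg_of_co_nonpos (w ⟨c.1, hc1⟩).isLt
          fun q hq => ?_⟩
        have h3 := (hF.commTerms_wt (hF.weight_sW l hq) hi hj hc).2.2.2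
        simp only [dif_pos hi, dif_pos hj, dif_pos hc1, ← hl] at h3
        rw [h3]
        exact add_nonpos
          (nsmul_nonpos (hF.co_nonpos (w ⟨i, hi⟩).isLt (h ⟨i, hi⟩ hip hiO) hq) _)
          (nsmul_nonpos (hF.co_nonpos (w ⟨j, hj⟩).isLt hjn hq) _))
      (T.sig.posFlip_rho hw) hg hgfix
    have hcU : c ∈ T.fixU (O o).wO := by rw [T.fixU_wO]; exact ⟨hcfix, hc⟩
    refine ⟨(⟨m⁻¹ * a * m, Subgroup.mul_mem _ (Subgroup.mul_mem _ (Subgroup.inv_mem _ hmf) hafix)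
      hmf, ?_⟩, ⟨c, hcU⟩), Subtype.ext ?_⟩
    · have := hF.conj_rootClosure hm' (P := Q) (Q := PosFlip (w * (O o).wO)) hbwd ha
      rwa [inv_inv] at this
    · show m * (m⁻¹ * a * m) * m⁻¹ * c = a * c
      group
  exact ⟨m, hmG, Equiv.ofBijective F ⟨hinj, hsurj⟩, fun p => rfl⟩

theorem fixU_le {w : Equiv.Perm (Fin D.nroots)} {l : List (Fin D.rank)} (hl : w = sW D l)
    (hw : T.sig.WFix w) : T.fixU w ≤ G := by
  refine T.w_induction (motive := fun w => T.fixU w ≤ G) (by rw [T.fixU_one]; exact bot_le)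
    (fun w l o hl hw ho ih => ?_) w l hl hw
  intro g hg
  obtain ⟨m, hm, e, he⟩ := T.fixU_equiv o hl hw ho
  obtain ⟨p, hp⟩ := e.surjective ⟨g, hg⟩
  rw [show g = (e p : GL D.Idx K) by rw [hp], he]
  have h2 := (le_of_eq (T.fixU_wO o)) p.2.2
  exact Subgroup.mul_mem _ (Subgroup.mul_mem _ (Subgroup.mul_mem _ hm (ih p.1.2))
    (Subgroup.inv_mem _ hm)) (T.posO_le o h2)

theorem card_fixU [Finite K] {e q : ℕ}
    (hO : ∀ o, Nat.card ↥(T.fixU (O o).wO) ^ e = q ^ flipNum (O o).wO)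
    {w : Equiv.Perm (Fin D.nroots)} {l : List (Fin D.rank)} (hl : w = sW D l)
    (hw : T.sig.WFix w) : Nat.card ↥(T.fixU w) ^ e = q ^ flipNum w := by
  refine T.w_induction (motive := fun w => Nat.card ↥(T.fixU w) ^ e = q ^ flipNum w) ?_
    (fun w l o hl hw ho ih => ?_) w l hl hw
  · rw [T.fixU_one, Subgroup.card_bot, one_pow, T.sig.hF.flipNum_one, pow_zero]
  · obtain ⟨m, -, eq', -⟩ := T.fixU_equiv o hl hw ho
    rw [← Nat.card_congr eq', Nat.card_prod, mul_pow, ih, hO, T.flipNum_split o hl ho, ← pow_add,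
      add_comm]

/-- Every fixed element of the Weyl group has a representative in the group. -/
theorem exists_rep {w : Equiv.Perm (Fin D.nroots)} {l : List (Fin D.rank)} (hl : w = sW D l)
    (hw : T.sig.WFix w) : ∃ n, n ∈ G ∧ n ∈ D.monomialSubgroup K ∧ PermAct n w := by
  refine T.w_induction
    (motive := fun w => ∃ n, n ∈ G ∧ n ∈ D.monomialSubgroup K ∧ PermAct n w) ?_
    (fun w l o hl hw ho ih => ?_) w l hl hw
  · exact ⟨1, Subgroup.one_mem _, Subgroup.one_mem _,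
      T.sig.hF.permAct_diagonal (Subgroup.one_mem _)⟩
  · obtain ⟨n, h1, h2, h3⟩ := ih
    obtain ⟨m, h4, h5, h6⟩ := T.exists_nO o
    refine ⟨n * m, Subgroup.mul_mem _ h1 h4, Subgroup.mul_mem _ h2 h5, ?_⟩
    have := T.sig.hF.permAct_mul h3 h6
    rwa [mul_assoc, T.orb.sq o, mul_one] at this

theorem exists_w0 : ∃ l : List (Fin D.rank), T.sig.WFix (sW D l) ∧
    ∀ r : Fin D.nroots, D.nroots / 2 ≤ r.val → (sW D l r).val < D.nroots / 2 := by
  have hF := T.sig.hF
  obtain ⟨l, hl⟩ := hF.exists_longest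
  refine ⟨l, T.sig.wfix_of_map ?_, hl⟩
  have hl' : ∀ r : Fin D.nroots, D.nroots / 2 ≤ r.val →
      (sW D (l.map T.sig.piF) r).val < D.nroots / 2 := by
    intro r hp
    obtain ⟨s, rfl⟩ := (Finite.injective_iff_surjective.1 T.sig.rhoF_inj) r
    have := hl s ((T.sig.rho_pos_iff s.isLt).1 hp)
    rw [T.sig.sW_map]
    exact not_le.1 fun h => absurd ((T.sig.rho_pos_iff (sW D l s).isLt).1 h) (not_le.2 this)
  have key : ∀ a : List (Fin D.rank), (∀ r : Fin D.nroots, D.nroots / 2 ≤ r.val →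
      (sW D a r).val < D.nroots / 2) → sW D (l ++ a) = 1 := by
    intro a ha
    refine hF.eq_one_of_pos _ fun r hp => ?_
    rw [sW_append, Equiv.Perm.mul_apply]
    have h1 := ha r hp
    have h2 := hl _ ((hF.negFin_pos (sW D a r)).2 h1)
    rw [hF.sW_neg] at h2
    by_contra h3
    exact absurd ((hF.negFin_pos _).2 (not_le.1 h3)) (not_le.2 h2)
  have e1 := key _ hl'
  have e2 := key _ hl
  rw [sW_append] at e1 e2
  exact mul_left_cancel (e1.trans e2.symm)

theorem posU_le : fixS σ ⊓ rootClosure D K (D.nroots / 2 ≤ ·) ≤ G := by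
  obtain ⟨l, hw, hl⟩ := T.exists_w0
  refine le_trans (le_of_eq ?_) (T.fixU_le rfl hw)
  rw [fixU, rootClosure_congr (P := (D.nroots / 2 ≤ ·)) (Q := PosFlip (sW D l)) fun r hr =>
    ⟨fun h => ⟨hr, h, hl ⟨r, hr⟩ h⟩, fun ⟨_, h, _⟩ => h⟩]

theorem card_posU [Finite K] {e q : ℕ}
    (hO : ∀ o, Nat.card ↥(T.fixU (O o).wO) ^ e = q ^ flipNum (O o).wO) :
    Nat.card ↥(fixS σ ⊓ rootClosure D K (D.nroots / 2 ≤ ·) : Subgroup (GL D.Idx K)) ^ e =
      q ^ (D.nroots / 2) := by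
  classical
  obtain ⟨l, hw, hl⟩ := T.exists_w0
  have h1 := T.card_fixU hO rfl hw
  have h2 : flipNum (sW D l) = D.nroots / 2 := by
    have h3 := T.sig.hF.nroots_even
    rw [flipNum]
    have : (Finset.univ.filter fun r : Fin D.nroots =>
        D.nroots / 2 ≤ r.val ∧ (sW D l r).val < D.nroots / 2) =
        Finset.univ.filter fun r : Fin D.nroots => D.nroots / 2 ≤ r.val :=
      Finset.filter_congr fun r _ => ⟨And.left, fun h => ⟨h, hl r h⟩⟩
    rw [this]
    have h4 : Fintype.card (Fin D.nroots) =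
        (Finset.univ.filter fun r : Fin D.nroots => D.nroots / 2 ≤ r.val).card +
        (Finset.univ.filter fun r : Fin D.nroots => ¬ D.nroots / 2 ≤ r.val).card :=
      (Finset.card_filter_add_card_filter_not _).symm
    have h5 : (Finset.univ.filter fun r : Fin D.nroots => ¬ D.nroots / 2 ≤ r.val).card =
        D.nroots / 2 := by
      refine Eq.trans (Finset.card_bij (t := Finset.range (D.nroots / 2)) (fun r _ => r.val)
        (fun r hr => ?_) (fun a _ b _ => Fin.ext) ?_) (Finset.card_range _)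
      · simp only [Finset.mem_filter] at hr; exact Finset.mem_range.2 (not_le.1 hr.2)
      · intro k hk
        rw [Finset.mem_range] at hk
        exact ⟨⟨k, by omega⟩, by simp; omega, rfl⟩
    rw [Fintype.card_fin] at h4
    omega
  rw [rootClosure_congr (P := (D.nroots / 2 ≤ ·)) (Q := PosFlip (sW D l))
    fun r hr => ⟨fun h => ⟨hr, h, hl ⟨r, hr⟩ h⟩, fun ⟨_, h, _⟩ => h⟩]
  exact h1.trans (by rw [h2])

end TwSys

end CfsgLib.Chev
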