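/-
Bruhat decomposition and order of a twisted group.
-/
import Mathlib
import Cfsg.Agent.Lib.Chev.Twist.Group

set_option autoImplicit false

namespace CfsgLib.Chev

open Cfsg.Lie

universe v

variable {D : ChevalleyDatum} {co : ℕ → ℕ → ℤ} {K : Type v} [Field K] {P : TwPar}

namespace Facts

variable (hF : Facts D co)
include hF

theorem conj_diagonal {n h : GL D.Idx K} (hn : n ∈ D.monomialSubgroup K)
    (hh : h ∈ D.diagonalSubgroup K) : n * h * n⁻¹ ∈ D.diagonalSubgroup K := by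
  obtain ⟨w, hw⟩ := hF.exists_permAct hn
  have hh' := hh
  rw [← hF.borel_inf_monomial] at hh'
  refine hF.mem_diagonal_of_permAct
    (Subgroup.mul_mem _ (Subgroup.mul_mem _ hn hh'.2) (Subgroup.inv_mem _ hn)) ?_
  simpa using hF.permAct_mul (hF.permAct_mul hw (hF.permAct_diagonal hh)) (hF.permAct_inv hn hw)

theorem diag_le_monomial : D.diagonalSubgroup K ≤ D.monomialSubgroup K := fun h hh => by
  rw [← hF.borel_inf_monomial] at hh; exact hh.2

theorem same_perm {n n' : GL D.Idx K} {w : Equiv.Perm (Fin D.nroots)}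
    (hn : n ∈ D.monomialSubgroup K) (hn' : n' ∈ D.monomialSubgroup K) (h : PermAct n w)
    (h' : PermAct n' w) : n⁻¹ * n' ∈ D.diagonalSubgroup K := by
  refine hF.mem_diagonal_of_permAct (Subgroup.mul_mem _ (Subgroup.inv_mem _ hn) hn') ?_
  simpa using hF.permAct_mul (hF.permAct_inv hn h) h'

end Facts

namespace TwSys

variable {f : K →+* K} {σ : ↥(D.group K) →* GL D.Idx K} {ι : Type} {O : ι → Orb D}
  {G : Subgroup (GL D.Idx K)} (T : TwSys D co P f σ O G)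
include T

theorem le_group : G ≤ D.group K := fun _ hg => Img.mem (T.le_fix hg)

theorem mem_B {g : GL D.Idx K} (hg : g ∈ G) (hb : g ∈ D.borelSubgroup K) :
    ∃ u, u ∈ G ∧ u ∈ rootClosure D K (D.nroots / 2 ≤ ·) ∧
      ∃ h, h ∈ G ∧ h ∈ D.diagonalSubgroup K ∧ g = u * h := by
  have hF := T.sig.hF
  obtain ⟨u, hu, h, hh, rfl⟩ := hF.mem_borel_iff.1 hb
  obtain ⟨u', hu', eu⟩ := T.sig.img_rootClosure (B := (D.nroots / 2 ≤ ·))
    (fun r hr h => T.sig.ok.rho_pos r hr h) hu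
  obtain ⟨h', hh', eh⟩ := T.sig.img_diag hh
  have e := (eu.mul eh).unique (T.le_fix hg)
  have h1 : u⁻¹ * u' ∈ rootClosure D K (D.nroots / 2 ≤ ·) ⊓ D.diagonalSubgroup K := by
    refine ⟨Subgroup.mul_mem _ (Subgroup.inv_mem _ hu) hu', ?_⟩
    rw [show u⁻¹ * u' = h * h'⁻¹ by rw [eq_mul_inv_iff_mul_eq, mul_assoc, e, inv_mul_cancel_left]]
    exact Subgroup.mul_mem _ hh (Subgroup.inv_mem _ hh')
  rw [hF.pos_inf_diagonal, Subgroup.mem_bot, inv_mul_eq_one] at h1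
  subst h1
  have huG : u ∈ G := T.posU_le ⟨eu, hu⟩
  refine ⟨u, huG, hu, h, ?_, hh, rfl⟩
  simpa using Subgroup.mul_mem _ (Subgroup.inv_mem _ huG) hg

/-- The Bruhat decomposition in the twisted group. -/
theorem bruhat {g : GL D.Idx K} (hg : g ∈ G) :
    ∃ b, b ∈ G ∧ b ∈ D.borelSubgroup K ∧ ∃ n, n ∈ G ∧ n ∈ D.monomialSubgroup K ∧
      ∃ w, PermAct n w ∧ T.sig.WFix w ∧ ∃ u, u ∈ T.fixU w ∧ g = b * n * u := by
  have hF := T.sig.hF
  obtain ⟨b, hb, n, hn, w, hw, hwf, u, huf, hu, rfl⟩ := T.sig.bruhat_fix (T.le_fix hg)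
  obtain ⟨l, h, hh, hnl⟩ := hF.exists_nW hn
  have hwl : w = sW D l := by
    refine hF.permAct_unique hw ?_
    rw [hnl]; simpa using hF.permAct_mul (hF.permAct_nW l) (hF.permAct_diagonal hh)
  obtain ⟨n₀, h0, h0', h0w⟩ := T.exists_rep hwl hwf
  have huG : u ∈ G := T.fixU_le hwl hwf ⟨huf, hu⟩
  have hb' : b * n * n₀⁻¹ ∈ D.borelSubgroup K := by
    rw [show b * n * n₀⁻¹ = b * (n₀ * (n₀⁻¹ * n) * n₀⁻¹) by group]
    exact Subgroup.mul_mem _ hb (hF.diagonal_le_borel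
      (hF.conj_diagonal h0' (hF.same_perm h0' hn h0w hw)))
  refine ⟨b * n * n₀⁻¹, ?_, hb', n₀, h0, h0', w, h0w, hwf, u, ⟨huf, hu⟩, by group⟩
  have := Subgroup.mul_mem _ (Subgroup.mul_mem _ hg (Subgroup.inv_mem _ huG))
    (Subgroup.inv_mem _ h0)
  rwa [mul_inv_cancel_right] at this

/-- The fixed Weyl group as a finite set. -/
noncomputable def wFix (T : TwSys D co P f σ O G) : Finset (Equiv.Perm (Fin D.nroots)) := by
  classical exact (wFin D D.rank).filter T.sig.WFix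

theorem mem_wFix {w : Equiv.Perm (Fin D.nroots)} :
    w ∈ T.wFix ↔ (∃ l : List (Fin D.rank), w = sW D l) ∧ T.sig.WFix w := by
  classical
  rw [wFix, Finset.mem_filter, mem_wFin_rank]

theorem card_B [Finite K] :
    Nat.card ↥(G ⊓ D.borelSubgroup K : Subgroup (GL D.Idx K)) =
      Nat.card ↥(fixS σ ⊓ rootClosure D K (D.nroots / 2 ≤ ·) : Subgroup (GL D.Idx K)) *
        Nat.card ↥(G ⊓ D.diagonalSubgroup K : Subgroup (GL D.Idx K)) := by
  have hF := T.sig.hF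
  rw [← Nat.card_prod]
  refine (Nat.card_eq_of_bijective (fun p => (⟨(p.1 : GL D.Idx K) * p.2,
    Subgroup.mul_mem _ (T.posU_le p.1.2) p.2.2.1,
    Subgroup.mul_mem _ (hF.pos_le_borel p.1.2.2) (hF.diagonal_le_borel p.2.2.2)⟩ :
      ↥(G ⊓ D.borelSubgroup K : Subgroup (GL D.Idx K)))) ⟨?_, ?_⟩).symm
  · rintro ⟨u, h⟩ ⟨u', h'⟩ e
    have e' : (u : GL D.Idx K) * h = u' * h' := congrArg Subtype.val e
    have h1 : (u : GL D.Idx K)⁻¹ * u' ∈
        rootClosure D K (D.nroots / 2 ≤ ·) ⊓ D.diagonalSubgroup K := by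
      refine ⟨Subgroup.mul_mem _ (Subgroup.inv_mem _ u.2.2) u'.2.2, ?_⟩
      rw [show (u : GL D.Idx K)⁻¹ * u' = (h : GL D.Idx K) * (h' : GL D.Idx K)⁻¹ by
        rw [eq_mul_inv_iff_mul_eq, mul_assoc, ← e', inv_mul_cancel_left]]
      exact Subgroup.mul_mem _ h.2.2 (Subgroup.inv_mem _ h'.2.2)
    rw [hF.pos_inf_diagonal, Subgroup.mem_bot, inv_mul_eq_one] at h1
    obtain rfl : u = u' := Subtype.ext h1
    obtain rfl : h = h' := Subtype.ext (mul_left_cancel e')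
    rfl
  · rintro ⟨g, hg, hb⟩
    obtain ⟨u, huG, hu, h, hhG, hh, rfl⟩ := T.mem_B hg hb
    exact ⟨(⟨u, T.le_fix huG, hu⟩, ⟨h, hhG, hh⟩), rfl⟩

/-- The order of a twisted group. -/
theorem card_group [Finite K] :
    Nat.card ↥G = Nat.card ↥(G ⊓ D.borelSubgroup K : Subgroup (GL D.Idx K)) *
      ∑ w ∈ T.wFix, Nat.card ↥(T.fixU w) := by
  classical
  have hF := T.sig.hF
  have hrep : ∀ w : T.wFix, ∃ n, n ∈ G ∧ n ∈ D.monomialSubgroup K ∧ PermAct n w.val := fun w => by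
    obtain ⟨⟨l, hl⟩, hw⟩ := T.mem_wFix.1 w.2
    exact T.exists_rep hl hw
  choose r hrG hrN hrw using hrep
  have hUle : ∀ w : T.wFix, T.fixU w.val ≤ G := fun w => by
    obtain ⟨⟨l, hl⟩, hw⟩ := T.mem_wFix.1 w.2
    exact T.fixU_le hl hw
  have hUB : ∀ (w : Equiv.Perm (Fin D.nroots)) {x : GL D.Idx K}, x ∈ T.fixU w →
      x ∈ D.borelSubgroup K := fun w x hx =>
    hF.pos_le_borel (rootClosure_mono (fun r _ ⟨_, h, _⟩ => h) hx.2)
  let F : ↥(G ⊓ D.borelSubgroup K : Subgroup (GL D.Idx K)) ×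
      (Σ w : T.wFix, ↥(T.fixU w.val)) → ↥G := fun p =>
    ⟨(p.1 : GL D.Idx K) * r p.2.1 * p.2.2,
      Subgroup.mul_mem _ (Subgroup.mul_mem _ p.1.2.1 (hrG _)) (hUle _ p.2.2.2)⟩
  have hb : Function.Bijective F := by
    constructor
    · rintro ⟨b, w, u⟩ ⟨b', w', u'⟩ e
      have e' : (b : GL D.Idx K) * r w * u = b' * r w' * u' := congrArg Subtype.val e
      have h1 := hF.bruhat_eqv T.sig.hC b.2.2 b'.2.2 (hrN w) (hrN w') (hUB _ u.2) (hUB _ u'.2) e'
      obtain rfl : w = w' := by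
        have h2 := hF.permAct_mul (hrw w) (hF.permAct_diagonal h1)
        rw [mul_inv_cancel_left, mul_one] at h2
        exact Subtype.ext (hF.permAct_unique h2 (hrw w'))
      obtain ⟨h3, h4⟩ := hF.bruhat_unique (hrw w) b.2.2 b'.2.2 u.2.2 u'.2.2 e'
      obtain rfl := Subtype.ext h3
      obtain rfl : u = u' := Subtype.ext h4
      rfl
    · rintro ⟨g, hg⟩
      obtain ⟨b, hbG, hb, n, hnG, hn, w, hw, hwf, u, hu, rfl⟩ := T.bruhat hg
      obtain ⟨l, h, hh, hnl⟩ := hF.exists_nW hn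
      have hwl : w = sW D l := by
        refine hF.permAct_unique hw ?_
        rw [hnl]; simpa using hF.permAct_mul (hF.permAct_nW l) (hF.permAct_diagonal hh)
      set W : T.wFix := ⟨w, T.mem_wFix.2 ⟨⟨l, hwl⟩, hwf⟩⟩
      refine ⟨(⟨b * n * (r W)⁻¹, Subgroup.mul_mem _ (Subgroup.mul_mem _ hbG hnG)
        (Subgroup.inv_mem _ (hrG W)), ?_⟩, ⟨W, ⟨u, hu⟩⟩), Subtype.ext ?_⟩
      · rw [show b * n * (r W)⁻¹ = b * (r W * ((r W)⁻¹ * n) * (r W)⁻¹) by group]
        exact Subgroup.mul_mem _ hb (hF.diagonal_le_borel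
          (hF.conj_diagonal (hrN W) (hF.same_perm (hrN W) hn (hrw W) hw)))
      · show b * n * (r W)⁻¹ * r W * u = b * n * u
        group
  rw [← Nat.card_eq_of_bijective F hb, Nat.card_prod, Nat.card_sigma,
    ← Finset.sum_coe_sort T.wFix]

end TwSys

end CfsgLib.Chev
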