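/-
The (B, N)-pair of a twisted group, the core of `B¹` and the homomorphism to the Weyl group.
-/
import Mathlib
import Cfsg.Agent.Lib.Chev.Twist.Bruhat
import Cfsg.Agent.Lib.Chev.BNPair

set_option autoImplicit false

namespace CfsgLib.Chev

open Cfsg.Lie

universe v

variable {D : ChevalleyDatum} {co : ℕ → ℕ → ℤ} {K : Type v} [Field K] {P : TwPar}

namespace TwSys

variable {f : K →+* K} {σ : ↥(D.group K) →* GL D.Idx K} {ι : Type} {O : ι → Orb D}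
  {G : Subgroup (GL D.Idx K)} (T : TwSys D co P f σ O G)
include T

/-- The chosen representative of the longest element of an orbit. -/
noncomputable def nO (o : ι) : GL D.Idx K := (T.exists_nO o).choose

theorem nO_mem (o : ι) : T.nO o ∈ G := (T.exists_nO o).choose_spec.1
theorem nO_monomial (o : ι) : T.nO o ∈ D.monomialSubgroup K := (T.exists_nO o).choose_spec.2.1
theorem nO_perm (o : ι) : PermAct (T.nO o) (O o).wO := (T.exists_nO o).choose_spec.2.2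

theorem perm_word {n : GL D.Idx K} (hn : n ∈ D.monomialSubgroup K)
    {w : Equiv.Perm (Fin D.nroots)} (hw : PermAct n w) :
    ∃ l : List (Fin D.rank), w = sW D l := by
  obtain ⟨l, h, hh, hnl⟩ := T.sig.hF.exists_nW hn
  refine ⟨l, T.sig.hF.permAct_unique hw ?_⟩
  rw [hnl]; simpa using T.sig.hF.permAct_mul (T.sig.hF.permAct_nW l) (T.sig.hF.permAct_diagonal hh)

theorem conj_posU {n : GL D.Idx K} (hn : n ∈ G) {w : Equiv.Perm (Fin D.nroots)} (hw : PermAct n w)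
    (o : ι) (hk : ∀ r : Fin D.nroots, D.nroots / 2 ≤ r.val → (O o).InO co r.val →
      D.nroots / 2 ≤ (w r).val)
    {c : GL D.Idx K} (hc : c ∈ G) (hcO : c ∈ rootClosure D K ((O o).posO co)) :
    n * c * n⁻¹ ∈ G ∧ n * c * n⁻¹ ∈ rootClosure D K (D.nroots / 2 ≤ ·) :=
  ⟨Subgroup.mul_mem _ (Subgroup.mul_mem _ hn hc) (Subgroup.inv_mem _ hn),
    T.sig.hF.conj_rootClosure hw (fun s hs => hk s hs.1 hs.2) hcO⟩

theorem neg_of_conj (o : ι) {c : GL D.Idx K} (hc : c ∈ rootClosure D K ((O o).posO co)) :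
    T.nO o * c * (T.nO o)⁻¹ ∈ rootClosure D K ((O o).negO co) :=
  T.sig.hF.conj_rootClosure (T.nO_perm o)
    (fun _ hs => T.wO_inO o hs.1 hs.2) hc

/-- The double coset step. -/
theorem step (o : ι) {n b : GL D.Idx K} (hn : n ∈ G) (hnN : n ∈ D.monomialSubgroup K) (hb : b ∈ G)
    (hbB : b ∈ D.borelSubgroup K) :
    ∃ b₁, b₁ ∈ G ∧ b₁ ∈ D.borelSubgroup K ∧ ∃ b₂, b₂ ∈ G ∧ b₂ ∈ D.borelSubgroup K ∧
      (T.nO o * b * n = b₁ * (T.nO o * n) * b₂ ∨ T.nO o * b * n = b₁ * n * b₂) := by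
  have hF := T.sig.hF
  set s := T.nO o with hs
  obtain ⟨u, huG, hu, h, hhG, hh, rfl⟩ := T.mem_B hb hbB
  obtain ⟨a, haf, ha, c, hcf, hc, rfl⟩ := T.split_fix o (A := (D.nroots / 2 ≤ ·))
    (fun r _ h => h)
    (fun i hi hiO j hj hjp _ _ c hc =>
      le_of_lt (lt_of_le_of_lt hiO.1 (hF.commTerms_lt hi hj hiO.1 hjp hc).2.1))
    (fun r hr h => T.sig.ok.rho_pos r hr h) hu (T.le_fix huG)
  have hcG : c ∈ G := T.posO_le o ⟨hcf, hc⟩
  have ha' : s * a * s⁻¹ ∈ rootClosure D K (D.nroots / 2 ≤ ·) :=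
    hF.conj_rootClosure (T.nO_perm o) (fun r hr => (T.wO_posO o hr.1 hr.2).1) ha
  have haG : a ∈ G := T.posU_le ⟨haf, rootClosure_mono (fun r _ h => h.1) ha⟩
  have hasG : s * a * s⁻¹ ∈ G :=
    Subgroup.mul_mem _ (Subgroup.mul_mem _ (T.nO_mem o) haG) (Subgroup.inv_mem _ (T.nO_mem o))
  set m := h * n with hm
  have hmG : m ∈ G := Subgroup.mul_mem _ hhG hn
  have hmN : m ∈ D.monomialSubgroup K := Subgroup.mul_mem _ (hF.diag_le_monomial hh) hnN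
  obtain ⟨w, hw⟩ := hF.exists_permAct hmN
  obtain ⟨l, hl⟩ := T.perm_word hmN hw
  have hwf := T.sig.wfix_of_fixed hmN hw (T.le_fix hmG)
  have hw' := hF.permAct_inv hmN hw
  have hsm : s * m = (s * h * s⁻¹) * (s * n) := by rw [hm]; group
  have hshG : s * h * s⁻¹ ∈ G :=
    Subgroup.mul_mem _ (Subgroup.mul_mem _ (T.nO_mem o) hhG) (Subgroup.inv_mem _ (T.nO_mem o))
  have hsh : s * h * s⁻¹ ∈ D.borelSubgroup K :=
    hF.diagonal_le_borel (hF.conj_diagonal (T.nO_monomial o) hh)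
  have hhB : h ∈ D.borelSubgroup K := hF.diagonal_le_borel hh
  have e0 : s * (a * c * h) * n = (s * a * s⁻¹) * (s * c * m) := by rw [hm]; group
  rcases T.dichotomy (l := l.reverse) (w := w⁻¹) (by rw [hF.sW_reverse, hl])
    (T.sig.wfix_inv hwf) o with hflip | hkeep
  · by_cases hc1 : c = 1
    · refine ⟨(s * a * s⁻¹) * (s * h * s⁻¹), Subgroup.mul_mem _ hasG hshG,
        Subgroup.mul_mem _ (hF.pos_le_borel ha') hsh, 1, Subgroup.one_mem _, Subgroup.one_mem _,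
        Or.inl ?_⟩
      rw [e0, hc1, mul_one, hsm]; group
    have hv : s * c * s⁻¹ ∈ G :=
      Subgroup.mul_mem _ (Subgroup.mul_mem _ (T.nO_mem o) hcG) (Subgroup.inv_mem _ (T.nO_mem o))
    obtain ⟨u₁, hu₁f, hu₁, m₁, hm₁G, hm₁N, hm₁, u₂, hu₂f, hu₂, e⟩ :=
      T.neg_decomp o hv (T.neg_of_conj o hc) (fun h => hc1 (by
        rwa [mul_inv_eq_one, mul_eq_left] at h))
    have hk : ∀ r : Fin D.nroots, D.nroots / 2 ≤ r.val → (O o).InO co r.val →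
        D.nroots / 2 ≤ ((w⁻¹ * (O o).wO) r).val := by
      intro r hp hr
      rw [Equiv.Perm.mul_apply]
      obtain ⟨h1, h2⟩ := T.wO_inO o hp hr
      have h3 := hflip (hF.negFin ((O o).wO r)) ((hF.negFin_pos _).2 h1)
        (hF.inSub_neg ((O o).wO r).isLt h2)
      rw [show w⁻¹ = sW D l.reverse by rw [hF.sW_reverse, hl]] at h3 ⊢
      rw [hF.sW_neg] at h3
      by_contra h4
      exact absurd ((hF.negFin_pos _).2 (not_le.1 h4)) (not_le.2 h3)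
    obtain ⟨h5G, h5⟩ := T.conj_posU (n := (s * m)⁻¹)
      (Subgroup.inv_mem _ (Subgroup.mul_mem _ (T.nO_mem o) hmG))
      (w := w⁻¹ * (O o).wO)
      (by rw [mul_inv_rev]
          have := hF.permAct_mul hw' (hF.permAct_inv (T.nO_monomial o) (T.nO_perm o))
          rwa [T.wO_inv o] at this)
      o hk (T.posO_le o ⟨hu₂f, hu₂⟩) hu₂
    have hms : m₁ * s ∈ D.diagonalSubgroup K := by
      refine hF.mem_diagonal_of_permAct (Subgroup.mul_mem _ hm₁N (T.nO_monomial o)) ?_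
      have := hF.permAct_mul hm₁ (T.nO_perm o)
      rwa [T.orb.sq o] at this
    refine ⟨(s * a * s⁻¹) * u₁ * (m₁ * s) * h, Subgroup.mul_mem _ (Subgroup.mul_mem _
      (Subgroup.mul_mem _ hasG (T.posO_le o ⟨hu₁f, hu₁⟩))
      (Subgroup.mul_mem _ hm₁G (T.nO_mem o))) hhG,
      Subgroup.mul_mem _ (Subgroup.mul_mem _ (Subgroup.mul_mem _ (hF.pos_le_borel ha')
        (hF.pos_le_borel (rootClosure_mono (fun r _ h => h.1) hu₁))) (hF.diagonal_le_borel hms)) hhB,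
      (s * m)⁻¹ * u₂ * ((s * m)⁻¹)⁻¹, h5G, hF.pos_le_borel h5, Or.inr ?_⟩
    rw [e0, show s * c * m = (s * c * s⁻¹) * (s * m) by group, e, hm]
    group
  · obtain ⟨h5G, h5⟩ := T.conj_posU (n := m⁻¹) (Subgroup.inv_mem _ hmG) hw' o hkeep hcG hc
    refine ⟨(s * a * s⁻¹) * (s * h * s⁻¹), Subgroup.mul_mem _ hasG hshG,
      Subgroup.mul_mem _ (hF.pos_le_borel ha') hsh, m⁻¹ * c * m⁻¹⁻¹, h5G, hF.pos_le_borel h5,
      Or.inl ?_⟩
    rw [e0, show s * c * m = (s * m) * (m⁻¹ * c * m⁻¹⁻¹) by group, hsm]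
    group

theorem exists_posO_ne (o : ι) :
    ∃ c, c ∈ G ∧ c ∈ rootClosure D K ((O o).posO co) ∧ c ≠ 1 := by
  obtain ⟨v, hv, hvn, hv1⟩ := T.neg_ex o
  refine ⟨T.nO o * v * (T.nO o)⁻¹, Subgroup.mul_mem _ (Subgroup.mul_mem _ (T.nO_mem o) hv)
    (Subgroup.inv_mem _ (T.nO_mem o)), ?_, fun h => hv1 (by
      rwa [mul_inv_eq_one, mul_eq_left] at h)⟩
  refine T.sig.hF.conj_rootClosure (T.nO_perm o) (P := (O o).negO co) (fun s hs => ?_) hvn
  have hF := T.sig.hF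
  obtain ⟨h1, h2⟩ := T.wO_inO o (r := hF.negFin s) ((hF.negFin_pos s).2 hs.1)
    (hF.inSub_neg s.isLt hs.2)
  have e : (O o).wO (hF.negFin s) = hF.negFin ((O o).wO s) := hF.sW_neg _ s
  rw [e] at h1 h2
  refine ⟨not_lt.1 fun h => ?_, ?_⟩
  · exact absurd ((hF.negFin_pos _).2 h) (not_le.2 h1)
  · have h3 := hF.inSub_neg (hF.neg_lt ((O o).wO s).isLt) h2
    rwa [hF.neg_neg ((O o).wO s).isLt] at h3

theorem wO_injective {o o' : ι} (h : (O o).wO = (O o').wO) : o = o' := by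
  obtain ⟨i, hi⟩ := T.orb.nonempty o
  have hp := (T.sig.hF.simple_lt i.val i.isLt).1
  have h1 := (T.orb.flip o (T.sig.hF.simpleFin i) hp).2
    ((T.sig.hF.inSub_simple i.isLt).2 ⟨i, hi, rfl⟩)
  rw [h] at h1
  obtain ⟨j, hj, e⟩ := (T.sig.hF.inSub_simple i.isLt).1 ((T.orb.flip o' _ hp).1 h1)
  obtain rfl := Fin.ext e
  exact T.orb.disjoint o o' j hi hj

/-- The (B, N)-pair of a twisted group. -/
noncomputable def bnPair : Cfsg.BNPair ↥G where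
  B := (D.borelSubgroup K ⊓ G).subgroupOf G
  N := (D.monomialSubgroup K ⊓ G).subgroupOf G
  S := Set.range fun o => (⟨T.nO o, T.nO_mem o⟩ : ↥G)
  sup_eq_top := by
    rw [eq_top_iff]
    rintro ⟨g, hg⟩ -
    obtain ⟨b, hbG, hb, n, hnG, hn, w, hw, hwf, u, hu, rfl⟩ := T.bruhat hg
    obtain ⟨l, hl⟩ := T.perm_word hn hw
    have huG : u ∈ G := T.fixU_le hl hwf hu
    have e : (⟨b * n * u, hg⟩ : ↥G) = ⟨b, hbG⟩ * ⟨n, hnG⟩ * ⟨u, huG⟩ := Subtype.ext rfl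
    rw [e]
    refine Subgroup.mul_mem _ (Subgroup.mul_mem _ (Subgroup.mem_sup_left ⟨hb, hbG⟩)
      (Subgroup.mem_sup_right ⟨hn, hnG⟩)) (Subgroup.mem_sup_left ⟨?_, huG⟩)
    exact T.sig.hF.pos_le_borel (rootClosure_mono (fun r _ ⟨_, h, _⟩ => h) hu.2)
  conj_mem := by
    rintro ⟨n, hn⟩ ⟨hnN, -⟩ ⟨t, ht⟩ ⟨⟨htB, -⟩, ⟨htN, -⟩⟩
    have hH : t ∈ D.diagonalSubgroup K := by
      rw [← T.sig.hF.borel_inf_monomial]; exact ⟨htB, htN⟩
    exact ⟨T.sig.hF.diagonal_le_borel (T.sig.hF.conj_diagonal hnN hH),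
      Subgroup.mul_mem _ (Subgroup.mul_mem _ hn ht) (Subgroup.inv_mem _ hn)⟩
  subset := by
    rintro _ ⟨o, rfl⟩
    exact ⟨T.nO_monomial o, T.nO_mem o⟩
  sq_mem := by
    rintro _ ⟨o, rfl⟩
    refine ⟨T.sig.hF.diagonal_le_borel (T.sig.hF.mem_diagonal_of_permAct
      (Subgroup.mul_mem _ (T.nO_monomial o) (T.nO_monomial o)) ?_),
      Subgroup.mul_mem _ (T.nO_mem o) (T.nO_mem o)⟩
    have := T.sig.hF.permAct_mul (T.nO_perm o) (T.nO_perm o)
    rwa [T.orb.sq o] at this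
  inj := by
    rintro _ ⟨o, rfl⟩ _ ⟨o', rfl⟩ ⟨hB, -⟩
    have h1 := T.sig.hF.permAct_mul
      (T.sig.hF.permAct_inv (T.nO_monomial o) (T.nO_perm o)) (T.nO_perm o')
    have h2 := T.sig.hF.permAct_pos h1 hB
    rw [inv_mul_eq_one] at h2
    rw [T.wO_injective h2]
  closure_sup := by
    apply le_antisymm
    · refine sup_le ((Subgroup.closure_le _).2 ?_) inf_le_right
      rintro _ ⟨o, rfl⟩
      exact ⟨T.nO_monomial o, T.nO_mem o⟩
    · rintro ⟨n, hn⟩ ⟨hnN, -⟩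
      have hF := T.sig.hF
      obtain ⟨w, hw⟩ := hF.exists_permAct hnN
      obtain ⟨l, hl⟩ := T.perm_word hnN hw
      refine T.w_induction (motive := fun w => ∀ (n : GL D.Idx K) (hn : n ∈ G),
        n ∈ D.monomialSubgroup K → PermAct n w → (⟨n, hn⟩ : ↥G) ∈ _) ?_ ?_ w l hl
        (T.sig.wfix_of_fixed hnN hw (T.le_fix hn)) n hn hnN hw
      · intro n hn hnN hw
        exact Subgroup.mem_sup_right ⟨⟨hF.diagonal_le_borel
          (hF.mem_diagonal_of_permAct hnN hw), hn⟩, ⟨hnN, hn⟩⟩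
      · intro w l o hl hwf hflip ih n hn hnN hw
        have h1 := ih (n * T.nO o) (Subgroup.mul_mem _ hn (T.nO_mem o))
          (Subgroup.mul_mem _ hnN (T.nO_monomial o)) (hF.permAct_mul hw (T.nO_perm o))
        have h2 : (⟨T.nO o, T.nO_mem o⟩ : ↥G) ∈
            Subgroup.closure (Set.range fun o => (⟨T.nO o, T.nO_mem o⟩ : ↥G)) :=
          Subgroup.subset_closure ⟨o, rfl⟩
        have := Subgroup.mul_mem _ h1 (Subgroup.inv_mem _ (Subgroup.mem_sup_left h2))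
        convert this using 1
        exact Subtype.ext (mul_inv_cancel_right n (T.nO o)).symm
  mul_mem_union := by
    rintro _ ⟨o, rfl⟩ ⟨n, hn⟩ ⟨hnN, -⟩ ⟨b, hb⟩ ⟨hbB, -⟩
    obtain ⟨b₁, h1G, h1, b₂, h2G, h2, e | e⟩ := T.step o hn hnN hb hbB
    · exact Or.inl (DoubleCoset.mem_doubleCoset.2
        ⟨⟨b₁, h1G⟩, ⟨h1, h1G⟩, ⟨b₂, h2G⟩, ⟨h2, h2G⟩, Subtype.ext e⟩)
    · exact Or.inr (DoubleCoset.mem_doubleCoset.2
        ⟨⟨b₁, h1G⟩, ⟨h1, h1G⟩, ⟨b₂, h2G⟩, ⟨h2, h2G⟩, Subtype.ext e⟩)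
  conj_ne := by
    rintro _ ⟨o, rfl⟩ h
    have hF := T.sig.hF
    obtain ⟨c, hcG, hc, hc1⟩ := T.exists_posO_ne o
    set s := T.nO o with hs
    have hcB : (⟨c, hcG⟩ : ↥G) ∈ (D.borelSubgroup K ⊓ G).subgroupOf G :=
      ⟨hF.pos_le_borel (rootClosure_mono (fun r _ h => h.1) hc), hcG⟩
    have h1 : (⟨s * c * s, Subgroup.mul_mem _ (Subgroup.mul_mem _ (T.nO_mem o) hcG)
        (T.nO_mem o)⟩ : ↥G) ∈ ((D.borelSubgroup K ⊓ G).subgroupOf G : Set ↥G) :=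
      h ▸ ⟨⟨c, hcG⟩, hcB, rfl⟩
    have hss : s * s ∈ D.diagonalSubgroup K := by
      refine hF.mem_diagonal_of_permAct
        (Subgroup.mul_mem _ (T.nO_monomial o) (T.nO_monomial o)) ?_
      have := hF.permAct_mul (T.nO_perm o) (T.nO_perm o)
      rwa [T.orb.sq o] at this
    have h2 : s * c * s⁻¹ ∈ D.borelSubgroup K ⊓ D.negUnipotent K := by
      refine ⟨?_, ?_⟩
      · have := Subgroup.mul_mem _ h1.1 (Subgroup.inv_mem _ (hF.diagonal_le_borel hss))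
        change s * c * s * (s * s)⁻¹ ∈ D.borelSubgroup K at this
        rwa [show (s * c * s) * (s * s)⁻¹ = s * c * s⁻¹ by group] at this
      · rw [hF.negUnipotent_eq]
        exact rootClosure_mono (fun r _ h => h.1) (T.neg_of_conj o hc)
    rw [hF.borel_inf_neg, Subgroup.mem_bot, mul_inv_eq_one, mul_eq_left] at h2
    exact hc1 h2

/-- Triviality of the core of `B¹`. -/
theorem normalCore_eq_bot
    (hsep : ∀ h ∈ D.diagonalSubgroup K, (∀ g, g ∈ G → g ∈ rootClosure D K (D.nroots / 2 ≤ ·) →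
      h * g = g * h) → h = 1) :
    ((D.borelSubgroup K ⊓ G).subgroupOf G).normalCore = ⊥ := by
  have hF := T.sig.hF
  obtain ⟨l₀, hw₀, hl₀⟩ := T.exists_w0
  obtain ⟨n₀, h0G, h0N, h0w⟩ := T.exists_rep rfl hw₀
  rw [eq_bot_iff]
  have key : ∀ x : ↥G, x ∈ ((D.borelSubgroup K ⊓ G).subgroupOf G).normalCore →
      (x : GL D.Idx K) ∈ D.diagonalSubgroup K := by
    rintro ⟨x, hx⟩ hcore
    have hxB : x ∈ D.borelSubgroup K := by
      have := (hcore 1).1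
      simpa using this
    have hcx : n₀ * x * n₀⁻¹ ∈ D.borelSubgroup K := (hcore ⟨n₀, h0G⟩).1
    obtain ⟨u, hu, h, hh, rfl⟩ := hF.mem_borel_iff.1 hxB
    obtain ⟨u', hu', h', hh', e⟩ := hF.mem_borel_iff.1 hcx
    have hneg : n₀ * u * n₀⁻¹ ∈ D.negUnipotent K := by
      rw [hF.negUnipotent_eq]
      exact hF.conj_rootClosure h0w (fun s hs => hl₀ s hs) hu
    have hd : n₀ * h * n₀⁻¹ ∈ D.diagonalSubgroup K := hF.conj_diagonal h0N hh
    have h1 : n₀ * u * n₀⁻¹ ∈ D.borelSubgroup K := by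
      rw [show n₀ * u * n₀⁻¹ = n₀ * (u * h) * n₀⁻¹ * (n₀ * h * n₀⁻¹)⁻¹ by group]
      exact Subgroup.mul_mem _ hcx (Subgroup.inv_mem _ (hF.diagonal_le_borel hd))
    have h2 : n₀ * u * n₀⁻¹ ∈ D.borelSubgroup K ⊓ D.negUnipotent K := ⟨h1, hneg⟩
    rw [hF.borel_inf_neg, Subgroup.mem_bot, mul_inv_eq_one, mul_eq_left] at h2
    show u * h ∈ _
    rwa [h2, one_mul]
  rintro ⟨x, hx⟩ hcore
  have hxH := key _ hcore
  refine Subgroup.mem_bot.2 (Subtype.ext (hsep x hxH fun g hg hgU => ?_))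
  have h1 := key _ ((Subgroup.normalCore_normal _).conj_mem _ hcore ⟨g, hg⟩)
  change g * x * g⁻¹ ∈ D.diagonalSubgroup K at h1
  have h2 : x⁻¹ * g * x * g⁻¹ ∈ rootClosure D K (D.nroots / 2 ≤ ·) ⊓ D.diagonalSubgroup K := by
    refine ⟨Subgroup.mul_mem _ ?_ (Subgroup.inv_mem _ hgU), ?_⟩
    · have := (Subgroup.mem_normalizer_iff.1
        (hF.diagonal_le_normalizer _ (Subgroup.inv_mem _ hxH)) g).1 hgU
      simpa using this
    · rw [show x⁻¹ * g * x * g⁻¹ = x⁻¹ * (g * x * g⁻¹) by group]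
      exact Subgroup.mul_mem _ (Subgroup.inv_mem _ hxH) h1
  rw [hF.pos_inf_diagonal, Subgroup.mem_bot, mul_inv_eq_one, mul_assoc, inv_mul_eq_iff_eq_mul] at h2
  exact h2.symm

end TwSys

end CfsgLib.Chev
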