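/-
The Weyl group of a twisted group as a Coxeter group.
-/
import Mathlib
import Cfsg.Agent.Lib.Chev.Twist.BN
import Cfsg.Agent.Lib.Chev.Coxeter
import Cfsg.Agent.Lib.Chev.BNPair

set_option autoImplicit false

namespace CfsgLib.Chev

open Cfsg.Lie

universe v

variable {D : ChevalleyDatum} {co : ℕ → ℕ → ℤ} {K : Type v} [Field K] {P : TwPar}

namespace TwSys

variable {f : K →+* K} {σ : ↥(D.group K) →* GL D.Idx K} {ι : Type} {O : ι → Orb D}
  {G : Subgroup (GL D.Idx K)} (T : TwSys D co P f σ O G)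

/-- The group generated by the longest elements of the orbits. -/
noncomputable def orbGroup (O : ι → Orb D) : Subgroup (Equiv.Perm (Fin D.nroots)) :=
  Subgroup.closure (Set.range fun o => (O o).wO)

/-- The generators of `orbGroup`. -/
noncomputable def orbGen (O : ι → Orb D) (o : ι) : ↥(orbGroup O) :=
  ⟨(O o).wO, Subgroup.subset_closure ⟨o, rfl⟩⟩

include T

/-- The action of `N¹` on the roots. -/
noncomputable def permHom :
    ↥(D.monomialSubgroup K ⊓ G : Subgroup (GL D.Idx K)) →* Equiv.Perm (Fin D.nroots) :=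
  (T.sig.hF.weylHom (F := K)).comp (Subgroup.inclusion inf_le_left)

theorem permHom_eq {g : ↥(D.monomialSubgroup K ⊓ G : Subgroup (GL D.Idx K))}
    {w : Equiv.Perm (Fin D.nroots)} (h : PermAct (g : GL D.Idx K) w) : T.permHom g = w :=
  T.sig.hF.weylHom_eq h

theorem permHom_mem (g : ↥(D.monomialSubgroup K ⊓ G : Subgroup (GL D.Idx K))) :
    T.permHom g ∈ orbGroup O := by
  obtain ⟨w, hw⟩ := T.sig.hF.exists_permAct g.2.1
  rw [T.permHom_eq hw]
  obtain ⟨l, hl⟩ := T.perm_word g.2.1 hw
  refine T.w_induction (motive := fun w => w ∈ orbGroup O) (one_mem _) ?_ w l hl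
    (T.sig.wfix_of_fixed g.2.1 hw (T.le_fix g.2.2))
  intro u m o _ _ _ h
  have := mul_mem h (inv_mem (orbGen O o).2)
  rwa [show (orbGen O o : Equiv.Perm (Fin D.nroots)) = (O o).wO from rfl,
    mul_inv_cancel_right] at this

/-- Equivalence in `N¹` is equality of the permutations. -/
theorem eqv_iff (a b : ↥G) (ha : a ∈ T.bnPair.N) (hb : b ∈ T.bnPair.N) :
    BN.Eqv T.bnPair a b ↔ T.permHom ⟨a, ha⟩ = T.permHom ⟨b, hb⟩ := by
  have hF := T.sig.hF
  rw [← inv_mul_eq_one, ← map_inv, ← map_mul]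
  constructor
  · rintro ⟨hB, -⟩
    obtain ⟨w, hw⟩ := hF.exists_permAct (F := K) (g := ((a⁻¹ * b : ↥G) : GL D.Idx K))
      (mul_mem (inv_mem ha.1) hb.1)
    exact (T.permHom_eq (g := ⟨_, _⟩) hw).trans (hF.permAct_pos hw hB.1)
  · intro h
    obtain ⟨w, hw⟩ := hF.exists_permAct (F := K) (g := ((a⁻¹ * b : ↥G) : GL D.Idx K))
      (mul_mem (inv_mem ha.1) hb.1)
    have : w = 1 := ((T.permHom_eq (g := ⟨_, _⟩) hw).symm.trans h)
    subst this
    have hd := hF.mem_diagonal_of_permAct (mul_mem (inv_mem ha.1) hb.1) hw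
    exact ⟨⟨hF.diagonal_le_borel hd, (a⁻¹ * b).2⟩, T.bnPair.N.mul_mem (T.bnPair.N.inv_mem ha) hb⟩

/-- A word in the generators, lifted to the group. -/
noncomputable def liftWord (l : List ι) : List ↥G := l.map fun o => (⟨T.nO o, T.nO_mem o⟩ : ↥G)

theorem isWord_lift (l : List ι) : BN.IsWord T.bnPair (T.liftWord l) := by
  intro s hs
  obtain ⟨o, -, rfl⟩ := List.mem_map.1 hs
  exact ⟨o, rfl⟩

theorem perm_lift (l : List ι) (h : (T.liftWord l).prod ∈ T.bnPair.N) :
    T.permHom ⟨(T.liftWord l).prod, h⟩ =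
      ((Exch.prodW (orbGen O) l : ↥(orbGroup O)) : Equiv.Perm (Fin D.nroots)) := by
  induction l with
  | nil => exact map_one T.permHom
  | cons o l ih =>
    have h' : (T.liftWord l).prod ∈ T.bnPair.N := (T.isWord_lift l).prod_mem
    rw [Exch.prodW_cons, Subgroup.coe_mul, ← ih h']
    have h1 : T.permHom ⟨T.nO o, T.nO_monomial o, T.nO_mem o⟩ = (O o).wO :=
      T.permHom_eq (T.nO_perm o)
    rw [show (orbGen O o : Equiv.Perm (Fin D.nroots)) = (O o).wO from rfl, ← h1, ← map_mul]
    exact congrArg T.permHom (Subtype.ext rfl)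

theorem eqv_lift (l m : List ι) :
    BN.Eqv T.bnPair (T.liftWord l).prod (T.liftWord m).prod ↔
      Exch.prodW (orbGen O) l = Exch.prodW (orbGen O) m := by
  rw [T.eqv_iff _ _ (T.isWord_lift l).prod_mem (T.isWord_lift m).prod_mem, T.perm_lift,
    T.perm_lift, Subtype.coe_inj]

theorem red_iff (l : List ι) :
    Exch.RedW (orbGen O) l ↔ BN.len T.bnPair (T.liftWord l).prod = l.length := by
  constructor
  · intro h
    refine le_antisymm ((BN.len_le_of_word (T.isWord_lift l) (BN.Eqv.refl _)).trans_eq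
      (List.length_map _)) ?_
    obtain ⟨m, hm, hlen, he⟩ := BN.exists_len (P := T.bnPair) (T.isWord_lift l).prod_mem
    obtain ⟨m', rfl⟩ : ∃ m', T.liftWord m' = m := by
      clear he hlen
      induction m with
      | nil => exact ⟨[], rfl⟩
      | cons s m ih =>
        obtain ⟨o, rfl⟩ := hm s (by simp)
        obtain ⟨m', rfl⟩ := ih fun x hx => hm x (by simp [hx])
        exact ⟨o :: m', rfl⟩
    have := h m' ((T.eqv_lift m' l).1 he)
    rw [← hlen]
    simpa [liftWord] using this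
  · intro h m hm
    have := BN.len_le_of_word (T.isWord_lift m) ((T.eqv_lift m l).2 hm)
    simp only [liftWord, List.length_map] at this
    exact h ▸ this

theorem orb_hasExchange : Exch.HasExchange (orbGen O) := by
  intro l i hl hil
  have hr : BN.Red T.bnPair (T.liftWord l) :=
    ⟨T.isWord_lift l, ((T.red_iff l).1 hl).trans (List.length_map _).symm⟩
  have hs : (⟨T.nO i, T.nO_mem i⟩ : ↥G) ∈ T.bnPair.S := ⟨i, rfl⟩
  have hlt : BN.len T.bnPair (⟨T.nO i, T.nO_mem i⟩ * (T.liftWord l).prod) <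
      (T.liftWord l).length := by
    rcases BN.len_up_or_down hs hr.1.prod_mem with h | h
    · exfalso
      refine hil ((T.red_iff (i :: l)).2 ?_)
      rw [hr.2] at h
      simpa [liftWord] using h
    · rw [hr.2] at h
      omega
  obtain ⟨k, hk, he⟩ := BN.exchange hs hr hlt
  simp only [liftWord, List.length_map] at hk
  refine ⟨k, hk, ?_⟩
  have e : ((T.liftWord l).eraseIdx k) = T.liftWord (l.eraseIdx k) := List.eraseIdx_map _ _ _
  rw [e] at he
  exact (Exch.prodW_cons _ i l).symm.trans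
    ((T.eqv_lift (i :: l) (l.eraseIdx k)).1 (by simpa [liftWord] using he))

theorem exists_orb_coxeter {M : CoxeterMatrix ι}
    (hM : ∀ o o', orderOf ((O o).wO * (O o').wO) = M.M o o') :
    ∃ φ : ↥(D.monomialSubgroup K ⊓ G : Subgroup (GL D.Idx K)) →* M.Group,
      Function.Surjective φ ∧
      φ.ker = (D.diagonalSubgroup K ⊓ G).subgroupOf (D.monomialSubgroup K ⊓ G) := by
  have hF := T.sig.hF
  have hsq : ∀ o, orbGen O o * orbGen O o = 1 := fun o => Subtype.ext (T.orb.sq o)
  have hinj : Function.Injective (orbGen O) := fun a b h =>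
    T.wO_injective (congrArg Subtype.val h)
  have hgen : Subgroup.closure (Set.range (orbGen O)) = ⊤ := by
    apply Subgroup.map_injective (Subgroup.subtype_injective (orbGroup O))
    rw [      MonoidHom.map_closure, ← MonoidHom.range_eq_map, Subgroup.range_subtype, ← Set.range_comp]
    rfl
  obtain ⟨cs, -⟩ := Exch.exists_coxeterSystem hsq hinj T.orb_hasExchange hgen
  have hMM : Exch.coxMatrix hsq hinj = M := CoxeterMatrix.ext (Matrix.ext fun o o' => by
    show orderOf (orbGen O o * orbGen O o') = _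
    rw [← Subgroup.orderOf_coe]
    exact hM o o')
  subst hMM
  refine ⟨cs.mulEquiv.toMonoidHom.comp (T.permHom.codRestrict (orbGroup O) T.permHom_mem), ?_, ?_⟩
  · refine cs.mulEquiv.surjective.comp fun w => ?_
    have hw : w ∈ Subgroup.closure (Set.range (orbGen O)) := hgen ▸ Subgroup.mem_top w
    induction hw using Subgroup.closure_induction with
    | mem x hx =>
      obtain ⟨o, rfl⟩ := hx
      exact ⟨⟨T.nO o, T.nO_monomial o, T.nO_mem o⟩, Subtype.ext (T.permHom_eq (T.nO_perm o))⟩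
    | one => exact ⟨1, map_one _⟩
    | mul x y _ _ hx hy =>
      obtain ⟨a, rfl⟩ := hx
      obtain ⟨b, rfl⟩ := hy
      exact ⟨a * b, map_mul _ a b⟩
    | inv x _ hx =>
      obtain ⟨a, rfl⟩ := hx
      exact ⟨a⁻¹, map_inv _ a⟩
  · ext g
    rw [MonoidHom.mem_ker, Subgroup.mem_subgroupOf, MonoidHom.comp_apply,
      MulEquiv.coe_toMonoidHom, EmbeddingLike.map_eq_one_iff, Subtype.ext_iff]
    show T.permHom g = 1 ↔ _
    constructor
    · intro h
      obtain ⟨w, hw⟩ := hF.exists_permAct g.2.1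
      rw [T.permHom_eq hw] at h
      subst h
      exact ⟨hF.mem_diagonal_of_permAct g.2.1 hw, g.2.2⟩
    · exact fun h => T.permHom_eq (hF.permAct_diagonal h.1)

end TwSys

end CfsgLib.Chev
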