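/-
Boolean checks for families of orbits and for tabulated fixed Weyl groups, with their soundness.
-/
import Mathlib
import Cfsg.Agent.Lib.Chev.Twist.Bruhat
import Cfsg.Agent.Lib.Chev.Coxeter

set_option autoImplicit false

namespace CfsgLib.Chev

open Cfsg.Lie CfsgLib.Chev.Table

universe v

/-- An index as a node. -/
def toFin? (D : ChevalleyDatum) (i : ℕ) : Option (Fin D.rank) :=
  if h : i < D.rank then some ⟨i, h⟩ else none

/-- The orbit given by lists of indices. -/
def mkOrb (D : ChevalleyDatum) (p : List ℕ × List ℕ) : Orb D :=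
  ⟨p.1.filterMap (toFin? D), p.2.filterMap (toFin? D)⟩

/-- The family of orbits given by a specification. -/
def mkOrbs (D : ChevalleyDatum) (spec : List (List ℕ × List ℕ)) (o : Fin spec.length) : Orb D :=
  mkOrb D spec[o.val]

theorem mem_filterMap_toFin {D : ChevalleyDatum} {l : List ℕ} {i : Fin D.rank} :
    i ∈ l.filterMap (toFin? D) ↔ i.val ∈ l := by
  simp only [List.mem_filterMap, toFin?]
  constructor
  · rintro ⟨a, ha, e⟩
    split_ifs at e with h
    · cases e; exact ha
  · intro h
    exact ⟨i.val, h, by rw [dif_pos i.isLt]⟩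

theorem map_filterMap_toFin {D : ChevalleyDatum} : ∀ {l : List ℕ}, (∀ i ∈ l, i < D.rank) →
    (l.filterMap (toFin? D)).map Fin.val = l
  | [], _ => rfl
  | a :: l, h => by
    have ha := h a List.mem_cons_self
    rw [List.filterMap_cons_some (b := (⟨a, ha⟩ : Fin D.rank)) (by rw [toFin?, dif_pos ha]),
      List.map_cons, map_filterMap_toFin fun i hi => h i (List.mem_cons_of_mem _ hi)]

namespace Table

variable (T : Tab)

/-- Membership of a root in the subsystem of a list of nodes. -/
def inOB (nodes : List ℕ) (r : ℕ) : Bool :=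
  allBelow T.rank fun j => nodes.contains j || T.co r j == 0

/-- The number of positive roots made negative by a word. -/
def flipW (w : List ℕ) : ℕ :=
  countBelow (T.nroots / 2) fun t => Nat.blt (actW T w (T.nroots / 2 + t)) (T.nroots / 2)

/-- The conditions on one orbit. -/
def chkOrb (P : TwPar) (p : List ℕ × List ℕ) : Bool :=
  !p.1.isEmpty && p.1.all (fun i => Nat.blt i T.rank) &&
  p.2.all (fun i => Nat.blt i T.rank && p.1.contains i) &&
  p.1.all (fun i => p.1.all fun j => j == i || j == P.pi i || j == P.pi (P.pi i)) &&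
  allBelow T.nroots fun s =>
    actW T p.2 (actW T p.2 s) == s &&
    (Nat.blt s (T.nroots / 2) || (Nat.blt (actW T p.2 s) (T.nroots / 2) == inOB T p.1 s)) &&
    P.rho (actW T p.2 s) == actW T p.2 (P.rho s) &&
    inOB T p.1 (P.rho s) == inOB T p.1 s

/-- The conditions on a family of orbits. -/
def chkOrbs (P : TwPar) (spec : List (List ℕ × List ℕ)) : Bool :=
  spec.all (chkOrb T P) &&
  allBelow T.rank (fun i => anyBelow spec.length fun o => (spec.getD o ([], [])).1.contains i) &&
  allBelow spec.length fun o => allBelow spec.length fun o' =>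
    o == o' || (spec.getD o ([], [])).1.all fun i => !(spec.getD o' ([], [])).1.contains i

/-- A tabulated fixed Weyl group. -/
structure Enum : Type where
  size : ℕ
  img : Tree
  nxt : Tree
  par : Tree
  len : Tree
  rk : Tree
  pos : Tree
  wit : Tree

/-- The image of the `i`-th fundamental root under the `a`-th element. -/
def Enum.im (E : Enum) (a i : ℕ) : ℕ := slot (E.img.get a) i

/-- The coefficient of the image of a root computed from the images of the fundamental roots. -/
def Enum.lin (E : Enum) (a r j : ℕ) : ℤ :=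
  ((List.range T.rank).map fun q => T.co r q * T.co (E.im a q) j).sum

/-- The images are closed under the orbit elements, on a range of indices. -/
def Enum.chkNxt (E : Enum) (spec : List (List ℕ × List ℕ)) (lo n : ℕ) : Bool :=
  allBelow n fun k => allBelow spec.length fun o =>
    Nat.blt (slot (E.nxt.get (lo + k)) o) E.size && allBelow T.rank fun i =>
      E.im (slot (E.nxt.get (lo + k)) o) i == actW T (spec.getD o ([], [])).2 (E.im (lo + k) i)

/-- Every element but the first comes from an earlier one with additive length, on a range. -/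
def Enum.chkPar (E : Enum) (spec : List (List ℕ × List ℕ)) (lo n : ℕ) : Bool :=
  allBelow n fun k => bif lo + k == 0 then true else
    Nat.blt (E.par.get (lo + k) / 16) (lo + k) &&
    Nat.blt (E.par.get (lo + k) % 16) spec.length &&
    (slot (E.nxt.get (E.par.get (lo + k) / 16)) (E.par.get (lo + k) % 16) == lo + k) &&
    (E.len.get (lo + k) == E.len.get (E.par.get (lo + k) / 16) +
      flipW T (spec.getD (E.par.get (lo + k) % 16) ([], [])).2) &&
    Nat.ble (T.nroots / 2) (E.wit.get (lo + k)) && Nat.blt (E.wit.get (lo + k)) T.nroots &&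
    allBelow T.rank fun j =>
      E.lin T (E.par.get (lo + k) / 16) (E.wit.get (lo + k)) j ==
        T.co (T.smp ((spec.getD (E.par.get (lo + k) % 16) ([], [])).1.getD 0 0)) j

/-- Distinctness and the remaining conditions. -/
def Enum.chkMisc (E : Enum) : Bool :=
  Nat.blt 0 E.size && (E.len.get 0 == 0) &&
  allBelow T.rank (fun i => E.im 0 i == T.smp i) &&
  allBelow E.size (fun a => Nat.blt (E.rk.get a) E.size && E.pos.get (E.rk.get a) == a) &&
  allBelow (E.size - 1) (fun k => Nat.blt (E.img.get (E.pos.get k)) (E.img.get (E.pos.get (k + 1))))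
    && allBelow E.size (fun a => E.img.get a ==
      Nat.rec 0 (fun i acc => Nat.add acc (Nat.mul (E.im a i) (2 ^ (16 * i)))) T.rank) &&
  allBelow E.size (fun a => allBelow T.rank fun i => Nat.blt (E.im a i) T.nroots)

/-- The check of a tabulated fixed Weyl group. -/
def Enum.check (E : Enum) (spec : List (List ℕ × List ℕ)) : Bool :=
  E.chkMisc T && E.chkNxt T spec 0 E.size && E.chkPar T spec 0 E.size

/-- Joining two ranges. -/
theorem Enum.chkNxt_add {T : Tab} {E : Enum} {spec : List (List ℕ × List ℕ)} {lo m n : ℕ}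
    (h1 : E.chkNxt T spec lo m = true) (h2 : E.chkNxt T spec (lo + m) n = true) :
    E.chkNxt T spec lo (m + n) = true := allBelow_of fun k hk => by
  by_cases hkm : k < m
  · exact allBelow_spec h1 k hkm
  · have := allBelow_spec h2 (k - m) (by omega)
    rwa [show lo + m + (k - m) = lo + k by omega] at this

/-- Joining two ranges. -/
theorem Enum.chkPar_add {T : Tab} {E : Enum} {spec : List (List ℕ × List ℕ)} {lo m n : ℕ}
    (h1 : E.chkPar T spec lo m = true) (h2 : E.chkPar T spec (lo + m) n = true) :
    E.chkPar T spec lo (m + n) = true := allBelow_of fun k hk => by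
  by_cases hkm : k < m
  · exact allBelow_spec h1 k hkm
  · have := allBelow_spec h2 (k - m) (by omega)
    rwa [show lo + m + (k - m) = lo + k by omega] at this

end Table

/-- Linearity of the root coefficients under an element of the Weyl group. -/
theorem Facts.co_sW_lin {D : ChevalleyDatum} {co : ℕ → ℕ → ℤ} (hF : Facts D co)
    (l : List (Fin D.rank)) (r : Fin D.nroots) {j : ℕ} (hj : j < D.rank) :
    co (sW D l r).val j =
      ∑ q : Fin D.rank, co r.val q.val * co (sW D l (hF.simpleFin q)).val j := by
  by_cases hp : D.nroots / 2 ≤ r.val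
  · exact hF.co_sW_expand l hp hj
  · have h1 := hF.co_sW_expand l ((hF.negFin_pos r).2 (not_le.1 hp)) hj
    have h2 : co (sW D l (hF.negFin r)).val j = -co (sW D l r).val j := by
      rw [hF.sW_neg]; exact hF.co_neg _ (sW D l r).isLt j hj
    rw [h2, neg_eq_iff_eq_neg] at h1
    rw [h1, ← Finset.sum_neg_distrib]
    refine Finset.sum_congr rfl fun q _ => ?_
    show -(co (D.neg r.val) q.val * _) = _
    rw [hF.co_neg _ r.isLt q.val q.isLt, neg_mul, _root_.neg_neg]

section Sound

open Table

variable {D : ChevalleyDatum} {T : Tab} {P : TwPar}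
variable (hA : T.chkArrays D = true) (hC : T.chkChain D = true) (hF : Facts D T.co)
include hA hC hF

omit hC hF in
theorem inOB_iff {nodes : List ℕ} (r : ℕ) :
    inOB T nodes r = true ↔ ∀ j < D.rank, ¬ j ∈ nodes → T.co r j = 0 := by
  rw [rank_eq hA (D := D)]
  constructor
  · intro h j hj hn
    have := allBelow_spec h j hj
    simpa [hn] using this
  · intro h
    refine allBelow_of fun j hj => ?_
    by_cases hn : j ∈ nodes
    · simp [hn]
    · simp [hn, h j hj hn]

theorem flipW_eq {l : List (Fin D.rank)} :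
    flipNum (sW D l) = flipW T (l.map Fin.val) := by
  classical
  have hn := nroots_eq hA (D := D)
  have he := hF.nroots_even
  rw [flipNum, flipW, countBelow_eq]
  refine Finset.card_bij (fun r _ => r.val - D.nroots / 2) ?_ ?_ ?_
  · intro r hr
    simp only [Finset.mem_filter, Finset.mem_univ, true_and] at hr
    have := r.isLt
    simp only [Finset.mem_filter, Finset.mem_range, blt_iff]
    refine ⟨by rw [← hn]; omega, ?_⟩
    rw [← hn, show D.nroots / 2 + (r.val - D.nroots / 2) = r.val by omega,
      ← actW_eq hA hC hF l r]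
    exact hr.2
  · intro a ha b hb e
    simp only [Finset.mem_filter] at ha hb
    exact Fin.ext (by omega)
  · intro k hk
    simp only [Finset.mem_filter, Finset.mem_range, blt_iff] at hk
    rw [← hn] at hk
    refine ⟨⟨D.nroots / 2 + k, by omega⟩, ?_, by simp⟩
    simp only [Finset.mem_filter, Finset.mem_univ, true_and]
    refine ⟨by simp, ?_⟩
    rw [actW_eq hA hC hF l]
    exact hk.2

theorem orbOK_of_chk {spec : List (List ℕ × List ℕ)}
    (h : chkOrbs T P spec = true) : OrbOK T.co P (mkOrbs D spec) := by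
  have hn := nroots_eq hA (D := D)
  have hr := rank_eq hA (D := D)
  simp only [chkOrbs, Bool.and_eq_true, List.all_eq_true] at h
  obtain ⟨⟨h1, h2⟩, h3⟩ := h
  have hget : ∀ o : Fin spec.length, spec.getD o.val ([], []) = spec[o.val] := fun o =>
    (List.getElem_eq_getD _).symm
  have ho : ∀ o : Fin spec.length, chkOrb T P spec[o.val] = true :=
    fun o => h1 _ (List.getElem_mem _)
  simp only [chkOrb, Bool.and_eq_true, List.all_eq_true, Bool.or_eq_true, blt_iff,
    Bool.not_eq_true', List.isEmpty_eq_false_iff, List.contains_iff_mem, beq_iff_eq] at ho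
  have hword : ∀ o : Fin spec.length, ((mkOrbs D spec o).word).map Fin.val = (spec[o.val]).2 :=
    fun o => map_filterMap_toFin fun i hi => hr ▸ ((ho o).1.1.2 i hi).1
  have hact : ∀ (o : Fin spec.length) (s : Fin D.nroots),
      ((mkOrbs D spec o).wO s).val = actW T (spec[o.val]).2 s.val := fun o s => by
    rw [← hword o]; exact actW_eq hA hC hF _ s
  have hin : ∀ (o : Fin spec.length) (r : ℕ),
      (mkOrbs D spec o).InO T.co r ↔ inOB T (spec[o.val]).1 r = true := by
    intro o r
    rw [inOB_iff hA]
    refine forall_congr' fun j => imp_congr_right fun hj => imp_congr_left ?_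
    refine not_congr ⟨?_, ?_⟩
    · rintro ⟨i, hi, rfl⟩; exact mem_filterMap_toFin.1 hi
    · intro h; exact ⟨⟨j, hj⟩, mem_filterMap_toFin.2 h, rfl⟩
  have hs : ∀ (o : Fin spec.length) (s : ℕ), s < D.nroots → _ := fun o s hs =>
    allBelow_spec (ho o).2 s (hn ▸ hs)
  simp only [Bool.and_eq_true, Bool.or_eq_true, blt_iff, beq_iff_eq] at hs
  constructor
  · intro i
    obtain ⟨o, ho', hc⟩ := anyBelow_spec (allBelow_spec h2 i.val (hr ▸ i.isLt))
    rw [List.contains_iff_mem, hget ⟨o, ho'⟩] at hc
    exact ⟨⟨o, ho'⟩, mem_filterMap_toFin.2 hc⟩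
  · intro o o' i hi hi'
    have := allBelow_spec (allBelow_spec h3 o.val o.isLt) o'.val o'.isLt
    rw [Bool.or_eq_true, beq_iff_eq, hget o, hget o', List.all_eq_true] at this
    rcases this with e | e
    · exact Fin.ext e
    · have := e _ (mem_filterMap_toFin.1 hi)
      simp [mem_filterMap_toFin.1 hi'] at this
  · intro o
    obtain ⟨a, ha⟩ := List.exists_mem_of_ne_nil _ (ho o).1.1.1.1
    exact ⟨⟨a, hr ▸ (ho o).1.1.1.2 a ha⟩, mem_filterMap_toFin.2 ha⟩
  · intro o i hi j hj
    have := (ho o).1.2 _ (mem_filterMap_toFin.1 hi) _ (mem_filterMap_toFin.1 hj)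
    tauto
  · intro o i hi
    exact mem_filterMap_toFin.2 ((ho o).1.1.2 _ (mem_filterMap_toFin.1 hi)).2
  · intro o
    refine Equiv.ext fun s => Fin.ext ?_
    rw [Equiv.Perm.mul_apply, hact, hact, Equiv.Perm.one_apply]
    exact (hs o s.val s.isLt).1.1.1
  · intro o s hp
    rw [hact, hin]
    have h5 := (hs o s.val s.isLt).1.1.2.resolve_left (by rw [← hn]; omega)
    rw [← hn] at h5
    rw [← h5, blt_iff]
  · intro o s h
    rw [hact, hact]
    exact (hs o s.val s.isLt).1.2.symm
  · intro o r hr'
    rw [hin, hin, (hs o r hr').2]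

variable {K : Type v} [Field K] {f : K →+* K} {σ : ↥(D.group K) →* GL D.Idx K}
  {spec : List (List ℕ × List ℕ)} {G : Subgroup (GL D.Idx K)}

/-- The tabulated elements are the fixed Weyl group. -/
theorem enum_sound (S : TwSys D T.co P f σ (mkOrbs D spec) G) (hP : chkOrbs T P spec = true)
    {E : Enum} (h : E.check T spec = true) :
    ∃ W : ℕ → Equiv.Perm (Fin D.nroots), Set.InjOn W ↑(Finset.range E.size) ∧
      S.wFix = (Finset.range E.size).image W ∧
      ∀ a < E.size, flipNum (W a) = E.len.get a := by
  classical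
  have hn := nroots_eq hA (D := D)
  have hr := rank_eq hA (D := D)
  simp only [Enum.check, Enum.chkMisc, Bool.and_eq_true, blt_iff, beq_iff_eq] at h
  obtain ⟨⟨⟨⟨⟨⟨⟨⟨hpos, hlen0⟩, h0⟩, hrk⟩, hord⟩, hkey⟩, hlt⟩, hnxt⟩, hpar⟩ := h
  simp only [chkOrbs, Bool.and_eq_true, List.all_eq_true] at hP
  have ho := fun o : Fin spec.length => hP.1.1 _ (List.getElem_mem o.isLt)
  simp only [chkOrb, Bool.and_eq_true, List.all_eq_true, blt_iff] at ho
  have hget : ∀ o : Fin spec.length, spec.getD o.val ([], []) = spec[o.val] := fun o =>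
    (List.getElem_eq_getD _).symm
  have hword : ∀ o : Fin spec.length, ((mkOrbs D spec o).word).map Fin.val = (spec[o.val]).2 :=
    fun o => map_filterMap_toFin fun i hi => hr ▸ ((ho o).1.1.2 i hi).1
  have hsimp : ∀ i : Fin D.rank, (hF.simpleFin i).val = T.smp i.val := fun i => simple_eq hA i.isLt
  have himg : ∀ a < E.size, ∃ w : Equiv.Perm (Fin D.nroots), (∃ l, w = sW D l) ∧ S.sig.WFix w ∧
      (∀ i : Fin D.rank, (w⁻¹ (hF.simpleFin i)).val = E.im a i.val) ∧
      flipNum w = E.len.get a := by
    intro a
    induction a using Nat.strong_induction_on with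
    | _ a ih =>
      intro ha
      by_cases h00 : a = 0
      · subst h00
        refine ⟨1, ⟨[], sW_nil.symm⟩, S.sig.wfix_one, fun i => ?_, by rw [hF.flipNum_one, hlen0]⟩
        have := allBelow_spec h0 i.val (hr ▸ i.isLt)
        rw [beq_iff_eq] at this
        rw [inv_one, Equiv.Perm.one_apply, hsimp, this]
      · have hp := allBelow_spec hpar a ha
        simp only [zero_add, beq_eq_false_iff_ne.2 h00, cond_false, Bool.and_eq_true, blt_iff,
          ble_iff, beq_iff_eq] at hp
        obtain ⟨⟨⟨⟨⟨⟨hb, ho'⟩, hnx⟩, hl⟩, hw1⟩, hw2⟩, hco⟩ := hp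
        set p := E.par.get a / 16 with hp
        set o : Fin spec.length := ⟨E.par.get a % 16, ho'⟩ with hoo
        rw [hget o] at hl hco
        obtain ⟨w, ⟨l, rfl⟩, hw, hwi, hwl⟩ := ih p hb (by omega)
        set w' := sW D l * (mkOrbs D spec o).wO with hw'
        have hne : (spec[o.val]).1 ≠ [] := by simpa using (ho o).1.1.1.1
        obtain ⟨i₀, hi₀⟩ : ∃ i : Fin D.rank, i.val = (spec[o.val]).1.getD 0 0 := by
          refine ⟨⟨_, hr ▸ (ho o).1.1.1.2 _ ?_⟩, rfl⟩
          cases e : (spec[o.val]).1 with
          | nil => exact absurd e hne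
          | cons x y => simp
        have hmem : i₀ ∈ (mkOrbs D spec o).nodes := by
          refine mem_filterMap_toFin.2 ?_
          rw [hi₀]
          cases e : (spec[o.val]).1 with
          | nil => exact absurd e hne
          | cons x y => simp
        set r₀ : Fin D.nroots := ⟨E.wit.get a, hn ▸ hw2⟩ with hr₀
        have himg0 : (sW D l)⁻¹ r₀ = hF.simpleFin i₀ := by
          refine Fin.ext (hF.root_ext ((sW D l)⁻¹ r₀).isLt (hF.simpleFin i₀).isLt fun j hj => ?_)
          have hc := allBelow_spec hco j (hr ▸ hj)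
          rw [beq_iff_eq, Enum.lin, ← List.sum_toFinset _ List.nodup_range, List.toFinset_range,
            ← hr, Finset.sum_range (fun q => T.co (E.wit.get a) q * T.co (E.im p q) j)] at hc
          rw [show T.co (hF.simpleFin i₀).val j =
            T.co (T.smp ((spec[o.val]).1.getD 0 0)) j by rw [hsimp, hi₀], ← hc]
          rw [← hF.sW_reverse] at *
          rw [hF.co_sW_lin l.reverse r₀ hj]
          refine Finset.sum_congr rfl fun q _ => ?_
          rw [hwi q]
        have hpos0 : D.nroots / 2 ≤ r₀.val := by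
          show D.nroots / 2 ≤ E.wit.get a
          rw [hn]; exact hw1
        have hkeep : ∀ r : Fin D.nroots, D.nroots / 2 ≤ r.val →
            (mkOrbs D spec o).InO T.co r.val → D.nroots / 2 ≤ (sW D l r).val := by
          rcases S.dichotomy rfl hw o with hd | hd
          · have := hd (hF.simpleFin i₀) (hF.simple_lt i₀.val i₀.isLt).1
              ((hF.inSub_simple i₀.isLt).2 ⟨i₀, hmem, rfl⟩)
            rw [← himg0, ← Equiv.Perm.mul_apply, mul_inv_cancel, Equiv.Perm.one_apply] at this
            omega
          · exact hd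
        have hflip : ∀ r : Fin D.nroots, D.nroots / 2 ≤ r.val →
            (mkOrbs D spec o).InO T.co r.val → (w' r).val < D.nroots / 2 := by
          intro r hp hri
          rw [hw', Equiv.Perm.mul_apply]
          obtain ⟨h1, h2⟩ := S.wO_inO o hp hri
          have h3 := hkeep (hF.negFin ((mkOrbs D spec o).wO r)) ((hF.negFin_pos _).2 h1)
            (hF.inSub_neg ((mkOrbs D spec o).wO r).isLt h2)
          rw [hF.sW_neg] at h3
          exact (hF.negFin_pos _).1 h3
        have hwl' : w' = sW D (l ++ (mkOrbs D spec o).word) := (sW_append _ _).symm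
        refine ⟨w', ⟨_, hwl'⟩, S.sig.wfix_mul hw (S.wfix_wO o), fun i => ?_, ?_⟩
        · have h5 := allBelow_spec (allBelow_spec hnxt p (by omega)) o.val o.isLt
          simp only [zero_add, Bool.and_eq_true, blt_iff] at h5
          have h6 := allBelow_spec h5.2 i.val (hr ▸ i.isLt)
          rw [beq_iff_eq, hget o, hnx] at h6
          rw [h6, ← hwi i, ← hword o, ← actW_eq hA hC hF, hw', mul_inv_rev, Equiv.Perm.mul_apply,
            S.wO_inv o]
          rfl
        · rw [hl, ← hwl]
          have := S.flipNum_split (w := w') o hwl' hflip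
          rw [this, hw', mul_assoc, S.orb.sq o, mul_one, ← hword o, ← flipW_eq hA hC hF,
            add_comm]
          rfl
  choose! W hW1 hW2 hW3 hW4 using himg
  refine ⟨W, ?_, Finset.Subset.antisymm ?_ ?_, hW4⟩
  · intro a ha b hb e
    rw [Finset.coe_range, Set.mem_Iio] at ha hb
    have he : ∀ i < T.rank, E.im a i = E.im b i := fun i hi => by
      rw [← hW3 a ha ⟨i, hr ▸ hi⟩, ← hW3 b hb ⟨i, hr ▸ hi⟩, e]
    have hka := allBelow_spec hkey a ha
    have hkb := allBelow_spec hkey b hb
    rw [beq_iff_eq] at hka hkb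
    have hkk : E.img.get a = E.img.get b := by
      rw [hka, hkb]
      have key : ∀ n ≤ T.rank, (Nat.rec 0 (fun i acc => Nat.add acc
            (Nat.mul (E.im a i) (2 ^ (16 * i)))) n : ℕ) =
          Nat.rec 0 (fun i acc => Nat.add acc (Nat.mul (E.im b i) (2 ^ (16 * i)))) n := by
        intro n
        induction n with
        | zero => intro _; rfl
        | succ n ih => intro hn'; show Nat.add _ _ = Nat.add _ _; rw [ih (by omega), he n (by omega)]
      exact key _ le_rfl
    have hra := allBelow_spec hrk a ha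
    have hrb := allBelow_spec hrk b hb
    simp only [Bool.and_eq_true, blt_iff, beq_iff_eq] at hra hrb
    have hmono : ∀ m k, k + m + 1 < E.size →
        E.img.get (E.pos.get k) < E.img.get (E.pos.get (k + m + 1)) := by
      intro m
      induction m with
      | zero =>
        intro k hk
        have := allBelow_spec hord k (by omega)
        rwa [blt_iff] at this
      | succ m ih =>
        intro k hk
        have := allBelow_spec hord (k + m + 1) (by omega)
        rw [blt_iff] at this
        exact (ih k (by omega)).trans this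
    rcases lt_trichotomy (E.rk.get a) (E.rk.get b) with hlt | heq | hgt
    · obtain ⟨m, hm⟩ : ∃ m, E.rk.get b = E.rk.get a + m + 1 :=
        ⟨E.rk.get b - E.rk.get a - 1, by omega⟩
      have := hmono m (E.rk.get a) (by omega)
      rw [← hm, hra.2, hrb.2, hkk] at this
      exact absurd this (lt_irrefl _)
    · rw [← hra.2, heq, hrb.2]
    · obtain ⟨m, hm⟩ : ∃ m, E.rk.get a = E.rk.get b + m + 1 :=
        ⟨E.rk.get a - E.rk.get b - 1, by omega⟩
      have := hmono m (E.rk.get b) (by omega)
      rw [← hm, hra.2, hrb.2, hkk] at this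
      exact absurd this (lt_irrefl _)
  · intro w hw
    obtain ⟨⟨l, hl⟩, hwf⟩ := S.mem_wFix.1 hw
    have key : ∀ w : Equiv.Perm (Fin D.nroots), (∃ l, w = sW D l) → S.sig.WFix w →
        ∃ a < E.size, ∀ i : Fin D.rank, (w⁻¹ (hF.simpleFin i)).val = E.im a i.val := by
      rintro w ⟨l, hl⟩ hwf
      refine S.w_induction (motive := fun w => ∃ a < E.size, ∀ i : Fin D.rank,
        (w⁻¹ (hF.simpleFin i)).val = E.im a i.val) ?_ ?_ w l hl hwf
      · exact ⟨0, hpos, fun i => by
          have := allBelow_spec h0 i.val (hr ▸ i.isLt)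
          rw [beq_iff_eq] at this
          rw [inv_one, Equiv.Perm.one_apply, hsimp, this]⟩
      · rintro w l o hl hwf - ⟨a, ha, hai⟩
        have h5 := allBelow_spec (allBelow_spec hnxt a ha) o.val o.isLt
        simp only [zero_add, Bool.and_eq_true, blt_iff] at h5
        refine ⟨_, h5.1, fun i => ?_⟩
        have h6 := allBelow_spec h5.2 i.val (hr ▸ i.isLt)
        rw [beq_iff_eq, hget o] at h6
        rw [h6, ← hai i, ← hword o, ← actW_eq hA hC hF, ← Equiv.Perm.mul_apply]
        rw [mul_inv_rev, ← mul_assoc]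
        show _ = (((mkOrbs D spec o).wO * ((mkOrbs D spec o).wO)⁻¹ * w⁻¹) _).val
        rw [mul_inv_cancel, one_mul]
    obtain ⟨a, ha, hai⟩ := key w ⟨l, hl⟩ hwf
    refine Finset.mem_image.2 ⟨a, Finset.mem_range.2 ha, inv_injective ?_⟩
    obtain ⟨m, hm⟩ := hW1 a ha
    rw [hm, hl, ← hF.sW_reverse, ← hF.sW_reverse]
    refine hF.sW_ext fun i => Fin.ext ?_
    rw [hF.sW_reverse, hF.sW_reverse, ← hl, ← hm, hW3 a ha i, hai i]
  · intro w hw
    obtain ⟨a, ha, rfl⟩ := Finset.mem_image.1 hw
    rw [Finset.mem_range] at ha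
    exact S.mem_wFix.2 ⟨hW1 a ha, hW2 a ha⟩

end Sound

end CfsgLib.Chev
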