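/-
The data of the graph endomorphisms of the tabulated Chevalley groups, with their checks.
-/
import Mathlib
import Cfsg.Agent.Lib.Chev.Twist.Sigma

set_option autoImplicit false
set_option maxRecDepth 20000
set_option linter.all false

namespace CfsgLib.Chev

open Cfsg.Lie

namespace TwPar

variable (P : TwPar) (D : ChevalleyDatum)

/-- The checks on the roots. -/
def chkRoots : Bool :=
  Table.allBelow D.nroots fun r =>
    decide (P.rho r < D.nroots) && (P.rho (D.neg r) == D.neg (P.rho r)) &&
    (decide (r < D.nroots / 2) || decide (D.nroots / 2 ≤ P.rho r)) &&
    (P.eps r == 1 || P.eps r == -1) && (P.eps (D.neg r) == P.eps r) &&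
    (P.lam (D.neg r) == P.lam r) && (P.lam r == 1 || (P.lam r == P.p && (P.p == 2 || P.p == 3))) &&
    Table.allBelow D.nroots fun s => P.rho r != P.rho s || r == s

/-- The checks on the fundamental roots. -/
def chkSimple : Bool :=
  Table.allBelow D.rank fun i =>
    decide (P.pi i < D.rank) && (P.rho (D.simple i) == D.simple (P.pi i)) &&
    (P.eps (D.simple i) == 1) &&
    Table.allBelow D.nroots fun s =>
      P.rho (D.reflectRoot i s) == D.reflectRoot (P.pi i) (P.rho s)

/-- The checks on pairs of roots. -/
def chkPairs : Bool :=
  Table.allBelow D.nroots fun r => Table.allBelow D.nroots fun s => P.pairOK D r s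

variable {P D}

theorem ok_of_chk (h1 : P.chkRoots D = true) (h2 : P.chkSimple D = true)
    (h3 : P.chkPairs D = true) : P.OK D := by
  have a := Table.allBelow_spec h1
  have b := Table.allBelow_spec h2
  simp only [Bool.and_eq_true, Bool.or_eq_true, decide_eq_true_eq, beq_iff_eq, bne_iff_ne] at a b
  exact {
    rho_lt := fun r hr => (a r hr).1.1.1.1.1.1.1
    rho_inj := fun r hr s hs e => by
      have := Table.allBelow_spec (a r hr).2 s hs
      simpa [e] using this
    rho_neg := fun r hr => (a r hr).1.1.1.1.1.1.2
    rho_pos := fun r hr hp => ((a r hr).1.1.1.1.1.2).resolve_left (by omega)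
    eps_pm := fun r hr => (a r hr).1.1.1.1.2
    eps_neg := fun r hr => (a r hr).1.1.1.2
    lam_neg := fun r hr => (a r hr).1.1.2
    lam_ok := fun r hr => (a r hr).1.2.imp id fun h => ⟨h.1, by
      rcases h.2 with e | e <;> rw [e] <;> norm_num⟩
    pi_lt := fun i hi => (b i hi).1.1.1
    rho_simple := fun i hi => (b i hi).1.1.2
    eps_simple := fun i hi => (b i hi).1.2
    rho_refl := fun i hi s hs => by
      have := Table.allBelow_spec (b i hi).2 s hs
      simpa using this
    comm := fun r hr s hs => Table.allBelow_spec (Table.allBelow_spec h3 r hr) s hs }

end TwPar

/-- The data of the endomorphism of `chevE6`. -/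
def parE6 : TwPar where
  rho := fun r => Table.slot 0x470046004500420037004400410036003f00340031003c002d002900260024004300400035003e00330030003d0032002f002e003b002c00280025003a002b00270039002a0038000f001d000e0020001c000d0022001f001b000c001900180015000a00170014000900120007000400230021001e001a000b00160013000800110006000300100005000200010000 r
  pi := fun i => Table.slot 0x20003000400010005 i
  eps := fun r => Int.ofNat (Table.slot 0x200020002000200000002000200000002000000000002000000020000000200000000000200000002000200000002000200020000000200000002000200000002000000020002000200020000000200000002000200000002000000020002000200000002000200000002000000000002000000020000000200000000000200000002000200000002000200020002 r) - 1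
  lam := fun _ => 1
  p := 0

theorem parE6_ok : parE6.OK chevE6 :=
  TwPar.ok_of_chk (by decide +kernel) (by decide +kernel) (by decide +kernel)

/-- The data of the endomorphism of `chevD4`. -/
def parD4 : TwPar where
  rho := fun r => Table.slot 0x170016001100150010000d0014000f0013000e000c00120005000b0009000400080003000a00070002000600010000 r
  pi := fun i => Table.slot 0x300010002 i
  eps := fun r => Int.ofNat (Table.slot 0x200020000000200000002000000020000000200020002000200020002000000020000000200000002000000020002 r) - 1
  lam := fun _ => 1
  p := 0

theorem parD4_ok : parD4.OK chevD4 :=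
  TwPar.ok_of_chk (by decide +kernel) (by decide +kernel) (by decide +kernel)

/-- The data of the endomorphism of `chevD4`. -/
def parD4r : TwPar where
  rho := fun r => Table.slot 0x17001600140011000f000c001500130010000e0012000d000a00050009000700040002000b00080006000300010000 r
  pi := fun i => Table.slot 0x2000000010003 i
  eps := fun r => Int.ofNat (Table.slot 0x200020002000000000002000000000002000200020002000200020002000200000000000200000000000200020002 r) - 1
  lam := fun _ => 1
  p := 0

theorem parD4r_ok : parD4r.OK chevD4 :=
  TwPar.ok_of_chk (by decide +kernel) (by decide +kernel) (by decide +kernel)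

/-- The data of the endomorphism of `chevF4`. -/
def parF4 : TwPar where
  rho := fun r => Table.slot 0x2c00280027002f00260024001d002e002d002b0020002a001f001a001800250023001c0029001e00190022001b0021000e0014000d0016001100060013000c000a0017001500100005000f0004000200010012000b00090000000800070003 r
  pi := fun i => Table.slot 0x100020003 i
  eps := fun _ => 1
  lam := fun r => Table.slot 0x100010001000200010001000100020002000200020002000200020002000100010001000200020002000100010001000100010001000200020002000100010001000200020002000200020002000200020001000100010002000100010001 r
  p := 2

theorem parF4_ok : parF4.OK chevF4 :=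
  TwPar.ok_of_chk (by decide +kernel) (by decide +kernel) (by decide +kernel)

/-- The data of the endomorphism of `chevB2`. -/
def parB2 : TwPar where
  rho := fun r => Table.slot 0x60007000400050002000300000001 r
  pi := fun i => Table.slot 0x1 i
  eps := fun _ => 1
  lam := fun r => Table.slot 0x10002000200010001000200020001 r
  p := 2

theorem parB2_ok : parB2.OK chevB2 :=
  TwPar.ok_of_chk (by decide +kernel) (by decide +kernel) (by decide +kernel)

/-- The data of the endomorphism of `chevG2`. -/
def parG2 : TwPar where
  rho := fun r => Table.slot 0x90008000b000a00060007000400050001000000030002 r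
  pi := fun i => Table.slot 0x1 i
  eps := fun _ => 1
  lam := fun r => Table.slot 0x100010003000300030001000100030003000300010001 r
  p := 3

theorem parG2_ok : parG2.OK chevG2 :=
  TwPar.ok_of_chk (by decide +kernel) (by decide +kernel) (by decide +kernel)

end CfsgLib.Chev
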