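/-
The orbits and the fixed Weyl group of type ³D₄, generated from the tables of `Cfsg.Lie.chevD4`,
with their verification.
-/
import Cfsg.Agent.Lib.Chev.Twist.Enum
import Cfsg.Agent.Lib.Chev.Twist.Par

set_option autoImplicit false
set_option maxRecDepth 20000
set_option linter.all false
set_option Elab.async false

namespace CfsgLib.Chev.TwD4

open Cfsg.Lie CfsgLib.Chev.Table

/-- The orbits on the nodes, with a word for each longest element. -/
def spec : List (List ℕ × List ℕ) := [([1], [1]), ([0, 2, 3], [0, 2, 3])]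

/-- The fixed Weyl group. -/
def enum : Enum where
  size := 12
  img := (.node 6
 (.node 3
 (.node 1
 (.leaf 3377755556020242)
 (.node 2
 (.leaf 4222193370726419)
 (.leaf 3096267694931973)))
 (.node 4
 (.leaf 5911060410335249)
 (.node 5
 (.leaf 2251829879963652)
 (.leaf 5911060410269713))))
 (.node 9
 (.node 7
 (.leaf 562962839830534)
 (.node 8
 (.leaf 4222193370136595)
 (.leaf 562962839764998)))
 (.node 10
 (.leaf 3377755555168274)
 (.node 11
 (.leaf 2251829879373828)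
 (.leaf 3096267694080005)))))
  nxt := (.node 6
 (.node 3
 (.node 1
 (.leaf 131073)
 (.node 2
 (.leaf 196608)
 (.leaf 4)))
 (.node 4
 (.leaf 65541)
 (.node 5
 (.leaf 393218)
 (.leaf 458755))))
 (.node 9
 (.node 7
 (.leaf 262152)
 (.node 8
 (.leaf 327689)
 (.leaf 655366)))
 (.node 10
 (.leaf 720903)
 (.node 11
 (.leaf 524299)
 (.leaf 589834)))))
  par := (.node 6
 (.node 3
 (.node 1
 (.leaf 0)
 (.node 2
 (.leaf 0)
 (.leaf 1)))
 (.node 4
 (.leaf 17)
 (.node 5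
 (.leaf 32)
 (.leaf 48))))
 (.node 9
 (.node 7
 (.leaf 65)
 (.node 8
 (.leaf 81)
 (.leaf 96)))
 (.node 10
 (.leaf 112)
 (.node 11
 (.leaf 129)
 (.leaf 145)))))
  len := (.node 6
 (.node 3
 (.node 1
 (.leaf 0)
 (.node 2
 (.leaf 1)
 (.leaf 3)))
 (.node 4
 (.leaf 4)
 (.node 5
 (.leaf 4)
 (.leaf 5))))
 (.node 9
 (.node 7
 (.leaf 7)
 (.node 8
 (.leaf 8)
 (.leaf 8)))
 (.node 10
 (.leaf 9)
 (.node 11
 (.leaf 11)
 (.leaf 12)))))
  rk := (.node 6
 (.node 3
 (.node 1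
 (.leaf 7)
 (.node 2
 (.leaf 9)
 (.leaf 5)))
 (.node 4
 (.leaf 11)
 (.node 5
 (.leaf 3)
 (.leaf 10))))
 (.node 9
 (.node 7
 (.leaf 1)
 (.node 8
 (.leaf 8)
 (.leaf 0)))
 (.node 10
 (.leaf 6)
 (.node 11
 (.leaf 2)
 (.leaf 4)))))
  pos := (.node 6
 (.node 3
 (.node 1
 (.leaf 8)
 (.node 2
 (.leaf 6)
 (.leaf 10)))
 (.node 4
 (.leaf 4)
 (.node 5
 (.leaf 11)
 (.leaf 2))))
 (.node 9
 (.node 7
 (.leaf 9)
 (.node 8
 (.leaf 0)
 (.leaf 7)))
 (.node 10
 (.leaf 1)
 (.node 11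
 (.leaf 5)
 (.leaf 3)))))
  wit := (.node 6
 (.node 3
 (.node 1
 (.leaf 0)
 (.node 2
 (.leaf 14)
 (.leaf 18)))
 (.node 4
 (.leaf 19)
 (.node 5
 (.leaf 22)
 (.leaf 23))))
 (.node 9
 (.node 7
 (.leaf 17)
 (.node 8
 (.leaf 17)
 (.leaf 23)))
 (.node 10
 (.leaf 22)
 (.node 11
 (.leaf 19)
 (.leaf 18)))))

theorem orbs_chk : chkOrbs DataD4.tab parD4 spec = true := by decide +kernel

theorem enum_chk : enum.check DataD4.tab spec = true := by decide +kernel

/-- The family of orbits is good. -/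
theorem orb_ok : OrbOK DataD4.co parD4 (mkOrbs chevD4 spec) :=
  orbOK_of_chk DataD4.chk_arrays DataD4.chk_chain DataD4.facts orbs_chk

end CfsgLib.Chev.TwD4
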