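/-
Perfectness and simplicity criteria for twisted groups, and the map to the fixed Weyl group.
-/
import Mathlib
import Cfsg.Agent.S0319
import Cfsg.Agent.Lib.Chev.Twist.BN
import Cfsg.Agent.Lib.Chev.Struct
import Cfsg.Agent.Lib.Chev.Coxeter

set_option autoImplicit false

namespace CfsgLib.Chev

open Cfsg.Lie
open scoped commutatorElement

universe v

variable {D : ChevalleyDatum} {co : ℕ → ℕ → ℤ} {K : Type v} [Field K] {P : TwPar}

namespace TwSys

variable {f : K →+* K} {σ : ↥(D.group K) →* GL D.Idx K} {ι : Type} {O : ι → Orb D}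
  {G : Subgroup (GL D.Idx K)} (T : TwSys D co P f σ O G)
include T

/-- Membership in the derived subgroup. -/
def InDer (_T : TwSys D co P f σ O G) (g : GL D.Idx K) : Prop :=
  ∃ h : g ∈ G, (⟨g, h⟩ : ↥G) ∈ commutator ↥G

theorem inDer_mul {a b : GL D.Idx K} (ha : T.InDer a) (hb : T.InDer b) : T.InDer (a * b) :=
  ⟨Subgroup.mul_mem _ ha.1 hb.1, Subgroup.mul_mem _ ha.2 hb.2⟩

theorem inDer_commutator {a b : GL D.Idx K} (ha : a ∈ G) (hb : b ∈ G) :
    T.InDer (a * b * a⁻¹ * b⁻¹) := by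
  have h : ⁅(⟨a, ha⟩ : ↥G), (⟨b, hb⟩ : ↥G)⁆ ∈ commutator ↥G := by
    rw [commutator_def]
    exact Subgroup.commutator_mem_commutator (Subgroup.mem_top _) (Subgroup.mem_top _)
  have e : ((⁅(⟨a, ha⟩ : ↥G), (⟨b, hb⟩ : ↥G)⁆ : ↥G) : GL D.Idx K) = a * b * a⁻¹ * b⁻¹ := by
    simp [commutatorElement_def]
  have hm : a * b * a⁻¹ * b⁻¹ ∈ G := e ▸ Subtype.coe_prop _
  refine ⟨hm, ?_⟩
  rwa [show (⟨_, hm⟩ : ↥G) = ⁅(⟨a, ha⟩ : ↥G), (⟨b, hb⟩ : ↥G)⁆ from Subtype.ext e.symm]

theorem inDer_conj {g n : GL D.Idx K} (hg : T.InDer g) (hn : n ∈ G) :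
    T.InDer (n * g * n⁻¹) :=
  ⟨Subgroup.mul_mem _ (Subgroup.mul_mem _ hn hg.1) (Subgroup.inv_mem _ hn),
    (inferInstance : (commutator ↥G).Normal).conj_mem _ hg.2 ⟨n, hn⟩⟩

/-- A twisted group is perfect when the fixed part of each orbit lies in the derived subgroup
and the orbit parts generate. -/
theorem perfect {S : Set (GL D.Idx K)} (hS : G ≤ Subgroup.closure S)
    (hmem : ∀ g ∈ S, g ∈ G ∧ ∃ o, g ∈ rootClosure D K ((O o).posO co) ∨
      g ∈ rootClosure D K ((O o).negO co))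
    (h : ∀ o g, g ∈ G → g ∈ rootClosure D K ((O o).posO co) → T.InDer g) :
    commutator ↥G = ⊤ := by
  rw [eq_top_iff]
  rintro ⟨g, hg⟩ -
  have key : ∀ x ∈ Subgroup.closure S, T.InDer x := by
    intro x hx
    induction hx using Subgroup.closure_induction with
    | mem y hy =>
      obtain ⟨hyG, o, ho | ho⟩ := hmem y hy
      · exact h o y hyG ho
      · have hm := T.nO_mem o
        have h1 : T.nO o * y * (T.nO o)⁻¹ ∈ rootClosure D K ((O o).posO co) := by
          refine T.sig.hF.conj_rootClosure (T.nO_perm o) (P := (O o).negO co) (fun s hs => ?_) ho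
          have hF := T.sig.hF
          obtain ⟨h1, h2⟩ := T.wO_inO o (r := hF.negFin s) ((hF.negFin_pos s).2 hs.1)
            (hF.inSub_neg s.isLt hs.2)
          have e : (O o).wO (hF.negFin s) = hF.negFin ((O o).wO s) := hF.sW_neg _ s
          rw [e] at h1 h2
          refine ⟨not_lt.1 fun h => absurd ((hF.negFin_pos _).2 h) (not_le.2 h1), ?_⟩
          have h3 := hF.inSub_neg (hF.neg_lt ((O o).wO s).isLt) h2
          rwa [hF.neg_neg ((O o).wO s).isLt] at h3
        have h2 := T.inDer_conj (h o _ (Subgroup.mul_mem _ (Subgroup.mul_mem _ hm hyG)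
          (Subgroup.inv_mem _ hm)) h1) (Subgroup.inv_mem _ hm)
        rwa [show (T.nO o)⁻¹ * (T.nO o * y * (T.nO o)⁻¹) * (T.nO o)⁻¹⁻¹ = y by group] at h2
    | one => exact ⟨Subgroup.one_mem _, Subgroup.one_mem _⟩
    | mul a b _ _ ha hb => exact T.inDer_mul ha hb
    | inv a _ ha => exact ⟨Subgroup.inv_mem _ ha.1, Subgroup.inv_mem _ ha.2⟩
  exact (key g (hS hg)).2

/-- An element of the torus moves a root element. -/
theorem inDer_torus {r : ℕ} (hr : r < D.nroots) {h : GL D.Idx K} (hh : h ∈ G) {χ t : K}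
    (hx : ∀ u, h * xU D r u * h⁻¹ = xU D r (χ * u)) (ht : xU D r t ∈ G) :
    T.InDer (xU D r ((χ - 1) * t)) := by
  have := T.inDer_commutator hh ht
  rwa [hx, T.sig.hF.xU_inv hr, T.sig.hF.xU_add hr,
    show χ * t + -t = (χ - 1) * t by ring] at this

/-- A commutator of two root elements with a single term. -/
theorem inDer_single {r s k : ℕ} {C : ℤ} (hr : r < D.nroots) (hs : s < D.nroots) (hne : s ≠ r)
    (hneg : s ≠ D.neg r) (hT : D.commTerms r s = [(k, C, 1, 1)]) {t u : K} (ht : xU D r t ∈ G)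
    (hu : xU D s u ∈ G) : T.InDer (xU D k ((C : K) * -t * u)) := by
  have h := T.sig.hF.xU_comm T.sig.hC hr hs hne hneg t u
  have hw : wU D (cwR D r s t u) = xU D k ((C : K) * -t * u) := by
    simp [cwR, hT, wU]
  rw [hw] at h
  have := T.inDer_commutator (Subgroup.inv_mem _ hu) (Subgroup.inv_mem _ ht)
  rw [inv_inv, inv_inv, mul_assoc, mul_assoc, h] at this
  rwa [show (xU D s u)⁻¹ * ((xU D r t)⁻¹ * (xU D r t * xU D s u * xU D k ((C : K) * -t * u))) =
    xU D k ((C : K) * -t * u) by group] at this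

/-- Simplicity from perfectness. -/
theorem simple (hsep : ∀ h ∈ D.diagonalSubgroup K,
      (∀ g, g ∈ G → g ∈ rootClosure D K (D.nroots / 2 ≤ ·) → h * g = g * h) → h = 1)
    (hirr : T.bnPair.Irreducible) (hperf : commutator ↥G = ⊤) (hne : ∃ g ∈ G, g ≠ 1) :
    IsSimpleGroup ↥G ∧ ¬ IsMulCommutative ↥G := by
  obtain ⟨g, hg, hg1⟩ := hne
  have : Nontrivial ↥G := ⟨⟨⟨g, hg⟩, 1, fun h => hg1 (congrArg Subtype.val h)⟩⟩
  refine ⟨Cfsg.Agent.S0319.result T.bnPair hirr ?_ hperf (T.normalCore_eq_bot hsep), ?_⟩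
  · have hF := T.sig.hF
    have := hF.borel_solvable T.sig.hC (K := K)
    have h1 : Group.IsSolvable ↥((D.borelSubgroup K).subgroupOf G) := by
      refine Group.isSolvable_of_isSolvable_injective
        (f := MonoidHom.mk' (fun x : ↥((D.borelSubgroup K).subgroupOf G) =>
          (⟨(x.1 : GL D.Idx K), x.2⟩ : ↥(D.borelSubgroup K))) fun _ _ => rfl) ?_
      intro a b e
      exact Subtype.ext (Subtype.ext (congrArg Subtype.val e :))
    have e : T.bnPair.B = (D.borelSubgroup K).subgroupOf G := by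
      show (D.borelSubgroup K ⊓ G).subgroupOf G = _
      exact Subgroup.inf_subgroupOf_right _ _
    rw [e]; exact h1
  · intro h
    have hbot : commutator ↥G = ⊥ := by
      rw [commutator_def, Subgroup.commutator_eq_bot_iff_le_centralizer]
      intro x _ y _
      exact h.is_comm.comm y x
    rw [hbot] at hperf
    exact bot_ne_top hperf

end TwSys

theorem TwSys.irreducible {m : ℕ} {f : K →+* K} {σ : ↥(D.group K) →* GL D.Idx K}
    {O : Fin m → Orb D} {G : Subgroup (GL D.Idx K)} (T : TwSys D co P f σ O G)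
    (h : ∀ o o' : Fin m, o.val + 1 = o'.val →
      (O o).wO * (O o').wO ≠ (O o').wO * (O o).wO) : T.bnPair.Irreducible := by
  intro J hJ hJne hJc
  obtain ⟨s₁, hs₁⟩ := hJne
  obtain ⟨o₁, rfl⟩ := hJ hs₁
  obtain ⟨s₂, ⟨o₂, rfl⟩, hs₂⟩ := hJc
  let p : Fin m → Prop := fun o => (⟨T.nO o, T.nO_mem o⟩ : ↥G) ∈ J
  have hcross : ∃ o o' : Fin m, o.val + 1 = o'.val ∧ ¬(p o ↔ p o') := by
    by_contra hn
    push Not at hn
    have key : ∀ o : Fin m, p o ↔ p ⟨0, o.pos⟩ := by
      rintro ⟨k, hk⟩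
      induction k with
      | zero => exact Iff.rfl
      | succ k ih => exact (hn ⟨k, by omega⟩ ⟨k + 1, hk⟩ rfl).symm.trans (ih (by omega))
    exact hs₂ ((key o₂).2 ((key o₁).1 hs₁))
  obtain ⟨o, o', hoo, hp⟩ := hcross
  have key : ∀ a b : Fin m, p a → ¬ p b → (O a).wO * (O b).wO ≠ (O b).wO * (O a).wO →
      ∃ s ∈ J, ∃ s' ∈ T.bnPair.S \ J, s * s' * s⁻¹ * s'⁻¹ ∉ T.bnPair.B := by
    intro a b ha hb hne
    refine ⟨_, ha, _, ⟨⟨b, rfl⟩, hb⟩, fun hB => hne ?_⟩
    have hF := T.sig.hF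
    have h1 := hF.permAct_mul (hF.permAct_mul (hF.permAct_mul (T.nO_perm a) (T.nO_perm b))
      (hF.permAct_inv (T.nO_monomial a) (T.nO_perm a)))
      (hF.permAct_inv (T.nO_monomial b) (T.nO_perm b))
    have h2 := hF.permAct_pos h1 hB.1
    rw [mul_inv_eq_one, mul_inv_eq_iff_eq_mul] at h2
    exact h2
  rcases Classical.em (p o) with h1 | h1
  · exact key o o' h1 (fun h2 => hp ⟨fun _ => h2, fun _ => h1⟩) (h o o' hoo)
  · exact key o' o (by_contra fun h2 => hp ⟨fun x => absurd x h1, fun x => absurd x h2⟩) h1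
      (fun e => h o o' hoo e.symm)

end CfsgLib.Chev
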