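/-
Coordinates on small unipotent subgroups, words in root elements under an endomorphism and the
fixed points of a power map on a finite field.
-/
import Mathlib
import Cfsg.Agent.Lib.Chev.Twist.BN
import Cfsg.Agent.Lib.Chev.Twist.Enum

set_option autoImplicit false

namespace CfsgLib.Chev

open Cfsg.Lie

universe v

variable {D : ChevalleyDatum} {co : ℕ → ℕ → ℤ} {K : Type v} [Field K] {P : TwPar}

/-- Each root of the list normalises the subgroup of the later ones; all are positive. -/
def coordB (D : ChevalleyDatum) : List ℕ → Bool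
  | [] => true
  | i :: L => decide (i < D.nroots) && decide (D.nroots / 2 ≤ i) && !L.contains i &&
      (L.all fun j => j != D.neg i && (D.commTerms i j).all fun c => L.contains c.1) && coordB D L

theorem wU_nil : wU D ([] : List (ℕ × K)) = 1 := rfl

theorem wU_append (a b : List (ℕ × K)) : wU D (a ++ b) = wU D a * wU D b := by
  simp [wU]

namespace Facts

variable (hF : Facts D co)
include hF

omit hF in
theorem wU_mem_closure {L : List ℕ} (hL : ∀ r ∈ L, r < D.nroots) {ts : List K} :
    wU D (L.zip ts) ∈ rootClosure D K (· ∈ L) :=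
  wU_mem fun p hp => by
    have := (List.of_mem_zip hp).1
    exact xU_mem_rootClosure (P := (· ∈ L)) (hL _ this) this _

omit hF in
theorem coord_lt : ∀ {L : List ℕ}, coordB D L = true →
    ∀ r ∈ L, r < D.nroots ∧ D.nroots / 2 ≤ r
  | [], _, r, hr => by simp at hr
  | i :: L, h, r, hr => by
    simp only [coordB, Bool.and_eq_true, decide_eq_true_eq] at h
    rcases List.mem_cons.1 hr with rfl | hr
    · exact ⟨h.1.1.1.1, h.1.1.1.2⟩
    · exact coord_lt h.2 r hr

omit hF in
theorem coord_nodup : ∀ {L : List ℕ}, coordB D L = true → L.Nodup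
  | [], _ => List.nodup_nil
  | i :: L, h => by
    simp only [coordB, Bool.and_eq_true, Bool.not_eq_true'] at h
    refine List.nodup_cons.2 ⟨?_, coord_nodup h.2⟩
    have := h.1.1.2
    simpa using this

theorem exists_coords (hC : CommF.{v} D) : ∀ {L : List ℕ}, coordB D L = true →
    ∀ g ∈ rootClosure D K (· ∈ L), ∃ ts : List K, ts.length = L.length ∧ g = wU D (L.zip ts)
  | [], _, g, hg => by
    refine ⟨[], rfl, ?_⟩
    have : rootClosure D K (· ∈ ([] : List ℕ)) = ⊥ := by
      rw [eq_bot_iff]
      refine (Subgroup.closure_le _).2 ?_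
      rintro x ⟨r, t, hr, h, rfl⟩
      simp at h
    rw [this, Subgroup.mem_bot] at hg
    exact hg
  | i :: L, h, g, hg => by
    simp only [coordB, Bool.and_eq_true, decide_eq_true_eq, Bool.not_eq_true',
      List.all_eq_true, bne_iff_ne, List.contains_iff_mem] at h
    obtain ⟨⟨⟨⟨hi, hip⟩, hni⟩, hn⟩, hL⟩ := h
    obtain ⟨a, ha, c, hc, e⟩ := hF.closure_split hC (A := (· ∈ i :: L)) (Q₁ := (· ∈ L))
      (Q₂ := (· = i))
      (fun r _ hr => (List.mem_cons.1 hr).symm)
      (by
        rintro i' hi' rfl j hj hjL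
        exact ⟨(hn j hjL).1, fun _ c hc => (hn j hjL).2 c hc⟩) (Subgroup.inv_mem _ hg)
    obtain ⟨t, rfl⟩ : ∃ t, c = xU D i t :=
      (hF.mem_rootSubgroup_iff hi).1 (by rw [hF.rootSubgroup_eq hi]; exact hc)
    obtain ⟨ts, hts, e'⟩ := exists_coords hC hL _ (Subgroup.inv_mem _ ha)
    refine ⟨-t :: ts, by simp [hts], ?_⟩
    rw [List.zip_cons_cons, wU_cons, ← e', ← hF.xU_inv hi, ← mul_inv_rev, ← e, inv_inv]

theorem coords_unique (hC : CommF.{v} D) [Finite K] {L : List ℕ} (h : coordB D L = true)
    {ts ts' : List K} (h1 : ts.length = L.length) (h2 : ts'.length = L.length)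
    (e : wU D (L.zip ts) = wU D (L.zip ts')) : ts = ts' := by
  classical
  have := Fintype.ofFinite K
  have hlt := coord_lt h
  let F : (Fin L.length → K) → ↥(rootClosure D K (· ∈ L)) := fun t =>
    ⟨wU D (L.zip (List.ofFn t)), wU_mem_closure fun r hr => (hlt r hr).1⟩
  have hs : Function.Surjective F := by
    rintro ⟨g, hg⟩
    obtain ⟨us, hus, rfl⟩ := hF.exists_coords hC h g hg
    refine ⟨fun k => us[k.val]'(by rw [hus]; exact k.isLt), Subtype.ext ?_⟩
    show wU D (L.zip (List.ofFn fun k : Fin L.length => us[k.val]'(by rw [hus]; exact k.isLt))) = _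
    congr 2
    exact List.ext_getElem (by simp [hus]) fun k _ _ => by simp
  have : Finite ↥(rootClosure D K (· ∈ L)) := Finite.of_surjective F hs
  have hb : Function.Bijective F := by
    refine (Function.Surjective.bijective_of_nat_card_le hs ?_)
    rw [Nat.card_fun, Nat.card_fin]
    refine le_trans (le_of_eq ?_) (hF.card_le_rootClosure (P := (· ∈ L))
      fun r _ hr => (hlt r hr).2)
    congr 1
    rw [← List.toFinset_card_of_nodup (coord_nodup h)]
    exact Finset.card_bij (fun r hr => ⟨r, (hlt r (List.mem_toFinset.1 hr)).1⟩)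
      (fun r hr => by simpa using List.mem_toFinset.1 hr) (fun a _ b _ e => congrArg Fin.val e)
      (fun r hr => ⟨r.val, by simpa using hr, rfl⟩)
  have key : ∀ us : List K, ∀ hu : us.length = L.length,
      ((F fun k => us[k.val]'(by rw [hu]; exact k.isLt)) : GL D.Idx K) = wU D (L.zip us) := fun us hu => by
    show wU D (L.zip (List.ofFn fun k : Fin L.length => us[k.val]'(by rw [hu]; exact k.isLt))) = _
    congr 2
    exact List.ext_getElem (by simp [hu]) fun k _ _ => by simp
  have := hb.1 (Subtype.ext ((key ts h1).trans (e.trans (key ts' h2).symm)))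
  exact List.ext_getElem (h1.trans h2.symm) fun k hk _ => congrFun this ⟨k, h1 ▸ hk⟩

omit hF in
/-- Transporting a word by a monomial element. -/
theorem conj_word {n : GL D.Idx K} {w : Equiv.Perm (Fin D.nroots)} (hn : PermAct n w) :
    ∀ (L : List (Fin D.nroots)) (ts : List K), ts.length = L.length → ∃ us : List K,
      us.length = L.length ∧ (∀ k, (hk : k < us.length) → (h : k < ts.length) →
        (us[k] = 0 → ts[k] = 0)) ∧
      n * wU D ((L.map Fin.val).zip ts) * n⁻¹ = wU D ((L.map fun r => (w r).val).zip us)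
  | [], _, _ => ⟨[], rfl, by simp, by simp [wU]⟩
  | r :: L, [], h => by simp at h
  | r :: L, t :: ts, h => by
    obtain ⟨us, hus, hne, e⟩ := conj_word hn L ts (by simpa using h)
    obtain ⟨c, hc, hconj, -⟩ := hn r
    refine ⟨c * t :: us, by simp [hus], ?_, ?_⟩
    · rintro (_ | k) hk hk' h0
      · simpa [hc] using h0
      · simp only [List.getElem_cons_succ] at h0 ⊢
        exact hne k (by simpa using hk) (by simpa using hk') h0
    · simp only [List.map_cons, List.zip_cons_cons, wU_cons]
      rw [← hconj, ← e]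
      group

/-- A word in negative roots with a non-zero coefficient is not trivial. -/
theorem word_ne_one (hC : CommF.{v} D) [Finite K] (l : List (Fin D.rank))
    (L : List (Fin D.nroots)) (h : coordB D (L.map fun r => (sW D l r).val) = true) {t : K}
    {ts : List K} (hts : (t :: ts).length = L.length) (ht : t ≠ 0) :
    wU D ((L.map Fin.val).zip (t :: ts)) ≠ 1 := by
  intro e
  obtain ⟨us, hus, hne, e'⟩ := conj_word (hF.permAct_nW (F := K) l) L (t :: ts) hts
  rw [e, mul_one, mul_inv_cancel] at e'
  have hz : wU D ((L.map fun r => (sW D l r).val).zip (List.replicate L.length (0 : K))) = 1 := by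
    refine List.prod_eq_one fun x hx => ?_
    obtain ⟨p, hp, rfl⟩ := List.mem_map.1 hx
    obtain ⟨h1, h2⟩ := List.of_mem_zip hp
    rw [List.eq_of_mem_replicate h2, hF.xU_zero ((coord_lt h) _ h1).1]
  have h0 := hF.coords_unique hC h (by simpa using hus) (by simp) (e'.symm.trans hz.symm)
  have h1 := hne 0 (by rw [hus, ← hts]; simp) (by simp) (by simp [h0])
  exact ht (by simpa using h1)

/-- The action of a word on a root, computed from the datum. -/
theorem sW_val_foldr (l : List (Fin D.rank)) (r : Fin D.nroots) :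
    (sW D l r).val = (l.map Fin.val).foldr (fun i x => D.reflectRoot i x) r.val := by
  induction l with
  | nil => rfl
  | cons j l ih =>
    rw [sW_cons, Equiv.Perm.mul_apply, hF.sP_val, ih, List.map_cons, List.foldr_cons]

/-- As `word_ne_one`, with the hypothesis in a computable form. -/
theorem word_ne_one' (hC : CommF.{v} D) [Finite K] (l : List (Fin D.rank))
    (L : List (Fin D.nroots))
    (h : coordB D (L.map fun r =>
      (l.map Fin.val).foldr (fun i x => D.reflectRoot i x) r.val) = true) {t : K}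
    {ts : List K} (hts : (t :: ts).length = L.length) (ht : t ≠ 0) :
    wU D ((L.map Fin.val).zip (t :: ts)) ≠ 1 :=
  hF.word_ne_one hC l L (by simpa only [hF.sW_val_foldr] using h) hts ht

end Facts

namespace Sig

variable {f : K →+* K} {σ : ↥(D.group K) →* GL D.Idx K} (S : Sig D co P f σ)
include S

theorem img_word {w : List (ℕ × K)} (h : ∀ p ∈ w, p.1 < D.nroots) :
    Img σ (wU D w) (wU D (w.map fun p => (P.rho p.1, P.coef f p.1 p.2))) := by
  rw [wU, wU, List.map_map]
  exact Img.list (fun p : ℕ × K => xU D p.1 p.2)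
    (fun p : ℕ × K => xU D (P.rho p.1) (P.coef f p.1 p.2)) w
    fun p hp => S.img_xU (h p hp) p.2

theorem img_zip {L : List ℕ} (h : ∀ r ∈ L, r < D.nroots) (ts : List K) :
    Img σ (wU D (L.zip ts)) (wU D ((L.zip ts).map fun p => (P.rho p.1, P.coef f p.1 p.2))) :=
  S.img_word fun p hp => h _ (List.of_mem_zip hp).1

theorem commute_xU {a b : ℕ} (ha : a < D.nroots) (hb : b < D.nroots)
    (h : P.commB D a b = true) (t u : K) : Commute (xU D a t) (xU D b u) :=
  S.hF.commute_of_commB S.hC S.char ha hb h t u

end Sig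

/-- A torus element commuting with a word whose coefficients are non-zero fixes its roots. -/
theorem Facts.char_eq_one (hF : Facts D co) (hC : CommF.{v} D) [Finite K] {L : List ℕ}
    (h : coordB D L = true) {ts : List K} (hts : ts.length = L.length) (c : ℕ → Kˣ)
    (e : hT D c * wU D (L.zip ts) = wU D (L.zip ts) * hT D c) :
    ∀ p ∈ L.zip ts, p.2 ≠ 0 →
      ((∏ i ∈ Finset.range D.rank, c i ^ D.cartan i p.1 : Kˣ) : K) = 1 := by
  set χ : ℕ → K := fun r => ((∏ i ∈ Finset.range D.rank, c i ^ D.cartan i r : Kˣ) : K) with hχ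
  have key : ∀ (L : List ℕ) (ts : List K), (∀ r ∈ L, r < D.nroots) →
      hT D c * wU D (L.zip ts) * (hT D c)⁻¹ =
        wU D (L.zip (List.zipWith (fun r t => χ r * t) L ts)) := by
    intro L
    induction L with
    | nil => intro ts _; simp [wU]
    | cons r L ih =>
      intro ts hlt
      cases ts with
      | nil => simp [wU]
      | cons t ts =>
        rw [List.zipWith_cons_cons, List.zip_cons_cons, List.zip_cons_cons, wU_cons, wU_cons,
          ← ih ts fun x hx => hlt x (List.mem_cons_of_mem _ hx),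
          show xU D r (χ r * t) = hT D c * xU D r t * (hT D c)⁻¹ from
            (hF.hT_conj_xU c (hlt r List.mem_cons_self) t).symm]
        group
  have h1 := key L ts fun r hr => (coord_lt h r hr).1
  rw [e, mul_inv_cancel_right] at h1
  have h2 := hF.coords_unique hC h hts (by simp [hts]) h1
  intro p hp hne
  obtain ⟨k, hk, rfl⟩ := List.getElem_of_mem hp
  rw [List.getElem_zip] at hne ⊢
  simp only [List.length_zip] at hk
  have h3 : ts[k]'(by omega) = χ (L[k]'(by omega)) * ts[k]'(by omega) := by
    have h4 : ts[k]'(by omega) =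
        (List.zipWith (fun r t => χ r * t) L ts)[k]'(by simp; omega) := List.getElem_of_eq h2 _
    rwa [List.getElem_zipWith] at h4
  exact mul_right_cancel₀ (b := ts[k]'(by omega)) hne (h3.symm.trans (one_mul _).symm)

/-- A torus element whose values on the fundamental roots are trivial is trivial. -/
theorem Facts.hT_eq_one_of_simple (hF : Facts D co) (c : ℕ → Kˣ)
    (h : ∀ q < D.rank,
      ((∏ i ∈ Finset.range D.rank, c i ^ D.cartan i (D.simple q) : Kˣ) : K) = 1) :
    hT D c = 1 := by
  rw [hT, ← dU_one]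
  refine dU_congr fun r hr => ?_
  have h' : ∀ q ∈ Finset.range D.rank,
      (∏ i ∈ Finset.range D.rank, c i ^ D.cartan i (D.simple q) : Kˣ) ^ co r q = 1 :=
    fun q hq => by
      have e1 : (∏ i ∈ Finset.range D.rank, c i ^ D.cartan i (D.simple q) : Kˣ) = 1 :=
        Units.ext (h q (Finset.mem_range.1 hq))
      rw [e1, one_zpow]
  rw [← Finset.prod_eq_one h']
  simp only [← Finset.prod_zpow, ← zpow_mul]
  rw [Finset.prod_comm]
  refine Finset.prod_congr rfl fun i hi => ?_
  rw [hF.cartan_eq_sum (Finset.mem_range.1 hi) hr, zpow_sum']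
  exact Finset.prod_congr rfl fun q _ => by rw [mul_comm]

/-- The roots of a list are the positive roots of an orbit. -/
def chkPosList (T : Table.Tab) (nodes L : List ℕ) : Bool :=
  Table.allBelow T.nroots fun r =>
    (Nat.ble (T.nroots / 2) r && Table.inOB T nodes r) == L.contains r

/-- The roots of a list are the negative roots of an orbit. -/
def chkNegList (T : Table.Tab) (nodes L : List ℕ) : Bool :=
  Table.allBelow T.nroots fun r =>
    (Nat.blt r (T.nroots / 2) && Table.inOB T nodes r) == L.contains r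

theorem posO_iff_list {T : Table.Tab} (hA : T.chkArrays D = true) {p : List ℕ × List ℕ}
    {L : List ℕ} (h : chkPosList T p.1 L = true) :
    ∀ r < D.nroots, ((mkOrb D p).posO T.co r ↔ r ∈ L) := by
  intro r hr
  have hn := Table.nroots_eq hA (D := D)
  have := Table.allBelow_spec h r (hn ▸ hr)
  rw [beq_iff_eq] at this
  rw [← List.contains_iff_mem, ← this, Bool.and_eq_true, Table.ble_iff, ← hn, inOB_iff hA]
  refine and_congr_right fun _ => forall_congr' fun j => imp_congr_right fun hj =>
    imp_congr_left (not_congr ⟨?_, ?_⟩)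
  · rintro ⟨i, hi, rfl⟩; exact mem_filterMap_toFin.1 hi
  · intro h; exact ⟨⟨j, hj⟩, mem_filterMap_toFin.2 h, rfl⟩

theorem negO_iff_list {T : Table.Tab} (hA : T.chkArrays D = true) {p : List ℕ × List ℕ}
    {L : List ℕ} (h : chkNegList T p.1 L = true) :
    ∀ r < D.nroots, ((mkOrb D p).negO T.co r ↔ r ∈ L) := by
  intro r hr
  have hn := Table.nroots_eq hA (D := D)
  have := Table.allBelow_spec h r (hn ▸ hr)
  rw [beq_iff_eq] at this
  rw [← List.contains_iff_mem, ← this, Bool.and_eq_true, Table.blt_iff, ← hn, inOB_iff hA]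
  refine and_congr_right fun _ => forall_congr' fun j => imp_congr_right fun hj =>
    imp_congr_left (not_congr ⟨?_, ?_⟩)
  · rintro ⟨i, hi, rfl⟩; exact mem_filterMap_toFin.1 hi
  · intro h; exact ⟨⟨j, hj⟩, mem_filterMap_toFin.2 h, rfl⟩

/-! ### Power maps of finite fields -/

theorem exists_powHom [Fintype K] {q n : ℕ} (hq : IsPrimePow q)
    (hK : Fintype.card K = q ^ n) : ∃ f : K →+* K, ∀ t, f t = t ^ q := by
  obtain ⟨p, k, hp, hk, rfl⟩ := hq
  have hp' := hp.nat_prime
  have := Fact.mk hp'
  obtain ⟨p', hch⟩ := CharP.exists K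
  obtain ⟨m, hp'', hcard⟩ := FiniteField.card K p'
  have : p' = p := by
    have h : p' ∣ (p ^ k) ^ n := by rw [← hK, hcard]; exact dvd_pow_self _ m.pos.ne'
    rw [← pow_mul] at h
    exact (Nat.prime_dvd_prime_iff_eq hp'' hp').1 (hp''.dvd_of_dvd_pow h)
  subst this
  exact ⟨iterateFrobenius K p' k, fun t => by simp [iterateFrobenius_def]⟩

theorem card_units_fix [Fintype K] {q n : ℕ} (hK : Fintype.card K = q ^ n) : Nat.card {t : Kˣ // t ^ (q - 1) = 1} = q - 1 := by
  have h1 : Nat.card (powMonoidHom (α := Kˣ) (q - 1)).ker = (Nat.card Kˣ).gcd (q - 1) :=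
    IsCyclic.card_powMonoidHom_ker Kˣ (q - 1)
  have h2 : Nat.card Kˣ = q ^ n - 1 := by
    rw [Nat.card_units, Nat.card_eq_fintype_card, hK]
  rw [h2, Nat.gcd_eq_right (Nat.sub_one_dvd_pow_sub_one q n)] at h1
  exact (Nat.card_congr (Equiv.subtypeEquivRight fun t => by simp)).trans h1

theorem card_field_fix [Fintype K] {q n : ℕ} (hq : 1 < q) (hK : Fintype.card K = q ^ n) : Nat.card {t : K // t ^ q = t} = q := by
  classical
  have h1 : Nat.card {t : Kˣ // t ^ (q - 1) = 1} = Nat.card {t : K // t ^ q = t ∧ t ≠ 0} := by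
    refine Nat.card_congr ⟨fun t => ⟨(t.1 : K), ?_, t.1.ne_zero⟩,
      fun t => ⟨Units.mk0 t.1 t.2.2, ?_⟩, fun t => Subtype.ext (Units.ext rfl),
      fun t => Subtype.ext rfl⟩
    · have := congrArg Units.val t.2
      rw [Units.val_pow_eq_pow_val, Units.val_one] at this
      have e := pow_succ ((t.1 : Kˣ) : K) (q - 1)
      rwa [Nat.sub_add_cancel hq.le, this, one_mul] at e
    · refine Units.ext ?_
      rw [Units.val_pow_eq_pow_val, Units.val_one, Units.val_mk0]
      refine mul_right_cancel₀ t.2.2 ?_
      rw [← pow_succ, show q - 1 + 1 = q by omega, t.2.1, one_mul]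
  rw [card_units_fix hK] at h1
  rw [Nat.card_eq_fintype_card, Fintype.card_subtype] at h1 ⊢
  have h3 : Finset.univ.filter (fun t : K => t ^ q = t ∧ t ≠ 0) =
      (Finset.univ.filter fun t : K => t ^ q = t).erase 0 := by
    ext t; simp [and_comm]
  rw [h3, Finset.card_erase_of_mem (by simp [show q ≠ 0 by omega])] at h1
  have : 0 < (Finset.univ.filter fun t : K => t ^ q = t).card :=
    Finset.card_pos.2 ⟨0, by simp [show q ≠ 0 by omega]⟩
  omega

end CfsgLib.Chev
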