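/-
The twisted groups of type ³D₄.
-/
import Mathlib
import Cfsg.Prelude.Def_LieTwisted
import Cfsg.Agent.Lib.Chev.Twist.Words
import Cfsg.Agent.Lib.Chev.Twist.Simple
import Cfsg.Agent.Lib.Chev.Twist.DataD4

set_option autoImplicit false
set_option maxRecDepth 20000

namespace CfsgLib.Chev.TwD4

open Cfsg.Lie

universe v

variable {K : Type v} [Field K] [Fintype K] {q : ℕ} (hq : IsPrimePow q)
  (hK : Fintype.card K = q ^ 3)

/-- The orbit family. -/
abbrev O : Fin spec.length → Orb chevD4 := mkOrbs chevD4 spec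

/-- The field endomorphism and the endomorphism of the group. -/
structure Ctx (K : Type v) [Field K] [Fintype K] (q : ℕ) : Type v where
  f : K →+* K
  σ : ↥(chevD4.group K) →* GL chevD4.Idx K
  hf : ∀ t, f t = t ^ q
  sig : Sig chevD4 DataD4.co parD4 f σ
  q_gt : 1 < q
  card : Fintype.card K = q ^ 3

include hq hK in
theorem nonempty_ctx : Nonempty (Ctx K q) := by
  obtain ⟨f, hf⟩ := exists_powHom hq hK
  obtain ⟨⟨co, hF⟩, hC⟩ := good_D4.{v}
  have hN : HasNbr chevD4 := hasNbr_of_mem (by simp)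
  have hs : ∀ r < chevD4.nroots, Function.Surjective (parD4.coef f r) := fun r hr => by
    refine Finite.surjective_of_injective fun a b e => ?_
    simp only [TwPar.coef, show parD4.lam r = 1 from rfl, pow_one] at e
    refine f.injective (mul_left_cancel₀ ?_ e)
    rcases parD4_ok.eps_pm r hr with h | h <;> simp [h]
  obtain ⟨σ, hσ⟩ := DataD4.facts.exists_sigma hC hN parD4_ok f Nat.cast_zero hs
  exact ⟨⟨f, σ, hf, ⟨DataD4.facts, hC, parD4_ok, Nat.cast_zero, hσ⟩, hq.one_lt, hK⟩⟩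

theorem tables : chevD4.nroots = 24 ∧ chevD4.rank = 4 ∧
    parD4.rho d4p1 = d4p3 ∧ parD4.rho d4p3 = d4p4 ∧ parD4.rho d4p4 = d4p1 ∧
    parD4.rho d4p2 = d4p2 ∧ parD4.rho d4m1 = d4m3 ∧ parD4.rho d4m3 = d4m4 ∧
    parD4.rho d4m4 = d4m1 ∧ parD4.rho d4m2 = d4m2 ∧
    parD4.eps d4p1 = 1 ∧ parD4.eps d4p2 = 1 ∧ parD4.eps d4p3 = 1 ∧ parD4.eps d4p4 = 1 ∧
    parD4.eps d4m1 = 1 ∧ parD4.eps d4m2 = 1 ∧ parD4.eps d4m3 = 1 ∧ parD4.eps d4m4 = 1 := by
  decide +kernel

theorem commutes : parD4.commB chevD4 d4p1 d4p3 = true ∧ parD4.commB chevD4 d4p1 d4p4 = true ∧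
    parD4.commB chevD4 d4p3 d4p4 = true ∧ parD4.commB chevD4 d4m1 d4m3 = true ∧
    parD4.commB chevD4 d4m1 d4m4 = true ∧ parD4.commB chevD4 d4m3 d4m4 = true := by
  decide +kernel

theorem lists : (chkPosList DataD4.tab [1] [d4p2] = true ∧
    chkNegList DataD4.tab [1] [d4m2] = true ∧ coordB chevD4 [d4p2] = true) ∧
    (chkPosList DataD4.tab [0, 2, 3] [d4p1, d4p3, d4p4] = true ∧
    chkNegList DataD4.tab [0, 2, 3] [d4m1, d4m3, d4m4] = true ∧
    coordB chevD4 [d4p1, d4p3, d4p4] = true) := by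
  decide +kernel

theorem fin_cases_spec {p : Fin spec.length → Prop} (h0 : p ⟨0, by decide⟩)
    (h1 : p ⟨1, by decide⟩) : ∀ o, p o := by
  rintro ⟨o, ho⟩
  have : o < 2 := ho
  interval_cases o
  exacts [h0, h1]

variable (C : Ctx K q)
include C

theorem Ctx.pow_three (t : K) : C.f (C.f (C.f t)) = t := by
  rw [C.hf, C.hf, C.hf, ← pow_mul, ← pow_mul, show q * (q * q) = q ^ 3 by ring, ← C.card]
  exact FiniteField.pow_card t

theorem Ctx.img_one {r : ℕ} (hr : r < 24) (he : parD4.eps r = 1) (t : K) :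
    Img C.σ (xU chevD4 r t) (xU chevD4 (parD4.rho r) (C.f t)) := by
  have := C.sig.img_xU (r := r) hr t
  simpa [TwPar.coef, he, show parD4.lam r = 1 from rfl] using this

/-- The generator word of a triple. -/
theorem Ctx.triple_fixed {a b c : ℕ} (ha : a < 24) (hb : b < 24) (hc : c < 24)
    (ea : parD4.eps a = 1) (eb : parD4.eps b = 1) (ec : parD4.eps c = 1)
    (ra : parD4.rho a = b) (rb : parD4.rho b = c) (rc : parD4.rho c = a)
    (hab : parD4.commB chevD4 a b = true) (hac : parD4.commB chevD4 a c = true) (x y z : K) :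
    Img C.σ (xU chevD4 a x * xU chevD4 b y * xU chevD4 c z)
      (xU chevD4 a (C.f z) * xU chevD4 b (C.f x) * xU chevD4 c (C.f y)) := by
  have h := ((C.img_one ha ea x).mul (C.img_one hb eb y)).mul (C.img_one hc ec z)
  rw [ra, rb, rc] at h
  have h1 := C.sig.commute_xU ha hb hab (C.f z) (C.f x)
  have h2 := C.sig.commute_xU ha hc hac (C.f z) (C.f y)
  rwa [show xU chevD4 b (C.f x) * xU chevD4 c (C.f y) * xU chevD4 a (C.f z) =
    xU chevD4 a (C.f z) * xU chevD4 b (C.f x) * xU chevD4 c (C.f y) by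
      rw [mul_assoc, ← h2.eq, ← mul_assoc, ← h1.eq]] at h

theorem Ctx.gen_fixed : ∀ w ∈ d4Words K q, wU chevD4 w ∈ fixS C.σ ∧
    (∀ p ∈ w, p.1 < chevD4.nroots) := by
  obtain ⟨hn, hr, e1, e2, e3, e4, e5, e6, e7, e8, s1, s2, s3, s4, t1, t2, t3, t4⟩ := tables
  obtain ⟨c1, c2, -, c4, c5, -⟩ := commutes
  rintro w (⟨t, ht, r, hr', rfl⟩ | ⟨t, rs, hrs, rfl⟩)
  · refine ⟨?_, ?_⟩
    · simp only [List.mem_cons, List.not_mem_nil, or_false] at hr'
      rcases hr' with rfl | rfl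
      · have := C.img_one (by decide) s2 t
        rw [e4, C.hf, ht] at this
        simpa [mem_fixS, wU] using this
      · have := C.img_one (by decide) t2 t
        rw [e8, C.hf, ht] at this
        simpa [mem_fixS, wU] using this
    · simp only [List.mem_cons, List.not_mem_nil, or_false, forall_eq] at hr' ⊢
      rcases hr' with rfl | rfl <;> decide +kernel
  · simp only [List.mem_cons, List.not_mem_nil, or_false] at hrs
    have hq3 : C.f (t ^ q ^ 2) = t := by
      have := C.pow_three t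
      rwa [C.hf t, C.hf (t ^ q), ← pow_mul, ← sq] at this
    have hq2 : C.f (t ^ q) = t ^ q ^ 2 := by rw [C.hf, ← pow_mul, ← sq]
    refine ⟨?_, ?_⟩
    · rcases hrs with rfl | rfl
      · have := C.triple_fixed (a := d4p1) (b := d4p3) (c := d4p4) (by decide) (by decide)
          (by decide) s1 s3 s4 e1 e2 e3 c1 c2 t (t ^ q) (t ^ q ^ 2)
        rw [C.hf t, hq2, hq3] at this
        simpa [mem_fixS, wU, mul_assoc] using this
      · have := C.triple_fixed (a := d4m1) (b := d4m3) (c := d4m4) (by decide) (by decide)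
          (by decide) t1 t3 t4 e5 e6 e7 c4 c5 t (t ^ q) (t ^ q ^ 2)
        rw [C.hf t, hq2, hq3] at this
        simpa [mem_fixS, wU, mul_assoc] using this
    · rcases hrs with rfl | rfl <;> simp [hn] <;> decide

theorem Ctx.mem_gen {w : List (ℕ × K)} (hw : w ∈ d4Words K q) :
    wU chevD4 w ∈ twistedD4 K q :=
  Subgroup.subset_closure ⟨w, hw, DataD4.facts.wU_val (C.gen_fixed w hw).2⟩

theorem Ctx.gen_eq : twistedD4 K q =
    Subgroup.closure {g | ∃ w ∈ d4Words K q, g = wU chevD4 w} := by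
  refine congrArg Subgroup.closure (Set.ext fun g => ?_)
  refine exists_congr fun w => and_congr_right fun hw => ?_
  rw [← DataD4.facts.wU_val (C.gen_fixed w hw).2, Units.val_inj]

/-- The fixed elements of the first orbit. -/
theorem Ctx.fix_p2 {g : GL chevD4.Idx K} (hg : g ∈ fixS C.σ)
    (h : g ∈ rootClosure chevD4 K ((mkOrb chevD4 ([1], [1])).posO DataD4.co)) :
    ∃ t : K, t ^ q = t ∧ g = wU chevD4 [(d4p2, t)] := by
  obtain ⟨hn, hr, e1, e2, e3, e4, -, -, -, -, -, s2, -⟩ := tables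
  obtain ⟨⟨hp, -, hc⟩, -⟩ := lists
  rw [rootClosure_congr (posO_iff_list DataD4.chk_arrays hp)] at h
  obtain ⟨ts, hts, rfl⟩ := DataD4.facts.exists_coords C.sig.hC hc g h
  obtain ⟨t, rfl⟩ := List.length_eq_one_iff.1 hts
  refine ⟨t, ?_, rfl⟩
  have himg := C.img_one (r := d4p2) (by decide) s2 t
  rw [e4] at himg
  have e := himg.unique (show Img C.σ (xU chevD4 d4p2 t) (xU chevD4 d4p2 t) by
    simpa [mem_fixS, wU] using hg)
  have := DataD4.facts.coords_unique C.sig.hC hc (ts := [C.f t]) (ts' := [t]) rfl rfl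
    (by simpa [wU] using e)
  simpa [C.hf] using this

/-- The fixed elements of the second orbit. -/
theorem Ctx.fix_p134 {g : GL chevD4.Idx K} (hg : g ∈ fixS C.σ)
    (h : g ∈ rootClosure chevD4 K ((mkOrb chevD4 ([0, 2, 3], [0, 2, 3])).posO DataD4.co)) :
    ∃ t : K, g = wU chevD4 [(d4p1, t), (d4p3, t ^ q), (d4p4, t ^ (q ^ 2))] := by
  obtain ⟨hn, hr, e1, e2, e3, e4, -, -, -, -, s1, s2, s3, s4, -⟩ := tables
  obtain ⟨c1, c2, -⟩ := commutes
  obtain ⟨-, hp, -, hc⟩ := lists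
  rw [rootClosure_congr (posO_iff_list DataD4.chk_arrays hp)] at h
  obtain ⟨ts, hts, rfl⟩ := DataD4.facts.exists_coords C.sig.hC hc g h
  obtain ⟨x, y, z, rfl⟩ := List.length_eq_three.1 hts
  have himg := C.triple_fixed (a := d4p1) (b := d4p3) (c := d4p4) (by decide) (by decide)
    (by decide) s1 s3 s4 e1 e2 e3 c1 c2 x y z
  have e := himg.unique (show Img C.σ _ (xU chevD4 d4p1 x * xU chevD4 d4p3 y * xU chevD4 d4p4 z)
    by simpa [mem_fixS, wU, mul_assoc] using hg)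
  have := DataD4.facts.coords_unique C.sig.hC hc (ts := [C.f z, C.f x, C.f y]) (ts' := [x, y, z])
    rfl rfl (by simpa [wU, mul_assoc] using e)
  simp only [List.cons.injEq, and_true] at this
  refine ⟨x, ?_⟩
  rw [← this.2.2, ← this.2.1]
  simp only [List.zip_cons_cons, List.zip_nil_left, C.hf, ← pow_mul, ← sq]

/-- The twisted group satisfies the standing hypotheses. -/
theorem Ctx.sys : TwSys chevD4 DataD4.co parD4 C.f C.σ O (twistedD4 K q) where
  sig := C.sig
  orb := orb_ok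
  le_fix := by
    rw [C.gen_eq, Subgroup.closure_le]
    rintro g ⟨w, hw, rfl⟩
    exact (C.gen_fixed w hw).1
  posO_le := by
    refine fin_cases_spec ?_ ?_
    · rintro g ⟨hg, h⟩
      obtain ⟨t, ht, rfl⟩ := C.fix_p2 hg h
      exact C.mem_gen (Or.inl ⟨t, ht, d4p2, by simp, rfl⟩)
    · rintro g ⟨hg, h⟩
      obtain ⟨t, rfl⟩ := C.fix_p134 hg h
      exact C.mem_gen (Or.inr ⟨t, (d4p1, d4p3, d4p4), by simp, rfl⟩)
  neg_ex := by
    refine fin_cases_spec ?_ ?_
    · refine ⟨wU chevD4 [(d4m2, 1)], C.mem_gen (Or.inl ⟨1, one_pow q, d4m2, by simp, rfl⟩), ?_, ?_⟩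
      · refine rootClosure_mono (fun r hr h => (negO_iff_list DataD4.chk_arrays lists.1.2.1 r hr).2 h)
          (Facts.wU_mem_closure (L := [d4m2]) (ts := [(1 : K)]) (by decide +kernel))
      · exact DataD4.facts.word_ne_one' C.sig.hC [⟨1, by decide⟩] [⟨d4m2, by decide⟩]
          (by decide +kernel) (ts := []) rfl one_ne_zero
    · refine ⟨wU chevD4 [(d4m1, 1), (d4m3, 1 ^ q), (d4m4, 1 ^ (q ^ 2))],
        C.mem_gen (Or.inr ⟨1, (d4m1, d4m3, d4m4), by simp, rfl⟩), ?_, ?_⟩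
      · refine rootClosure_mono (fun r hr h => (negO_iff_list DataD4.chk_arrays lists.2.2.1 r hr).2 h)
          (Facts.wU_mem_closure (L := [d4m1, d4m3, d4m4])
            (ts := [(1 : K), 1 ^ q, 1 ^ (q ^ 2)]) (by decide +kernel))
      · exact DataD4.facts.word_ne_one' C.sig.hC
          [⟨0, by decide⟩, ⟨2, by decide⟩, ⟨3, by decide⟩]
          [⟨d4m1, by decide⟩, ⟨d4m3, by decide⟩, ⟨d4m4, by decide⟩]
          (by decide +kernel) (ts := [1 ^ q, 1 ^ (q ^ 2)]) rfl one_ne_zero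

theorem Ctx.card_orbit : ∀ o, Nat.card ↥(C.sys.fixU (O o).wO) ^ 1 = q ^ flipNum (O o).wO := by
  obtain ⟨hn, hr, e1, e2, e3, e4, -, -, -, -, s1, s2, s3, s4, -⟩ := tables
  refine fin_cases_spec ?_ ?_
  · have hfl : flipNum (O ⟨0, by decide⟩).wO = 1 := by
      rw [Orb.wO, flipW_eq DataD4.chk_arrays DataD4.chk_chain DataD4.facts]
      decide +kernel
    rw [hfl, pow_one, pow_one]
    refine Eq.trans ?_ (card_field_fix C.q_gt C.card)
    refine (Nat.card_eq_of_bijective (fun t : {t : K // t ^ q = t} =>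
      (⟨wU chevD4 [(d4p2, t.1)], ?_⟩ : ↥(C.sys.fixU (O ⟨0, by decide⟩).wO))) ⟨?_, ?_⟩).symm
    · rw [C.sys.fixU_wO]
      refine ⟨(C.gen_fixed _ (Or.inl ⟨t.1, t.2, d4p2, by simp, rfl⟩)).1, ?_⟩
      exact rootClosure_mono (fun r hr h => (posO_iff_list DataD4.chk_arrays lists.1.1 r hr).2 h)
        (Facts.wU_mem_closure (L := [d4p2]) (ts := [t.1]) (by decide +kernel))
    · intro a b e
      have := DataD4.facts.coords_unique C.sig.hC lists.1.2.2 (ts := [a.1]) (ts' := [b.1]) rfl rfl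
        (congrArg Subtype.val e)
      simp only [List.cons.injEq, and_true] at this
      exact Subtype.ext this
    · rintro ⟨g, hg⟩
      have hg' := (le_of_eq (C.sys.fixU_wO _)) hg
      obtain ⟨t, ht, rfl⟩ := C.fix_p2 hg'.1 hg'.2
      exact ⟨⟨t, ht⟩, rfl⟩
  · have hfl : flipNum (O ⟨1, by decide⟩).wO = 3 := by
      rw [Orb.wO, flipW_eq DataD4.chk_arrays DataD4.chk_chain DataD4.facts]
      decide +kernel
    rw [hfl, pow_one]
    refine Eq.trans ?_ (Nat.card_eq_fintype_card.trans C.card)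
    refine (Nat.card_eq_of_bijective (fun t : K =>
      (⟨wU chevD4 [(d4p1, t), (d4p3, t ^ q), (d4p4, t ^ (q ^ 2))], ?_⟩ :
        ↥(C.sys.fixU (O ⟨1, by decide⟩).wO))) ⟨?_, ?_⟩).symm
    · rw [C.sys.fixU_wO]
      refine ⟨(C.gen_fixed _ (Or.inr ⟨t, (d4p1, d4p3, d4p4), by simp, rfl⟩)).1, ?_⟩
      exact rootClosure_mono (fun r hr h => (posO_iff_list DataD4.chk_arrays lists.2.1 r hr).2 h)
        (Facts.wU_mem_closure (L := [d4p1, d4p3, d4p4]) (ts := [t, t ^ q, t ^ (q ^ 2)])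
          (by decide +kernel))
    · intro a b e
      have := DataD4.facts.coords_unique C.sig.hC lists.2.2.2 (ts := [a, a ^ q, a ^ (q ^ 2)])
        (ts' := [b, b ^ q, b ^ (q ^ 2)]) rfl rfl (congrArg Subtype.val e)
      simp only [List.cons.injEq] at this
      exact this.1
    · rintro ⟨g, hg⟩
      have hg' := (le_of_eq (C.sys.fixU_wO _)) hg
      obtain ⟨t, rfl⟩ := C.fix_p134 hg'.1 hg'.2
      exact ⟨t, rfl⟩

theorem Ctx.sep {h : GL chevD4.Idx K} (hh : h ∈ chevD4.diagonalSubgroup K)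
    (hc : ∀ g, g ∈ twistedD4 K q → g ∈ rootClosure chevD4 K (chevD4.nroots / 2 ≤ ·) →
      h * g = g * h) : h = 1 := by
  obtain ⟨c, rfl⟩ := DataD4.facts.mem_diagonal_iff.1 hh
  refine DataD4.facts.hT_eq_one_of_simple c fun i hi => ?_
  have key : ∀ (L : List ℕ) (ts : List K), coordB chevD4 L = true → ts.length = L.length →
      L.zip ts ∈ d4Words K q → ∀ p ∈ L.zip ts, p.2 ≠ 0 →
      ((∏ i ∈ Finset.range chevD4.rank, c i ^ chevD4.cartan i p.1 : Kˣ) : K) = 1 :=
    fun L ts hL hts hw p hp hne => DataD4.facts.char_eq_one C.sig.hC hL hts c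
      (hc _ (C.mem_gen hw) (rootClosure_mono (fun r _ h => (Facts.coord_lt hL r h).2)
        (Facts.wU_mem_closure fun r hr => (Facts.coord_lt hL r hr).1))) p hp hne
  have h2 := key [d4p2] [1] lists.1.2.2 rfl (Or.inl ⟨1, one_pow q, d4p2, by simp, rfl⟩)
  have h1 := key [d4p1, d4p3, d4p4] [1, 1 ^ q, 1 ^ (q ^ 2)] lists.2.2.2 rfl
    (Or.inr ⟨1, (d4p1, d4p3, d4p4), by simp, rfl⟩)
  have : i < 4 := hi
  interval_cases i
  · exact h1 (d4p1, 1) (by simp) one_ne_zero
  · exact h2 (d4p2, 1) (by simp) one_ne_zero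
  · exact h1 (d4p3, 1 ^ q) (by simp) (by simp)
  · exact h1 (d4p4, 1 ^ (q ^ 2)) (by simp) (by simp)

end CfsgLib.Chev.TwD4
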