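/-
Tools for the fixed tori of the twisted groups.
-/
import Mathlib
import Cfsg.Agent.Lib.Chev.Twist.Words
import Cfsg.Agent.Lib.Chev.Torus

set_option autoImplicit false

namespace CfsgLib.Chev

open Cfsg.Lie

universe v

/-- A product of two commuting triples of the shape `a b a`. -/
theorem sandwich {M : Type*} [Monoid M] {a a' b b' : M} (h1 : Commute a' a) (h2 : Commute a' b)
    (h3 : Commute b' a) : a * a' * (b * b') * (a * a') = a * b * a * (a' * b' * a') := by
  calc a * a' * (b * b') * (a * a') = a * (a' * b) * b' * (a * a') := by noncomm_ring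
    _ = a * b * a' * (b' * a) * a' := by rw [h2.eq]; noncomm_ring
    _ = a * b * (a' * a) * (b' * a') := by rw [h3.eq]; noncomm_ring
    _ = a * b * a * (a' * b' * a') := by rw [h1.eq]; noncomm_ring

/-- A product of three commuting triples of the shape `a b a`. -/
theorem sandwich₃ {M : Type*} [Monoid M] {a₁ a₂ a₃ b₁ b₂ b₃ : M} (h21 : Commute a₂ a₁)
    (h31 : Commute a₃ a₁) (h32 : Commute a₃ a₂) (g21 : Commute a₂ b₁) (g31 : Commute a₃ b₁)
    (g32 : Commute a₃ b₂) (k21 : Commute b₂ a₁) (k31 : Commute b₃ a₁) (k32 : Commute b₃ a₂) :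
    a₁ * (a₂ * a₃) * (b₁ * (b₂ * b₃)) * (a₁ * (a₂ * a₃)) =
      a₁ * b₁ * a₁ * ((a₂ * b₂ * a₂) * (a₃ * b₃ * a₃)) := by
  rw [sandwich (h21.mul_left h31) (g21.mul_left g31) (k21.mul_left k31), sandwich h32 g32 k32]

variable {D : ChevalleyDatum} {co : ℕ → ℕ → ℤ} {K : Type v} [Field K] {P : TwPar}

namespace Facts

variable (hF : Facts D co)
include hF

theorem hU_single {i : ℕ} (hi : i < D.rank) (t : Kˣ) :
    hU D (D.simple i) (t : K) = hT D (fun k => if k = i then t else 1) := by
  rw [hF.hU_simple hi, hT]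
  refine dU_congr fun s _ => ?_
  rw [Finset.prod_eq_single i (fun j _ hj => by rw [if_neg hj, one_zpow])
    (fun h => absurd (Finset.mem_range.2 hi) h), if_pos rfl]

theorem hT_congr {c d : ℕ → Kˣ} (h : ∀ i < D.rank, c i = d i) : hT D c = hT D d := by
  have _ := hF
  rw [hT, hT]
  exact dU_congr fun s _ => Finset.prod_congr rfl fun i hi => by rw [h i (Finset.mem_range.1 hi)]

/-- When two torus elements are equal. -/
theorem hT_eq_iff (c d : ℕ → Kˣ) :
    hT D c = hT D d ↔ ∀ q < D.rank,
      ∏ i ∈ Finset.range D.rank, (c i / d i) ^ D.cartan i (D.simple q) = 1 := by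
  have e : hT D c = hT D d ↔ hT D (fun i => c i / d i) = 1 := by
    rw [← mul_inv_eq_one (a := hT D c), ← hF.hT_inv, ← hF.hT_mul]
    simp only [div_eq_mul_inv]
  have ev : ∀ q : Fin D.rank, actM (cartanMat D) (fun i : Fin D.rank => c i.val / d i.val) q =
      ∏ i ∈ Finset.range D.rank, (c i / d i) ^ D.cartan i (D.simple q.val) := fun q =>
    Fin.prod_univ_eq_prod_range (fun i => (c i / d i) ^ D.cartan i (D.simple q.val)) D.rank
  rw [e, hF.hT_eq_one_iff]
  exact ⟨fun h q hq => (ev ⟨q, hq⟩).symm.trans (congrFun h ⟨q, hq⟩),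
    fun h => funext fun q => (ev q).trans (h q.val q.isLt)⟩

end Facts

namespace Sig

variable {f : K →+* K} {σ : ↥(D.group K) →* GL D.Idx K} (S : Sig D co P f σ)
include S

/-- The image of a torus element. -/
theorem img_hT (c : ℕ → Kˣ) : Img σ (hT D c) (hT D fun j =>
    ∏ i ∈ Finset.range D.rank,
      if j = P.pi i then Units.map (f : K →* K) (c i) ^ P.lam (D.simple i) else 1) := by
  have hF := S.hF
  have key : ∀ m ≤ D.rank,
      Img σ ((List.range m).map fun i => hU D (D.simple i) (c i : K)).prod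
        (hT D fun j => ∏ i ∈ Finset.range m,
          if j = P.pi i then Units.map (f : K →* K) (c i) ^ P.lam (D.simple i) else 1) := by
    intro m
    induction m with
    | zero =>
      intro _
      simpa [hF.hT_one] using Img.one (σ := σ)
    | succ m ih =>
      intro hm
      rw [List.range_succ, List.map_append, List.prod_append, List.map_singleton,
        List.prod_singleton]
      have h1 := (ih (by omega)).mul (S.img_hU (i := m) (by omega) (c m : K))
      rw [show f (c m : K) ^ P.lam (D.simple m) =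
        ((Units.map (f : K →* K) (c m) ^ P.lam (D.simple m) : Kˣ) : K) by
          rw [Units.val_pow_eq_pow_val]; rfl,
        hF.hU_single (S.ok.pi_lt m (by omega)), ← hF.hT_mul] at h1
      simpa only [Finset.prod_range_succ] using h1
  rw [hF.hT_eq_list]
  exact key D.rank le_rfl

/-- When a torus element is fixed. -/
theorem hT_mem_fix_iff (c : ℕ → Kˣ) : hT D c ∈ fixS σ ↔
    ∀ q < D.rank, ∏ j ∈ Finset.range D.rank,
      ((∏ i ∈ Finset.range D.rank,
        if j = P.pi i then Units.map (f : K →* K) (c i) ^ P.lam (D.simple i) else 1) / c j) ^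
          D.cartan j (D.simple q) = 1 := by
  rw [← S.hF.hT_eq_iff, mem_fixS]
  exact ⟨fun h => (S.img_hT c).unique h, fun h => by simpa only [h] using S.img_hT c⟩

/-- The fixed elements of a fixed positive root. -/
theorem fix_single_iff [Finite K] {r : ℕ} (hc : coordB D [r] = true) (hρ : P.rho r = r)
    (he : P.eps r = 1) (hl : P.lam r = 1) (t : K) : xU D r t ∈ fixS σ ↔ f t = t := by
  have hr := ((Facts.coord_lt hc) r (by simp)).1
  have h := S.img_xU hr t
  rw [hρ, show P.coef f r t = f t by simp [TwPar.coef, he, hl]] at h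
  rw [mem_fixS]
  refine ⟨fun h' => ?_, fun e => by rwa [e] at h⟩
  have := S.hF.coords_unique S.hC hc (ts := [f t]) (ts' := [t]) rfl rfl
    (by simpa [wU] using h.unique h')
  simpa using this

end Sig

end CfsgLib.Chev
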