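/-
The torus, order, simplicity and Weyl group of the groups of type ³D₄.
-/
import Mathlib
import Cfsg.Agent.Lib.Chev.Twist.D4
import Cfsg.Agent.Lib.Chev.Twist.Torus
import Cfsg.Agent.Lib.Chev.Twist.Cox

set_option autoImplicit false
set_option maxRecDepth 20000

namespace CfsgLib.Chev.TwD4

open Cfsg.Lie

universe v

theorem torus_tables : chevD4.simple 0 = d4p1 ∧ chevD4.simple 1 = d4p2 ∧ chevD4.simple 2 = d4p3 ∧
    chevD4.simple 3 = d4p4 ∧
    parD4.pi 0 = 2 ∧ parD4.pi 1 = 1 ∧ parD4.pi 2 = 3 ∧ parD4.pi 3 = 0 := by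
  decide +kernel

theorem cartan_rows : (List.range 4).map (fun q => (List.range 4).map fun i =>
    chevD4.cartan i (chevD4.simple q)) =
      [[2, -1, 0, 0], [-1, 2, -1, -1], [0, -1, 2, 0], [0, -1, 0, 2]] := by
  decide +kernel

theorem cartan_vals :
    chevD4.cartan 0 d4p1 = 2 ∧ chevD4.cartan 1 d4p1 = -1 ∧ chevD4.cartan 2 d4p1 = 0 ∧
      chevD4.cartan 3 d4p1 = 0 ∧
    chevD4.cartan 0 d4p2 = -1 ∧ chevD4.cartan 1 d4p2 = 2 ∧ chevD4.cartan 2 d4p2 = -1 ∧
      chevD4.cartan 3 d4p2 = -1 ∧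
    chevD4.cartan 0 d4p3 = 0 ∧ chevD4.cartan 1 d4p3 = -1 ∧ chevD4.cartan 2 d4p3 = 2 ∧
      chevD4.cartan 3 d4p3 = 0 ∧
    chevD4.cartan 0 d4p4 = 0 ∧ chevD4.cartan 1 d4p4 = -1 ∧ chevD4.cartan 2 d4p4 = 0 ∧
      chevD4.cartan 3 d4p4 = 2 := by
  decide +kernel

theorem cross_commutes :
    parD4.commB chevD4 d4p3 d4p1 = true ∧ parD4.commB chevD4 d4p4 d4p1 = true ∧
    parD4.commB chevD4 d4p4 d4p3 = true ∧ parD4.commB chevD4 d4p3 d4m1 = true ∧
    parD4.commB chevD4 d4p4 d4m1 = true ∧ parD4.commB chevD4 d4p4 d4m3 = true ∧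
    parD4.commB chevD4 d4m3 d4p1 = true ∧ parD4.commB chevD4 d4m4 d4p1 = true ∧
    parD4.commB chevD4 d4m4 d4p3 = true ∧
    parD4.commB chevD4 d4m3 d4m1 = true ∧ parD4.commB chevD4 d4m4 d4m1 = true ∧
    parD4.commB chevD4 d4m4 d4m3 = true ∧
    chevD4.neg d4p1 = d4m1 ∧ chevD4.neg d4p2 = d4m2 ∧ chevD4.neg d4p3 = d4m3 ∧
    chevD4.neg d4p4 = d4m4 := by
  decide +kernel

theorem fixed_roots : parD4.rho 22 = 22 ∧ parD4.rho 23 = 23 ∧ parD4.eps 22 = 1 ∧
    parD4.eps 23 = 1 ∧ coordB chevD4 [22] = true ∧ coordB chevD4 [23] = true ∧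
    (22 ≠ d4p2 ∧ 22 ≠ chevD4.neg d4p2) ∧ chevD4.commTerms d4p2 22 = [(23, 1, 1, 1)] ∧
    ((mkOrb chevD4 ([0, 2, 3], [0, 2, 3])).word ++ (mkOrb chevD4 ([1], [1])).word).map Fin.val =
      [0, 2, 3, 1] ∧
    [0, 2, 3, 1].foldr (fun i x => chevD4.reflectRoot i x) 23 = d4p2 := by
  decide +kernel

theorem orders : ∀ o o' : Fin 2,
    Table.chkOrder DataD4.tab
      (((O o).word ++ (O o').word).map Fin.val) (CoxeterMatrix.G₂.M o o') = true := by
  decide +kernel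

variable {K : Type v} [Field K] [Fintype K] {q : ℕ} (C : Ctx K q)
include C

/-- The image of a unit. -/
abbrev Ctx.fu : Kˣ →* Kˣ := Units.map (C.f : K →* K)

theorem Ctx.fu_three (a : Kˣ) : C.fu (C.fu (C.fu a)) = a := Units.ext (C.pow_three _)

theorem Ctx.fu_val (a : Kˣ) : ((C.fu a : Kˣ) : K) = (a : K) ^ q := C.hf _

/-- The parametrisation of the fixed torus. -/
def Ctx.vec (a b : Kˣ) : ℕ → Kˣ
  | 0 => a
  | 1 => b
  | 2 => C.fu a
  | 3 => C.fu (C.fu a)
  | _ => 1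

omit [Fintype K] C in
theorem hT_eq {c d : ℕ → Kˣ} : hT chevD4 c = hT chevD4 d ↔
    c 1 / d 1 = (c 0 / d 0) * (c 0 / d 0) ∧
    c 1 / d 1 * (c 1 / d 1) = c 0 / d 0 * (c 2 / d 2) * (c 3 / d 3) ∧
    c 1 / d 1 = (c 2 / d 2) * (c 2 / d 2) ∧ c 1 / d 1 = (c 3 / d 3) * (c 3 / d 3) := by
  obtain ⟨s0, s1, s2, s3, -⟩ := torus_tables
  obtain ⟨a0, a1, a2, a3, b0, b1, b2, b3, c0, c1, c2, c3, d0, d1, d2, d3⟩ := cartan_vals
  rw [DataD4.facts.hT_eq_iff, show chevD4.rank = 4 from tables.2.1]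
  have key : ∀ u₀ u₁ u₂ u₃ : Kˣ,
      (u₀ ^ (2 : ℤ) * u₁⁻¹ = 1 ∧ u₀⁻¹ * u₁ ^ (2 : ℤ) * u₂⁻¹ * u₃⁻¹ = 1 ∧
        u₁⁻¹ * u₂ ^ (2 : ℤ) = 1 ∧ u₁⁻¹ * u₃ ^ (2 : ℤ) = 1) ↔
      (u₁ = u₀ * u₀ ∧ u₁ * u₁ = u₀ * u₂ * u₃ ∧ u₁ = u₂ * u₂ ∧ u₁ = u₃ * u₃) := by
    intro u₀ u₁ u₂ u₃
    simp only [zpow_two]
    refine and_congr ?_ (and_congr ?_ (and_congr ?_ ?_))
    · rw [mul_inv_eq_one, eq_comm]
    · rw [show u₀⁻¹ * (u₁ * u₁) * u₂⁻¹ * u₃⁻¹ = (u₁ * u₁) * (u₀ * u₂ * u₃)⁻¹ by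
        simp [mul_comm, mul_left_comm, mul_assoc], mul_inv_eq_one]
    · rw [inv_mul_eq_one]
    · rw [inv_mul_eq_one]
  rw [← key]
  constructor
  · intro h
    have h0 := h 0 (by norm_num)
    have h1 := h 1 (by norm_num)
    have h2 := h 2 (by norm_num)
    have h3 := h 3 (by norm_num)
    simp only [s0, s1, s2, s3, Finset.prod_range_succ, Finset.prod_range_zero, one_mul, a0, a1, a2,
      a3, b0, b1, b2, b3, c0, c1, c2, c3, d0, d1, d2, d3, zpow_neg, zpow_one, zpow_zero,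
      mul_one] at h0 h1 h2 h3
    exact ⟨h0, h1, h2, h3⟩
  · rintro ⟨h0, h1, h2, h3⟩ i hi
    interval_cases i <;>
      simpa only [s0, s1, s2, s3, Finset.prod_range_succ, Finset.prod_range_zero, one_mul, a0, a1,
        a2, a3, b0, b1, b2, b3, c0, c1, c2, c3, d0, d1, d2, d3, zpow_neg, zpow_one, zpow_zero,
        mul_one]

theorem Ctx.img_torus (c : ℕ → Kˣ) : ∃ d : ℕ → Kˣ, Img C.σ (hT chevD4 c) (hT chevD4 d) ∧
    d 0 = C.fu (c 3) ∧ d 1 = C.fu (c 1) ∧ d 2 = C.fu (c 0) ∧ d 3 = C.fu (c 2) := by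
  obtain ⟨-, -, -, -, p0, p1, p2, p3⟩ := torus_tables
  refine ⟨_, C.sig.img_hT c, ?_, ?_, ?_, ?_⟩ <;>
    simp [show chevD4.rank = 4 from tables.2.1, Finset.prod_range_succ, p0, p1, p2, p3,
      show ∀ r, parD4.lam r = 1 from fun _ => rfl]

theorem Ctx.fu_fix {b : Kˣ} (hb : b ^ (q - 1) = 1) : C.fu b = b := by
  refine Units.ext ?_
  have h := congrArg Units.val hb
  rw [Units.val_pow_eq_pow_val, Units.val_one] at h
  rw [C.fu_val]
  have e := pow_succ (b : K) (q - 1)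
  rwa [Nat.sub_add_cancel C.q_gt.le, h, one_mul] at e

theorem Ctx.fu_of_sq {s : Kˣ} (h : s * s = 1) : C.fu s = s := by
  rcases Units.inv_eq_self_iff s |>.1 (inv_eq_of_mul_eq_one_right h) with rfl | rfl
  · exact map_one _
  · exact Units.ext (show C.f ((-1 : Kˣ) : K) = _ by simp)

theorem Ctx.vec_fixed (a : Kˣ) {b : Kˣ} (hb : b ^ (q - 1) = 1) :
    hT chevD4 (C.vec a b) ∈ fixS C.σ := by
  obtain ⟨d, hd, h0, h1, h2, h3⟩ := C.img_torus (C.vec a b)
  rw [mem_fixS]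
  have e : hT chevD4 (C.vec a b) = hT chevD4 d := DataD4.facts.hT_congr fun i hi => by
    have hi4 : i < 4 := hi
    interval_cases i
    · rw [h0]; exact (C.fu_three a).symm
    · rw [h1]; exact (C.fu_fix hb).symm
    · rw [h2]; rfl
    · rw [h3]; rfl
  exact (congrArg (Img C.σ _) e).mpr hd

theorem Ctx.exists_vec {h : GL chevD4.Idx K} (hh : h ∈ chevD4.diagonalSubgroup K)
    (hf : h ∈ fixS C.σ) : ∃ a b : Kˣ, b ^ (q - 1) = 1 ∧ h = hT chevD4 (C.vec a b) := by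
  obtain ⟨c, rfl⟩ := DataD4.facts.mem_diagonal_iff.1 hh
  obtain ⟨d, hd, h0, h1, h2, h3⟩ := C.img_torus c
  have e := (hT_eq (c := d) (d := c)).1 ((hd.unique hf))
  set u₀ := d 0 / c 0 with hu0
  set u₁ := d 1 / c 1 with hu1
  set u₂ := d 2 / c 2 with hu2
  set u₃ := d 3 / c 3 with hu3
  obtain ⟨e0, e1, e2, e3⟩ := e
  have hu : u₁ = 1 := by
    have : u₁ * u₁ * u₁ * 1 = u₁ * u₁ * u₁ * u₁ := by
      calc u₁ * u₁ * u₁ * 1 = (u₀ * u₀) * (u₂ * u₂) * (u₃ * u₃) := by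
            rw [mul_one, ← e0, ← e2, ← e3]
        _ = (u₀ * u₂ * u₃) * (u₀ * u₂ * u₃) := by simp [mul_comm, mul_left_comm, mul_assoc]
        _ = u₁ * u₁ * u₁ * u₁ := by rw [← e1]; simp [mul_assoc]
    exact (mul_left_cancel this).symm
  rw [hu] at e0 e1 e2 e3
  rw [one_mul] at e1
  have f1 : C.fu (c 1) = c 1 := by
    rwa [hu1, h1, div_eq_one] at hu
  refine ⟨c 0 * u₃, c 1, ?_, ?_⟩
  · have h' := congrArg Units.val f1
    rw [C.fu_val] at h'
    refine Units.ext ?_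
    rw [Units.val_pow_eq_pow_val, Units.val_one]
    refine mul_right_cancel₀ (c 1).ne_zero ?_
    rw [← pow_succ, Nat.sub_add_cancel C.q_gt.le, h', one_mul]
  · have k2 : C.fu (c 0 * u₃) = c 2 * u₀ := by
      rw [map_mul, C.fu_of_sq e3.symm, show C.fu (c 0) = c 2 * u₂ by rw [hu2, h2]; simp]
      rw [mul_assoc]
      congr 1
      calc u₂ * u₃ = (u₀ * u₀) * (u₂ * u₃) := by rw [← e0, one_mul]
        _ = (u₀ * u₂ * u₃) * u₀ := by simp [mul_comm, mul_left_comm, mul_assoc]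
        _ = u₀ := by rw [← e1, one_mul]
    have k3 : C.fu (c 2 * u₀) = c 3 * u₂ := by
      rw [map_mul, C.fu_of_sq e0.symm, show C.fu (c 2) = c 3 * u₃ by rw [hu3, h3]; simp]
      rw [mul_assoc]
      congr 1
      calc u₃ * u₀ = (u₂ * u₂) * (u₃ * u₀) := by rw [← e2, one_mul]
        _ = (u₀ * u₂ * u₃) * u₂ := by simp [mul_comm, mul_left_comm, mul_assoc]
        _ = u₂ := by rw [← e1, one_mul]
    rw [hT_eq]
    simp only [Ctx.vec, k2, k3, div_self', div_mul_cancel_left, one_mul]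
    refine ⟨?_, ?_, ?_, ?_⟩
    · rw [← mul_inv, ← e3, inv_one]
    · rw [← mul_inv, ← mul_inv, mul_comm u₃ u₀, mul_right_comm, ← e1, inv_one]
    · rw [← mul_inv, ← e0, inv_one]
    · rw [← mul_inv, ← e2, inv_one]

theorem Ctx.nU_triple (t : Kˣ) :
    nU chevD4 d4p1 (t : K) * (nU chevD4 d4p3 (C.fu t : K) * nU chevD4 d4p4 (C.fu (C.fu t) : K)) ∈
      twistedD4 K q := by
  obtain ⟨k31, k41, k43, g31, g41, g43, l31, l41, l43, -, -, -, n1, -, n3, n4⟩ := cross_commutes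
  have hP := C.mem_gen (Or.inr ⟨(t : K), (d4p1, d4p3, d4p4), by simp, rfl⟩)
  have hM := C.mem_gen (Or.inr ⟨-((t : K))⁻¹, (d4m1, d4m3, d4m4), by simp, rfl⟩)
  have q1 : ((C.fu t : Kˣ) : K) = (t : K) ^ q := C.fu_val t
  have q2 : ((C.fu (C.fu t) : Kˣ) : K) = (t : K) ^ (q ^ 2) := by
    rw [C.fu_val, q1, ← pow_mul, sq]
  have r1 : (-((t : K))⁻¹) ^ q = -(((C.fu t : Kˣ) : K))⁻¹ := by
    rw [← C.hf, map_neg, map_inv₀]; rfl
  have r2 : (-((t : K))⁻¹) ^ (q ^ 2) = -(((C.fu (C.fu t) : Kˣ) : K))⁻¹ := by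
    rw [sq, pow_mul, r1, ← C.hf, map_neg, map_inv₀]; rfl
  rw [r1, r2] at hM
  rw [← q1, ← q2] at hP
  have := mul_mem (mul_mem hP hM) hP
  simp only [wU, List.map_cons, List.map_nil, List.prod_cons, List.prod_nil, mul_one] at this
  simp only [nU, n1, n3, n4]
  rwa [sandwich₃ (C.sig.commute_xU (by decide) (by decide) k31 _ _)
    (C.sig.commute_xU (by decide) (by decide) k41 _ _)
    (C.sig.commute_xU (by decide) (by decide) k43 _ _)
    (C.sig.commute_xU (by decide) (by decide) g31 _ _)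
    (C.sig.commute_xU (by decide) (by decide) g41 _ _)
    (C.sig.commute_xU (by decide) (by decide) g43 _ _)
    (C.sig.commute_xU (by decide) (by decide) l31 _ _)
    (C.sig.commute_xU (by decide) (by decide) l41 _ _)
    (C.sig.commute_xU (by decide) (by decide) l43 _ _)] at this

theorem Ctx.nU_p2 {t : K} (ht : t ^ q = t) : nU chevD4 d4p2 t ∈ twistedD4 K q := by
  have hP := C.mem_gen (Or.inl ⟨t, ht, d4p2, by simp, rfl⟩)
  have hM := C.mem_gen (Or.inl ⟨-t⁻¹, by rw [← C.hf, map_neg, map_inv₀, C.hf, ht],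
    d4m2, by simp, rfl⟩)
  have := mul_mem (mul_mem hP hM) hP
  simp only [wU, List.map_cons, List.map_nil, List.prod_cons, List.prod_nil, mul_one] at this
  rwa [nU, cross_commutes.2.2.2.2.2.2.2.2.2.2.2.2.2.1]

theorem Ctx.hU_p2_mem {b : Kˣ} (hb : b ^ (q - 1) = 1) :
    hU chevD4 d4p2 (b : K) ∈ twistedD4 K q := by
  have hq : ((b : Kˣ) : K) ^ q = b := by rw [← C.fu_val, C.fu_fix hb]
  exact mul_mem (C.nU_p2 hq) (C.nU_p2 (by rw [← C.hf, map_neg, map_one]))

theorem Ctx.hU_triple_mem (a : Kˣ) :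
    hU chevD4 d4p1 (a : K) * (hU chevD4 d4p3 (C.fu a : K) * hU chevD4 d4p4 (C.fu (C.fu a) : K)) ∈
      twistedD4 K q := by
  obtain ⟨k31, k41, k43, g31, g41, g43, l31, l41, l43, m31, m41, m43, n1, -, n3, n4⟩ :=
    cross_commutes
  have hc : ∀ {r s : ℕ}, r < chevD4.nroots → s < chevD4.nroots →
      parD4.commB chevD4 r s = true → parD4.commB chevD4 r (chevD4.neg s) = true →
      parD4.commB chevD4 (chevD4.neg r) s = true →
      parD4.commB chevD4 (chevD4.neg r) (chevD4.neg s) = true →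
      ∀ x y : K, Commute (nU chevD4 r x) (nU chevD4 s y) := by
    intro r s hr hs h1 h2 h3 h4 x y
    have hF := DataD4.facts
    have A := C.sig.commute_xU (t := x) (u := y) hr hs h1
    have B := C.sig.commute_xU (t := x) (u := -y⁻¹) hr (hF.neg_lt hs) h2
    have A' := C.sig.commute_xU (t := -x⁻¹) (u := y) (hF.neg_lt hr) hs h3
    have B' := C.sig.commute_xU (t := -x⁻¹) (u := -y⁻¹) (hF.neg_lt hr) (hF.neg_lt hs) h4
    exact ((A.mul_right B).mul_right A).mul_left ((A'.mul_right B').mul_right A') |>.mul_left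
      ((A.mul_right B).mul_right A)
  have c31 := hc (r := d4p3) (s := d4p1) (by decide) (by decide) k31 (n1 ▸ g31) (n3 ▸ l31)
    (n3 ▸ n1 ▸ m31)
  have c41 := hc (r := d4p4) (s := d4p1) (by decide) (by decide) k41 (n1 ▸ g41) (n4 ▸ l41)
    (n4 ▸ n1 ▸ m41)
  have c43 := hc (r := d4p4) (s := d4p3) (by decide) (by decide) k43 (n3 ▸ g43) (n4 ▸ l43)
    (n4 ▸ n3 ▸ m43)
  have h1 := C.nU_triple a
  have h2 := C.nU_triple (-1)
  have e : ((C.fu (-1) : Kˣ) : K) = -1 ∧ ((C.fu (C.fu (-1)) : Kˣ) : K) = -1 := by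
    constructor <;> simp
  rw [e.1, e.2, Units.val_neg, Units.val_one] at h2
  have := mul_mem h1 h2
  simp only [hU]
  rwa [((c31 _ _).mul_left (c41 _ _)).mul_mul_mul_comm, (c43 _ _).mul_mul_mul_comm] at this

theorem Ctx.vec_mem (a : Kˣ) {b : Kˣ} (hb : b ^ (q - 1) = 1) :
    hT chevD4 (C.vec a b) ∈ twistedD4 K q := by
  have hF := DataD4.facts
  obtain ⟨s0, s1, s2, s3, -⟩ := torus_tables
  have h4 : chevD4.rank = 4 := tables.2.1
  have e : hT chevD4 (C.vec a b) =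
      hU chevD4 d4p1 (a : K) * (hU chevD4 d4p3 (C.fu a : K) * hU chevD4 d4p4 (C.fu (C.fu a) : K)) *
        hU chevD4 d4p2 (b : K) := by
    rw [← s0, ← s1, ← s2, ← s3, hF.hU_single (by omega), hF.hU_single (by omega),
      hF.hU_single (by omega), hF.hU_single (by omega), ← hF.hT_mul, ← hF.hT_mul, ← hF.hT_mul]
    refine hF.hT_congr fun i hi => ?_
    have hi4 : i < 4 := hi
    interval_cases i <;> simp [Ctx.vec]
  exact e ▸ mul_mem (C.hU_triple_mem a) (C.hU_p2_mem hb)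

theorem Ctx.diag_mem (a : Kˣ) {b : Kˣ} (hb : b ^ (q - 1) = 1) :
    hT chevD4 (C.vec a b) ∈ (chevD4.diagonalSubgroup K ⊓ twistedD4 K q : Subgroup _) :=
  ⟨DataD4.facts.mem_diagonal_iff.2 ⟨_, rfl⟩, C.vec_mem a hb⟩

theorem Ctx.card_torus :
    Nat.card ↥(chevD4.diagonalSubgroup K ⊓ twistedD4 K q : Subgroup (GL chevD4.Idx K)) =
      (q - 1) ^ 2 * (q ^ 2 + q + 1) := by
  have h1 : Nat.card ({b : Kˣ // b ^ (q - 1) = 1} × Kˣ) =
      Nat.card ↥(chevD4.diagonalSubgroup K ⊓ twistedD4 K q : Subgroup (GL chevD4.Idx K)) := by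
    refine Nat.card_eq_of_bijective (fun p => ⟨_, C.diag_mem p.2 p.1.2⟩) ⟨?_, ?_⟩
    · rintro ⟨⟨b, hb⟩, a⟩ ⟨⟨b', hb'⟩, a'⟩ e
      obtain ⟨e0, e1, e2, e3⟩ := hT_eq.1 (congrArg Subtype.val e)
      simp only [Ctx.vec] at e0 e1 e2 e3
      simp only [← map_div] at e1 e2 e3
      set u := a / a' with hu
      set w := b / b' with hw
      have hw1 : w = 1 := by
        have : w * w * w * 1 = w * w * w * w := by
          calc w * w * w * 1 = (u * u) * (C.fu u * C.fu u) * (C.fu (C.fu u) * C.fu (C.fu u)) := by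
                rw [mul_one, ← e0, ← e2, ← e3]
            _ = (u * C.fu u * C.fu (C.fu u)) * (u * C.fu u * C.fu (C.fu u)) := by
                simp [mul_comm, mul_left_comm, mul_assoc]
            _ = w * w * w * w := by rw [← e1]; simp [mul_assoc]
        exact (mul_left_cancel this).symm
      rw [hw1] at e0 e1
      have hfu := C.fu_of_sq e0.symm
      rw [hfu, hfu, ← e0, one_mul, one_mul] at e1
      rw [hu, eq_comm, div_eq_one] at e1
      rw [hw, div_eq_one] at hw1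
      subst e1; subst hw1
      rfl
    · rintro ⟨h, hd, hG⟩
      obtain ⟨a, b, hb, rfl⟩ := C.exists_vec hd (C.sys.le_fix hG)
      exact ⟨(⟨b, hb⟩, a), rfl⟩
  rw [← h1, Nat.card_prod, card_units_fix C.card, Nat.card_units, Nat.card_eq_fintype_card, C.card]
  obtain ⟨k, hk⟩ : ∃ k, q = k + 1 := ⟨q - 1, by have := C.q_gt; omega⟩
  subst hk
  have e : (k + 1) ^ 3 = k * ((k + 1) ^ 2 + (k + 1) + 1) + 1 := by ring
  rw [e, Nat.add_sub_cancel, Nat.add_sub_cancel]
  ring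

theorem Ctx.card_posU :
    Nat.card ↥(chevD4.posUnipotent K ⊓ twistedD4 K q : Subgroup (GL chevD4.Idx K)) = q ^ 12 := by
  have h := C.sys.card_posU (e := 1) (q := q) C.card_orbit
  rw [pow_one, show chevD4.nroots / 2 = 12 by decide +kernel] at h
  rw [← h, DataD4.facts.posUnipotent_eq]
  refine Nat.card_congr (Equiv.setCongr (Set.ext fun g => ?_))
  rw [show chevD4.nroots / 2 = 12 by decide +kernel]
  exact ⟨fun hg => ⟨C.sys.le_fix hg.2, hg.1⟩, fun hg => ⟨hg.2, C.sys.posU_le (by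
    rwa [show chevD4.nroots / 2 = 12 by decide +kernel])⟩⟩

theorem Ctx.card_twisted : Nat.card ↥(twistedD4 K q) =
    q ^ 12 * (q ^ 2 - 1) * (q ^ 6 - 1) * (q ^ 8 + q ^ 4 + 1) := by
  obtain ⟨W, hW, hwf, hlen⟩ := enum_sound DataD4.chk_arrays DataD4.chk_chain DataD4.facts
    C.sys orbs_chk enum_chk
  have h2 : ∀ w ∈ C.sys.wFix, Nat.card ↥(C.sys.fixU w) = q ^ flipNum w := by
    intro w hw
    obtain ⟨⟨l, hl⟩, hwf'⟩ := C.sys.mem_wFix.1 hw
    simpa using C.sys.card_fixU (e := 1) C.card_orbit hl hwf'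
  rw [C.sys.card_group, Finset.sum_congr rfl h2, hwf, Finset.sum_image hW,
    Finset.sum_congr rfl (g := fun a => q ^ enum.len.get a)
      fun a ha => by rw [hlen a (Finset.mem_range.1 ha)],
    C.sys.card_B]
  have hU := C.sys.card_posU (e := 1) (q := q) C.card_orbit
  rw [pow_one, show chevD4.nroots / 2 = 12 by decide +kernel] at hU
  rw [show chevD4.nroots / 2 = 12 by decide +kernel, hU, inf_comm, C.card_torus]
  have hl : (List.range 12).map enum.len.get = [0, 1, 3, 4, 4, 5, 7, 8, 8, 9, 11, 12] := by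
    decide +kernel
  have hs : ∑ a ∈ Finset.range enum.size, q ^ enum.len.get a =
      (((List.range 12).map enum.len.get).map (q ^ ·)).sum := by
    rw [List.map_map, ← List.sum_toFinset _ List.nodup_range, List.toFinset_range]
    rfl
  rw [hs, hl]
  obtain ⟨k, hk⟩ : ∃ k, q = k + 1 := ⟨q - 1, by have := C.q_gt; omega⟩
  subst hk
  have a2 : (k + 1) ^ 2 = k * (k + 2) + 1 := by ring
  have a6 : (k + 1) ^ 6 =
      k * ((k + 1) ^ 5 + (k + 1) ^ 4 + (k + 1) ^ 3 + (k + 1) ^ 2 + (k + 1) + 1) + 1 := by ring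
  conv_rhs => rw [a2, a6]
  simp only [Nat.add_sub_cancel, List.map_cons, List.map_nil, List.sum_cons, List.sum_nil]
  ring

theorem Ctx.irr : C.sys.bnPair.Irreducible := by
  refine TwSys.irreducible C.sys fun o o' h e => ?_
  have ho' : o'.val < 2 := o'.isLt
  have : o.val = 0 ∧ o'.val = 1 := by omega
  obtain rfl : o = ⟨0, by decide⟩ := Fin.ext this.1
  obtain rfl : o' = ⟨1, by decide⟩ := Fin.ext this.2
  rw [Orb.wO, Orb.wO, ← sW_append, ← sW_append] at e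
  have := congrArg (fun w : Equiv.Perm (Fin chevD4.nroots) => (w ⟨14, by decide⟩).val) e
  simp only [DataD4.facts.sW_val_foldr] at this
  revert this
  decide +kernel

/-- The additive law of a triple. -/
theorem Ctx.triple_add (x y z x' y' z' : K) :
    xU chevD4 d4p1 x * (xU chevD4 d4p3 y * xU chevD4 d4p4 z) *
      (xU chevD4 d4p1 x' * (xU chevD4 d4p3 y' * xU chevD4 d4p4 z')) =
    xU chevD4 d4p1 (x + x') * (xU chevD4 d4p3 (y + y') * xU chevD4 d4p4 (z + z')) := by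
  obtain ⟨k31, k41, k43, -⟩ := cross_commutes
  have hF := DataD4.facts
  rw [((C.sig.commute_xU (by decide) (by decide) k31 y x').mul_left
      (C.sig.commute_xU (by decide) (by decide) k41 z x')).mul_mul_mul_comm,
    (C.sig.commute_xU (by decide) (by decide) k43 z y').mul_mul_mul_comm,
    hF.xU_add (by decide), hF.xU_add (by decide), hF.xU_add (by decide)]

theorem Ctx.inDer_p134 (t : K) :
    C.sys.InDer (wU chevD4 [(d4p1, t), (d4p3, t ^ q), (d4p4, t ^ (q ^ 2))]) := by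
  have hF := DataD4.facts
  obtain ⟨a, ha⟩ : ∃ a : Kˣ, a * a ≠ 1 := by
    by_contra h
    push Not at h
    classical
    have hsub : (Finset.univ : Finset K) ⊆ {0, 1, -1} := fun x _ => by
      by_cases hx : x = 0
      · simp [hx]
      · have := congrArg Units.val (h (Units.mk0 x hx))
        rw [Units.val_mul, Units.val_mk0, Units.val_one, mul_self_eq_one_iff] at this
        rcases this with e | e <;> simp [e]
    have hc := (Finset.card_le_card hsub).trans Finset.card_le_three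
    rw [Finset.card_univ, C.card] at hc
    have : 2 ^ 3 ≤ q ^ 3 := Nat.pow_le_pow_left C.q_gt 3
    omega
  have hb : (1 : Kˣ) ^ (q - 1) = 1 := one_pow _
  set h := hT chevD4 (C.vec a 1) with hdef
  have hG : h ∈ twistedD4 K q := C.vec_mem a hb
  obtain ⟨a0, a1, a2, a3, -, -, -, -, c0, c1, c2, c3, d0, d1, d2, d3⟩ := cartan_vals
  have conj : ∀ (r : ℕ), r < chevD4.nroots → ∀ (u : K), h * xU chevD4 r u * h⁻¹ =
      xU chevD4 r (((∏ i ∈ Finset.range chevD4.rank, C.vec a 1 i ^ chevD4.cartan i r : Kˣ) : K) * u) :=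
    fun r hr u => hF.hT_conj_xU _ hr u
  have h4 : chevD4.rank = 4 := tables.2.1
  have f1 : ∀ u, h * xU chevD4 d4p1 u * h⁻¹ = xU chevD4 d4p1 (((a * a : Kˣ) : K) * u) := fun u => by
    rw [conj _ (by decide) u]
    simp [h4, Finset.prod_range_succ, Ctx.vec, a0, a1, a2, a3, sq]
  have f3 : ∀ u, h * xU chevD4 d4p3 u * h⁻¹ =
      xU chevD4 d4p3 (((C.fu (a * a) : Kˣ) : K) * u) := fun u => by
    rw [conj _ (by decide) u]
    simp [h4, Finset.prod_range_succ, Ctx.vec, c0, c1, c2, c3, sq]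
  have f4 : ∀ u, h * xU chevD4 d4p4 u * h⁻¹ =
      xU chevD4 d4p4 (((C.fu (C.fu (a * a)) : Kˣ) : K) * u) := fun u => by
    rw [conj _ (by decide) u]
    simp [h4, Finset.prod_range_succ, Ctx.vec, d0, d1, d2, d3, sq]
  have hne : ((a * a : Kˣ) : K) - 1 ≠ 0 := sub_ne_zero.2 fun e => ha (Units.ext (e.trans rfl))
  set χ : K := ((a * a : Kˣ) : K) with hχ
  set s : K := t / (χ - 1) with hs
  set w : K → GL chevD4.Idx K := fun x =>
    xU chevD4 d4p1 x * (xU chevD4 d4p3 (C.f x) * xU chevD4 d4p4 (C.f (C.f x))) with hw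
  have hwU : ∀ x : K, wU chevD4 [(d4p1, x), (d4p3, x ^ q), (d4p4, x ^ (q ^ 2))] = w x := fun x => by
    simp only [wU, List.map_cons, List.map_nil, List.prod_cons, List.prod_nil, mul_one, hw, C.hf,
      ← pow_mul, sq]
  have hwG : ∀ x, w x ∈ twistedD4 K q := fun x => hwU x ▸
    C.mem_gen (Or.inr ⟨x, (d4p1, d4p3, d4p4), by simp, rfl⟩)
  have key := C.sys.inDer_commutator hG (hwG s)
  have e1 : h * w s * h⁻¹ = w (χ * s) := by
    simp only [hw]
    rw [show ∀ x y z : GL chevD4.Idx K, h * (x * (y * z)) * h⁻¹ =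
        h * x * h⁻¹ * ((h * y * h⁻¹) * (h * z * h⁻¹)) from fun x y z => by group,
      f1, f3, f4]
    simp only [hχ, map_mul, Units.val_mul]
    rfl
  have e2 : (w s)⁻¹ = w (-s) := by
    refine inv_eq_of_mul_eq_one_right ?_
    simp only [hw, C.triple_add, add_neg_cancel, map_neg]
    rw [hF.xU_zero (by decide), hF.xU_zero (by decide), hF.xU_zero (by decide), one_mul, one_mul]
  rw [e1, e2] at key
  rw [hwU]
  convert key using 1
  simp only [hw, C.triple_add, ← map_add]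
  rw [show χ * s + -s = t by rw [hs]; field_simp; ring]

theorem Ctx.inDer_p2 {t : K} (ht : t ^ q = t) : C.sys.InDer (wU chevD4 [(d4p2, t)]) := by
  obtain ⟨r22, r23, e22, e23, c22, c23, hne, hT', hword, hw⟩ := fixed_roots
  have hF := DataD4.facts
  set o1 : Fin spec.length := ⟨1, by decide⟩
  set o0 : Fin spec.length := ⟨0, by decide⟩
  set n := C.sys.nO o1 * C.sys.nO o0 with hn
  have hnG : n ∈ twistedD4 K q := mul_mem (C.sys.nO_mem o1) (C.sys.nO_mem o0)
  have hperm := hF.permAct_mul (C.sys.nO_perm o1) (C.sys.nO_perm o0)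
  obtain ⟨c, hc0, hc, -⟩ := hperm ⟨23, by decide⟩
  have hval : (((O o1).wO * (O o0).wO) (⟨23, by decide⟩ : Fin chevD4.nroots)).val = d4p2 := by
    rw [Orb.wO, Orb.wO, ← sW_append, hF.sW_val_foldr]
    show List.foldr _ _ _ = _
    rw [show ((O o1).word ++ (O o0).word).map Fin.val = [0, 2, 3, 1] from hword]
    exact hw
  rw [hval] at hc
  have hcancel : n * xU chevD4 23 (t / c) * n⁻¹ = xU chevD4 d4p2 t := by
    rw [hn, hc, mul_div_cancel₀ _ hc0]
  have hg : xU chevD4 d4p2 t ∈ twistedD4 K q := by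
    simpa [wU] using C.mem_gen (Or.inl ⟨t, ht, d4p2, by simp, rfl⟩)
  have hin : xU chevD4 23 (t / c) ∈ twistedD4 K q := by
    have := mul_mem (mul_mem (inv_mem hnG) hg) hnG
    rwa [← hcancel, show n⁻¹ * (n * xU chevD4 23 (t / c) * n⁻¹) * n = xU chevD4 23 (t / c) by
      group] at this
  have hfix := (C.sig.fix_single_iff c23 r23 e23 rfl _).1 (C.sys.le_fix hin)
  have h14 : xU chevD4 d4p2 (-1 : K) ∈ twistedD4 K q := by
    simpa [wU] using C.mem_gen (w := [(d4p2, (-1 : K))])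
      (Or.inl ⟨-1, by rw [← C.hf, map_neg, map_one], d4p2, by simp, rfl⟩)
  have h22 : xU chevD4 22 (t / c) ∈ twistedD4 K q :=
    C.sys.posU_le ⟨(C.sig.fix_single_iff c22 r22 e22 rfl _).2 hfix,
      xU_mem_rootClosure (by decide) (by decide) _⟩
  have h := C.sys.inDer_single (r := d4p2) (s := 22) (by decide) (by decide) hne.1 hne.2 hT' h14
    h22
  rw [show ((1 : ℤ) : K) * - -1 * (t / c) = t / c by simp] at h
  have := C.sys.inDer_conj h hnG
  rw [hcancel] at this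
  simpa [wU] using this

theorem Ctx.perfect_twisted : commutator ↥(twistedD4 K q) = ⊤ := by
  refine C.sys.perfect (S := {g | ∃ w ∈ d4Words K q, g = wU chevD4 w}) C.gen_eq.le ?_
    (fin_cases_spec ?_ ?_)
  · rintro g ⟨w, hw, rfl⟩
    refine ⟨C.mem_gen hw, ?_⟩
    rcases hw with ⟨t, -, r, hr, rfl⟩ | ⟨t, rs, hrs, rfl⟩
    · simp only [List.mem_cons, List.not_mem_nil, or_false] at hr
      refine ⟨⟨0, by decide⟩, ?_⟩
      rcases hr with rfl | rfl
      · exact Or.inl (rootClosure_mono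
          (fun r hr h => (posO_iff_list DataD4.chk_arrays lists.1.1 r hr).2 h)
          (Facts.wU_mem_closure (L := [d4p2]) (ts := [t]) (by decide +kernel)))
      · exact Or.inr (rootClosure_mono
          (fun r hr h => (negO_iff_list DataD4.chk_arrays lists.1.2.1 r hr).2 h)
          (Facts.wU_mem_closure (L := [d4m2]) (ts := [t]) (by decide +kernel)))
    · simp only [List.mem_cons, List.not_mem_nil, or_false] at hrs
      refine ⟨⟨1, by decide⟩, ?_⟩
      rcases hrs with rfl | rfl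
      · exact Or.inl (rootClosure_mono
          (fun r hr h => (posO_iff_list DataD4.chk_arrays lists.2.1 r hr).2 h)
          (Facts.wU_mem_closure (L := [d4p1, d4p3, d4p4]) (ts := [t, t ^ q, t ^ (q ^ 2)])
            (by decide +kernel)))
      · exact Or.inr (rootClosure_mono
          (fun r hr h => (negO_iff_list DataD4.chk_arrays lists.2.2.1 r hr).2 h)
          (Facts.wU_mem_closure (L := [d4m1, d4m3, d4m4]) (ts := [t, t ^ q, t ^ (q ^ 2)])
            (by decide +kernel)))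
  · intro g hg h
    obtain ⟨t, ht, rfl⟩ := C.fix_p2 (C.sys.le_fix hg) h
    exact C.inDer_p2 ht
  · intro g hg h
    obtain ⟨t, rfl⟩ := C.fix_p134 (C.sys.le_fix hg) h
    exact C.inDer_p134 t

theorem Ctx.simple_twisted :
    IsSimpleGroup ↥(twistedD4 K q) ∧ ¬ IsMulCommutative ↥(twistedD4 K q) := by
  obtain ⟨v, hv, -, hv1⟩ := C.sys.neg_ex ⟨0, by decide⟩
  exact C.sys.simple (fun h hh hc => C.sep hh hc) C.irr C.perfect_twisted ⟨v, hv, hv1⟩

theorem Ctx.coxeter :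
    ∃ φ : ↥(chevD4.monomialSubgroup K ⊓ twistedD4 K q) →* (CoxeterMatrix.G₂).Group,
      Function.Surjective φ ∧ φ.ker = (chevD4.diagonalSubgroup K ⊓ twistedD4 K q).subgroupOf
        (chevD4.monomialSubgroup K ⊓ twistedD4 K q) :=
  C.sys.exists_orb_coxeter (M := CoxeterMatrix.G₂) fun o o' => by
    rw [Orb.wO, Orb.wO, ← sW_append]
    exact Table.orderOf_sW DataD4.chk_arrays DataD4.chk_chain DataD4.facts (orders o o')

end CfsgLib.Chev.TwD4
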