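/-
An upper bound for the torus of a twisted group.
-/
import Mathlib
import Cfsg.Agent.Lib.Chev.Twist.BN

set_option autoImplicit false

namespace CfsgLib.Chev

open Cfsg.Lie

universe v

variable {D : ChevalleyDatum} {co : ℕ → ℕ → ℤ} {K : Type v} [Field K] {P : TwPar}

namespace TwSys

variable {f : K →+* K} {σ : ↥(D.group K) →* GL D.Idx K} {ι : Type} {O : ι → Orb D}
  {G : Subgroup (GL D.Idx K)} (T : TwSys D co P f σ O G)
include T

/-- The elements `u m u'` with `u`, `u'` in `U¹` and `m` in `M`. -/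
def InUMU (_T : TwSys D co P f σ O G) (M : Subgroup (GL D.Idx K)) (g : GL D.Idx K) : Prop :=
  ∃ u ∈ G ⊓ rootClosure D K (D.nroots / 2 ≤ ·), ∃ m ∈ M,
    ∃ u' ∈ G ⊓ rootClosure D K (D.nroots / 2 ≤ ·), g = u * m * u'

variable {M : Subgroup (GL D.Idx K)}

theorem inUMU_step (hM : M ≤ D.monomialSubgroup K ⊓ G)
    (hneg : ∀ o v, v ∈ G → v ∈ rootClosure D K ((O o).negO co) → v ≠ 1 →
      ∃ u₁ ∈ G ⊓ rootClosure D K ((O o).posO co), ∃ m ∈ M,
        ∃ u₂ ∈ G ⊓ rootClosure D K ((O o).posO co), v = u₁ * m * u₂)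
    (o : ι) {n : GL D.Idx K} (hn : n ∈ M) (hnw : PermAct n (O o).wO) {g : GL D.Idx K}
    (hg : T.InUMU M g) : T.InUMU M (n * g) := by
  have hF := T.sig.hF
  obtain ⟨u, ⟨huG, hu⟩, m, hm, u', hu', rfl⟩ := hg
  have hnG := (hM hn).2
  have hmG := (hM hm).2
  have hmN := (hM hm).1
  obtain ⟨a, haf, ha, c, hcf, hc, rfl⟩ := T.split_fix o (A := (D.nroots / 2 ≤ ·))
    (fun r _ h => h)
    (fun i hi hiO j hj hjp _ _ c hc =>
      le_of_lt (lt_of_le_of_lt hiO.1 (hF.commTerms_lt hi hj hiO.1 hjp hc).2.1))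
    (fun r hr h => T.sig.ok.rho_pos r hr h) hu (T.le_fix huG)
  have hcG : c ∈ G := T.posO_le o ⟨hcf, hc⟩
  have haG : a ∈ G := T.posU_le ⟨haf, rootClosure_mono (fun r _ h => h.1) ha⟩
  have ha' : n * a * n⁻¹ ∈ G ⊓ rootClosure D K (D.nroots / 2 ≤ ·) :=
    ⟨Subgroup.mul_mem _ (Subgroup.mul_mem _ hnG haG) (Subgroup.inv_mem _ hnG),
      hF.conj_rootClosure hnw (fun r hr => (T.wO_posO o hr.1 hr.2).1) ha⟩
  obtain ⟨w, hw⟩ := hF.exists_permAct hmN
  obtain ⟨l, hl⟩ := T.perm_word hmN hw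
  have hwf := T.sig.wfix_of_fixed hmN hw (T.le_fix hmG)
  have hw' := hF.permAct_inv hmN hw
  rcases T.dichotomy (l := l.reverse) (w := w⁻¹) (by rw [hF.sW_reverse, hl])
    (T.sig.wfix_inv hwf) o with hflip | hkeep
  · by_cases hc1 : c = 1
    · exact ⟨_, ha', n * m, Subgroup.mul_mem _ hn hm, u', hu', by rw [hc1, mul_one]; group⟩
    have hv : n * c * n⁻¹ ∈ G := Subgroup.mul_mem _ (Subgroup.mul_mem _ hnG hcG) (Subgroup.inv_mem _ hnG)
    obtain ⟨u₁, hu₁, m₁, hm₁, u₂, hu₂, e⟩ := hneg o (n * c * n⁻¹) hv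
      (hF.conj_rootClosure hnw (fun _ hs => T.wO_inO o hs.1 hs.2) hc)
      (fun h => hc1 (by rwa [mul_inv_eq_one, mul_eq_left] at h))
    have hk : ∀ r : Fin D.nroots, D.nroots / 2 ≤ r.val → (O o).InO co r.val →
        D.nroots / 2 ≤ ((w⁻¹ * (O o).wO) r).val := by
      intro r hp hr
      rw [Equiv.Perm.mul_apply]
      obtain ⟨h1, h2⟩ := T.wO_inO o hp hr
      have h3 := hflip (hF.negFin ((O o).wO r)) ((hF.negFin_pos _).2 h1)
        (hF.inSub_neg ((O o).wO r).isLt h2)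
      rw [show w⁻¹ = sW D l.reverse by rw [hF.sW_reverse, hl]] at h3 ⊢
      rw [hF.sW_neg] at h3
      by_contra h4
      exact absurd ((hF.negFin_pos _).2 (not_le.1 h4)) (not_le.2 h3)
    have h5 := T.conj_posU (n := (n * m)⁻¹) (Subgroup.inv_mem _ (Subgroup.mul_mem _ hnG hmG))
      (w := w⁻¹ * (O o).wO)
      (by rw [mul_inv_rev]
          have := hF.permAct_mul hw' (hF.permAct_inv (hM hn).1 hnw)
          rwa [T.wO_inv o] at this)
      o hk hu₂.1 hu₂.2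
    refine ⟨(n * a * n⁻¹) * u₁,
      Subgroup.mul_mem _ ha' ⟨hu₁.1, rootClosure_mono (fun r _ h => h.1) hu₁.2⟩,
      m₁ * (n * m), Subgroup.mul_mem _ hm₁ (Subgroup.mul_mem _ hn hm), ((n * m)⁻¹ * u₂ * ((n * m)⁻¹)⁻¹) * u',
      Subgroup.mul_mem _ (show _ ∈ G ⊓ rootClosure D K (D.nroots / 2 ≤ ·) from h5) hu', ?_⟩
    rw [show n * (a * c * m * u') = (n * a * n⁻¹) * (n * c * n⁻¹) * (n * m) * u' by group, e]
    group
  · have h5 := T.conj_posU (n := m⁻¹) (Subgroup.inv_mem _ hmG) hw' o hkeep hcG hc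
    exact ⟨_, ha', n * m, Subgroup.mul_mem _ hn hm, (m⁻¹ * c * m⁻¹⁻¹) * u',
      Subgroup.mul_mem _ (show _ ∈ G ⊓ rootClosure D K (D.nroots / 2 ≤ ·) from h5) hu', by group⟩

/-- The diagonal elements of `G` lie in `M`. -/
theorem diag_le (hM : M ≤ D.monomialSubgroup K ⊓ G)
    (hn : ∀ o, ∃ n ∈ M, PermAct n (O o).wO)
    (hneg : ∀ o v, v ∈ G → v ∈ rootClosure D K ((O o).negO co) → v ≠ 1 →
      ∃ u₁ ∈ G ⊓ rootClosure D K ((O o).posO co), ∃ m ∈ M,
        ∃ u₂ ∈ G ⊓ rootClosure D K ((O o).posO co), v = u₁ * m * u₂)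
    {S : Set (GL D.Idx K)} (hS : G ≤ Subgroup.closure S)
    (hgen : ∀ g ∈ S, g ∈ G ∧ ∃ o, g ∈ rootClosure D K ((O o).posO co) ∨
      g ∈ rootClosure D K ((O o).negO co))
    {g : GL D.Idx K} (hg : g ∈ G) (hd : g ∈ D.diagonalSubgroup K) : g ∈ M := by
  have hF := T.sig.hF
  have posmul : ∀ {s x : GL D.Idx K}, s ∈ G ⊓ rootClosure D K (D.nroots / 2 ≤ ·) →
      T.InUMU M x → T.InUMU M (s * x) := by
    rintro s _ hs ⟨u, hu, m, hm, u', hu', rfl⟩
    exact ⟨s * u, Subgroup.mul_mem _ hs hu, m, hm, u', hu', by group⟩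
  have negmul : ∀ (o : ι) {s x : GL D.Idx K}, s ∈ G → s ∈ rootClosure D K ((O o).negO co) →
      T.InUMU M x → T.InUMU M (s * x) := by
    intro o s x hsG hs hx
    by_cases h1 : s = 1
    · rwa [h1, one_mul]
    obtain ⟨u₁, hu₁, m, hm, u₂, hu₂, rfl⟩ := hneg o s hsG hs h1
    obtain ⟨n, hnM, hnw⟩ := hn o
    obtain ⟨w, hw⟩ := hF.exists_permAct (hM hm).1
    rw [mul_assoc, mul_assoc]
    refine posmul ⟨hu₁.1, rootClosure_mono (fun r _ h => h.1) hu₁.2⟩ ?_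
    have h2 : T.InUMU M (u₂ * x) := posmul ⟨hu₂.1, rootClosure_mono (fun r _ h => h.1) hu₂.2⟩ hx
    have hsw : PermAct m (O o).wO → T.InUMU M (m * (u₂ * x)) := fun h =>
      T.inUMU_step hM hneg o hm h h2
    refine hsw ?_
    -- the middle term acts as the longest element of the orbit
    obtain ⟨v₁, hv₁f, hv₁, n', hn'G, hn'N, hn'w, v₂, hv₂f, hv₂, e⟩ :=
      T.neg_decomp o hsG hs h1
    have hb : ∀ {y : GL D.Idx K}, y ∈ rootClosure D K ((O o).posO co) →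
        y ∈ D.borelSubgroup K := fun hy =>
      hF.pos_le_borel (rootClosure_mono (fun r _ h => h.1) hy)
    have h3 := hF.bruhat_eqv T.sig.hC (hb hu₁.2) (hb hv₁) (hM hm).1 hn'N (hb hu₂.2) (hb hv₂) e
    have h4 := hF.permAct_mul hw (hF.permAct_diagonal h3)
    rw [mul_inv_cancel_left, mul_one] at h4
    rwa [← hF.permAct_unique h4 hn'w]
  have key : ∀ x ∈ Subgroup.closure S, T.InUMU M x := by
    intro x hx
    induction hx using Subgroup.closure_induction_left with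
    | one => exact ⟨1, Subgroup.one_mem _, 1, Subgroup.one_mem _, 1, Subgroup.one_mem _, by group⟩
    | mul_left s hs y _ ih =>
      obtain ⟨hsG, o, h | h⟩ := hgen s hs
      · exact posmul ⟨hsG, rootClosure_mono (fun r _ h => h.1) h⟩ ih
      · exact negmul o hsG h ih
    | inv_mul_cancel s hs y _ ih =>
      obtain ⟨hsG, o, h | h⟩ := hgen s hs
      · exact posmul ⟨Subgroup.inv_mem _ hsG, rootClosure_mono (fun r _ h => h.1) (Subgroup.inv_mem _ h)⟩ ih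
      · exact negmul o (Subgroup.inv_mem _ hsG) (Subgroup.inv_mem _ h) ih
  obtain ⟨u, hu, m, hm, u', hu', e⟩ := key g (hS hg)
  have hmd : m ∈ D.diagonalSubgroup K := by
    rw [← hF.borel_inf_monomial]
    refine ⟨?_, (hM hm).1⟩
    rw [show m = u⁻¹ * g * u'⁻¹ by rw [e]; group]
    exact Subgroup.mul_mem _ (Subgroup.mul_mem _ (Subgroup.inv_mem _ (hF.pos_le_borel hu.2)) (hF.diagonal_le_borel hd))
      (Subgroup.inv_mem _ (hF.pos_le_borel hu'.2))
  have h1 : g * m⁻¹ ∈ rootClosure D K (D.nroots / 2 ≤ ·) ⊓ D.diagonalSubgroup K := by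
    refine ⟨?_, Subgroup.mul_mem _ hd (Subgroup.inv_mem _ hmd)⟩
    rw [show g * m⁻¹ = u * (m * u' * m⁻¹) by rw [e]; group]
    exact Subgroup.mul_mem _ hu.2 (hF.conj_rootClosure (hF.permAct_diagonal hmd) (fun s hs => hs) hu'.2)
  rw [hF.pos_inf_diagonal, Subgroup.mem_bot, mul_inv_eq_one] at h1
  rwa [h1]

end TwSys

end CfsgLib.Chev
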