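/-
The fixed elements of the classes of roots of type A₁ and A₁ × A₁.
-/
import Mathlib
import Cfsg.Agent.Lib.Chev.Twist.Torus

set_option autoImplicit false

namespace CfsgLib.Chev

open Cfsg.Lie

universe v

variable {D : ChevalleyDatum} {co : ℕ → ℕ → ℤ} {K : Type v} [Field K] {P : TwPar}
variable {f : K →+* K} {σ : ↥(D.group K) →* GL D.Idx K}

namespace Sig

variable (S : Sig D co P f σ)
include S

theorem word_one_fixed {r : ℕ} (hr : r < D.nroots) (hρ : P.rho r = r) (he : P.eps r = 1)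
    (hl : P.lam r = 1) {t : K} (ht : f t = t) : wU D [(r, t)] ∈ fixS σ := by
  have h := S.img_xU hr t
  rw [hρ, show P.coef f r t = t by simp [TwPar.coef, he, hl, ht]] at h
  rw [mem_fixS]
  simpa [wU] using h

theorem word_two_img {r s : ℕ} (hr : r < D.nroots) (hs : s < D.nroots) (hρ : P.rho r = s)
    (hρ' : P.rho s = r) (he : P.eps r = 1) (he' : P.eps s = 1) (hl : P.lam r = 1)
    (hl' : P.lam s = 1) (hc : P.commB D r s = true) (x y : K) :
    Img σ (wU D [(r, x), (s, y)]) (wU D [(r, f y), (s, f x)]) := by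
  have h := (S.img_xU hr x).mul (S.img_xU hs y)
  rw [hρ, hρ', show P.coef f r x = f x by simp [TwPar.coef, he, hl],
    show P.coef f s y = f y by simp [TwPar.coef, he', hl'],
    ← (S.commute_xU hr hs hc (f y) (f x)).eq] at h
  simpa [wU] using h

theorem word_two_fixed {r s : ℕ} (hr : r < D.nroots) (hs : s < D.nroots) (hρ : P.rho r = s)
    (hρ' : P.rho s = r) (he : P.eps r = 1) (he' : P.eps s = 1) (hl : P.lam r = 1)
    (hl' : P.lam s = 1) (hc : P.commB D r s = true) {t : K} (ht : f (f t) = t) :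
    wU D [(r, t), (s, f t)] ∈ fixS σ := by
  have h := S.word_two_img hr hs hρ hρ' he he' hl hl' hc t (f t)
  rw [ht] at h
  exact mem_fixS.2 h

variable [Finite K]

theorem fix_one {r : ℕ} (hc : coordB D [r] = true) (hρ : P.rho r = r) (he : P.eps r = 1)
    (hl : P.lam r = 1) {g : GL D.Idx K} (hg : g ∈ fixS σ)
    (h : g ∈ rootClosure D K (· ∈ [r])) : ∃ t : K, f t = t ∧ g = wU D [(r, t)] := by
  obtain ⟨ts, hts, rfl⟩ := S.hF.exists_coords S.hC hc g h
  obtain ⟨t, rfl⟩ := List.length_eq_one_iff.1 hts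
  exact ⟨t, (S.fix_single_iff hc hρ he hl t).1 (by simpa [wU] using hg), rfl⟩

theorem fix_two {r s : ℕ} (hco : coordB D [r, s] = true) (hρ : P.rho r = s)
    (hρ' : P.rho s = r) (he : P.eps r = 1) (he' : P.eps s = 1) (hl : P.lam r = 1)
    (hl' : P.lam s = 1) (hc : P.commB D r s = true) {g : GL D.Idx K} (hg : g ∈ fixS σ)
    (h : g ∈ rootClosure D K (· ∈ [r, s])) :
    ∃ t : K, f (f t) = t ∧ g = wU D [(r, t), (s, f t)] := by
  have hr := (Facts.coord_lt hco r (by simp)).1
  have hs := (Facts.coord_lt hco s (by simp)).1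
  obtain ⟨ts, hts, rfl⟩ := S.hF.exists_coords S.hC hco g h
  obtain ⟨x, y, rfl⟩ := List.length_eq_two.1 hts
  have e := (S.word_two_img hr hs hρ hρ' he he' hl hl' hc x y).unique (mem_fixS.1 hg)
  have := S.hF.coords_unique S.hC hco (ts := [f y, f x]) (ts' := [x, y]) rfl rfl e
  simp only [List.cons.injEq, and_true] at this
  refine ⟨x, ?_, ?_⟩
  · rw [this.2, this.1]
  · rw [this.2]; rfl

theorem card_fix_one {r : ℕ} (hc : coordB D [r] = true) (hρ : P.rho r = r) (he : P.eps r = 1)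
    (hl : P.lam r = 1) :
    Nat.card ↥(fixS σ ⊓ rootClosure D K (· ∈ [r]) : Subgroup (GL D.Idx K)) =
      Nat.card {t : K // f t = t} := by
  have hr := (Facts.coord_lt hc r (by simp)).1
  refine (Nat.card_eq_of_bijective (fun t : {t : K // f t = t} =>
    (⟨wU D [(r, t.1)], S.word_one_fixed hr hρ he hl t.2,
      Facts.wU_mem_closure (L := [r]) (ts := [t.1]) (by simpa using hr)⟩ :
      ↥(fixS σ ⊓ rootClosure D K (· ∈ [r]) : Subgroup (GL D.Idx K)))) ⟨?_, ?_⟩).symm
  · intro a b e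
    have := S.hF.coords_unique S.hC hc (ts := [a.1]) (ts' := [b.1]) rfl rfl
      (congrArg Subtype.val e)
    simp only [List.cons.injEq, and_true] at this
    exact Subtype.ext this
  · rintro ⟨g, hg, h⟩
    obtain ⟨t, ht, rfl⟩ := S.fix_one hc hρ he hl hg h
    exact ⟨⟨t, ht⟩, rfl⟩

theorem card_fix_two {r s : ℕ} (hco : coordB D [r, s] = true) (hρ : P.rho r = s)
    (hρ' : P.rho s = r) (he : P.eps r = 1) (he' : P.eps s = 1) (hl : P.lam r = 1)
    (hl' : P.lam s = 1) (hc : P.commB D r s = true) :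
    Nat.card ↥(fixS σ ⊓ rootClosure D K (· ∈ [r, s]) : Subgroup (GL D.Idx K)) =
      Nat.card {t : K // f (f t) = t} := by
  have hr := (Facts.coord_lt hco r (by simp)).1
  have hs := (Facts.coord_lt hco s (by simp)).1
  refine (Nat.card_eq_of_bijective (fun t : {t : K // f (f t) = t} =>
    (⟨wU D [(r, t.1), (s, f t.1)], S.word_two_fixed hr hs hρ hρ' he he' hl hl' hc t.2,
      Facts.wU_mem_closure (L := [r, s]) (ts := [t.1, f t.1]) (by simp [hr, hs])⟩ :
      ↥(fixS σ ⊓ rootClosure D K (· ∈ [r, s]) : Subgroup (GL D.Idx K)))) ⟨?_, ?_⟩).symm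
  · intro a b e
    have := S.hF.coords_unique S.hC hco (ts := [a.1, f a.1]) (ts' := [b.1, f b.1]) rfl rfl
      (congrArg Subtype.val e)
    simp only [List.cons.injEq, and_true] at this
    exact Subtype.ext this.1
  · rintro ⟨g, hg, h⟩
    obtain ⟨t, ht, rfl⟩ := S.fix_two hco hρ hρ' he he' hl hl' hc hg h
    exact ⟨⟨t, ht⟩, rfl⟩

end Sig

end CfsgLib.Chev
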