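/-
The orbits and the fixed Weyl group of type ²E₆, generated from the tables of `Cfsg.Lie.chevE6`,
with their verification.
-/
import Cfsg.Agent.Lib.Chev.Twist.Enum
import Cfsg.Agent.Lib.Chev.Twist.Par

set_option autoImplicit false
set_option maxRecDepth 100000
set_option linter.all false
set_option Elab.async false

namespace CfsgLib.Chev.TwE6

open Cfsg.Lie CfsgLib.Chev.Table

/-- The orbits on the nodes, with a word for each longest element. -/
def spec : List (List ℕ × List ℕ) := [([1], [1]), ([3], [3]), ([2, 4], [2, 4]), ([0, 5], [0, 5])]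

/-- The fixed Weyl group. -/
noncomputable def enum : Enum where
  size := 1152
  img := (.node 576
 (.node 288
 (.node 144
 (.node 72
 (.node 36
 (.node 18
 (.node 9
 (.node 4
 (.node 2
 (.node 1
 (.leaf 43522012046635082026188856)
 (.leaf 43522012048886881838497848))
 (.node 3
 (.leaf 43522067384896982612901944)
 (.leaf 45939808347039438295924793)))
 (.node 6
 (.node 5
 (.leaf 42313104673764590985543695)
 (.leaf 43522067388837632285343800))
 (.node 7
 (.leaf 45939808349009763131523129)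
 (.node 8
 (.leaf 42313104676016390797852687)
 (.leaf 43522214956597802539876408)))))
 (.node 13
 (.node 11
 (.node 10
 (.leaf 45939974362951074322776121)
 (.leaf 42313160012026491572256783))
 (.node 12
 (.leaf 49566530465651100396486714)
 (.leaf 44730864085184270614528042)))
 (.node 15
 (.node 14
 (.leaf 39895216142454555805614094)
 (.leaf 43522214956879277516128312))
 (.node 16
 (.leaf 45939974368299098878246969)
 (.node 17
 (.leaf 42313160015967141244698639)
 (.leaf 49566530468184375185375290))))))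
 (.node 27
 (.node 22
 (.node 20
 (.node 19
 (.leaf 44730864086028695543283754)
 (.leaf 39895216144424880641212430))
 (.node 21
 (.leaf 45940103488189299811942457)
 (.leaf 42313307583727294319362063)))
 (.node 24
 (.node 23
 (.leaf 49566733375050875252572218)
 (.leaf 44731325239993955459727402))
 (.node 25
 (.leaf 39895382158366157472727054)
 (.node 26
 (.leaf 59237789450585838889402429)
 (.leaf 54402178402470033968267323)))))
 (.node 31
 (.node 29
 (.node 28
 (.leaf 48357586203795932715089963)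
 (.leaf 41104123519828534804480029))
 (.node 30
 (.leaf 36268438683610668281561101)
 (.leaf 45940103489596674694381625)))
 (.node 33
 (.node 32
 (.leaf 42313307584008769295613967)
 (.leaf 49566733380680374784491578))
 (.node 34
 (.leaf 44731325249845579640995882)
 (.node 35
 (.leaf 39895382163714182028197902)
 (.leaf 59237789451148788842364989)))))))
 (.node 54
 (.node 45
 (.node 40
 (.node 38
 (.node 37
 (.leaf 54402178406410683640184891)
 (.leaf 48357586205203307597135915))
 (.node 39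
 (.leaf 41104123520672959733235741)
 (.leaf 36268438686143943070449677)))
 (.node 42
 (.node 41
 (.leaf 49566880946470237382639674)
 (.leaf 44731380579381786017792042))
 (.node 43
 (.leaf 39895511283604361487056910)
 (.node 44
 (.leaf 59238139929997583813247037)
 (.leaf 54402196847243795725877307)))))
 (.node 49
 (.node 47
 (.node 46
 (.leaf 48358084252093756389523499)
 (.leaf 41104566227894158825029661))
 (.node 48
 (.leaf 36268604699522269948739597)
 (.leaf 62864530014815687677837374)))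
 (.node 51
 (.node 50
 (.leaf 58028845187604788481032242)
 (.leaf 71326863175913732476698669))
 (.node 52
 (.leaf 51984289875663521106296872)
 (.node 53
 (.leaf 37477346060984647280427036)
 (.leaf 26597032128663959720361994))))))
 (.node 63
 (.node 58
 (.node 56
 (.node 55
 (.leaf 31432772297232928413515788)
 (.leaf 49566880948159087241789498))
 (.node 57
 (.leaf 44731380584166860618661930)
 (.leaf 39895511285011736369496078)))
 (.node 60
 (.node 59
 (.leaf 59238139935345608368455741)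
 (.leaf 54402196852591820281086011))
 (.node 61
 (.leaf 48358084262226855547240491)
 (.node 62
 (.leaf 41104566237745783006298141)
 (.leaf 36268604705151769480658957)))))
 (.node 67
 (.node 65
 (.node 64
 (.leaf 62864530016504537536987198)
 (.leaf 58028845188167738433994802))
 (.node 66
 (.leaf 71326863183232081867571245)
 (.leaf 51984289878196795894661160)))
 (.node 69
 (.node 68
 (.leaf 37477346062392022162472988)
 (.leaf 26597032129226909673324554))
 (.node 70
 (.leaf 31432772301173578085433356)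
 (.node 71
 (.leaf 59238158376178720454148157)
 (.leaf 54402547331440615251968059))))))))
 (.node 108
 (.node 90
 (.node 81
 (.node 76
 (.node 74
 (.node 73
 (.leaf 48358158037662723588489259)
 (.leaf 41104621567281985088127005))
 (.node 75
 (.leaf 36268770717685680018554893)
 (.leaf 62864677582294400135135294)))
 (.node 78
 (.node 77
 (.leaf 58029490808166364857040946)
 (.leaf 71326881620687494234308653))
 (.node 79
 (.leaf 51984843264193561614417960)
 (.node 80
 (.leaf 37477788769050271301042204)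
 (.leaf 26597327267843440565878794)))))
 (.node 85
 (.node 83
 (.node 82
 (.leaf 31432827635494829000294412)
 (.leaf 65282381653763471050539072))
 (.node 84
 (.leaf 74953585296777164325912628)
 (.leaf 60446641486601821407150128)))
 (.node 87
 (.node 86
 (.leaf 70117918910962387296124969)
 (.leaf 50775364056048891931721765))
 (.node 88
 (.leaf 27805939504912038812385301)
 (.node 89
 (.leaf 33850531708652608042500127)
 (.leaf 22970291562182324003799049))))))
 (.node 99
 (.node 94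
 (.node 92
 (.node 91
 (.leaf 14507792375883981834354714)
 (.leaf 59238158380119370126065725))
 (.node 93
 (.leaf 54402547332003565204930619)
 (.leaf 48358158042729273166069803)))
 (.node 96
 (.node 95
 (.leaf 41104621572067059688996893)
 (.leaf 36268770719374529877704717))
 (.node 97
 (.leaf 62864677587923899667054654)
 (.node 98
 (.leaf 58029490816892089131204658)
 (.leaf 71326881629413218508472365)))))
 (.node 103
 (.node 101
 (.node 100
 (.leaf 51984843275452560678453288)
 (.leaf 37477788779183370458759196))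
 (.node 102
 (.leaf 26597327273191465121087498)
 (.leaf 31432827640842853555503116)))
 (.node 105
 (.node 104
 (.leaf 65282381655170845932978240)
 (.leaf 74953585301843713903493172))
 (.node 106
 (.leaf 60446641488290671266299952)
 (.node 107
 (.leaf 70117918917999261710286889)
 (.leaf 50775364058863641696534565)))))))
 (.node 126
 (.node 117
 (.node 112
 (.node 110
 (.node 109
 (.leaf 27805939505474988765347861)
 (.leaf 33850531711185882830864415))
 (.node 111
 (.leaf 22970291563871173862948873)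
 (.leaf 14507792383202331225227290)))
 (.node 114
 (.node 113
 (.leaf 62864880494790399734251582)
 (.leaf 58029509254347501497942066))
 (.node 115
 (.leaf 71327527249411844931518509)
 (.node 116
 (.leaf 51984953942124797800218664)
 (.leaf 37477881001363303619624988)))))
 (.node 121
 (.node 119
 (.node 118
 (.leaf 26597364160768646621364234)
 (.leaf 31433085885971249913856012))
 (.node 120
 (.leaf 65282510775061046866673728)
 (.leaf 74953659077279581944741940)))
 (.node 123
 (.node 122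
 (.leaf 60447324000651540907229232)
 (.leaf 70117974246409572475797545))
 (.node 124
 (.leaf 50775917444578932439777317)
 (.node 125
 (.leaf 27806437551521064166686741)
 (.leaf 33850992863462292887765023))))))
 (.node 135
 (.node 130
 (.node 128
 (.node 127
 (.leaf 22970494469893227524980745)
 (.leaf 14507847714145882421133338))
 (.node 129
 (.leaf 66491344366866239054086211)
 (.leaf 77371436935724947698614326)))
 (.node 132
 (.node 131
 (.leaf 73744641031544348463595569)
 (.leaf 60446604593676615351533616))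
 (.node 133
 (.leaf 68908993091347758121549862)
 (.node 134
 (.leaf 50775234929684788010090533)
 (.leaf 35059402188035011793715234)))))
 (.node 139
 (.node 137
 (.node 136
 (.leaf 25388050972194628749230103)
 (.leaf 15716662856673708929384478))
 (.node 138
 (.leaf 20552495262903816101298183)
 (.leaf 10881014919291894123724819)))
 (.node 141
 (.node 140
 (.leaf 62864880497323674523140158)
 (.leaf 58029509261665850888814642))
 (.node 142
 (.leaf 71327527249974794884481069)
 (.node 143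
 (.leaf 51984953947191347377799208)
 (.leaf 37477881006429853197205532)))))))))
 (.node 216
 (.node 180
 (.node 162
 (.node 153
 (.node 148
 (.node 146
 (.node 145
 (.leaf 26597364164709296293281802)
 (.leaf 31433085886534199866818572))
 (.node 147
 (.leaf 65282510780409071422144576)
 (.leaf 74953659087412681102458932)))
 (.node 150
 (.node 149
 (.leaf 60447324010784640064421936)
 (.leaf 70117974256542671632990249))
 (.node 151
 (.leaf 50775917456400881457102885)
 (.node 152
 (.leaf 27806437560246788440850453)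
 (.leaf 33850992874721291951800351)))))
 (.node 157
 (.node 155
 (.node 154
 (.leaf 22970494475522727056900105)
 (.leaf 14507847722871606695297050))
 (.node 156
 (.leaf 66491344367147714030338115)
 (.leaf 77371436940510022299484214)))
 (.node 159
 (.node 158
 (.leaf 73744641036610898041176113)
 (.leaf 60446604595083990233972784))
 (.node 160
 (.leaf 68908993098666107512160294)
 (.node 161
 (.leaf 50775234931936587821482021)
 (.leaf 35059402190849761558528034))))))
 (.node 171
 (.node 166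
 (.node 164
 (.node 163
 (.leaf 25388050973883478608379927)
 (.leaf 15716662863710583343546398))
 (.node 165
 (.leaf 20552495264311190983737351)
 (.leaf 10881014924358443701305363)))
 (.node 168
 (.node 167
 (.leaf 65282676794350382613397568)
 (.leaf 74954157134303129894846516))
 (.node 169
 (.leaf 60447379339194950829932592)
 (.node 170
 (.leaf 70118656768903541273919529)
 (.leaf 50776065015716849657839653)))))
 (.node 175
 (.node 173
 (.node 172
 (.leaf 27806474444446270222172181)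
 (.leaf 33851158881625741612285983))
 (.node 174
 (.leaf 22970605148668845691437065)
 (.leaf 14508327322173556847476762)))
 (.node 177
 (.node 176
 (.leaf 66491491934907884284870723)
 (.leaf 77371492270046228676280374))
 (.node 178
 (.leaf 73744751703283135162941489)
 (.node 179
 (.leaf 60447324000088590953873456)
 (.leaf 68909048426794943301156902)))))))
 (.node 198
 (.node 189
 (.node 184
 (.node 182
 (.node 181
 (.leaf 50775917443734507509710885)
 (.leaf 35059900236332835468083234))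
 (.node 183
 (.leaf 25388567465547719223083031)
 (.leaf 15716828872585344956301342)))
 (.node 186
 (.node 185
 (.leaf 20552642830945444152147975)
 (.leaf 10881217827002814824513555))
 (.node 187
 (.leaf 79789509935883039021662276)
 (.node 188
 (.leaf 80998195947824748628279351)
 (.leaf 73744604138619142407979057)))))
 (.node 193
 (.node 191
 (.node 190
 (.leaf 51984123856374211129049128)
 (.leaf 58028734508829170314182706))
 (.node 192
 (.leaf 68908937753085831765098534)
 (.leaf 67700085717069844952973348)))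
 (.node 195
 (.node 194
 (.leaf 35059254614926834162532386)
 (.leaf 16925533336056112680599585))
 (.node 196
 (.leaf 25387995632525353279029271)
 (.node 197
 (.leaf 12089885399800146242043926)
 (.leaf 19343643230265486059438084))))))
 (.node 207
 (.node 202
 (.node 200
 (.node 199
 (.leaf 8463218620013386221223953)
 (.leaf 65282676796320707448995904))
 (.node 201
 (.leaf 74954157135710504776892468)
 (.leaf 60447379346231825244094512)))
 (.node 204
 (.node 203
 (.leaf 70118656770592391133069353)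
 (.leaf 50776065020501924258709541))
 (.node 205
 (.leaf 27806474451764619613044757)
 (.node 206
 (.leaf 33851158886692291189866527)
 (.leaf 22970605151202120480325641)))))
 (.node 211
 (.node 209
 (.node 208
 (.leaf 14508327322736506800439322)
 (.leaf 66491491938848533957312579))
 (.node 210
 (.leaf 77371492279897852857548854)
 (.leaf 73744751714542134226976817)))
 (.node 213
 (.node 212
 (.leaf 60447324010784640064356400)
 (.leaf 68909048437490992411639846))
 (.node 214
 (.leaf 50775917456400881457037349)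
 (.node 215
 (.leaf 35059900248154784485408802)
 (.leaf 25388567475680818380275735))))))))
 (.node 252
 (.node 234
 (.node 225
 (.node 220
 (.node 218
 (.node 217
 (.leaf 15716828882718444113494046)
 (.leaf 20552642836293468707618823))
 (.node 219
 (.leaf 10881217837135913982230547)
 (.leaf 79789509936164513997914180)))
 (.node 222
 (.node 221
 (.leaf 80998195952609823229149239)
 (.leaf 73744604143404217008848945))
 (.node 223
 (.leaf 51984123858063060987281448)
 (.node 224
 (.leaf 58028734509110645290434610)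
 (.leaf 68908937758715331295445030)))))
 (.node 229
 (.node 227
 (.node 226
 (.leaf 67700085725795569226612772)
 (.leaf 35059254617178633973923874))
 (.node 228
 (.leaf 16925533343374462071210017)
 (.leaf 25387995633932728161468439)))
 (.node 231
 (.node 230
 (.leaf 12089885404866695819624470)
 (.leaf 19343643230546961035689988))
 (.node 232
 (.leaf 8463218624798460822093841)
 (.node 233
 (.leaf 66491547274858634731716675)
 (.leaf 77371953433863112773992502))))))
 (.node 243
 (.node 238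
 (.node 236
 (.node 235
 (.leaf 73745305100538899946733617)
 (.leaf 60447379338913475853353008))
 (.node 237
 (.leaf 68909767842495593131540518)
 (.leaf 50776065015435374681325605)))
 (.node 240
 (.node 239
 (.leaf 35060084700958895810281506)
 (.leaf 25388678144323337389539351))
 (.node 241
 (.leaf 15717290034150424944836638)
 (.node 242
 (.leaf 20552753510002537295380487)
 (.leaf 10881549863329669323882515)))))
 (.node 247
 (.node 245
 (.node 244
 (.leaf 79789657503924667072577604)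
 (.leaf 80998251282146025310978103))
 (.node 246
 (.leaf 73744751702720185209585713)
 (.leaf 51984843262786186730995752)))
 (.node 249
 (.node 248
 (.leaf 58029490806477514997104690)
 (.leaf 68909048424824618464247846))
 (.node 250
 (.leaf 67700104161843606710517796)
 (.node 251
 (.leaf 35059900235488410538016802)
 (.leaf 16925736245455887536619553)))))))
 (.node 270
 (.node 261
 (.node 256
 (.node 254
 (.node 253
 (.leaf 25388567464984769269727255)
 (.leaf 12090180538979682921807894))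
 (.node 255
 (.leaf 19343772351563040400801796)
 (.leaf 8463366188055031451680785)))
 (.node 258
 (.node 257
 (.leaf 82207306234880071947780162)
 (.leaf 80998159054618067595952183))
 (.node 259
 (.leaf 70117826679775254884057129)
 (.node 260
 (.leaf 74953474618001546159063092)
 (.leaf 48357327951912136917057579)))))
 (.node 265
 (.node 263
 (.node 262
 (.leaf 59237457414258984388853821)
 (.leaf 67700030379089389278265380))
 (.node 264
 (.leaf 18134403814031158728261667)
 (.leaf 33850328795875154941116447)))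
 (.node 267
 (.node 266
 (.leaf 16925385764073817776390177)
 (.leaf 27805773485904212401782805))
 (.node 268
 (.leaf 12089830060130870771843094)
 (.node 269
 (.leaf 6045717468921536941850627)
 (.leaf 4836496501401706940858384))))))
 (.node 279
 (.node 274
 (.node 272
 (.node 271
 (.leaf 66491547277110434544025667)
 (.leaf 77371953434707537702748214))
 (.node 273
 (.leaf 73745305103072174735097905)
 (.leaf 60447379346231825243963440)))
 (.node 276
 (.node 275
 (.leaf 68909767843902968013979686)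
 (.leaf 50776065020501924258512933))
 (.node 277
 (.leaf 35060084705743970411151394)
 (.node 278
 (.leaf 25388678151360211803701271)
 (.leaf 15717290035839274803986462)))))
 (.node 283
 (.node 281
 (.node 280
 (.leaf 20552753511972862130978823)
 (.leaf 10881549864737044205928467))
 (.node 282
 (.leaf 79789657507865316745019460)
 (.leaf 80998251291997649492246583)))
 (.node 285
 (.node 284
 (.leaf 73744751714542134226911281)
 (.leaf 51984843275452560678322216))
 (.node 286
 (.leaf 58029490816892089130876978)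
 (.node 287
 (.leaf 68909048437490992411574310)
 (.leaf 67700104172258180844290084))))))))))
 (.node 432
 (.node 360
 (.node 324
 (.node 306
 (.node 297
 (.node 292
 (.node 290
 (.node 289
 (.leaf 35059900248154784485343266)
 (.leaf 16925736256151936647102497))
 (.node 291
 (.leaf 25388567475680818380210199)
 (.leaf 12090180550238681985843222)))
 (.node 294
 (.node 293
 (.leaf 19343772355503690073243652)
 (.leaf 8463366197906655632949265))
 (.node 295
 (.leaf 82207306236287446830219330)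
 (.node 296
 (.leaf 80998159059684617173532727)
 (.leaf 70117826684841804461244457)))))
 (.node 301
 (.node 299
 (.node 298
 (.leaf 74953474622786620759932980)
 (.leaf 48357327952475086868971563))
 (.node 300
 (.leaf 59237457414540459365105725)
 (.leaf 67700030385844788714930212)))
 (.node 303
 (.node 302
 (.leaf 18134403822756883001901091)
 (.leaf 33850328797564004799348767))
 (.node 304
 (.leaf 16925385769703317306736673)
 (.node 305
 (.leaf 27805773486185687378034709)
 (.leaf 12089830064915945372712982))))))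
 (.node 315
 (.node 310
 (.node 308
 (.node 307
 (.leaf 6045717469203011918102531)
 (.leaf 4836496506186781541728272))
 (.node 309
 (.leaf 79789712843875417519423556)
 (.leaf 80998693999218848584040503)))
 (.node 312
 (.node 311
 (.leaf 73745305100257424970154033)
 (.leaf 51984953941561847847125032))
 (.node 313
 (.leaf 58029509252940126614782002)
 (.node 314
 (.leaf 68909767842214118155288614)
 (.leaf 67700860469625050550960164)))))
 (.node 319
 (.node 317
 (.node 316
 (.leaf 35060084700677420833767458)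
 (.leaf 16926215853483579142832161))
 (.node 318
 (.leaf 25388678144041862412959767)
 (.leaf 12090512575306537421176854)))
 (.node 321
 (.node 320
 (.leaf 19343809244769721433063428)
 (.leaf 8463698224663360927825937))
 (.node 322
 (.leaf 82207435356177626289078338)
 (.node 323
 (.leaf 80998251281864550334398519)
 (.leaf 70117974243876297685532713)))))))
 (.node 342
 (.node 333
 (.node 328
 (.node 326
 (.node 325
 (.leaf 74953659075590732084805684)
 (.leaf 48358084249560481599520811))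
 (.node 327
 (.leaf 59238139924931034233569341)
 (.leaf 67700104159591806896898084)))
 (.node 330
 (.node 329
 (.leaf 18134422258804920485806115)
 (.leaf 33850992862054918004342815))
 (.node 331
 (.leaf 16925736243485562699710497)
 (.node 332
 (.leaf 27806437549832214306750485)
 (.leaf 12090180538416732968452118)))))
 (.node 337
 (.node 335
 (.node 334
 (.leaf 6045772803242813624877059)
 (.leaf 4836625622699282756730896))
 (.node 336
 (.leaf 82207269341673390915452994)
 (.leaf 80998159052366267782463543)))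
 (.node 339
 (.node 338
 (.leaf 77371326256667854555054134)
 (.leaf 71326697159157658635141165))
 (.node 340
 (.leaf 62864197978488833177288766)
 (.node 341
 (.leaf 44730550493349724369584170)
 (.leaf 49566050857341950991728698))))))
 (.node 351
 (.node 346
 (.node 344
 (.node 343
 (.leaf 67700030378807914301620260)
 (.leaf 18134274689074408215347235))
 (.node 345
 (.leaf 37477050915612716948193308)
 (.leaf 15716459945022138554974238)))
 (.node 348
 (.node 347
 (.leaf 26596589411872611422896138)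
 (.leaf 10880848900284033353383955))
 (.node 349
 (.leaf 3627847382948187703345157)
 (.node 350
 (.leaf 4836478054939095323115536)
 (.leaf 79789712846127217331732548)))))
 (.node 355
 (.node 353
 (.node 352
 (.leaf 80998694000063273512796215)
 (.leaf 73745305103072174734966833))
 (.node 354
 (.leaf 51984953947191347377471528)
 (.leaf 58029509261665850888421426)))
 (.node 357
 (.node 356
 (.leaf 68909767843902968013520934)
 (.leaf 67700860469906525527212068))
 (.node 358
 (.leaf 35060084705743970410954786)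
 (.node 359
 (.leaf 16926215854890954025271329)
 (.leaf 25388678151360211803570199))))))))
 (.node 396
 (.node 378
 (.node 369
 (.node 364
 (.node 362
 (.node 361
 (.leaf 12090512577839812209541142)
 (.leaf 19343809247021521245372420))
 (.node 363
 (.leaf 8463698225507785856581649)
 (.leaf 82207435361525650844549186)))
 (.node 366
 (.node 365
 (.leaf 80998251291997649492115511)
 (.leaf 70117974256542671632859177))
 (.node 367
 (.leaf 74953659087412681102131252)
 (.node 368
 (.leaf 48358084262226855546847275)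
 (.leaf 59238139935345608367341629)))))
 (.node 373
 (.node 371
 (.node 370
 (.leaf 67700104172258180844224548)
 (.leaf 18134422269219494619578403))
 (.node 372
 (.leaf 33850992874721291951669279)
 (.leaf 16925736256151936647036961)))
 (.node 375
 (.node 374
 (.leaf 27806437560246788440522773)
 (.leaf 12090180550238681985777686))
 (.node 376
 (.leaf 6045772807183463297318915)
 (.node 377
 (.leaf 4836625632550906937999376)
 (.leaf 82207269343362240774602818))))))
 (.node 387
 (.node 382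
 (.node 380
 (.node 379
 (.leaf 80998159059684617173336119)
 (.leaf 77371326261734404132634678))
 (.node 381
 (.leaf 71326697164224208212328493)
 (.leaf 62864197979896208059727934)))
 (.node 384
 (.node 383
 (.leaf 44730550493631199344918570)
 (.leaf 49566050857904900943642682))
 (.node 385
 (.leaf 67700030385844788714864676)
 (.node 386
 (.leaf 18134274695829807652012067)
 (.leaf 37477050916175666900107292)))))
 (.node 391
 (.node 389
 (.node 388
 (.leaf 15716459950088688132161566)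
 (.leaf 26596589412154086399148042))
 (.node 390
 (.leaf 10880848905069107954253843)
 (.leaf 3627847384355562585784325)))
 (.node 393
 (.node 392
 (.leaf 4836478060005644900696080)
 (.leaf 82207601375466927676063810))
 (.node 394
 (.leaf 80998693998655898630684727)
 (.node 395
 (.leaf 70118656768340591321088041)
 (.leaf 74954157132895755011686452)))))))
 (.node 414
 (.node 405
 (.node 400
 (.node 398
 (.node 397
 (.leaf 48358158035973873728815147)
 (.leaf 59238158371393645851246653))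
 (.node 399
 (.leaf 67700860469343575574773796)
 (.leaf 18135104779610069488042019)))
 (.node 402
 (.node 401
 (.leaf 33851158881062791659192351)
 (.leaf 16926215853202104166580257))
 (.node 403
 (.leaf 27806474443038895339012117)
 (.node 404
 (.leaf 12090512575025062444597270)
 (.leaf 6045809696449494657138691)))))
 (.node 409
 (.node 407
 (.node 406
 (.leaf 4836957659307612232876048)
 (.leaf 82207435355896151312498754))
 (.node 408
 (.leaf 80998195943884098954657847)
 (.leaf 77371492268638853793120310)))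
 (.node 411
 (.node 410
 (.leaf 71326881616746844560752685)
 (.leaf 62864677577227850555457598))
 (.node 412
 (.leaf 44731325237179205693145130)
 (.node 413
 (.leaf 49566733368014000835985466)
 (.leaf 67700085713129195279155236))))))
 (.node 423
 (.node 418
 (.node 416
 (.node 415
 (.leaf 18134422256553120672186403)
 (.leaf 37477788766516996511039516))
 (.node 417
 (.leaf 15716828870052070166036510)
 (.leaf 26597327262776890986201098)))
 (.node 420
 (.node 419
 (.leaf 10881217825313964964577299)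
 (.leaf 3627902717269468681273349))
 (.node 421
 (.leaf 4836625622417807780151312)
 (.node 422
 (.leaf 82207269339421591102226498)
 (.leaf 79789399256825945878102084)))))
 (.node 427
 (.node 425
 (.node 424
 (.leaf 77371326254697529718276150)
 (.leaf 65282049617155141573279808))
 (.node 426
 (.leaf 71326697158594708681850925)
 (.leaf 54401717241186428954804283)))
 (.node 429
 (.node 428
 (.leaf 41103791481249923439919133)
 (.leaf 45939273398779538444255289))
 (.node 430
 (.leaf 68908937751678456881872934)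
 (.node 431
 (.leaf 18134274688792933238702115)
 (.leaf 36267940628557393627643917)))))))))
 (.node 504
 (.node 468
 (.node 450
 (.node 441
 (.node 436
 (.node 434
 (.node 433
 (.leaf 14507497231919370551099418)
 (.leaf 22969830398646914881683465))
 (.node 435
 (.leaf 8463015707235911645003793)
 (.leaf 3627828936485576085602309)))
 (.node 438
 (.node 437
 (.leaf 4836478052687295509626896)
 (.leaf 82207601377437252511662146))
 (.node 439
 (.leaf 80998694000063273512730679)
 (.node 440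
 (.leaf 70118656770592391132479529)
 (.leaf 74954157135710504776499252)))))
 (.node 445
 (.node 443
 (.node 442
 (.leaf 48358158042729273165479979)
 (.leaf 59238158380119370124886077))
 (.node 444
 (.leaf 67700860469906525526687780)
 (.leaf 18135104779891544464293923)))
 (.node 447
 (.node 446
 (.leaf 33851158886692291189538847)
 (.leaf 16926215854890954024812577))
 (.node 448
 (.leaf 27806474451764619612651541)
 (.node 449
 (.leaf 12090512577839812209410070)
 (.leaf 6045809698701294469447683))))))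
 (.node 459
 (.node 454
 (.node 452
 (.node 451
 (.leaf 4836957660152037161631760)
 (.leaf 82207435361525650844418114))
 (.node 453
 (.leaf 80998195952609823228821559)
 (.leaf 77371492279897852857155638)))
 (.node 456
 (.node 455
 (.leaf 71326881629413218508079149)
 (.leaf 62864677587923899665940542))
 (.node 457
 (.leaf 44731325249845579640471594)
 (.node 458
 (.leaf 49566733380680374783311930)
 (.leaf 67700085725795569226481700)))))
 (.node 463
 (.node 461
 (.node 460
 (.leaf 18134422269219494619512867)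
 (.leaf 37477788779183370458365980))
 (.node 462
 (.leaf 15716828882718444113362974)
 (.leaf 26597327273191465119973386)))
 (.node 465
 (.node 464
 (.leaf 10881217837135913981902867)
 (.leaf 3627902722617493236744197))
 (.node 466
 (.leaf 4836625632550906937868304)
 (.node 467
 (.leaf 82207269343362240774144066)
 (.leaf 79789399257388895831064644)))))))
 (.node 486
 (.node 477
 (.node 472
 (.node 470
 (.node 469
 (.leaf 77371326261734404132438070)
 (.leaf 65282049618843991432429632))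
 (.node 471
 (.leaf 71326697164224208212197421)
 (.leaf 54401717242875278813036603)))
 (.node 474
 (.node 473
 (.leaf 41103791481531398415253533)
 (.leaf 45939273399061013419589689))
 (.node 475
 (.leaf 68908937758715331295117350)
 (.node 476
 (.leaf 18134274695829807651946531)
 (.leaf 36267940629120343579557901)))))
 (.node 481
 (.node 479
 (.node 478
 (.leaf 14507497236985920128286746)
 (.leaf 22969830400054289764122633))
 (.node 480
 (.leaf 8463015712302461222584337)
 (.leaf 3627828938174425944752133)))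
 (.node 483
 (.node 482
 (.leaf 4836478060005644900499472)
 (.leaf 82207601374903977722708034))
 (.node 484
 (.leaf 80998693998655898630160439)
 (.node 485
 (.leaf 77371953432174262914056246)
 (.leaf 71327527247722995072172077))))))
 (.node 495
 (.node 490
 (.node 488
 (.node 487
 (.leaf 62864880490005325131350078)
 (.leaf 44731380577129986204762154))
 (.node 489
 (.leaf 49566880941403687803486266)
 (.leaf 67700860469343575574708260)))
 (.node 492
 (.node 491
 (.leaf 18135104779328594511855651)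
 (.leaf 37477880999674453759950876))
 (.node 493
 (.leaf 15717290033587474992005150)
 (.node 494
 (.leaf 26597364155983572018462730)
 (.leaf 10881549861922294440722451)))))
 (.node 499
 (.node 497
 (.node 496
 (.leaf 3628013396326561824505861)
 (.leaf 4836957658744662279520272))
 (.node 498
 (.leaf 82207306230939422274420802)
 (.leaf 79789657502517292189417540)))
 (.node 501
 (.node 500
 (.leaf 77371436930376923141701686)
 (.leaf 65282510770275972263772224))
 (.node 502
 (.leaf 71326863170565707919720493)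
 (.node 503
 (.leaf 54402196839925446332579899)
 (.leaf 41104566225079409058447389))))))))
 (.node 540
 (.node 522
 (.node 513
 (.node 508
 (.node 506
 (.node 505
 (.leaf 45939974355632724929609785)
 (.leaf 68908993085999733564440614))
 (.node 507
 (.leaf 18134403810090509054443555)
 (.leaf 36268604692485395532152845)))
 (.node 510
 (.node 509
 (.leaf 14507847710205232747577370)
 (.leaf 22970494464826677945303049))
 (.node 511
 (.leaf 8463366186647656568520721)
 (.node 512
 (.leaf 3627902716987993704693765)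
 (.leaf 4836496497461057267236880)))))
 (.node 517
 (.node 515
 (.node 514
 (.leaf 79789399254855621041651780)
 (.leaf 66491012330257909576826947))
 (.node 516
 (.leaf 74953474615468271368994868)
 (.leaf 65282049616310716643606592)))
 (.node 519
 (.node 518
 (.leaf 70117826678086405024186409)
 (.leaf 54401717240623479001514043))
 (.node 520
 (.leaf 39894681194194600119369742)
 (.node 521
 (.leaf 43521384866062141265674296)
 (.leaf 50775234924899713407123493))))))
 (.node 531
 (.node 526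
 (.node 524
 (.node 523
 (.leaf 16925385762666442893164577)
 (.leaf 31432255795717063616692236))
 (.node 525
 (.leaf 14507497231356420597809178)
 (.leaf 20551997205598793173303303)))
 (.node 528
 (.node 527
 (.leaf 8463015705265586808225809)
 (.leaf 3627828934233776272375813))
 (.node 529
 (.leaf 6045662130096652042043395)
 (.node 530
 (.leaf 82207601377437252511596610)
 (.leaf 80998693999218848583122999)))))
 (.node 535
 (.node 533
 (.node 532
 (.leaf 77371953434707537702420534)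
 (.leaf 71327527249974794883563565))
 (.node 534
 (.leaf 62864880497323674521960510)
 (.leaf 44731380584166860618006570)))
 (.node 537
 (.node 536
 (.leaf 49566880948159087240151098)
 (.leaf 67700860469625050550042660))
 (.node 538
 (.leaf 18135104779891544463769635)
 (.node 539
 (.leaf 37477881006429853196615708)
 (.leaf 15717290035839274803396638)))))))
 (.node 558
 (.node 549
 (.node 544
 (.node 542
 (.node 541
 (.leaf 26597364164709296292102154)
 (.leaf 10881549864737044205535251))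
 (.node 543
 (.leaf 3628013398296886660104197)
 (.leaf 4836957660152037161566224)))
 (.node 546
 (.node 545
 (.leaf 82207306236287446829629506)
 (.leaf 79789657507865316744626244))
 (.node 547
 (.leaf 77371436940510022298894390)
 (.node 548
 (.leaf 65282510780409071420964928)
 (.leaf 71326863183232081867046957)))))
 (.node 553
 (.node 551
 (.node 550
 (.leaf 54402196852591820279906363)
 (.leaf 41104566237745783005773853))
 (.node 552
 (.leaf 45939974368299098876936249)
 (.leaf 68908993098666107511767078)))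
 (.node 555
 (.node 554
 (.leaf 18134403822756883001770019)
 (.leaf 36268604705151769479479309))
 (.node 556
 (.leaf 14507847722871606694903834)
 (.node 557
 (.leaf 22970494475522727055785993)
 (.leaf 8463366197906655632556049))))))
 (.node 567
 (.node 562
 (.node 560
 (.node 559
 (.leaf 3627902722617493236613125)
 (.leaf 4836496506186781541400592))
 (.node 561
 (.leaf 79789399257388895830540356)
 (.leaf 66491012330820859529789507)))
 (.node 564
 (.node 563
 (.leaf 74953474622786620759605300)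
 (.leaf 65282049618843991431970880))
 (.node 565
 (.leaf 70117826684841804460851241)
 (.node 566
 (.leaf 54401717242875278812905531)
 (.leaf 39894681194476075094704142)))))
 (.node 571
 (.node 569
 (.node 568
 (.leaf 43521384866343616241008696)
 (.leaf 50775234931936587820367909))
 (.node 570
 (.leaf 16925385769703317306408993)
 (.leaf 31432255797405913474924556)))
 (.node 573
 (.node 572
 (.leaf 14507497236985920128155674)
 (.leaf 20551997207287643032453127))
 (.node 574
 (.leaf 8463015712302461222387729)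
 (.node 575
 (.leaf 3627828938174425944293381)
 (.leaf 6045662130659601995005955)))))))))))
 (.node 864
 (.node 720
 (.node 648
 (.node 612
 (.node 594
 (.node 585
 (.node 580
 (.node 578
 (.node 577
 (.leaf 82207601374903977722183746)
 (.leaf 79789712842186567659487300))
 (.node 579
 (.leaf 77371953432174262913597494)
 (.leaf 65282676789283833033719872)))
 (.node 582
 (.node 581
 (.leaf 71327527247722995072041005)
 (.leaf 54402547326374065672880187))
 (.node 583
 (.leaf 41104621565030185275097117)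
 (.node 584
 (.leaf 45940103482559800279433273)
 (.leaf 68909767842214118154960934)))))
 (.node 589
 (.node 587
 (.node 586
 (.leaf 18135104779328594511790115)
 (.leaf 36268770712619130439401485))
 (.node 588
 (.leaf 14508327320484706988130330)
 (.leaf 22970605143883771088535561)))
 (.node 591
 (.node 590
 (.leaf 8463698222974511067889681)
 (.leaf 3628013395763611871150085))
 (.node 592
 (.leaf 4836957658744662278995984)
 (.node 593
 (.leaf 79789509930535014465077316)
 (.leaf 66491491930122809681969219))))))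
 (.node 603
 (.node 598
 (.node 596
 (.node 595
 (.leaf 74953585291147664792354868)
 (.leaf 65282381643911846867304512))
 (.node 597
 (.leaf 70117918905332887762436137)
 (.leaf 54402178393744309691547707)))
 (.node 600
 (.node 599
 (.leaf 39895382151047808079560718)
 (.leaf 43522067376171258336444472))
 (.node 601
 (.leaf 50775364046197267748028453)
 (.node 602
 (.leaf 16925533330708088123490337)
 (.leaf 31432827628176479606997004)))))
 (.node 607
 (.node 605
 (.node 604
 (.leaf 14507792370535957277376538)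
 (.leaf 20552642826160369549246471))
 (.node 606
 (.leaf 8463218614665361664311313)
 (.leaf 3627847379007538029985797)))
 (.node 609
 (.node 608
 (.leaf 6045772801835438741716995)
 (.leaf 79789399254855621041586244))
 (.node 610
 (.leaf 66491012329413484647219267)
 (.node 611
 (.leaf 73744604134678492734619697)
 (.leaf 62864197977081458294325310)))))))
 (.node 630
 (.node 621
 (.node 616
 (.node 614
 (.node 613
 (.leaf 51984123851307661549436968)
 (.leaf 49566050855653101131857978))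
 (.node 615
 (.leaf 42312477493191633045159951)
 (.leaf 43521384865780666289029176)))
 (.node 618
 (.node 617
 (.leaf 35059254610141759559565346)
 (.leaf 15716459943333288695103518))
 (.node 619
 (.leaf 31432255795154113663401996)
 (.node 620
 (.leaf 10880848897750758563315731)
 (.leaf 20551997204754368243630087)))))
 (.node 625
 (.node 623
 (.node 622
 (.leaf 19343089832728246297755652)
 (.leaf 6045662128126327205593091))
 (.node 624
 (.leaf 82207601375466927675146306)
 (.leaf 79789712846127217331404868)))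
 (.node 627
 (.node 626
 (.leaf 77371953433863112772747318)
 (.leaf 65282676796320707447881792))
 (.node 628
 (.leaf 71327527249411844930273325)
 (.node 629
 (.leaf 54402547332003565203226683)
 (.leaf 41104621572067059688341533))))))
 (.node 639
 (.node 634
 (.node 632
 (.node 631
 (.leaf 45940103489596674692677689)
 (.leaf 68909767842495593130295334))
 (.node 633
 (.leaf 18135104779610069487124515)
 (.leaf 36268770719374529876066317)))
 (.node 636
 (.node 635
 (.leaf 14508327322736506799521818)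
 (.leaf 22970605151202120479145993))
 (.node 637
 (.leaf 8463698225507785856253969)
 (.node 638
 (.leaf 3628013398296886660038661)
 (.leaf 4836957659307612231958544)))))
 (.node 643
 (.node 641
 (.node 640
 (.leaf 79789509936164513996996676)
 (.leaf 66491491938848533956132931))
 (.node 642
 (.leaf 74953585301843713902837812)
 (.leaf 65282381655170845931339840)))
 (.node 645
 (.node 644
 (.leaf 70117918917999261709762601)
 (.leaf 54402178406410683638874171))
 (.node 646
 (.leaf 39895382163714182026887182)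
 (.node 647
 (.leaf 43522067388837632283770936)
 (.leaf 50775364058863641695354917))))))))
 (.node 684
 (.node 666
 (.node 657
 (.node 652
 (.node 650
 (.node 649
 (.leaf 16925533343374462070816801)
 (.leaf 31432827640842853554323468))
 (.node 651
 (.leaf 14507792383202331224703002)
 (.leaf 20552642836293468706439175)))
 (.node 654
 (.node 653
 (.leaf 8463218624798460821504017)
 (.leaf 3627847384355562585194501))
 (.node 655
 (.leaf 6045772807183463296925699)
 (.node 656
 (.leaf 79789399256825945877184580)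
 (.leaf 66491012330820859529265219)))))
 (.node 661
 (.node 659
 (.node 658
 (.leaf 73744604143404217008259121)
 (.leaf 62864197979896208059138110))
 (.node 660
 (.leaf 51984123858063060986101800)
 (.leaf 49566050857904900943249466)))
 (.node 663
 (.node 662
 (.leaf 42312477493473108020494351)
 (.leaf 43521384866343616240943160))
 (.node 664
 (.leaf 35059254617178633972809762)
 (.node 665
 (.leaf 15716459950088688131768350)
 (.leaf 31432255797405913474793484))))))
 (.node 675
 (.node 670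
 (.node 668
 (.node 667
 (.leaf 10880848905069107953926163)
 (.leaf 20551997207287643031994375))
 (.node 669
 (.leaf 19343089833291196250718212)
 (.leaf 6045662130659601994481667)))
 (.node 672
 (.node 671
 (.leaf 79789712842186567659028548)
 (.leaf 66491547269792085152038979))
 (.node 673
 (.leaf 74954157132895755011096628)
 (.node 674
 (.leaf 65282676789283833033523264)
 (.leaf 70118656768340591320694825)))))
 (.node 679
 (.node 677
 (.node 676
 (.leaf 54402547326374065672749115)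
 (.leaf 39895511277974861954547726))
 (.node 678
 (.leaf 43522214949842403100852280)
 (.leaf 50776065015435374680211493)))
 (.node 681
 (.node 680
 (.leaf 16926215853202104166252577)
 (.leaf 31433085880904700334768140))
 (.node 682
 (.leaf 14508327320484706987999258)
 (.node 683
 (.leaf 20552753504935987715702791)
 (.leaf 8463698222974511067430929)))))))
 (.node 702
 (.node 693
 (.node 688
 (.node 686
 (.node 685
 (.leaf 3628013395763611870625797)
 (.leaf 6045809694760644797202435))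
 (.node 687
 (.leaf 79789509930535014464946244)
 (.leaf 66491344357014614870917187)))
 (.node 690
 (.node 689
 (.leaf 73744641026196323906748465)
 (.leaf 62864530004682588517957694))
 (.node 691
 (.leaf 51984289865530421946023976)
 (.node 692
 (.leaf 49566530455518001236475962)
 (.leaf 42313160003300767295799311)))))
 (.node 697
 (.node 695
 (.node 694
 (.leaf 43522012036220507889532984)
 (.leaf 35059402178183387610021922))
 (.node 696
 (.leaf 15716662851044209395695646)
 (.leaf 31432772288507204136796172)))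
 (.node 699
 (.node 698
 (.leaf 10881014913662394590167059)
 (.leaf 20552495253052191918063623))
 (.node 700
 (.leaf 19343772346777965797900292)
 (.node 701
 (.leaf 6045717463573512385265667)
 (.leaf 82207269339421591101898818))))))
 (.node 711
 (.node 706
 (.node 704
 (.node 703
 (.leaf 66491012329413484647153731)
 (.leaf 60446604586358265958694960))
 (.node 705
 (.leaf 59237457411725709599375421)
 (.leaf 48357327946845587337445419)))
 (.node 708
 (.node 707
 (.leaf 45939273397372163561029689)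
 (.leaf 42312477492910158068514831))
 (.node 709
 (.leaf 43521384865780666288504888)
 (.node 710
 (.leaf 33850328790808605361504287)
 (.leaf 12089830056190221098483734)))))
 (.node 715
 (.node 713
 (.node 712
 (.leaf 22969830397239539998720009)
 (.leaf 36267940626868543767773197))
 (.node 714
 (.leaf 19343089831883821368147972)
 (.leaf 6045662128126327205527555)))
 (.node 717
 (.node 716
 (.leaf 79789712843875417518178372)
 (.leaf 66491547277110434542911555))
 (.node 718
 (.leaf 74954157134303129893535796)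
 (.node 719
 (.leaf 65282676794350382611103808)
 (.leaf 70118656768903541272608809)))))))))
 (.node 792
 (.node 756
 (.node 738
 (.node 729
 (.node 724
 (.node 722
 (.node 721
 (.leaf 54402547331440615249936443)
 (.leaf 39895511285011736367792142))
 (.node 723
 (.leaf 43522214956879277514096696)
 (.leaf 50776065015716849655545893)))
 (.node 726
 (.node 725
 (.leaf 16926215853483579141586977)
 (.leaf 31433085886534199865114636))
 (.node 727
 (.leaf 14508327322173556846231578)
 (.node 728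
 (.leaf 20552753511972862129864711)
 (.leaf 8463698224663360926580753)))))
 (.node 733
 (.node 731
 (.node 730
 (.leaf 3628013396326561823588357)
 (.leaf 6045809698701294469120003))
 (.node 732
 (.leaf 79789509935883039020417092)
 (.leaf 66491344367147714028634179)))
 (.node 735
 (.node 734
 (.leaf 73744641036610898040520753)
 (.leaf 62864530016504537535283262))
 (.node 736
 (.leaf 51984289878196795893350440)
 (.node 737
 (.leaf 49566530468184375183802426)
 (.leaf 42313160015967141243125775))))))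
 (.node 747
 (.node 742
 (.node 740
 (.node 739
 (.leaf 43522012048886881836859448)
 (.leaf 35059402190849761557348386))
 (.node 741
 (.leaf 15716662863710583343022110)
 (.leaf 31432772301173578084122636)))
 (.node 744
 (.node 743
 (.leaf 10881014924358443700650003)
 (.leaf 20552495264311190982098951))
 (.node 745
 (.leaf 19343772355503690072064004)
 (.node 746
 (.leaf 6045717469203011917185027)
 (.leaf 82207269341673390914207810)))))
 (.node 751
 (.node 749
 (.node 748
 (.leaf 66491012330257909575909443)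
 (.leaf 60446604595083990232334384))
 (.node 750
 (.leaf 59237457414540459364188221)
 (.leaf 48357327952475086867791915)))
 (.node 753
 (.node 752
 (.leaf 45939273399061013419262009)
 (.leaf 42312477493473108020428815))
 (.node 754
 (.leaf 43521384866062141264756792)
 (.node 755
 (.leaf 33850328797564004798169119)
 (.leaf 12089830064915945372123158)))))))
 (.node 774
 (.node 765
 (.node 760
 (.node 758
 (.node 757
 (.leaf 22969830400054289763532809)
 (.leaf 36267940629120343579164685))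
 (.node 759
 (.leaf 19343089833291196250193924)
 (.leaf 6045662130096652041125891)))
 (.node 762
 (.node 761
 (.leaf 79789657502517292188827716)
 (.leaf 66491547269792085151842371))
 (.node 763
 (.leaf 73745305100257424969236529)
 (.node 764
 (.leaf 62864880490005325131022398)
 (.leaf 51984953941561847845945384)))))
 (.node 769
 (.node 767
 (.node 766
 (.leaf 49566880941403687803093050)
 (.leaf 42313307576971894880337935))
 (.node 768
 (.leaf 43522214949842403100786744)
 (.leaf 35060084700677420832653346)))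
 (.node 771
 (.node 770
 (.leaf 15717290033587474991611934)
 (.leaf 31433085880904700334637068))
 (.node 772
 (.leaf 10881549861922294440132627)
 (.node 773
 (.leaf 20552753504935987715506183)
 (.leaf 19343809239703171853385732))))))
 (.node 783
 (.node 778
 (.node 776
 (.node 775
 (.leaf 6045809694760644796743683)
 (.leaf 82207306230939422274027586))
 (.node 777
 (.leaf 66491344357014614870786115)
 (.leaf 60446641477876097130823728)))
 (.node 780
 (.node 779
 (.leaf 59237789439326839823007805)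
 (.leaf 48357586192536933648236587))
 (.node 781
 (.leaf 45939808336343389182558265)
 (.node 782
 (.leaf 42313104663350016848887823)
 (.leaf 43522012036220507889467448)))))
 (.node 787
 (.node 785
 (.node 784
 (.leaf 33850531698519508882227231)
 (.leaf 12089885394452121685196822))
 (.node 786
 (.leaf 22970291552049224843919369)
 (.leaf 36268438673477569121550349)))
 (.node 789
 (.node 788
 (.leaf 19343643220413861876269060)
 (.leaf 6045717463573512385134595))
 (.node 790
 (.leaf 80998159052366267781349431)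
 (.node 791
 (.leaf 65282049616310716643278912)
 (.leaf 58028734501792295898120242))))))))
 (.node 828
 (.node 810
 (.node 801
 (.node 796
 (.node 794
 (.node 793
 (.leaf 59237457411725709599244349)
 (.leaf 44730550488564649766617130))
 (.node 795
 (.leaf 45939273397372163560570937)
 (.leaf 42312477492910158067990543)))
 (.node 798
 (.node 797
 (.leaf 39894681192787225236144142)
 (.leaf 25387995625207003886190615))
 (.node 799
 (.leaf 37477050910546167368581148)
 (.node 800
 (.leaf 26596589409339336633417738)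
 (.leaf 19343089831883821368082436)))))
 (.node 805
 (.node 803
 (.node 802
 (.leaf 3627828934233776272048133)
 (.leaf 79789657503924667071266884))
 (.node 804
 (.leaf 66491547274858634729422915)
 (.leaf 73745305100538899945488433)))
 (.node 807
 (.node 806
 (.leaf 62864880494790399731892286)
 (.leaf 51984953942124797797859368))
 (.node 808
 (.leaf 49566880946470237380280378)
 (.node 809
 (.leaf 42313307584008769293582351)
 (.leaf 43522214956597802537451576))))))
 (.node 819
 (.node 814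
 (.node 812
 (.node 811
 (.leaf 35060084700958895807987746)
 (.leaf 15717290034150424943525918))
 (.node 813
 (.leaf 31433085885971249911824396)
 (.leaf 10881549863329669322571795)))
 (.node 816
 (.node 815
 (.leaf 20552753510002537293086727)
 (.leaf 19343809247021521244258308))
 (.node 817
 (.leaf 6045809696449494655893507)
 (.node 818
 (.leaf 82207306234880071946469442)
 (.leaf 66491344366866239052054595)))))
 (.node 823
 (.node 821
 (.node 820
 (.leaf 60446641488290671264596016)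
 (.leaf 59237789451148788840333373))
 (.node 822
 (.leaf 48357586205203307595563051)
 (.leaf 45939808349009763129884729)))
 (.node 825
 (.node 824
 (.leaf 42313104676016390796214287)
 (.leaf 43522012046635082023239736))
 (.node 826
 (.leaf 33850531711185882829553695)
 (.node 827
 (.leaf 12089885404866695818969110)
 (.leaf 22970291563871173861244937)))))))
 (.node 846
 (.node 837
 (.node 832
 (.node 830
 (.node 829
 (.leaf 36268438686143943068876813)
 (.leaf 19343643230546961033986052))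
 (.node 831
 (.leaf 6045717468921536940605443)
 (.leaf 80998159054618067593658423)))
 (.node 834
 (.node 833
 (.leaf 65282049617155141572034624)
 (.leaf 58028734509110645288730674))
 (.node 835
 (.leaf 59237457414258984387608637)
 (.node 836
 (.leaf 44730550493631199343804458)
 (.leaf 45939273398779538443010105)))))
 (.node 841
 (.node 839
 (.node 838
 (.leaf 42312477493191633044242447)
 (.leaf 39894681194476075094376462))
 (.node 840
 (.leaf 25387995633932728159830039)
 (.leaf 37477050916175666898927644)))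
 (.node 843
 (.node 842
 (.leaf 26596589412154086398230538)
 (.leaf 19343089832728246296838148))
 (.node 844
 (.leaf 3627828936485576084357125)
 (.node 845
 (.leaf 82207435355896151311581250)
 (.leaf 66491491930122809681641539))))))
 (.node 855
 (.node 850
 (.node 848
 (.node 847
 (.leaf 60447379338913475851649072)
 (.leaf 59238158371393645850656829))
 (.node 849
 (.leaf 48358158035973873727635499)
 (.leaf 45940103482559800279105593)))
 (.node 852
 (.node 851
 (.leaf 42313307576971894880272399)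
 (.leaf 43522067376171258336313400))
 (.node 853
 (.leaf 33851158881062791658012703)
 (.node 854
 (.leaf 12090512575025062443679766)
 (.leaf 22970605143883771088207881)))))
 (.node 859
 (.node 857
 (.node 856
 (.leaf 36268770712619130439008269)
 (.leaf 19343809239703171853189124))
 (.node 858
 (.leaf 6045772801835438741127171)
 (.leaf 80998195943884098953478199)))
 (.node 861
 (.node 860
 (.leaf 65282381643911846866911296)
 (.leaf 58028845177471689321480242))
 (.node 862
 (.leaf 59237789439326839822942269)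
 (.node 863
 (.leaf 44730864073362321594318890)
 (.leaf 45939808336343389182492729))))))))))
 (.node 1008
 (.node 936
 (.node 900
 (.node 882
 (.node 873
 (.node 868
 (.node 866
 (.node 865
 (.leaf 42313104663350016848822287)
 (.leaf 39895216131758506692247566))
 (.node 867
 (.leaf 25388050963468904472903703)
 (.leaf 37477346049725648213573660)))
 (.node 870
 (.node 869
 (.leaf 26597032117404960653967370)
 (.leaf 19343643220413861876137988))
 (.node 871
 (.leaf 3627847379007538029592581)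
 (.node 872
 (.leaf 77371326254697529717162038)
 (.leaf 62864197977081458293932094)))))
 (.node 877
 (.node 875
 (.node 874
 (.leaf 58028734501792295897989170)
 (.leaf 49566050855653101131268154))
 (.node 876
 (.leaf 44730550488564649766420522)
 (.leaf 41103791476464848836952093)))
 (.node 879
 (.node 878
 (.leaf 39894681192787225235685390)
 (.leaf 27805773478867337985720341))
 (.node 880
 (.leaf 26596589409339336633286666)
 (.node 881
 (.leaf 20551997204754368243302407)
 (.leaf 4836478052687295508512784))))))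
 (.node 891
 (.node 886
 (.node 884
 (.node 883
 (.leaf 82207435356177626287833154)
 (.leaf 66491491934907884282511427))
 (.node 885
 (.leaf 60447379339194950827900976)
 (.leaf 59238158376178720451526717)))
 (.node 888
 (.node 887
 (.leaf 48358158037662723585867819)
 (.leaf 45940103488189299809452089))
 (.node 889
 (.leaf 42313307583727294316937231)
 (.node 890
 (.leaf 43522067384896982609952824)
 (.leaf 33851158881625741609926687)))))
 (.node 895
 (.node 893
 (.node 892
 (.leaf 12090512575306537419931670)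
 (.leaf 22970605148668845689077769))
 (.node 894
 (.leaf 36268770717685680016195597)
 (.leaf 19343809244769721430769668)))
 (.node 897
 (.node 896
 (.leaf 6045772803242813623566339)
 (.leaf 80998195947824748625920055))
 (.node 898
 (.leaf 65282381653763471048179776)
 (.node 899
 (.leaf 58028845188167738431963186)
 (.leaf 59237789450585838886977597)))))))
 (.node 918
 (.node 909
 (.node 904
 (.node 902
 (.node 901
 (.leaf 44730864086028695541645354)
 (.leaf 45939808347039438292975673))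
 (.node 903
 (.leaf 42313104673764590982594575)
 (.leaf 39895216144424880639574030)))
 (.node 906
 (.node 905
 (.leaf 25388050973883478606675991)
 (.leaf 37477346062392022160900124))
 (.node 907
 (.leaf 26597032129226909671292938)
 (.node 908
 (.leaf 19343643230265486057406468)
 (.leaf 3627847382948187702034437)))))
 (.node 913
 (.node 911
 (.node 910
 (.leaf 77371326256667854552760374)
 (.leaf 62864197978488833175978046))
 (.node 912
 (.leaf 58028734508829170312151090)
 (.leaf 49566050857341950990417978)))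
 (.node 915
 (.node 914
 (.leaf 44730550493349724367290410)
 (.leaf 41103791481531398414139421))
 (.node 916
 (.leaf 39894681194194600118124558)
 (.node 917
 (.leaf 27805773486185687376330773)
 (.leaf 26596589411872611421650954))))))
 (.node 927
 (.node 922
 (.node 920
 (.node 919
 (.leaf 20551997205598793172058119)
 (.leaf 4836478054939095320821776))
 (.node 921
 (.leaf 80998251281864550332694583)
 (.leaf 65282510770275972263182400)))
 (.node 924
 (.node 923
 (.leaf 58029509252940126613143602)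
 (.leaf 59238139924931034232913981))
 (.node 925
 (.leaf 44731380577129986203648042)
 (.node 926
 (.leaf 45939974355632724929216569)
 (.leaf 42313160003300767295668239)))))
 (.node 931
 (.node 929
 (.node 928
 (.leaf 39895511277974861954220046)
 (.leaf 25388678144041862411255831))
 (.node 930
 (.leaf 37477880999674453758771228)
 (.leaf 26597364155983572017872906)))
 (.node 933
 (.node 932
 (.leaf 19343772346777965797572612)
 (.leaf 3627902716987993703776261))
 (.node 934
 (.leaf 77371436930376923140522038)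
 (.node 935
 (.leaf 62864530004682588517630014)
 (.leaf 58028845177471689321414706))))))))
 (.node 972
 (.node 954
 (.node 945
 (.node 940
 (.node 938
 (.node 937
 (.leaf 49566530455518001236344890)
 (.leaf 44730864073362321594253354))
 (.node 939
 (.leaf 41104123508006585784270877)
 (.leaf 39895216131758506692182030)))
 (.node 942
 (.node 941
 (.leaf 27805939494778939652833301)
 (.leaf 26597032117404960653901834))
 (.node 943
 (.leaf 20552495253052191917670407)
 (.node 944
 (.leaf 4836496497461057266057232)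
 (.leaf 74953474615468271367815220)))))
 (.node 949
 (.node 947
 (.node 946
 (.leaf 54401717240623479000596539)
 (.leaf 48357327946845587337117739))
 (.node 948
 (.leaf 60446604586358265958301744)
 (.leaf 41103791476464848836755485)))
 (.node 951
 (.node 950
 (.leaf 36267940626868543767183373)
 (.leaf 27805773478867337985589269))
 (.node 952
 (.leaf 22969830397239539998326793)
 (.node 953
 (.leaf 8463015705265586807111697)
 (.leaf 80998251282146025308946487))))))
 (.node 963
 (.node 958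
 (.node 956
 (.node 955
 (.leaf 65282510775061046864052288)
 (.leaf 58029509254347501495582770))
 (.node 957
 (.leaf 59238139929997583810494525)
 (.leaf 44731380579381786015039530)))
 (.node 960
 (.node 959
 (.leaf 45939974362951074319827001)
 (.leaf 42313160012026491569307663))
 (.node 961
 (.leaf 39895511283604361484566542)
 (.node 962
 (.leaf 25388678144323337387507735)
 (.leaf 37477881001363303617003548)))))
 (.node 967
 (.node 965
 (.node 964
 (.leaf 26597364160768646618742794)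
 (.leaf 19343772351563040398442500))
 (.node 966
 (.leaf 3627902717269468680028165)
 (.leaf 77371436935724947695992886)))
 (.node 969
 (.node 968
 (.leaf 62864530014815687675347006)
 (.leaf 58028845187604788478607410))
 (.node 970
 (.leaf 49566530465651100393537594)
 (.node 971
 (.leaf 44730864085184270611578922)
 (.leaf 41104123520672959731597341)))))))
 (.node 990
 (.node 981
 (.node 976
 (.node 974
 (.node 973
 (.leaf 39895216142454555802664974)
 (.leaf 27805939505474988763316245))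
 (.node 975
 (.leaf 26597032128663959717937162)
 (.leaf 20552495262903816098938887)))
 (.node 978
 (.node 977
 (.leaf 4836496501401706938499088)
 (.leaf 74953474618001546156703796))
 (.node 979
 (.leaf 54401717241186428953559099)
 (.node 980
 (.leaf 48357327951912136914698283)
 (.leaf 60446604593676615349174320)))))
 (.node 985
 (.node 983
 (.node 982
 (.leaf 41103791481249923437625373)
 (.leaf 36267940628557393626333197))
 (.node 984
 (.leaf 27805773485904212399751189)
 (.leaf 22969830398646914880372745)))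
 (.node 987
 (.node 986
 (.leaf 8463015707235911642710033)
 (.leaf 77371492268638853791481910))
 (.node 988
 (.leaf 62864677577227850554802238)
 (.node 989
 (.leaf 58029490806477514995400754)
 (.leaf 49566733368014000835461178))))))
 (.node 999
 (.node 994
 (.node 992
 (.node 991
 (.leaf 44731325237179205691965482)
 (.leaf 41104621565030185273983005))
 (.node 993
 (.leaf 39895382151047808079167502)
 (.leaf 27806474443038895337373717)))
 (.node 996
 (.node 995
 (.leaf 26597327262776890985545738)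
 (.leaf 20552642826160369548656647))
 (.node 997
 (.leaf 4836625622417807778447376)
 (.node 998
 (.leaf 74953585291147664791240756)
 (.leaf 54402178393744309691154491)))))
 (.node 1003
 (.node 1001
 (.node 1000
 (.leaf 48357586192536933648105515)
 (.leaf 60446641477876097130496048))
 (.node 1002
 (.leaf 41104123508006585784205341)
 (.leaf 36268438673477569121419277)))
 (.node 1005
 (.node 1004
 (.leaf 27805939494778939652767765)
 (.leaf 22970291552049224843591689))
 (.node 1006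
 (.leaf 8463218614665361663131665)
 (.node 1007
 (.leaf 71326697158594708680146989)
 (.leaf 73744604134678492733440049)))))))))
 (.node 1080
 (.node 1044
 (.node 1026
 (.node 1017
 (.node 1012
 (.node 1010
 (.node 1009
 (.leaf 51984123851307661548847144)
 (.leaf 37477050910546167368253468))
 (.node 1011
 (.leaf 31432255795154113662484492)
 (.leaf 25387995625207003885797399)))
 (.node 1014
 (.node 1013
 (.leaf 10880848897750758562136083)
 (.leaf 77371492270046228673921078))
 (.node 1015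
 (.leaf 62864677582294400132382782)
 (.node 1016
 (.leaf 58029490808166364854550578)
 (.leaf 49566733375050875249623098)))))
 (.node 1021
 (.node 1019
 (.node 1018
 (.leaf 44731325239993955456778282)
 (.leaf 41104621567281985085374493))
 (.node 1020
 (.leaf 39895382158366157469777934)
 (.leaf 27806474444446270219812885)))
 (.node 1023
 (.node 1022
 (.leaf 26597327267843440563126282)
 (.leaf 20552642830945444149526535))
 (.node 1024
 (.leaf 4836625622699282754699280)
 (.node 1025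
 (.leaf 74953585296777164323160116)
 (.leaf 54402178402470033965318203))))))
 (.node 1035
 (.node 1030
 (.node 1028
 (.node 1027
 (.leaf 48357586203795932712140843)
 (.leaf 60446641486601821404659760))
 (.node 1029
 (.leaf 41104123519828534801530909)
 (.leaf 36268438683610668278611981)))
 (.node 1032
 (.node 1031
 (.leaf 27805939504912038809960469)
 (.leaf 22970291562182324001308681))
 (.node 1033
 (.leaf 8463218620013386218602513)
 (.node 1034
 (.leaf 71326697159157658633109549)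
 (.leaf 73744604138619142405357617)))))
 (.node 1039
 (.node 1037
 (.node 1036
 (.leaf 51984123856374211126427688)
 (.leaf 37477050915612716945834012))
 (.node 1038
 (.leaf 31432255795717063615447052)
 (.leaf 25387995632525353276669975)))
 (.node 1041
 (.node 1040
 (.leaf 10880848900284033351024659)
 (.leaf 74953659075590732083101748))
 (.node 1042
 (.leaf 54402196839925446332055611)
 (.node 1043
 (.leaf 48358084249560481598210091)
 (.leaf 60447324000088590951841840)))))))
 (.node 1062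
 (.node 1053
 (.node 1048
 (.node 1046
 (.node 1045
 (.leaf 41104566225079409057267741)
 (.leaf 36268604692485395531628557))
 (.node 1047
 (.leaf 27806437549832214305046549)
 (.leaf 22970494464826677944647689)))
 (.node 1050
 (.node 1049
 (.leaf 8463366186647656566882321)
 (.leaf 71326863170565707918540845))
 (.node 1051
 (.leaf 73744641026196323905634353)
 (.node 1052
 (.leaf 51984289865530421945630760)
 (.leaf 37477346049725648213442588)))))
 (.node 1057
 (.node 1055
 (.node 1054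
 (.leaf 31432772288507204136402956)
 (.leaf 25388050963468904472576023))
 (.node 1056
 (.leaf 10881014913662394589052947)
 (.leaf 70117826678086405022548009)))
 (.node 1059
 (.node 1058
 (.leaf 50775234924899713406468133)
 (.leaf 33850328790808605360914463))
 (.node 1060
 (.leaf 14507497231356420596105242)
 (.node 1061
 (.leaf 12089830056190221097304086)
 (.leaf 74953659077279581942251572))))))
 (.node 1071
 (.node 1066
 (.node 1064
 (.node 1063
 (.leaf 54402196847243795722928187)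
 (.leaf 48358084252093756386574379))
 (.node 1065
 (.leaf 60447324000651540904804400)
 (.leaf 41104566227894158822080541)))
 (.node 1068
 (.node 1067
 (.leaf 36268604699522269945790477)
 (.leaf 27806437551521064164196373))
 (.node 1069
 (.leaf 22970494469893227522228233)
 (.node 1070
 (.leaf 8463366188055031449321489)
 (.leaf 71326863175913732473749549)))))
 (.node 1075
 (.node 1073
 (.node 1072
 (.leaf 73744641031544348460843057)
 (.leaf 51984289875663521103347752))
 (.node 1074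
 (.leaf 37477346060984647277477916)
 (.leaf 31432772297232928410566668)))
 (.node 1077
 (.node 1076
 (.leaf 25388050972194628746739735)
 (.leaf 10881014919291894120972307))
 (.node 1078
 (.leaf 70117826679775254881697833)
 (.node 1079
 (.leaf 50775234929684788007338021)
 (.leaf 33850328795875154938495007))))))))
 (.node 1116
 (.node 1098
 (.node 1089
 (.node 1084
 (.node 1082
 (.node 1081
 (.leaf 14507497231919370549067802)
 (.leaf 12089830060130870769221654))
 (.node 1083
 (.leaf 71326881616746844559441965)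
 (.leaf 73744751702720185207554097)))
 (.node 1086
 (.node 1085
 (.leaf 51984843262786186729422888)
 (.leaf 37477788766516996509728796))
 (.node 1087
 (.leaf 31432827628176479606472716)
 (.node 1088
 (.leaf 25388567464984769267695639)
 (.leaf 10881217825313964962873363)))))
 (.node 1093
 (.node 1091
 (.node 1090
 (.leaf 70117918905332887761256489)
 (.leaf 50775364046197267747504165))
 (.node 1092
 (.leaf 33850531698519508881834015)
 (.leaf 14507792370535957276196890)))
 (.node 1095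
 (.node 1094
 (.leaf 12089885394452121684082710)
 (.leaf 68908937751678456880168998))
 (.node 1096
 (.leaf 35059254610141759558909986)
 (.node 1097
 (.leaf 15716459943333288693465118)
 (.leaf 71326881620687494231359533))))))
 (.node 1107
 (.node 1102
 (.node 1100
 (.node 1099
 (.leaf 73744751703283135160516657)
 (.leaf 51984843264193561611468840))
 (.node 1101
 (.leaf 37477788769050271298093084)
 (.leaf 31432827635494828997345292)))
 (.node 1104
 (.node 1103
 (.leaf 25388567465547719220658199)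
 (.leaf 10881217827002814822023187))
 (.node 1105
 (.leaf 70117918910962387293175849)
 (.node 1106
 (.leaf 50775364056048891928772645)
 (.leaf 33850531708652608039551007)))))
 (.node 1111
 (.node 1109
 (.node 1108
 (.leaf 14507792375883981831405594)
 (.leaf 12089885399800146239291414))
 (.node 1110
 (.leaf 68908937753085831762608166)
 (.leaf 35059254614926834159779874)))
 (.node 1113
 (.node 1112
 (.leaf 15716459945022138552614942)
 (.leaf 70117974243876297683959849))
 (.node 1114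
 (.leaf 50775917443734507508072485)
 (.node 1115
 (.leaf 33850992862054918002769951)
 (.leaf 14507847710205232746266650)))))))
 (.node 1134
 (.node 1125
 (.node 1120
 (.node 1118
 (.node 1117
 (.leaf 12090180538416732966420502)
 (.leaf 68908993085999733563129894))
 (.node 1119
 (.leaf 35059402178183387609497634)
 (.leaf 15716662851044209394515998)))
 (.node 1122
 (.node 1121
 (.leaf 67700030378807914299588644)
 (.leaf 16925385762666442891460641))
 (.node 1123
 (.leaf 70117974246409572472848425)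
 (.node 1124
 (.leaf 50775917444578932436828197)
 (.leaf 33850992863462292884815903)))))
 (.node 1129
 (.node 1127
 (.node 1126
 (.leaf 14507847714145882418184218)
 (.leaf 12090180538979682919383062))
 (.node 1128
 (.leaf 68908993091347758118600742)
 (.leaf 35059402188035011790766114)))
 (.node 1131
 (.node 1130
 (.leaf 15716662856673708926435358)
 (.leaf 67700030379089389275840548))
 (.node 1132
 (.leaf 16925385764073817773899809)
 (.node 1133
 (.leaf 68909048424824618462609446)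
 (.leaf 35059900235488410536378402))))))
 (.node 1143
 (.node 1138
 (.node 1136
 (.node 1135
 (.leaf 15716828870052070164463646)
 (.leaf 67700085713129195277582372))
 (.node 1137
 (.leaf 16925533330708088122179617)
 (.leaf 18134274688792933236670499)))
 (.node 1140
 (.node 1139
 (.leaf 68909048426794943298207782)
 (.leaf 35059900236332835465134114))
 (.node 1141
 (.leaf 15716828872585344953352222)
 (.node 1142
 (.leaf 67700085717069844950024228)
 (.leaf 16925533336056112677650465)))))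
 (.node 1147
 (.node 1145
 (.node 1144
 (.leaf 18134274689074408212922403)
 (.leaf 67700104159591806895259684))
 (.node 1146
 (.leaf 16925736243485562698072097)
 (.leaf 18134403810090509052870691)))
 (.node 1149
 (.node 1148
 (.leaf 67700104161843606707568676)
 (.leaf 16925736245455887533670433))
 (.node 1150
 (.leaf 18134403814031158725312547)
 (.node 1151
 (.leaf 18134422256553120670548003)
 (.leaf 18134422258804920482856995))))))))))))
  nxt := (.node 576
 (.node 288
 (.node 144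
 (.node 72
 (.node 36
 (.node 18
 (.node 9
 (.node 4
 (.node 2
 (.node 1
 (.leaf 1125912791875585)
 (.leaf 1970350607106048))
 (.node 3
 (.leaf 2814788421812232)
 (.leaf 3377699721248774)))
 (.node 6
 (.node 5
 (.leaf 55835230215)
 (.leaf 4503664051945486))
 (.node 7
 (.leaf 5066553876873219)
 (.node 8
 (.leaf 281556582137860)
 (.leaf 5911060411187202)))))
 (.node 13
 (.node 11
 (.node 10
 (.leaf 6473933055721492)
 (.leaf 563053032898581))
 (.node 12
 (.leaf 7599936040534041)
 (.leaf 844545190985746)))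
 (.node 15
 (.node 14
 (.leaf 7881316529668115)
 (.leaf 8725853127573509))
 (.node 16
 (.leaf 9288695708385310)
 (.node 17
 (.leaf 1407520912900127)
 (.leaf 10414728757510179))))))
 (.node 27
 (.node 22
 (.node 20
 (.node 19
 (.leaf 1689013071446028)
 (.leaf 10696079182331917))
 (.node 21
 (.leaf 11540508407496713)
 (.leaf 2251980204343306)))
 (.node 24
 (.node 23
 (.leaf 12666562931130411)
 (.leaf 2533472361840681))
 (.node 25
 (.leaf 12947891881443370)
 (.node 26
 (.leaf 13792480019546123)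
 (.leaf 14073796083056688)))))
 (.node 31
 (.node 29
 (.node 28
 (.leaf 3096443787935793)
 (.leaf 3659226240253990))
 (.node 30
 (.leaf 14636930718040117)
 (.leaf 15762658828943375)))
 (.node 33
 (.node 32
 (.leaf 3940894488461328)
 (.leaf 16888752006692922))
 (.node 34
 (.leaf 4222386647597112)
 (.node 35
 (.leaf 17170042302890041)
 (.leaf 18014669094060049)))))))
 (.node 54
 (.node 45
 (.node 40
 (.node 38
 (.node 37
 (.leaf 18295946504503359)
 (.leaf 4785358073102400))
 (.node 39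
 (.leaf 5348101871304732)
 (.leaf 18859119793602628)))
 (.node 42
 (.node 41
 (.leaf 20266503267156038)
 (.leaf 5629813071544343))
 (.node 43
 (.leaf 20547763499040792)
 (.node 44
 (.leaf 21392420357144598)
 (.leaf 21673667697705035)))))
 (.node 49
 (.node 47
 (.node 46
 (.leaf 6192784496590924)
 (.leaf 6755498230480969))
 (.node 48
 (.leaf 22236871054065744)
 (.leaf 23362530446540826)))
 (.node 51
 (.node 50
 (.leaf 7037235199213595)
 (.leaf 7318714471743571))
 (.node 52
 (.leaf 23925488990158932)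
 (.node 53
 (.leaf 8163152283566167)
 (.leaf 24488705230372893))))))
 (.node 63
 (.node 58
 (.node 56
 (.node 55
 (.leaf 25332872463319129)
 (.leaf 26177567973048411))
 (.node 57
 (.leaf 8444653034340385)
 (.leaf 26458780961013794)))
 (.node 60
 (.node 59
 (.leaf 27303485063757856)
 (.leaf 27584685158957152))
 (.node 61
 (.leaf 9007624458666081)
 (.node 62
 (.leaf 9570290948636766)
 (.leaf 28147935759958117)))))
 (.node 67
 (.node 65
 (.node 64
 (.leaf 29273547908513828)
 (.leaf 9852075159650341))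
 (.node 66
 (.leaf 10133554434539624)
 (.leaf 29836506452131945)))
 (.node 69
 (.node 68
 (.leaf 10977992245641324)
 (.leaf 30399769934626855))
 (.node 70
 (.leaf 31243889925292142)
 (.node 71
 (.leaf 31807153407459368)
 (.leaf 32088319149736048))))))))
 (.node 108
 (.node 90
 (.node 81
 (.node 76
 (.node 74
 (.node 73
 (.leaf 11259492992352369)
 (.leaf 11822125123108910))
 (.node 75
 (.leaf 32651604107329653)
 (.leaf 33777181896671276)))
 (.node 78
 (.node 77
 (.leaf 12103943697006637)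
 (.leaf 12385422964555896))
 (.node 79
 (.leaf 34340140440289401)
 (.node 80
 (.leaf 13229860779327612)
 (.leaf 34903438285668399)))))
 (.node 85
 (.node 83
 (.node 82
 (.leaf 35747523909255294)
 (.leaf 36310821754634359))
 (.node 84
 (.leaf 13511357236314162)
 (.leaf 36591957434368051)))
 (.node 87
 (.node 86
 (.leaf 14355438569259138)
 (.leaf 37155272454766725))
 (.node 88
 (.leaf 14918753593327668)
 (.node 89
 (.leaf 38280820179730567)
 (.leaf 38843774428315702))))))
 (.node 99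
 (.node 94
 (.node 92
 (.node 91
 (.leaf 15200232866250890)
 (.leaf 39407093743747127))
 (.node 93
 (.leaf 39688207944056971)
 (.leaf 15481733608112268)))
 (.node 96
 (.node 95
 (.leaf 16044314200047677)
 (.leaf 40251544443617424))
 (.node 97
 (.leaf 41377070694137915)
 (.node 98
 (.leaf 16326184313552956)
 (.leaf 16607663580315795)))))
 (.node 103
 (.node 101
 (.node 100
 (.leaf 41940029237756052)
 (.leaf 17452101395087511))
 (.node 102
 (.leaf 42503378622742590)
 (.leaf 43347412705935513)))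
 (.node 105
 (.node 104
 (.leaf 43910762090922130)
 (.leaf 17733597852860481))
 (.node 106
 (.leaf 44191846231834690)
 (.node 107
 (.leaf 18577627646197917)
 (.leaf 44755212791054496)))))))
 (.node 126
 (.node 117
 (.node 112
 (.node 110
 (.node 109
 (.leaf 19140994206728259)
 (.leaf 45880708977197218))
 (.node 111
 (.leaf 46443663225782341)
 (.leaf 19422473482797221)))
 (.node 114
 (.node 113
 (.leaf 47006621769269319)
 (.leaf 19703969929232456))
 (.node 115
 (.leaf 19985449205170343)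
 (.node 116
 (.leaf 47569580312887464)
 (.leaf 20829887015747755)))))
 (.node 121
 (.node 119
 (.node 118
 (.leaf 48132964052107338)
 (.leaf 48976963784736941))
 (.node 120
 (.leaf 49540347525267538)
 (.leaf 21111383474045005)))
 (.node 123
 (.node 122
 (.leaf 49821397306966094)
 (.leaf 21955378907644081))
 (.node 124
 (.leaf 50384798225399988)
 (.node 125
 (.leaf 22518779832107087)
 (.leaf 51510260052328630))))))
 (.node 135
 (.node 130
 (.node 128
 (.node 127
 (.leaf 52073214300913745)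
 (.leaf 22800259098476729))
 (.node 129
 (.leaf 52354697865658543)
 (.leaf 23081751254597808)))
 (.node 132
 (.node 131
 (.leaf 23644254538301525)
 (.leaf 52918111670894781))
 (.node 133
 (.leaf 24207672636407999)
 (.node 134
 (.leaf 53762549492809814)
 (.leaf 54606514854822081)))))
 (.node 139
 (.node 137
 (.node 136
 (.leaf 55169469110222936)
 (.leaf 24770184510308548))
 (.node 138
 (.leaf 55732891503100088)
 (.leaf 25052114753814618)))
 (.node 141
 (.node 140
 (.leaf 56295386197196892)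
 (.leaf 25615086175453277))
 (.node 142
 (.leaf 25896565448245448)
 (.node 143
 (.leaf 56858344740815049)
 (.leaf 26741003261968588)))))))))
 (.node 216
 (.node 180
 (.node 162
 (.node 153
 (.node 148
 (.node 146
 (.node 145
 (.leaf 57421780018856031)
 (.leaf 58265728208732366))
 (.node 147
 (.leaf 58829163492016231)
 (.leaf 27022499721052258)))
 (.node 150
 (.node 149
 (.leaf 59110161734893667)
 (.leaf 27866443615043794))
 (.node 151
 (.leaf 59673614192148693)
 (.node 152
 (.leaf 28429896079114340)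
 (.leaf 60799024480256215)))))
 (.node 157
 (.node 155
 (.node 154
 (.leaf 61361978728841318)
 (.leaf 28711375344697562))
 (.node 156
 (.leaf 61643462289653968)
 (.leaf 28992867500818641)))
 (.node 159
 (.node 158
 (.leaf 29555319245701226)
 (.leaf 62206927637643486))
 (.node 160
 (.leaf 30118788882628832)
 (.node 161
 (.leaf 63051365460344939)
 (.leaf 63895279281963234))))))
 (.node 171
 (.node 166
 (.node 164
 (.node 163
 (.leaf 64458233538150509)
 (.leaf 30681249217708261))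
 (.node 165
 (.leaf 65021707469848793)
 (.leaf 30963231000821871)))
 (.node 168
 (.node 167
 (.leaf 65584666013335751)
 (.leaf 31526202429210738))
 (.node 169
 (.leaf 65865629896999027)
 (.node 170
 (.leaf 32370111963463914)
 (.leaf 66429116713468141)))))
 (.node 175
 (.node 173
 (.node 172
 (.leaf 32933598780457076)
 (.leaf 67554492642361583))
 (.node 174
 (.leaf 68117446890946678)
 (.leaf 33215078057574642)))
 (.node 177
 (.node 176
 (.leaf 68398930457002112)
 (.leaf 33496570208452737))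
 (.node 178
 (.leaf 34058987594121338)
 (.node 179
 (.leaf 68962430158962934)
 (.leaf 34622491590263032)))))))
 (.node 198
 (.node 189
 (.node 184
 (.node 182
 (.node 181
 (.leaf 69806867982188667)
 (.leaf 70650747443544314))
 (.node 183
 (.leaf 71213701700255869)
 (.leaf 35184917566128381)))
 (.node 186
 (.node 185
 (.leaf 71777209991168137)
 (.leaf 35466933708980351))
 (.node 187
 (.leaf 36029896544944371)
 (.node 188
 (.leaf 72058148105552116)
 (.leaf 36874334354145538)))))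
 (.node 193
 (.node 191
 (.node 190
 (.leaf 72621660691562627)
 (.leaf 73465531576811780))
 (.node 192
 (.leaf 37437297200857220)
 (.leaf 74028485826904326)))
 (.node 195
 (.node 194
 (.leaf 74591440076275846)
 (.leaf 37718776464539913))
 (.node 196
 (.leaf 75154961251893512)
 (.node 197
 (.leaf 37999714578923656)
 (.leaf 75435882184048894))))))
 (.node 207
 (.node 202
 (.node 200
 (.node 199
 (.leaf 38563227164606719)
 (.leaf 76280878338867366))
 (.node 201
 (.leaf 39126190011646093)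
 (.leaf 76561794978611342)))
 (.node 204
 (.node 203
 (.leaf 39970052301259024)
 (.leaf 77125329038999827))
 (.node 205
 (.leaf 40533586362171535)
 (.node 206
 (.leaf 78250657723973909)
 (.leaf 78813611972558993)))))
 (.node 211
 (.node 209
 (.node 208
 (.leaf 40815065635356952)
 (.leaf 79095095538614427))
 (.node 210
 (.leaf 41096557790167196)
 (.leaf 41658927931916437)))
 (.node 213
 (.node 212
 (.leaf 79658642484494620)
 (.leaf 42222479171977502))
 (.node 214
 (.leaf 80503080308441238)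
 (.node 215
 (.leaf 81346912524435744)
 (.leaf 81909866781868184))))))))
 (.node 252
 (.node 234
 (.node 225
 (.node 220
 (.node 218
 (.node 217
 (.leaf 42784857903923491)
 (.leaf 82473422316699812))
 (.node 219
 (.leaf 43066921291415706)
 (.leaf 43629884122726681)))
 (.node 222
 (.node 221
 (.leaf 82754313187164442)
 (.leaf 44474321935860008))
 (.node 223
 (.leaf 83317873017094302)
 (.node 224
 (.leaf 84161696653771050)
 (.leaf 45037284783292575)))))
 (.node 229
 (.node 227
 (.node 226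
 (.leaf 84724650908516652)
 (.leaf 85287605157888161))
 (.node 228
 (.leaf 45318764046254383)
 (.leaf 85851173577425198)))
 (.node 231
 (.node 230
 (.leaf 45599654916718755)
 (.leaf 86132047261008164))
 (.node 232
 (.leaf 46163214746321189)
 (.node 233
 (.leaf 86695005802922254)
 (.leaf 46726173289808143))))))
 (.node 243
 (.node 238
 (.node 236
 (.node 235
 (.leaf 47288513367244969)
 (.leaf 87258582821110071))
 (.node 237
 (.leaf 47852094671618361)
 (.leaf 88103020645515434)))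
 (.node 240
 (.node 239
 (.leaf 88946822796280123)
 (.leaf 89509777054171308))
 (.node 241
 (.leaf 48414443339252030)
 (.node 242
 (.leaf 90073362653315351)
 (.leaf 48696536791515310)))))
 (.node 247
 (.node 245
 (.node 244
 (.leaf 49259499629052090)
 (.leaf 90354223459467451))
 (.node 246
 (.leaf 50103937435500867)
 (.leaf 90917813353709746)))
 (.node 249
 (.node 248
 (.leaf 91761606932300101)
 (.leaf 50666900283392179))
 (.node 250
 (.leaf 92324561172824391)
 (.node 251
 (.leaf 92887515430191285)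
 (.leaf 50948379545895242)))))))
 (.node 270
 (.node 261
 (.node 256
 (.node 254
 (.node 253
 (.leaf 93451113914040649)
 (.leaf 51229240352047287))
 (.node 255
 (.leaf 93731957539537093)
 (.leaf 51792830245961926)))
 (.node 258
 (.node 257
 (.leaf 52636619530764609)
 (.leaf 94295564614304080))
 (.node 259
 (.leaf 53200222309777596)
 (.node 260
 (.leaf 95420824580850002)
 (.leaf 95983778829435070)))))
 (.node 265
 (.node 263
 (.node 262
 (.leaf 53481701588533589)
 (.leaf 96546737372922048))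
 (.node 264
 (.leaf 54044028773597527)
 (.leaf 97110344446574787)))
 (.node 267
 (.node 266
 (.leaf 54326143701549250)
 (.leaf 97391179480432984))
 (.node 268
 (.leaf 54889110825075033)
 (.node 269
 (.leaf 55452065080672589)
 (.leaf 97954142321705294))))))
 (.node 279
 (.node 274
 (.node 272
 (.node 271
 (.leaf 98517096560853224)
 (.leaf 56015027912048873))
 (.node 273
 (.leaf 56577329335369930)
 (.leaf 99080712233746785)))
 (.node 276
 (.node 275
 (.leaf 57140949293859171)
 (.leaf 99925150058741963))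
 (.node 277
 (.leaf 100768913554211173)
 (.node 278
 (.leaf 101331867812692173)
 (.leaf 57703259307377000)))))
 (.node 283
 (.node 281
 (.node 280
 (.leaf 101895492065951985)
 (.leaf 57985391414345935))
 (.node 282
 (.leaf 58548354251882715)
 (.leaf 102176314217988316)))
 (.node 285
 (.node 284
 (.leaf 59392792057741677)
 (.leaf 102739942766346451))
 (.node 286
 (.leaf 103583697690820975)
 (.node 287
 (.leaf 59955754906222804)
 (.leaf 104146651930755441))))))))))
 (.node 432
 (.node 360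
 (.node 324
 (.node 306
 (.node 297
 (.node 292
 (.node 290
 (.node 289
 (.leaf 104709606188712150)
 (.leaf 60237234168136052))
 (.node 291
 (.leaf 105273243326677363)
 (.leaf 60518056320172248)))
 (.node 294
 (.node 293
 (.leaf 105554048298057958)
 (.leaf 61081684868202727))
 (.node 295
 (.leaf 61925435498889579)
 (.node 296
 (.leaf 106117694026940794)
 (.leaf 62489076932018397)))))
 (.node 301
 (.node 299
 (.node 298
 (.leaf 107242915339370876)
 (.leaf 107805869587955935))
 (.node 300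
 (.leaf 62770556206121343)
 (.leaf 108368828131442913)))
 (.node 303
 (.node 302
 (.leaf 63332844741722497)
 (.leaf 108932473859211492))
 (.node 304
 (.leaf 63614998324379875)
 (.node 305
 (.leaf 109213270233710978)
 (.leaf 64177965447315843))))))
 (.node 315
 (.node 310
 (.node 308
 (.node 307
 (.leaf 64740919698260343)
 (.leaf 109776233080226168))
 (.node 309
 (.leaf 65303878239977822)
 (.leaf 110339191623713119)))
 (.node 312
 (.node 311
 (.leaf 66148316054421898)
 (.leaf 110902841646579947))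
 (.node 313
 (.leaf 111746575087632780)
 (.node 314
 (.leaf 66711278903230700)
 (.leaf 112309529343164814)))))
 (.node 319
 (.node 317
 (.node 316
 (.leaf 112872483594436846)
 (.leaf 66992758164816273))
 (.node 318
 (.leaf 113436142206910864)
 (.leaf 67273558842343664)))
 (.node 321
 (.node 320
 (.leaf 113716925694869865)
 (.leaf 67837208864883050))
 (.node 322
 (.leaf 68680938021060864)
 (.node 323
 (.leaf 114280592907174295)
 (.leaf 69244600928698613)))))))
 (.node 342
 (.node 333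
 (.node 328
 (.node 326
 (.node 325
 (.leaf 115405792745095577)
 (.leaf 115968746993680631))
 (.node 327
 (.leaf 69526080210141596)
 (.leaf 116531705537167609)))
 (.node 330
 (.node 329
 (.leaf 70088347254981022)
 (.leaf 117095372739444988))
 (.node 331
 (.leaf 70370522321387771)
 (.node 332
 (.leaf 117376147646448031)
 (.leaf 70933489443996064)))))
 (.node 337
 (.node 335
 (.node 334
 (.leaf 71496443702280460)
 (.leaf 117939110485950733))
 (.node 336
 (.leaf 72340881507615141)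
 (.leaf 118502781993025793)))
 (.node 339
 (.node 338
 (.leaf 119346493948887463)
 (.leaf 119909448208154883))
 (.node 340
 (.leaf 72903139982311850)
 (.node 341
 (.leaf 120473124000235902)
 (.leaf 73185323628888325))))))
 (.node 351
 (.node 346
 (.node 344
 (.node 343
 (.leaf 121036082543722909)
 (.leaf 73747582092706055))
 (.node 345
 (.leaf 121316848861643018)
 (.leaf 74311249294852363)))
 (.node 348
 (.node 347
 (.leaf 74874203551302063)
 (.leaf 121879811700425136))
 (.node 349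
 (.leaf 75717919814910371)
 (.node 350
 (.leaf 122443478902571444)
 (.leaf 76000120631001396)))))
 (.node 355
 (.node 353
 (.node 352
 (.leaf 123005728787398965)
 (.leaf 76844558445445559))
 (.node 354
 (.leaf 123569408874578193)
 (.leaf 124413112250859961)))
 (.node 357
 (.node 356
 (.leaf 77407521294713106)
 (.leaf 124976066501149115))
 (.node 358
 (.leaf 125539020758122772)
 (.node 359
 (.leaf 77689000555839934)
 (.leaf 126102709434909117))))))))
 (.node 396
 (.node 378
 (.node 369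
 (.node 364
 (.node 362
 (.node 361
 (.leaf 77969771169054998)
 (.leaf 126383462858096959))
 (.node 363
 (.leaf 78533451255906624)
 (.leaf 79377150347772198)))
 (.node 366
 (.node 365
 (.leaf 126947160135172548)
 (.leaf 79940843319722267))
 (.node 367
 (.leaf 128072329908781510)
 (.node 368
 (.leaf 128635284157366557)
 (.leaf 80222322601624009)))))
 (.node 373
 (.node 371
 (.node 370
 (.leaf 129198242700853535)
 (.leaf 80784559581233611))
 (.node 372
 (.leaf 129761939967443234)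
 (.leaf 81066764712870177)))
 (.node 375
 (.node 374
 (.leaf 130042684810133964)
 (.leaf 81629731835019725))
 (.node 376
 (.leaf 82192686093762866)
 (.node 377
 (.leaf 130605647649636659)
 (.leaf 83037123898638802))))))
 (.node 387
 (.node 382
 (.node 380
 (.node 379
 (.leaf 131169349221482791)
 (.leaf 132013031112114644))
 (.node 381
 (.leaf 132575985371840809)
 (.leaf 83599352309023191)))
 (.node 384
 (.node 383
 (.leaf 133139691228234068)
 (.leaf 83881566020370731))
 (.node 385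
 (.leaf 133702649771721162)
 (.node 386
 (.leaf 84443794419417389)
 (.leaf 133983386025328944)))))
 (.node 391
 (.node 389
 (.node 388
 (.leaf 85007491685876017)
 (.leaf 85570445937082844))
 (.node 390
 (.leaf 134546348864111069)
 (.leaf 86414132141621712)))
 (.node 393
 (.node 392
 (.leaf 135110046130569697)
 (.leaf 86977090685108661))
 (.node 394
 (.leaf 135673017558958563)
 (.node 395
 (.leaf 87540800836665654)
 (.leaf 136798170152960485)))))))
 (.node 414
 (.node 405
 (.node 400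
 (.node 398
 (.node 397
 (.leaf 137361124401545528)
 (.leaf 87822280109195752))
 (.node 399
 (.leaf 137924082945032506)
 (.leaf 88384499925909994)))
 (.node 402
 (.node 401
 (.leaf 138487797391229245)
 (.leaf 88666722230075708))
 (.node 403
 (.leaf 138768525044679147)
 (.node 404
 (.leaf 89229689351963116)
 (.leaf 89792643601334721)))))
 (.node 409
 (.node 407
 (.node 406
 (.leaf 139331487893815746)
 (.leaf 90637081415582193))
 (.node 408
 (.leaf 139895206635897154)
 (.leaf 140738871356031475)))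
 (.node 411
 (.node 410
 (.leaf 141301825616019780)
 (.leaf 91199292646359542))
 (.node 412
 (.leaf 141865548652020199)
 (.node 413
 (.leaf 91481523537576262)
 (.leaf 142428507195507030))))))
 (.node 423
 (.node 418
 (.node 416
 (.node 415
 (.leaf 92043734756753736)
 (.leaf 142709226269507915))
 (.node 417
 (.leaf 92607449202819404)
 (.leaf 93170403461890555)))
 (.node 420
 (.node 419
 (.leaf 143272189108290044)
 (.leaf 94014072478957916))
 (.node 421
 (.leaf 143835903554355712)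
 (.node 422
 (.leaf 94577795525574991)
 (.leaf 144679576873927169)))))
 (.node 427
 (.node 425
 (.node 424
 (.leaf 145242531125461329)
 (.leaf 94859274786898436))
 (.node 426
 (.leaf 145806258456363523)
 (.leaf 95140006745997651)))
 (.node 429
 (.node 428
 (.leaf 146086973224255960)
 (.leaf 95703725486965209))
 (.node 430
 (.leaf 146649931778949625)
 (.node 431
 (.leaf 96266684030452218)
 (.leaf 96829638290375002)))))))))
 (.node 504
 (.node 468
 (.node 450
 (.node 441
 (.node 436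
 (.node 434
 (.node 433
 (.leaf 147212894617731419)
 (.leaf 97673303011688971))
 (.node 435
 (.leaf 147775861739422222)
 (.leaf 98237034637558287)))
 (.node 438
 (.node 437
 (.leaf 148339571912868189)
 (.leaf 98799220098662792))
 (.node 439
 (.leaf 148902543330574866)
 (.node 440
 (.leaf 99362951724728672)
 (.leaf 150027674450067988)))))
 (.node 445
 (.node 443
 (.node 442
 (.leaf 150590628698653026)
 (.leaf 99644430997258775))
 (.node 444
 (.leaf 151153587242140004)
 (.leaf 100206629333434905)))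
 (.node 447
 (.node 446
 (.leaf 151717323162845543)
 (.leaf 100488873118466406))
 (.node 448
 (.leaf 151998029341458970)
 (.node 449
 (.leaf 101051840240026139)
 (.leaf 101614794489397652))))))
 (.node 459
 (.node 454
 (.node 452
 (.node 451
 (.leaf 152560992190923157)
 (.leaf 102459232303645216))
 (.node 453
 (.leaf 153124732407513452)
 (.leaf 153968375652811298)))
 (.node 456
 (.node 455
 (.leaf 154531329913127278)
 (.leaf 103021422059913765))
 (.node 457
 (.leaf 155095074423636502)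
 (.node 458
 (.leaf 103303674425966960)
 (.leaf 155658032967123328)))))
 (.node 463
 (.node 461
 (.node 460
 (.leaf 103865864170307954)
 (.leaf 155938730566615413))
 (.node 462
 (.leaf 104429600090882422)
 (.leaf 104992554350281258)))
 (.node 465
 (.node 464
 (.leaf 156501693405397547)
 (.leaf 105836201892512134))
 (.node 466
 (.leaf 157065429325972015)
 (.node 467
 (.leaf 106399946413965689)
 (.leaf 157909081165005360)))))))
 (.node 486
 (.node 477
 (.node 472
 (.node 470
 (.node 469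
 (.leaf 158472035422568827)
 (.leaf 106681425674961459))
 (.node 471
 (.leaf 159035784227979826)
 (.leaf 106962136159551869)))
 (.node 474
 (.node 473
 (.leaf 159316477521035691)
 (.leaf 107525876375028140))
 (.node 475
 (.leaf 159879436076057128)
 (.node 476
 (.leaf 108088834918515241)
 (.leaf 108651789178765700)))))
 (.node 481
 (.node 479
 (.node 478
 (.leaf 160442398914838917)
 (.leaf 109495432425243194))
 (.node 480
 (.leaf 161005366036202045)
 (.leaf 110059185525621310)))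
 (.node 483
 (.node 482
 (.leaf 161569097684812167)
 (.leaf 110622144069108288))
 (.node 484
 (.leaf 162132069111169417)
 (.node 485
 (.leaf 162975699463504450)
 (.leaf 163538653724017035))))))
 (.node 495
 (.node 490
 (.node 488
 (.node 487
 (.leaf 111184320940671557)
 (.leaf 164102411119231387))
 (.node 489
 (.leaf 111466586191626637)
 (.leaf 164665369662718488)))
 (.node 492
 (.node 491
 (.leaf 112028763051065743)
 (.leaf 164946054377505170))
 (.node 493
 (.leaf 112592511856345491)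
 (.node 494
 (.leaf 113155466105782858)
 (.leaf 165509017216287307)))))
 (.node 499
 (.node 497
 (.node 496
 (.leaf 113999100773270046)
 (.leaf 166072766021567055))
 (.node 498
 (.leaf 114562858169467286)
 (.leaf 166916404983956048)))
 (.node 501
 (.node 500
 (.leaf 167479359233458584)
 (.leaf 114844337440424531))
 (.node 502
 (.leaf 168043120923574866)
 (.node 503
 (.leaf 115125035040309658)
 (.leaf 168323801331728966))))))))
 (.node 540
 (.node 522
 (.node 513
 (.node 508
 (.node 506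
 (.node 505
 (.leaf 115688788140491335)
 (.leaf 168886759886946733))
 (.node 507
 (.leaf 116251746683978158)
 (.leaf 116814700944425377)))
 (.node 510
 (.node 509
 (.leaf 169449722725728674)
 (.leaf 117658331306000986))
 (.node 511
 (.leaf 170012689846895197)
 (.node 512
 (.leaf 118222097291084382)
 (.leaf 170576434370445732)))))
 (.node 517
 (.node 515
 (.node 514
 (.leaf 171420069037867430)
 (.leaf 118784261274796641))
 (.node 516
 (.leaf 171983830727983529)
 (.leaf 119066530823733672)))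
 (.node 519
 (.node 518
 (.leaf 172264511136137826)
 (.leaf 119629497944900195))
 (.node 520
 (.leaf 120192452193616438)
 (.node 521
 (.leaf 172827473986650679)
 (.leaf 120755410748834392))))))
 (.node 531
 (.node 526
 (.node 524
 (.node 523
 (.leaf 173390432530137689)
 (.leaf 121599041110409649))
 (.node 525
 (.leaf 173954185630319211)
 (.leaf 122162807095493228)))
 (.node 528
 (.node 527
 (.leaf 174516358206914994)
 (.leaf 122725761355219379))
 (.node 529
 (.leaf 174797828885774958)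
 (.node 530
 (.leaf 123288719887499887)
 (.leaf 175361594876953014)))))
 (.node 535
 (.node 533
 (.node 532
 (.leaf 176205216645382769)
 (.leaf 176768170906026424))
 (.node 534
 (.leaf 123850888169259636)
 (.leaf 177331936891044296)))
 (.node 537
 (.node 536
 (.leaf 124133162010149306)
 (.leaf 177894895434531305))
 (.node 538
 (.leaf 124695330279653820)
 (.node 539
 (.leaf 178175571559514559)
 (.leaf 125259087674737088)))))))
 (.node 558
 (.node 549
 (.node 544
 (.node 542
 (.node 541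
 (.leaf 125822041924174457)
 (.leaf 178738534398296698))
 (.node 543
 (.leaf 126665668001858031)
 (.leaf 179302291793379966)))
 (.node 546
 (.node 545
 (.leaf 127229433987858883)
 (.leaf 180145922165965439))
 (.node 547
 (.leaf 180708876415467973)
 (.node 548
 (.leaf 127510913258816130)
 (.leaf 181272646695387777)))))
 (.node 553
 (.node 551
 (.node 550
 (.leaf 127791602268897735)
 (.leaf 181553318513607285))
 (.node 552
 (.leaf 128355363958882934)
 (.leaf 182116277068956122)))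
 (.node 555
 (.node 554
 (.leaf 128918322502369755)
 (.leaf 129481276762948046))
 (.node 556
 (.leaf 182679239907738063)
 (.node 557
 (.leaf 130324898534589065)
 (.leaf 183242207028773516))))))
 (.node 567
 (.node 562
 (.node 560
 (.node 559
 (.leaf 130888673109475981)
 (.leaf 183805960142258641))
 (.node 561
 (.leaf 184649586219876819)
 (.leaf 131450828497224336)))
 (.node 564
 (.node 563
 (.leaf 185213356499796438)
 (.leaf 131733106642256341))
 (.node 565
 (.leaf 185494028318016145)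
 (.node 566
 (.leaf 132296073763291794)
 (.leaf 132859028012007943)))))
 (.node 571
 (.node 569
 (.node 568
 (.leaf 186056991168659976)
 (.leaf 133421986567357063))
 (.node 570
 (.leaf 186619949712147080)
 (.leaf 134265608338997726)))
 (.node 573
 (.node 572
 (.leaf 187183711402132122)
 (.leaf 134829382913884827))
 (.node 574
 (.leaf 187745875388924383)
 (.node 575
 (.leaf 135392337173742048)
 (.leaf 188027346061623965)))))))))))
 (.node 864
 (.node 720
 (.node 648
 (.node 612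
 (.node 594
 (.node 585
 (.node 580
 (.node 578
 (.node 577
 (.leaf 135955291420164578)
 (.leaf 188871779579724446))
 (.node 579
 (.leaf 189434733839516132)
 (.leaf 136236770682864289)))
 (.node 582
 (.node 581
 (.leaf 189998504119435936)
 (.leaf 136517459692945894))
 (.node 583
 (.leaf 190279175937655287)
 (.node 584
 (.leaf 137081221382930936)
 (.leaf 190842134493004407)))))
 (.node 589
 (.node 587
 (.node 586
 (.leaf 137644179926418040)
 (.leaf 138207134186996205))
 (.node 588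
 (.leaf 191405097331786222)
 (.leaf 139050755958637224)))
 (.node 591
 (.node 590
 (.leaf 191968064452821675)
 (.leaf 139614530533524140))
 (.node 592
 (.leaf 192531817574564336)
 (.node 593
 (.leaf 193375443643924978)
 (.leaf 140176685929530031))))))
 (.node 603
 (.node 598
 (.node 596
 (.node 595
 (.leaf 193939213923844597)
 (.leaf 140458964066304500))
 (.node 597
 (.leaf 194219885742064304)
 (.leaf 141021931187339953)))
 (.node 600
 (.node 599
 (.leaf 141584885436056228)
 (.leaf 194782848592708261))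
 (.node 601
 (.leaf 142147843991405065)
 (.node 602
 (.leaf 195345807136195082)
 (.leaf 142991465763045885)))))
 (.node 607
 (.node 605
 (.node 604
 (.leaf 195909568826180281)
 (.leaf 143555240337932986))
 (.node 606
 (.leaf 196471732812972542)
 (.leaf 144118194587501055)))
 (.node 609
 (.node 608
 (.leaf 196753203493929660)
 (.leaf 197598444456575631))
 (.node 610
 (.leaf 144398879301698050)
 (.node 611
 (.leaf 197879120580837893)
 (.leaf 144962636696781318)))))))
 (.node 630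
 (.node 621
 (.node 616
 (.node 614
 (.node 613
 (.leaf 145525590945497791)
 (.leaf 198442083420340928))
 (.node 615
 (.leaf 146369217023902357)
 (.leaf 199005840815424196)))
 (.node 618
 (.node 617
 (.leaf 146932175567389366)
 (.leaf 199568009084928710))
 (.node 619
 (.leaf 147495945847374535)
 (.node 620
 (.leaf 200131757902529036)
 (.leaf 148058900108083725)))))
 (.node 625
 (.node 623
 (.node 622
 (.leaf 148621042604835529)
 (.leaf 200693921889255952))
 (.node 624
 (.leaf 149184808596013585)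
 (.leaf 201538355398247115)))
 (.node 627
 (.node 626
 (.leaf 202101309657907731)
 (.leaf 149466287864873678))
 (.node 628
 (.leaf 202665071348024013)
 (.node 629
 (.leaf 149746985464758805)
 (.leaf 202945751756177958))))))
 (.node 639
 (.node 634
 (.node 632
 (.node 631
 (.leaf 150310738564940327)
 (.leaf 203508710311395912))
 (.node 633
 (.leaf 150873697108427337)
 (.leaf 151436651368874524)))
 (.node 636
 (.node 635
 (.leaf 204071673150177821)
 (.leaf 152280281730450133))
 (.node 637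
 (.leaf 204634640271344344)
 (.node 638
 (.leaf 152844047715533529)
 (.leaf 205198384796992031)))))
 (.node 643
 (.node 641
 (.node 640
 (.leaf 206042019462316577)
 (.leaf 153406211701342940))
 (.node 642
 (.leaf 206605781152432676)
 (.leaf 153688481248182819)))
 (.node 645
 (.node 644
 (.leaf 206886461560586973)
 (.leaf 154251448369349342))
 (.node 646
 (.leaf 154814402618065617)
 (.node 647
 (.leaf 207449424411099858)
 (.leaf 155377361173283384))))))))
 (.node 684
 (.node 666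
 (.node 657
 (.node 652
 (.node 650
 (.node 649
 (.leaf 208012382954586681)
 (.leaf 156220991534858796))
 (.node 651
 (.leaf 208576136054768358)
 (.leaf 156784757519942375)))
 (.node 654
 (.node 653
 (.leaf 209138308631364141)
 (.leaf 157347711769510446))
 (.node 655
 (.leaf 209419779312321257)
 (.node 656
 (.leaf 210265011685163616)
 (.leaf 157628405073510961)))))
 (.node 661
 (.node 659
 (.node 658
 (.leaf 210545696399229492)
 (.leaf 158192153878790709))
 (.node 660
 (.leaf 158755108127507180)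
 (.leaf 211108659238732525)))
 (.node 663
 (.node 662
 (.leaf 159598742795715174)
 (.leaf 211672408044012273))
 (.node 664
 (.leaf 160161701339202275)
 (.node 665
 (.leaf 212234584903451379)
 (.leaf 160725463029383924))))))
 (.node 675
 (.node 670
 (.node 668
 (.node 667
 (.leaf 212798325131117115)
 (.leaf 161288417289962044))
 (.node 669
 (.leaf 161850568370619126)
 (.leaf 213360497707647551)))
 (.node 672
 (.node 671
 (.leaf 214204931227779649)
 (.leaf 162413548386976505))
 (.node 673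
 (.leaf 214768680033190468)
 (.node 674
 (.leaf 162695805058875971)
 (.leaf 215049373326246650)))))
 (.node 679
 (.node 677
 (.node 676
 (.leaf 163258772180239099)
 (.leaf 163821726428955222))
 (.node 678
 (.leaf 215612336176562775)
 (.leaf 164384684983976659)))
 (.node 681
 (.node 680
 (.leaf 216175294720049876)
 (.leaf 165228328230453836))
 (.node 682
 (.leaf 216739034935526147)
 (.node 683
 (.leaf 165792081330832132)
 (.leaf 217301220396827213)))))))
 (.node 702
 (.node 693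
 (.node 688
 (.node 686
 (.node 685
 (.leaf 166355035588461134)
 (.leaf 217582691067822854))
 (.node 687
 (.leaf 218427910565921528)
 (.leaf 166635741769106001)))
 (.node 690
 (.node 689
 (.leaf 218708608154731092)
 (.leaf 167199477689680469))
 (.node 691
 (.leaf 167762431938396937)
 (.node 692
 (.leaf 219271571004195594)
 (.leaf 168606079491310334)))))
 (.node 697
 (.node 695
 (.node 694
 (.leaf 219835306924770062)
 (.leaf 169169038034797160))
 (.node 696
 (.leaf 220397496669111056)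
 (.leaf 169732786840273681)))
 (.node 699
 (.node 698
 (.leaf 220961224011874907)
 (.leaf 170295741100655196))
 (.node 700
 (.leaf 170857905074275091)
 (.node 701
 (.leaf 221523409473110623)
 (.leaf 222086368015614698))))))
 (.node 711
 (.node 706
 (.node 704
 (.node 703
 (.leaf 171140178904154859)
 (.leaf 171703133163553380))
 (.node 705
 (.leaf 222649330855051877)
 (.leaf 172546789295588119)))
 (.node 708
 (.node 707
 (.leaf 223212297976611610)
 (.leaf 173110529511260955))
 (.node 709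
 (.leaf 223776016738353767)
 (.node 710
 (.leaf 173673488054747933)
 (.leaf 224338215074529897)))))
 (.node 715
 (.node 713
 (.node 712
 (.leaf 174236442303398506)
 (.leaf 224619685757059871))
 (.node 714
 (.leaf 175080098446180973)
 (.leaf 225183421678093047)))
 (.node 717
 (.node 716
 (.leaf 226027082115842672)
 (.leaf 175643074158920483))
 (.node 718
 (.leaf 226590809446744691)
 (.node 719
 (.leaf 175925309355655794)
 (.leaf 226871524214637348)))))))))
 (.node 792
 (.node 756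
 (.node 738
 (.node 729
 (.node 724
 (.node 722
 (.node 721
 (.leaf 176488276477346597)
 (.leaf 177051230726062725))
 (.node 723
 (.leaf 227434487064625798)
 (.leaf 177614189280756390)))
 (.node 726
 (.node 725
 (.leaf 227997445608112807)
 (.leaf 178457854002070139))
 (.node 727
 (.leaf 228561164349080365)
 (.node 728
 (.leaf 179021585627939630)
 (.leaf 229123371284890236)))))
 (.node 733
 (.node 731
 (.node 730
 (.leaf 179584539879539325)
 (.leaf 229404841956213552))
 (.node 732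
 (.leaf 230250039979475746)
 (.leaf 179865267540722304)))
 (.node 735
 (.node 734
 (.leaf 230530759043121795)
 (.leaf 180428981986787972))
 (.node 736
 (.leaf 180991936235504435)
 (.node 737
 (.leaf 231093721892258612)
 (.leaf 181835605262926632))))))
 (.node 747
 (.node 742
 (.node 740
 (.node 739
 (.leaf 231657436338324280)
 (.leaf 182398563806413463))
 (.node 741
 (.leaf 232219647557501754)
 (.leaf 182962291137381179)))
 (.node 744
 (.node 743
 (.leaf 232783353425429130)
 (.leaf 183525245397435019))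
 (.node 745
 (.leaf 184087430845891389)
 (.node 746
 (.leaf 233345560361173646)
 (.leaf 233908518903677629)))))
 (.node 751
 (.node 749
 (.node 748
 (.leaf 184369683201262270)
 (.leaf 184932637460333203))
 (.node 750
 (.leaf 234471481743114900)
 (.leaf 185776315067204417)))
 (.node 753
 (.node 752
 (.leaf 235034448865002308)
 (.leaf 186340033808368453))
 (.node 754
 (.leaf 235598146145878678)
 (.node 755
 (.leaf 186902992351855431)
 (.leaf 236160365962592920)))))))
 (.node 774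
 (.node 765
 (.node 760
 (.node 758
 (.node 757
 (.leaf 187465946600506009)
 (.leaf 236441836645122889))
 (.node 759
 (.leaf 188309624217797276)
 (.leaf 237005551091647178)))
 (.node 762
 (.node 761
 (.leaf 237849980316811950)
 (.leaf 188591124964508319))
 (.node 763
 (.leaf 238130716567929506)
 (.node 764
 (.leaf 189154822230966947)
 (.leaf 189717776479683406)))))
 (.node 769
 (.node 767
 (.node 766
 (.leaf 238693679409201999)
 (.leaf 190561462686712500))
 (.node 768
 (.leaf 239257376675660627)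
 (.leaf 191124421230199594)))
 (.node 771
 (.node 770
 (.leaf 239819605074707285)
 (.leaf 191688131381560150))
 (.node 772
 (.leaf 240383293762765481)
 (.node 773
 (.leaf 192251085641351850)
 (.leaf 192813288260305752))))))
 (.node 783
 (.node 778
 (.node 776
 (.node 775
 (.leaf 240945517878117037)
 (.leaf 241508476411249484))
 (.node 777
 (.leaf 193095523445441357)
 (.leaf 193658477694878386)))
 (.node 780
 (.node 779
 (.leaf 242071439260058291)
 (.leaf 194502172490990428))
 (.node 781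
 (.leaf 242634406382207839)
 (.node 782
 (.leaf 195065874052547424)
 (.leaf 243198086490555061)))))
 (.node 787
 (.node 785
 (.node 784
 (.leaf 195628832596034402)
 (.leaf 243760323470164663))
 (.node 786
 (.leaf 196191786844684984)
 (.leaf 244041794162066276)))
 (.node 789
 (.node 788
 (.leaf 197035481641583291)
 (.leaf 244605491428983641))
 (.node 790
 (.leaf 197317699646915391)
 (.node 791
 (.leaf 245167719839171392)
 (.leaf 198161403023524545))))))))
 (.node 828
 (.node 810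
 (.node 801
 (.node 796
 (.node 794
 (.node 793
 (.leaf 245731399926023018)
 (.leaf 198725095995278187))
 (.node 795
 (.leaf 246293645515948738)
 (.leaf 199288050252317379)))
 (.node 798
 (.node 797
 (.leaf 246575116187075437)
 (.leaf 199851004502606533))
 (.node 799
 (.leaf 200413228607210350)
 (.node 800
 (.leaf 247138083331310280)
 (.leaf 200976912989356874)))))
 (.node 805
 (.node 803
 (.node 802
 (.leaf 247982521145754443)
 (.leaf 248546192643523291))
 (.node 804
 (.leaf 201257692192506572)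
 (.leaf 248826958953710287)))
 (.node 807
 (.node 806
 (.leaf 201821359394652880)
 (.leaf 202384313643369332))
 (.node 808
 (.leaf 249389921800225653)
 (.node 809
 (.leaf 203228029914710753)
 (.leaf 249953589002371961))))))
 (.node 819
 (.node 814
 (.node 812
 (.node 811
 (.leaf 203790988458197760)
 (.leaf 250515847466189691))
 (.node 813
 (.leaf 204354668545246076)
 (.leaf 251079506089476822)))
 (.node 816
 (.node 815
 (.leaf 204917622804579031)
 (.leaf 205479855488762750))
 (.node 817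
 (.leaf 251641760269140698)
 (.node 818
 (.leaf 252204718802731890)
 (.leaf 205762060609127283)))))
 (.node 823
 (.node 821
 (.node 820
 (.leaf 206325014858564319)
 (.leaf 252767681651081952))
 (.node 822
 (.leaf 207168739718988674)
 (.leaf 253330648773690245)))
 (.node 825
 (.node 824
 (.leaf 207732411216233350)
 (.leaf 253894298816807650))
 (.node 826
 (.leaf 208295369759720328)
 (.node 827
 (.leaf 254456565861647076)
 (.leaf 208858324008370917)))))))
 (.node 846
 (.node 837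
 (.node 832
 (.node 830
 (.node 829
 (.leaf 254738036553089930)
 (.leaf 209702048869581544))
 (.node 831
 (.leaf 255301703755694975)
 (.leaf 209984236810142485)))
 (.node 834
 (.node 833
 (.leaf 255863962230194966)
 (.leaf 210827970251522798))
 (.node 835
 (.leaf 256427612252734352)
 (.node 836
 (.leaf 211391633158964113)
 (.leaf 256989887906972399)))))
 (.node 841
 (.node 839
 (.node 838
 (.leaf 211954587410301680)
 (.leaf 257271358578557843))
 (.node 840
 (.leaf 212517541665833714)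
 (.leaf 213079795835208596)))
 (.node 843
 (.node 842
 (.leaf 257834325722333941)
 (.leaf 213643450153042720))
 (.node 844
 (.leaf 258678763536778017)
 (.node 845
 (.leaf 258960242806752007)
 (.leaf 213924938014851848))))))
 (.node 855
 (.node 850
 (.node 848
 (.node 847
 (.leaf 214487892271301372)
 (.leaf 259523205647762173))
 (.node 849
 (.leaf 215331638599222170)
 (.leaf 260086172770698141)))
 (.node 852
 (.node 851
 (.leaf 215895288621958046)
 (.leaf 260649801330066175))
 (.node 853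
 (.leaf 216458247165445024)
 (.node 854
 (.leaf 261212089865667329)
 (.leaf 217021201414095618)))))
 (.node 859
 (.node 857
 (.node 856
 (.leaf 261493560549770146)
 (.leaf 217864947749815045))
 (.node 858
 (.leaf 262057206277866260)
 (.leaf 218147114206954392)))
 (.node 861
 (.node 860
 (.leaf 262619486226875289)
 (.leaf 218990869131756299))
 (.node 862
 (.leaf 263183114774905768)
 (.node 863
 (.leaf 219554510564688809)
 (.leaf 263745411903652620))))))))))
 (.node 1008
 (.node 936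
 (.node 900
 (.node 882
 (.node 873
 (.node 868
 (.node 866
 (.node 865
 (.leaf 220117464822711053)
 (.leaf 264026882575565739))
 (.node 867
 (.leaf 220680419062645519)
 (.leaf 221242694715442092)))
 (.node 870
 (.node 869
 (.leaf 264589849719014162)
 (.leaf 221806327558767523))
 (.node 871
 (.leaf 265434287524873124)
 (.node 872
 (.leaf 222368620392481677)
 (.leaf 265715779680732081)))))
 (.node 877
 (.node 875
 (.node 874
 (.leaf 222932248940708786)
 (.leaf 266279386764411672))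
 (.node 876
 (.leaf 223495203199255321)
 (.leaf 224057487423046580)))
 (.node 879
 (.node 878
 (.leaf 266841692482896668)
 (.leaf 224901929543009054))
 (.node 880
 (.leaf 267405312441385909)
 (.node 881
 (.leaf 267967613864706966)
 (.leaf 225465545215902615))))))
 (.node 891
 (.node 886
 (.node 884
 (.node 883
 (.leaf 268249097424339761)
 (.leaf 225747028773372722))
 (.node 885
 (.leaf 226309983024579366)
 (.leaf 268812060270002983)))
 (.node 888
 (.node 887
 (.leaf 227153768011858875)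
 (.leaf 269375027393528766))
 (.node 889
 (.leaf 227717379380478911)
 (.node 890
 (.leaf 269938617298191145)
 (.leaf 228280337923965889)))))
 (.node 895
 (.node 893
 (.node 892
 (.leaf 270500944483255083)
 (.leaf 228843292172616492))
 (.node 894
 (.leaf 270782415172010947)
 (.leaf 229687077162451759)))
 (.node 897
 (.node 896
 (.leaf 271346022245991230)
 (.leaf 229969204965475257))
 (.node 898
 (.leaf 271908340849116090)
 (.node 899
 (.leaf 230812998544393013)
 (.leaf 272471930743030729)))))))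
 (.node 918
 (.node 909
 (.node 904
 (.node 902
 (.node 901
 (.leaf 231376601323209674)
 (.leaf 273034266525893430))
 (.node 903
 (.leaf 231939555580642103)
 (.leaf 273315737198396364)))
 (.node 906
 (.node 905
 (.leaf 232502509821166393)
 (.leaf 233064824128078797))
 (.node 907
 (.leaf 273878704341254972)
 (.node 908
 (.leaf 233628418317288388)
 (.leaf 274723142147703749)))))
 (.node 913
 (.node 911
 (.node 910
 (.leaf 234190749805118311)
 (.leaf 275004634303562706))
 (.node 912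
 (.leaf 234754339699229651)
 (.leaf 275568202732536642)))
 (.node 915
 (.node 914
 (.leaf 235317293957186371)
 (.leaf 235879616836273109))
 (.node 916
 (.leaf 276130547105137478)
 (.node 917
 (.leaf 236724058955645768)
 (.leaf 276694128409510870))))))
 (.node 927
 (.node 922
 (.node 920
 (.node 919
 (.leaf 277256468486947696)
 (.leaf 237287635973833585))
 (.node 921
 (.leaf 237569115244004186)
 (.leaf 277537956348756827)))
 (.node 924
 (.node 923
 (.leaf 238412938881008464)
 (.leaf 278101516178359261))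
 (.node 925
 (.leaf 238976511595512798)
 (.node 926
 (.leaf 278663882025534289)
 (.leaf 239539465844949842)))))
 (.node 931
 (.node 929
 (.node 928
 (.leaf 278945352698495968)
 (.leaf 240102420099695444))
 (.node 930
 (.leaf 240664764464694241)
 (.leaf 279508319840895831)))
 (.node 933
 (.node 932
 (.leaf 241228328589591397)
 (.leaf 280352757654029158))
 (.node 934
 (.leaf 241790690141733850)
 (.node 935
 (.leaf 280634249803662310)
 (.leaf 242354249971532775))))))))
 (.node 972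
 (.node 954
 (.node 945
 (.node 940
 (.node 938
 (.node 937
 (.leaf 281197788167865181)
 (.leaf 242917204229030750))
 (.node 939
 (.leaf 243479557173347305)
 (.leaf 281760162604778337)))
 (.node 942
 (.node 941
 (.leaf 244323999292261219)
 (.leaf 282323713844839402))
 (.node 943
 (.leaf 282886083986588643)
 (.node 944
 (.leaf 244887546238141412)
 (.leaf 245450504780841966)))))
 (.node 949
 (.node 947
 (.node 946
 (.leaf 283167580436431720)
 (.leaf 246013459029492585))
 (.node 948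
 (.leaf 283449051119617008)
 (.leaf 246857312737756012)))
 (.node 951
 (.node 950
 (.leaf 284012589475496815)
 (.leaf 247420846798144497))
 (.node 952
 (.leaf 284856451765109746)
 (.node 953
 (.leaf 247701763437888473)
 (.leaf 248265280320963456))))))
 (.node 963
 (.node 958
 (.node 956
 (.node 955
 (.leaf 285137943930471297)
 (.leaf 249109151206540150))
 (.node 957
 (.leaf 285701456516154360)
 (.leaf 249672676677125113)))
 (.node 960
 (.node 959
 (.leaf 286263869607248759)
 (.leaf 250235630926562168))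
 (.node 961
 (.leaf 286545340280931323)
 (.node 962
 (.leaf 250798585176654714)
 (.leaf 251360976790225916)))))
 (.node 967
 (.node 965
 (.node 964
 (.leaf 287108307422610301)
 (.leaf 251924493671203723))
 (.node 966
 (.leaf 287952745231811468)
 (.leaf 252486902467265525)))
 (.node 969
 (.node 968
 (.leaf 288234237386097665)
 (.leaf 253050415053145090))
 (.node 970
 (.leaf 288797728505660291)
 (.node 971
 (.leaf 253613369309922180)
 (.leaf 254175769499599876)))))))
 (.node 990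
 (.node 981
 (.node 976
 (.node 974
 (.node 973
 (.leaf 289360150186492807)
 (.leaf 255020211617792905))
 (.node 975
 (.leaf 289923654182634501)
 (.leaf 290486071568303102)))
 (.node 978
 (.node 977
 (.leaf 255583711319753727)
 (.leaf 256146669862454281))
 (.node 979
 (.leaf 290767568014214030)
 (.node 980
 (.leaf 256709624111104911)
 (.leaf 291049038701331467)))))
 (.node 985
 (.node 983
 (.node 982
 (.leaf 257553525063287698)
 (.leaf 291612529813291925))
 (.node 984
 (.leaf 258117011879756812)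
 (.leaf 292456439347545101)))
 (.node 987
 (.node 986
 (.leaf 258397975763420088)
 (.leaf 259242404988584869))
 (.node 988
 (.leaf 292737940094256145)
 (.node 989
 (.leaf 259805883215250450)
 (.leaf 293301396854080411))))))
 (.node 999
 (.node 994
 (.node 992
 (.node 991
 (.leaf 260368837471503260)
 (.leaf 260931272021443604))
 (.node 993
 (.leaf 293863852894127007)
 (.leaf 261775714139112353)))
 (.node 996
 (.node 995
 (.leaf 294427322531054613)
 (.leaf 294989774275937198))
 (.node 997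
 (.leaf 262339179487101871)
 (.node 998
 (.leaf 262902138024559641)
 (.leaf 295271270727091110)))))
 (.node 1003
 (.node 1001
 (.node 1000
 (.leaf 263465092273210279)
 (.leaf 295552741402674203))
 (.node 1002
 (.leaf 264309027584607146)
 (.leaf 296116198161712045)))
 (.node 1005
 (.node 1004
 (.leaf 264872480041862172)
 (.leaf 296960142055703581))
 (.node 1006
 (.leaf 265153478284739608)
 (.node 1007
 (.leaf 265998388544734128)
 (.leaf 266560857462932512)))))))))
 (.node 1080
 (.node 1044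
 (.node 1026
 (.node 1017
 (.node 1012
 (.node 1010
 (.node 1009
 (.leaf 297241638514787251)
 (.leaf 267124297035940790))
 (.node 1011
 (.leaf 298086076328510391)
 (.leaf 298367555601302562)))
 (.node 1014
 (.node 1013
 (.leaf 267687255579558947)
 (.leaf 268531220955333574))
 (.node 1015
 (.leaf 298649056341263398)
 (.node 1016
 (.leaf 269094647643178023)
 (.leaf 299212461561480124)))))
 (.node 1021
 (.node 1019
 (.node 1018
 (.leaf 269657601898644413)
 (.leaf 270220087988978729))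
 (.node 1020
 (.leaf 299774969140347840)
 (.leaf 271064530105861058)))
 (.node 1023
 (.node 1022
 (.leaf 300338387238454314)
 (.leaf 300900890522158031))
 (.node 1024
 (.leaf 271627943911097296)
 (.node 1025
 (.leaf 272190902452487214)
 (.leaf 301182386973311943))))))
 (.node 1035
 (.node 1030
 (.node 1028
 (.node 1027
 (.leaf 272753856701137864)
 (.leaf 301463857649681456))
 (.node 1029
 (.leaf 273597843551355851)
 (.leaf 302027262869111758)))
 (.node 1032
 (.node 1031
 (.leaf 274161244469789745)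
 (.leaf 302871258302710834))
 (.node 1033
 (.leaf 274442294251488301)
 (.node 1034
 (.leaf 275287152968729553)
 (.leaf 275849673429681205)))))
 (.node 1039
 (.node 1037
 (.node 1036
 (.leaf 303152754761008084)
 (.leaf 276413061463868375))
 (.node 1038
 (.leaf 303997192571585496)
 (.leaf 304278671847523383)))
 (.node 1041
 (.node 1040
 (.leaf 276976020007486520)
 (.leaf 277820453527618618))
 (.node 1042
 (.leaf 304560172588991451)
 (.node 1043
 (.leaf 278383407776269276)
 (.leaf 304841643275060284)))))))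
 (.node 1062
 (.node 1053
 (.node 1048
 (.node 1046
 (.node 1045
 (.leaf 279227428985701343)
 (.leaf 305405014130557922))
 (.node 1047
 (.leaf 279790795544921149)
 (.leaf 306249043923895358)))
 (.node 1050
 (.node 1049
 (.leaf 280071879685833709)
 (.leaf 280916704047530981))
 (.node 1051
 (.leaf 281479258859045953)
 (.node 1052
 (.leaf 306530540381668328)
 (.leaf 282042612538999787)))))
 (.node 1057
 (.node 1055
 (.node 1054
 (.leaf 307374978196440044)
 (.leaf 307656457463202883))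
 (.node 1056
 (.leaf 282605571082617924)
 (.leaf 283731097333138415)))
 (.node 1059
 (.node 1058
 (.leaf 307938327576708162)
 (.leaf 308500908168643571))
 (.node 1060
 (.leaf 284294433832698868)
 (.node 1061
 (.leaf 284575548033008712)
 (.leaf 285420342325085257))))))
 (.node 1071
 (.node 1066
 (.node 1064
 (.node 1063
 (.leaf 308782413205537782)
 (.leaf 285983296573735927))
 (.node 1065
 (.leaf 309063883888460875)
 (.leaf 286827369321989114)))
 (.node 1068
 (.node 1067
 (.leaf 309627203207496701)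
 (.leaf 287390684342387788))
 (.node 1069
 (.leaf 310471284540441677)
 (.node 1070
 (.leaf 287671820022121480)
 (.leaf 288516592844211200)))))
 (.node 1075
 (.node 1073
 (.node 1072
 (.leaf 289079199196120144)
 (.leaf 310752780997428227))
 (.node 1074
 (.leaf 289642501336466438)
 (.leaf 311597218812199943)))
 (.node 1077
 (.node 1076
 (.leaf 311878698079749202)
 (.leaf 290205459880084563))
 (.node 1078
 (.leaf 291331037669426186)
 (.node 1079
 (.leaf 312160516653646929)
 (.leaf 312723148784403470))))))))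
 (.node 1116
 (.node 1098
 (.node 1089
 (.node 1084
 (.node 1082
 (.node 1081
 (.leaf 291894322627019791)
 (.leaf 292175488369296471))
 (.node 1083
 (.leaf 293020226828174352)
 (.leaf 293582867547161688)))
 (.node 1086
 (.node 1085
 (.leaf 313004649531114515)
 (.leaf 294146135324623894))
 (.node 1087
 (.leaf 313849087342216215)
 (.node 1088
 (.leaf 314130566617105498)
 (.leaf 294709093868242011)))))
 (.node 1093
 (.node 1091
 (.node 1090
 (.leaf 295834706016797722)
 (.leaf 314412350828119073))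
 (.node 1092
 (.leaf 314975017318089758)
 (.leaf 296397956617798687)))
 (.node 1095
 (.node 1094
 (.leaf 296679156712997983)
 (.leaf 297523860815742045))
 (.node 1096
 (.leaf 315537988742415454)
 (.node 1097
 (.leaf 297805073803707428)
 (.leaf 298931244290147365))))))
 (.node 1107
 (.node 1102
 (.node 1100
 (.node 1099
 (.leaf 299493932251415650)
 (.leaf 315819489493189672))
 (.node 1101
 (.leaf 300057152786596907)
 (.leaf 316663927305012268)))
 (.node 1104
 (.node 1103
 (.leaf 316945406577542244)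
 (.leaf 300620111330215013))
 (.node 1105
 (.leaf 301745770722690095)
 (.node 1106
 (.leaf 317227143546274870)
 (.leaf 317789857280164915)))))
 (.node 1111
 (.node 1109
 (.node 1108
 (.leaf 302308974079050804)
 (.leaf 302590221419611241))
 (.node 1110
 (.leaf 303434878277715047)
 (.leaf 318352828705211496)))
 (.node 1113
 (.node 1112
 (.leaf 303716138509599801)
 (.leaf 305123521983153211))
 (.node 1114
 (.leaf 318634539905451107)
 (.node 1115
 (.leaf 319197283703653439)
 (.leaf 305686695272252480)))))))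
 (.node 1134
 (.node 1125
 (.node 1120
 (.node 1118
 (.node 1117
 (.leaf 305967972682695790)
 (.leaf 306812599473865798))
 (.node 1119
 (.leaf 319760255129158727)
 (.leaf 307093889770062917)))
 (.node 1122
 (.node 1121
 (.leaf 320041747288294511)
 (.leaf 308219982947812464))
 (.node 1123
 (.leaf 309345711058715722)
 (.node 1124
 (.leaf 320323415536501849)
 (.leaf 320886197988820046)))))
 (.node 1129
 (.node 1127
 (.node 1126
 (.leaf 309908845693699151)
 (.leaf 310190161757209716))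
 (.node 1128
 (.leaf 311034749895312469)
 (.leaf 321449169414915158)))
 (.node 1131
 (.node 1130
 (.leaf 311316078845625428)
 (.leaf 321730661572412533))
 (.node 1132
 (.leaf 312442133369259126)
 (.node 1133
 (.leaf 313286562594423922)
 (.leaf 322293628705309811))))))
 (.node 1143
 (.node 1138
 (.node 1136
 (.node 1135
 (.leaf 313567913019245660)
 (.leaf 322575120863855712))
 (.node 1137
 (.leaf 314693946068370529)
 (.leaf 315256788649182330)))
 (.node 1140
 (.node 1139
 (.leaf 316101325247087724)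
 (.leaf 323138096585770093))
 (.node 1141
 (.leaf 316382705736221798)
 (.node 1142
 (.leaf 323419588743857258)
 (.leaf 317508708721034347)))))
 (.node 1147
 (.node 1145
 (.node 1144
 (.leaf 318071581365568637)
 (.leaf 323701085194617979))
 (.node 1146
 (.leaf 318916087899882620)
 (.leaf 319478977724810353)))
 (.node 1149
 (.node 1148
 (.leaf 323982585941525624)
 (.leaf 320604942055507065))
 (.node 1150
 (.leaf 321167853354943607)
 (.node 1151
 (.leaf 322012291169649791)
 (.leaf 322856728984880254))))))))))))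
  par := (.node 576
 (.node 288
 (.node 144
 (.node 72
 (.node 36
 (.node 18
 (.node 9
 (.node 4
 (.node 2
 (.node 1
 (.leaf 0)
 (.leaf 0))
 (.node 3
 (.leaf 1)
 (.leaf 2)))
 (.node 6
 (.node 5
 (.leaf 3)
 (.leaf 17))
 (.node 7
 (.leaf 18)
 (.node 8
 (.leaf 19)
 (.leaf 32)))))
 (.node 13
 (.node 11
 (.node 10
 (.leaf 34)
 (.leaf 35))
 (.node 12
 (.leaf 49)
 (.leaf 51)))
 (.node 15
 (.node 14
 (.leaf 66)
 (.leaf 80))
 (.node 16
 (.leaf 82)
 (.node 17
 (.leaf 83)
 (.leaf 97))))))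
 (.node 27
 (.node 22
 (.node 20
 (.node 19
 (.leaf 99)
 (.leaf 114))
 (.node 21
 (.leaf 130)
 (.leaf 131)))
 (.node 24
 (.node 23
 (.leaf 145)
 (.leaf 147))
 (.node 25
 (.leaf 162)
 (.node 26
 (.leaf 176)
 (.leaf 178)))))
 (.node 31
 (.node 29
 (.node 28
 (.leaf 179)
 (.leaf 194))
 (.node 30
 (.leaf 209)
 (.leaf 226)))
 (.node 33
 (.node 32
 (.leaf 227)
 (.leaf 241))
 (.node 34
 (.leaf 243)
 (.node 35
 (.leaf 258)
 (.leaf 272)))))))
 (.node 54
 (.node 45
 (.node 40
 (.node 38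
 (.node 37
 (.leaf 274)
 (.leaf 275))
 (.node 39
 (.leaf 290)
 (.leaf 305)))
 (.node 42
 (.node 41
 (.leaf 321)
 (.leaf 323))
 (.node 43
 (.leaf 338)
 (.node 44
 (.leaf 352)
 (.leaf 354)))))
 (.node 49
 (.node 47
 (.node 46
 (.leaf 355)
 (.leaf 370))
 (.node 48
 (.leaf 385)
 (.leaf 402)))
 (.node 51
 (.node 50
 (.leaf 403)
 (.leaf 419))
 (.node 52
 (.leaf 434)
 (.node 53
 (.leaf 449)
 (.leaf 464))))))
 (.node 63
 (.node 58
 (.node 56
 (.node 55
 (.leaf 466)
 (.leaf 481))
 (.node 57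
 (.leaf 483)
 (.leaf 498)))
 (.node 60
 (.node 59
 (.leaf 512)
 (.leaf 514))
 (.node 61
 (.leaf 515)
 (.node 62
 (.leaf 530)
 (.leaf 545)))))
 (.node 67
 (.node 65
 (.node 64
 (.leaf 562)
 (.leaf 563))
 (.node 66
 (.leaf 579)
 (.leaf 594)))
 (.node 69
 (.node 68
 (.leaf 609)
 (.leaf 624))
 (.node 70
 (.leaf 626)
 (.node 71
 (.leaf 640)
 (.leaf 642))))))))
 (.node 108
 (.node 90
 (.node 81
 (.node 76
 (.node 74
 (.node 73
 (.leaf 643)
 (.leaf 658))
 (.node 75
 (.leaf 673)
 (.leaf 690)))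
 (.node 78
 (.node 77
 (.leaf 691)
 (.leaf 707))
 (.node 79
 (.leaf 722)
 (.node 80
 (.leaf 737)
 (.leaf 752)))))
 (.node 85
 (.node 83
 (.node 82
 (.leaf 754)
 (.leaf 769))
 (.node 84
 (.leaf 771)
 (.leaf 786)))
 (.node 87
 (.node 86
 (.leaf 802)
 (.leaf 817))
 (.node 88
 (.leaf 832)
 (.node 89
 (.leaf 834)
 (.leaf 850))))))
 (.node 99
 (.node 94
 (.node 92
 (.node 91
 (.leaf 867)
 (.leaf 880))
 (.node 93
 (.leaf 882)
 (.leaf 883)))
 (.node 96
 (.node 95
 (.leaf 898)
 (.leaf 913))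
 (.node 97
 (.leaf 930)
 (.node 98
 (.leaf 931)
 (.leaf 947)))))
 (.node 103
 (.node 101
 (.node 100
 (.leaf 962)
 (.leaf 977))
 (.node 102
 (.leaf 992)
 (.leaf 994)))
 (.node 105
 (.node 104
 (.leaf 1009)
 (.leaf 1011))
 (.node 106
 (.leaf 1026)
 (.node 107
 (.leaf 1042)
 (.leaf 1057)))))))
 (.node 126
 (.node 117
 (.node 112
 (.node 110
 (.node 109
 (.leaf 1072)
 (.leaf 1074))
 (.node 111
 (.leaf 1090)
 (.leaf 1107)))
 (.node 114
 (.node 113
 (.leaf 1122)
 (.leaf 1123))
 (.node 115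
 (.leaf 1139)
 (.node 116
 (.leaf 1154)
 (.leaf 1169)))))
 (.node 121
 (.node 119
 (.node 118
 (.leaf 1184)
 (.leaf 1186))
 (.node 120
 (.leaf 1201)
 (.leaf 1203)))
 (.node 123
 (.node 122
 (.leaf 1218)
 (.leaf 1234))
 (.node 124
 (.leaf 1249)
 (.node 125
 (.leaf 1264)
 (.leaf 1266))))))
 (.node 135
 (.node 130
 (.node 128
 (.node 127
 (.leaf 1282)
 (.leaf 1299))
 (.node 129
 (.leaf 1314)
 (.leaf 1315)))
 (.node 132
 (.node 131
 (.leaf 1330)
 (.leaf 1345))
 (.node 133
 (.leaf 1361)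
 (.node 134
 (.leaf 1376)
 (.leaf 1378)))))
 (.node 139
 (.node 137
 (.node 136
 (.leaf 1394)
 (.leaf 1411))
 (.node 138
 (.leaf 1425)
 (.leaf 1427)))
 (.node 141
 (.node 140
 (.leaf 1458)
 (.leaf 1459))
 (.node 142
 (.leaf 1475)
 (.node 143
 (.leaf 1490)
 (.leaf 1505)))))))))
 (.node 216
 (.node 180
 (.node 162
 (.node 153
 (.node 148
 (.node 146
 (.node 145
 (.leaf 1520)
 (.leaf 1522))
 (.node 147
 (.leaf 1537)
 (.leaf 1539)))
 (.node 150
 (.node 149
 (.leaf 1554)
 (.leaf 1570))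
 (.node 151
 (.leaf 1585)
 (.node 152
 (.leaf 1600)
 (.leaf 1602)))))
 (.node 157
 (.node 155
 (.node 154
 (.leaf 1618)
 (.leaf 1635))
 (.node 156
 (.leaf 1650)
 (.leaf 1651)))
 (.node 159
 (.node 158
 (.leaf 1666)
 (.leaf 1681))
 (.node 160
 (.leaf 1697)
 (.node 161
 (.leaf 1712)
 (.leaf 1714))))))
 (.node 171
 (.node 166
 (.node 164
 (.node 163
 (.leaf 1730)
 (.leaf 1747))
 (.node 165
 (.leaf 1761)
 (.leaf 1763)))
 (.node 168
 (.node 167
 (.leaf 1793)
 (.leaf 1795))
 (.node 169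
 (.leaf 1810)
 (.node 170
 (.leaf 1826)
 (.leaf 1841)))))
 (.node 175
 (.node 173
 (.node 172
 (.leaf 1856)
 (.leaf 1858))
 (.node 174
 (.leaf 1874)
 (.leaf 1891)))
 (.node 177
 (.node 176
 (.leaf 1906)
 (.leaf 1907))
 (.node 178
 (.leaf 1922)
 (.node 179
 (.leaf 1937)
 (.leaf 1953)))))))
 (.node 198
 (.node 189
 (.node 184
 (.node 182
 (.node 181
 (.leaf 1968)
 (.leaf 1970))
 (.node 183
 (.leaf 1986)
 (.leaf 2003)))
 (.node 186
 (.node 185
 (.leaf 2017)
 (.leaf 2019))
 (.node 187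
 (.leaf 2051)
 (.node 188
 (.leaf 2066)
 (.leaf 2081)))))
 (.node 193
 (.node 191
 (.node 190
 (.leaf 2096)
 (.leaf 2098))
 (.node 192
 (.leaf 2112)
 (.leaf 2114)))
 (.node 195
 (.node 194
 (.leaf 2130)
 (.leaf 2147))
 (.node 196
 (.leaf 2161)
 (.node 197
 (.leaf 2163)
 (.leaf 2194))))))
 (.node 207
 (.node 202
 (.node 200
 (.node 199
 (.leaf 2195)
 (.leaf 2225))
 (.node 201
 (.leaf 2227)
 (.leaf 2242)))
 (.node 204
 (.node 203
 (.leaf 2258)
 (.leaf 2273))
 (.node 205
 (.leaf 2288)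
 (.node 206
 (.leaf 2290)
 (.leaf 2306)))))
 (.node 211
 (.node 209
 (.node 208
 (.leaf 2323)
 (.leaf 2338))
 (.node 210
 (.leaf 2339)
 (.leaf 2354)))
 (.node 213
 (.node 212
 (.leaf 2369)
 (.leaf 2385))
 (.node 214
 (.leaf 2400)
 (.node 215
 (.leaf 2402)
 (.leaf 2418))))))))
 (.node 252
 (.node 234
 (.node 225
 (.node 220
 (.node 218
 (.node 217
 (.leaf 2435)
 (.leaf 2449))
 (.node 219
 (.leaf 2451)
 (.leaf 2483)))
 (.node 222
 (.node 221
 (.leaf 2498)
 (.leaf 2513))
 (.node 223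
 (.leaf 2528)
 (.node 224
 (.leaf 2530)
 (.leaf 2544)))))
 (.node 229
 (.node 227
 (.node 226
 (.leaf 2546)
 (.leaf 2562))
 (.node 228
 (.leaf 2579)
 (.leaf 2593)))
 (.node 231
 (.node 230
 (.leaf 2595)
 (.leaf 2626))
 (.node 232
 (.leaf 2627)
 (.node 233
 (.leaf 2658)
 (.leaf 2659))))))
 (.node 243
 (.node 238
 (.node 236
 (.node 235
 (.leaf 2674)
 (.leaf 2689))
 (.node 237
 (.leaf 2705)
 (.leaf 2720)))
 (.node 240
 (.node 239
 (.leaf 2722)
 (.leaf 2738))
 (.node 241
 (.leaf 2755)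
 (.node 242
 (.leaf 2769)
 (.leaf 2771)))))
 (.node 247
 (.node 245
 (.node 244
 (.leaf 2803)
 (.leaf 2818))
 (.node 246
 (.leaf 2833)
 (.leaf 2848)))
 (.node 249
 (.node 248
 (.leaf 2850)
 (.leaf 2864))
 (.node 250
 (.leaf 2866)
 (.node 251
 (.leaf 2882)
 (.leaf 2899)))))))
 (.node 270
 (.node 261
 (.node 256
 (.node 254
 (.node 253
 (.leaf 2913)
 (.leaf 2915))
 (.node 255
 (.leaf 2946)
 (.leaf 2947)))
 (.node 258
 (.node 257
 (.leaf 2978)
 (.leaf 2993))
 (.node 259
 (.leaf 3008)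
 (.node 260
 (.leaf 3010)
 (.leaf 3026)))))
 (.node 265
 (.node 263
 (.node 262
 (.leaf 3043)
 (.leaf 3058))
 (.node 264
 (.leaf 3075)
 (.leaf 3089)))
 (.node 267
 (.node 266
 (.leaf 3091)
 (.leaf 3122))
 (.node 268
 (.leaf 3123)
 (.node 269
 (.leaf 3155)
 (.leaf 3170))))))
 (.node 279
 (.node 274
 (.node 272
 (.node 271
 (.leaf 3186)
 (.leaf 3187))
 (.node 273
 (.leaf 3202)
 (.leaf 3217)))
 (.node 276
 (.node 275
 (.leaf 3233)
 (.leaf 3248))
 (.node 277
 (.leaf 3250)
 (.node 278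
 (.leaf 3266)
 (.leaf 3283)))))
 (.node 283
 (.node 281
 (.node 280
 (.leaf 3297)
 (.leaf 3299))
 (.node 282
 (.leaf 3331)
 (.leaf 3346)))
 (.node 285
 (.node 284
 (.leaf 3361)
 (.leaf 3376))
 (.node 286
 (.leaf 3378)
 (.node 287
 (.leaf 3392)
 (.leaf 3394))))))))))
 (.node 432
 (.node 360
 (.node 324
 (.node 306
 (.node 297
 (.node 292
 (.node 290
 (.node 289
 (.leaf 3410)
 (.leaf 3427))
 (.node 291
 (.leaf 3441)
 (.leaf 3443)))
 (.node 294
 (.node 293
 (.leaf 3474)
 (.leaf 3475))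
 (.node 295
 (.leaf 3506)
 (.node 296
 (.leaf 3521)
 (.leaf 3536)))))
 (.node 301
 (.node 299
 (.node 298
 (.leaf 3538)
 (.leaf 3554))
 (.node 300
 (.leaf 3571)
 (.leaf 3586)))
 (.node 303
 (.node 302
 (.leaf 3603)
 (.leaf 3617))
 (.node 304
 (.leaf 3619)
 (.node 305
 (.leaf 3650)
 (.leaf 3651))))))
 (.node 315
 (.node 310
 (.node 308
 (.node 307
 (.leaf 3683)
 (.leaf 3698))
 (.node 309
 (.leaf 3715)
 (.leaf 3730)))
 (.node 312
 (.node 311
 (.leaf 3745)
 (.leaf 3760))
 (.node 313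
 (.leaf 3762)
 (.node 314
 (.leaf 3776)
 (.leaf 3778)))))
 (.node 319
 (.node 317
 (.node 316
 (.leaf 3794)
 (.leaf 3811))
 (.node 318
 (.leaf 3825)
 (.leaf 3827)))
 (.node 321
 (.node 320
 (.leaf 3858)
 (.leaf 3859))
 (.node 322
 (.leaf 3890)
 (.node 323
 (.leaf 3905)
 (.leaf 3920)))))))
 (.node 342
 (.node 333
 (.node 328
 (.node 326
 (.node 325
 (.leaf 3922)
 (.leaf 3938))
 (.node 327
 (.leaf 3955)
 (.leaf 3970)))
 (.node 330
 (.node 329
 (.leaf 3987)
 (.leaf 4001))
 (.node 331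
 (.leaf 4003)
 (.node 332
 (.leaf 4034)
 (.leaf 4035)))))
 (.node 337
 (.node 335
 (.node 334
 (.leaf 4067)
 (.leaf 4082))
 (.node 336
 (.leaf 4097)
 (.leaf 4112)))
 (.node 339
 (.node 338
 (.leaf 4114)
 (.leaf 4130))
 (.node 340
 (.leaf 4147)
 (.node 341
 (.leaf 4161)
 (.leaf 4163))))))
 (.node 351
 (.node 346
 (.node 344
 (.node 343
 (.leaf 4193)
 (.leaf 4195))
 (.node 345
 (.leaf 4226)
 (.leaf 4227)))
 (.node 348
 (.node 347
 (.leaf 4259)
 (.leaf 4274))
 (.node 349
 (.leaf 4290)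
 (.node 350
 (.leaf 4305)
 (.leaf 4323)))))
 (.node 355
 (.node 353
 (.node 352
 (.leaf 4338)
 (.leaf 4353))
 (.node 354
 (.leaf 4368)
 (.leaf 4370)))
 (.node 357
 (.node 356
 (.leaf 4384)
 (.leaf 4386))
 (.node 358
 (.leaf 4402)
 (.node 359
 (.leaf 4419)
 (.leaf 4433))))))))
 (.node 396
 (.node 378
 (.node 369
 (.node 364
 (.node 362
 (.node 361
 (.leaf 4435)
 (.leaf 4466))
 (.node 363
 (.leaf 4467)
 (.leaf 4498)))
 (.node 366
 (.node 365
 (.leaf 4513)
 (.leaf 4528))
 (.node 367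
 (.leaf 4530)
 (.node 368
 (.leaf 4546)
 (.leaf 4563)))))
 (.node 373
 (.node 371
 (.node 370
 (.leaf 4578)
 (.leaf 4595))
 (.node 372
 (.leaf 4609)
 (.leaf 4611)))
 (.node 375
 (.node 374
 (.leaf 4642)
 (.leaf 4643))
 (.node 376
 (.leaf 4675)
 (.node 377
 (.leaf 4690)
 (.leaf 4705))))))
 (.node 387
 (.node 382
 (.node 380
 (.node 379
 (.leaf 4720)
 (.leaf 4722))
 (.node 381
 (.leaf 4738)
 (.leaf 4755)))
 (.node 384
 (.node 383
 (.leaf 4769)
 (.leaf 4771))
 (.node 385
 (.leaf 4801)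
 (.node 386
 (.leaf 4803)
 (.leaf 4834)))))
 (.node 391
 (.node 389
 (.node 388
 (.leaf 4835)
 (.leaf 4867))
 (.node 390
 (.leaf 4882)
 (.leaf 4898)))
 (.node 393
 (.node 392
 (.leaf 4913)
 (.leaf 4930))
 (.node 394
 (.leaf 4945)
 (.node 395
 (.leaf 4960)
 (.leaf 4962)))))))
 (.node 414
 (.node 405
 (.node 400
 (.node 398
 (.node 397
 (.leaf 4978)
 (.leaf 4995))
 (.node 399
 (.leaf 5010)
 (.leaf 5027)))
 (.node 402
 (.node 401
 (.leaf 5041)
 (.leaf 5043))
 (.node 403
 (.leaf 5074)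
 (.node 404
 (.leaf 5075)
 (.leaf 5107)))))
 (.node 409
 (.node 407
 (.node 406
 (.leaf 5122)
 (.leaf 5137))
 (.node 408
 (.leaf 5152)
 (.leaf 5154)))
 (.node 411
 (.node 410
 (.leaf 5170)
 (.leaf 5187))
 (.node 412
 (.leaf 5201)
 (.node 413
 (.leaf 5203)
 (.leaf 5233))))))
 (.node 423
 (.node 418
 (.node 416
 (.node 415
 (.leaf 5235)
 (.leaf 5266))
 (.node 417
 (.leaf 5267)
 (.leaf 5299)))
 (.node 420
 (.node 419
 (.leaf 5314)
 (.leaf 5330))
 (.node 421
 (.leaf 5345)
 (.node 422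
 (.leaf 5360)
 (.leaf 5362)))))
 (.node 427
 (.node 425
 (.node 424
 (.leaf 5378)
 (.leaf 5395))
 (.node 426
 (.leaf 5409)
 (.leaf 5411)))
 (.node 429
 (.node 428
 (.leaf 5442)
 (.leaf 5443))
 (.node 430
 (.leaf 5474)
 (.node 431
 (.leaf 5475)
 (.leaf 5507)))))))))
 (.node 504
 (.node 468
 (.node 450
 (.node 441
 (.node 436
 (.node 434
 (.node 433
 (.leaf 5522)
 (.leaf 5538))
 (.node 435
 (.leaf 5553)
 (.leaf 5569)))
 (.node 438
 (.node 437
 (.leaf 5584)
 (.leaf 5602))
 (.node 439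
 (.leaf 5617)
 (.node 440
 (.leaf 5632)
 (.leaf 5634)))))
 (.node 445
 (.node 443
 (.node 442
 (.leaf 5650)
 (.leaf 5667))
 (.node 444
 (.leaf 5682)
 (.leaf 5699)))
 (.node 447
 (.node 446
 (.leaf 5713)
 (.leaf 5715))
 (.node 448
 (.leaf 5746)
 (.node 449
 (.leaf 5747)
 (.leaf 5779))))))
 (.node 459
 (.node 454
 (.node 452
 (.node 451
 (.leaf 5794)
 (.leaf 5809))
 (.node 453
 (.leaf 5824)
 (.leaf 5826)))
 (.node 456
 (.node 455
 (.leaf 5842)
 (.leaf 5859))
 (.node 457
 (.leaf 5873)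
 (.node 458
 (.leaf 5875)
 (.leaf 5905)))))
 (.node 463
 (.node 461
 (.node 460
 (.leaf 5907)
 (.leaf 5938))
 (.node 462
 (.leaf 5939)
 (.leaf 5971)))
 (.node 465
 (.node 464
 (.leaf 5986)
 (.leaf 6002))
 (.node 466
 (.leaf 6017)
 (.node 467
 (.leaf 6032)
 (.leaf 6034)))))))
 (.node 486
 (.node 477
 (.node 472
 (.node 470
 (.node 469
 (.leaf 6050)
 (.leaf 6067))
 (.node 471
 (.leaf 6081)
 (.leaf 6083)))
 (.node 474
 (.node 473
 (.leaf 6114)
 (.leaf 6115))
 (.node 475
 (.leaf 6146)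
 (.node 476
 (.leaf 6147)
 (.leaf 6179)))))
 (.node 481
 (.node 479
 (.node 478
 (.leaf 6194)
 (.leaf 6210))
 (.node 480
 (.leaf 6225)
 (.leaf 6241)))
 (.node 483
 (.node 482
 (.leaf 6256)
 (.leaf 6273))
 (.node 484
 (.leaf 6288)
 (.node 485
 (.leaf 6290)
 (.leaf 6306))))))
 (.node 495
 (.node 490
 (.node 488
 (.node 487
 (.leaf 6323)
 (.leaf 6337))
 (.node 489
 (.leaf 6339)
 (.leaf 6369)))
 (.node 492
 (.node 491
 (.leaf 6371)
 (.leaf 6402))
 (.node 493
 (.leaf 6403)
 (.node 494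
 (.leaf 6435)
 (.leaf 6450)))))
 (.node 499
 (.node 497
 (.node 496
 (.leaf 6466)
 (.leaf 6481))
 (.node 498
 (.leaf 6496)
 (.leaf 6498)))
 (.node 501
 (.node 500
 (.leaf 6514)
 (.leaf 6531))
 (.node 502
 (.leaf 6545)
 (.node 503
 (.leaf 6547)
 (.leaf 6578))))))))
 (.node 540
 (.node 522
 (.node 513
 (.node 508
 (.node 506
 (.node 505
 (.leaf 6579)
 (.leaf 6610))
 (.node 507
 (.leaf 6611)
 (.leaf 6643)))
 (.node 510
 (.node 509
 (.leaf 6658)
 (.leaf 6674))
 (.node 511
 (.leaf 6689)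
 (.node 512
 (.leaf 6705)
 (.leaf 6720)))))
 (.node 517
 (.node 515
 (.node 514
 (.leaf 6738)
 (.leaf 6755))
 (.node 516
 (.leaf 6769)
 (.leaf 6771)))
 (.node 519
 (.node 518
 (.leaf 6802)
 (.leaf 6803))
 (.node 520
 (.leaf 6835)
 (.node 521
 (.leaf 6850)
 (.leaf 6867))))))
 (.node 531
 (.node 526
 (.node 524
 (.node 523
 (.leaf 6882)
 (.leaf 6898))
 (.node 525
 (.leaf 6913)
 (.leaf 6929)))
 (.node 528
 (.node 527
 (.leaf 6944)
 (.leaf 6960))
 (.node 529
 (.leaf 6962)
 (.node 530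
 (.leaf 6993)
 (.leaf 7008)))))
 (.node 535
 (.node 533
 (.node 532
 (.leaf 7010)
 (.leaf 7026))
 (.node 534
 (.leaf 7043)
 (.leaf 7057)))
 (.node 537
 (.node 536
 (.leaf 7059)
 (.leaf 7089))
 (.node 538
 (.leaf 7091)
 (.node 539
 (.leaf 7122)
 (.leaf 7123)))))))
 (.node 558
 (.node 549
 (.node 544
 (.node 542
 (.node 541
 (.leaf 7155)
 (.leaf 7170))
 (.node 543
 (.leaf 7186)
 (.leaf 7201)))
 (.node 546
 (.node 545
 (.leaf 7216)
 (.leaf 7218))
 (.node 547
 (.leaf 7234)
 (.node 548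
 (.leaf 7251)
 (.leaf 7265)))))
 (.node 553
 (.node 551
 (.node 550
 (.leaf 7267)
 (.leaf 7298))
 (.node 552
 (.leaf 7299)
 (.leaf 7330)))
 (.node 555
 (.node 554
 (.leaf 7331)
 (.leaf 7363))
 (.node 556
 (.leaf 7378)
 (.node 557
 (.leaf 7394)
 (.leaf 7409))))))
 (.node 567
 (.node 562
 (.node 560
 (.node 559
 (.leaf 7425)
 (.leaf 7440))
 (.node 561
 (.leaf 7458)
 (.leaf 7475)))
 (.node 564
 (.node 563
 (.leaf 7489)
 (.leaf 7491))
 (.node 565
 (.leaf 7522)
 (.node 566
 (.leaf 7523)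
 (.leaf 7555)))))
 (.node 571
 (.node 569
 (.node 568
 (.leaf 7570)
 (.leaf 7587))
 (.node 570
 (.leaf 7602)
 (.leaf 7618)))
 (.node 573
 (.node 572
 (.leaf 7633)
 (.leaf 7649))
 (.node 574
 (.leaf 7664)
 (.node 575
 (.leaf 7680)
 (.leaf 7682)))))))))))
 (.node 864
 (.node 720
 (.node 648
 (.node 612
 (.node 594
 (.node 585
 (.node 580
 (.node 578
 (.node 577
 (.leaf 7712)
 (.leaf 7714))
 (.node 579
 (.leaf 7730)
 (.leaf 7747)))
 (.node 582
 (.node 581
 (.leaf 7761)
 (.leaf 7763))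
 (.node 583
 (.leaf 7794)
 (.node 584
 (.leaf 7795)
 (.leaf 7826)))))
 (.node 589
 (.node 587
 (.node 586
 (.leaf 7827)
 (.leaf 7859))
 (.node 588
 (.leaf 7874)
 (.leaf 7890)))
 (.node 591
 (.node 590
 (.leaf 7905)
 (.leaf 7921))
 (.node 592
 (.leaf 7936)
 (.node 593
 (.leaf 7954)
 (.leaf 7971))))))
 (.node 603
 (.node 598
 (.node 596
 (.node 595
 (.leaf 7985)
 (.leaf 7987))
 (.node 597
 (.leaf 8018)
 (.leaf 8019)))
 (.node 600
 (.node 599
 (.leaf 8051)
 (.leaf 8066))
 (.node 601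
 (.leaf 8083)
 (.node 602
 (.leaf 8098)
 (.leaf 8114)))))
 (.node 607
 (.node 605
 (.node 604
 (.leaf 8129)
 (.leaf 8145))
 (.node 606
 (.leaf 8160)
 (.leaf 8176)))
 (.node 609
 (.node 608
 (.leaf 8178)
 (.leaf 8209))
 (.node 610
 (.leaf 8211)
 (.node 611
 (.leaf 8242)
 (.leaf 8243)))))))
 (.node 630
 (.node 621
 (.node 616
 (.node 614
 (.node 613
 (.leaf 8275)
 (.leaf 8290))
 (.node 615
 (.leaf 8306)
 (.leaf 8321)))
 (.node 618
 (.node 617
 (.leaf 8338)
 (.leaf 8353))
 (.node 619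
 (.leaf 8369)
 (.node 620
 (.leaf 8384)
 (.leaf 8400)))))
 (.node 625
 (.node 623
 (.node 622
 (.leaf 8402)
 (.leaf 8434))
 (.node 624
 (.leaf 8464)
 (.leaf 8466)))
 (.node 627
 (.node 626
 (.leaf 8482)
 (.leaf 8499))
 (.node 628
 (.leaf 8513)
 (.node 629
 (.leaf 8515)
 (.leaf 8546))))))
 (.node 639
 (.node 634
 (.node 632
 (.node 631
 (.leaf 8547)
 (.leaf 8578))
 (.node 633
 (.leaf 8579)
 (.leaf 8611)))
 (.node 636
 (.node 635
 (.leaf 8626)
 (.leaf 8642))
 (.node 637
 (.leaf 8657)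
 (.node 638
 (.leaf 8673)
 (.leaf 8688)))))
 (.node 643
 (.node 641
 (.node 640
 (.leaf 8706)
 (.leaf 8723))
 (.node 642
 (.leaf 8737)
 (.leaf 8739)))
 (.node 645
 (.node 644
 (.leaf 8770)
 (.leaf 8771))
 (.node 646
 (.leaf 8803)
 (.node 647
 (.leaf 8818)
 (.leaf 8835))))))))
 (.node 684
 (.node 666
 (.node 657
 (.node 652
 (.node 650
 (.node 649
 (.leaf 8850)
 (.leaf 8866))
 (.node 651
 (.leaf 8881)
 (.leaf 8897)))
 (.node 654
 (.node 653
 (.leaf 8912)
 (.leaf 8928))
 (.node 655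
 (.leaf 8930)
 (.node 656
 (.leaf 8961)
 (.leaf 8963)))))
 (.node 661
 (.node 659
 (.node 658
 (.leaf 8994)
 (.leaf 8995))
 (.node 660
 (.leaf 9027)
 (.leaf 9042)))
 (.node 663
 (.node 662
 (.leaf 9058)
 (.leaf 9073))
 (.node 664
 (.leaf 9090)
 (.node 665
 (.leaf 9105)
 (.leaf 9121))))))
 (.node 675
 (.node 670
 (.node 668
 (.node 667
 (.leaf 9136)
 (.leaf 9152))
 (.node 669
 (.leaf 9154)
 (.leaf 9186)))
 (.node 672
 (.node 671
 (.leaf 9218)
 (.leaf 9235))
 (.node 673
 (.leaf 9249)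
 (.node 674
 (.leaf 9251)
 (.leaf 9282)))))
 (.node 679
 (.node 677
 (.node 676
 (.leaf 9283)
 (.leaf 9315))
 (.node 678
 (.leaf 9330)
 (.leaf 9347)))
 (.node 681
 (.node 680
 (.leaf 9362)
 (.leaf 9378))
 (.node 682
 (.leaf 9393)
 (.node 683
 (.leaf 9409)
 (.leaf 9424)))))))
 (.node 702
 (.node 693
 (.node 688
 (.node 686
 (.node 685
 (.leaf 9440)
 (.leaf 9442))
 (.node 687
 (.leaf 9473)
 (.leaf 9475)))
 (.node 690
 (.node 689
 (.leaf 9506)
 (.leaf 9507))
 (.node 691
 (.leaf 9539)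
 (.node 692
 (.leaf 9554)
 (.leaf 9570)))))
 (.node 697
 (.node 695
 (.node 694
 (.leaf 9585)
 (.leaf 9602))
 (.node 696
 (.leaf 9617)
 (.leaf 9633)))
 (.node 699
 (.node 698
 (.leaf 9648)
 (.leaf 9664))
 (.node 700
 (.leaf 9666)
 (.node 701
 (.leaf 9698)
 (.leaf 9730))))))
 (.node 711
 (.node 706
 (.node 704
 (.node 703
 (.leaf 9731)
 (.leaf 9763))
 (.node 705
 (.leaf 9778)
 (.leaf 9794)))
 (.node 708
 (.node 707
 (.leaf 9809)
 (.leaf 9825))
 (.node 709
 (.leaf 9840)
 (.node 710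
 (.leaf 9857)
 (.leaf 9872)))))
 (.node 715
 (.node 713
 (.node 712
 (.leaf 9888)
 (.leaf 9890))
 (.node 714
 (.leaf 9922)
 (.leaf 9953)))
 (.node 717
 (.node 716
 (.leaf 9970)
 (.leaf 9987))
 (.node 718
 (.leaf 10001)
 (.node 719
 (.leaf 10003)
 (.leaf 10034)))))))))
 (.node 792
 (.node 756
 (.node 738
 (.node 729
 (.node 724
 (.node 722
 (.node 721
 (.leaf 10035)
 (.leaf 10067))
 (.node 723
 (.leaf 10082)
 (.leaf 10099)))
 (.node 726
 (.node 725
 (.leaf 10114)
 (.leaf 10130))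
 (.node 727
 (.leaf 10145)
 (.node 728
 (.leaf 10161)
 (.leaf 10176)))))
 (.node 733
 (.node 731
 (.node 730
 (.leaf 10192)
 (.leaf 10194))
 (.node 732
 (.leaf 10225)
 (.leaf 10227)))
 (.node 735
 (.node 734
 (.leaf 10258)
 (.leaf 10259))
 (.node 736
 (.leaf 10291)
 (.node 737
 (.leaf 10306)
 (.leaf 10322))))))
 (.node 747
 (.node 742
 (.node 740
 (.node 739
 (.leaf 10337)
 (.leaf 10354))
 (.node 741
 (.leaf 10369)
 (.leaf 10385)))
 (.node 744
 (.node 743
 (.leaf 10400)
 (.leaf 10416))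
 (.node 745
 (.leaf 10418)
 (.node 746
 (.leaf 10450)
 (.leaf 10482)))))
 (.node 751
 (.node 749
 (.node 748
 (.leaf 10483)
 (.leaf 10515))
 (.node 750
 (.leaf 10530)
 (.leaf 10546)))
 (.node 753
 (.node 752
 (.leaf 10561)
 (.leaf 10577))
 (.node 754
 (.leaf 10592)
 (.node 755
 (.leaf 10609)
 (.leaf 10624)))))))
 (.node 774
 (.node 765
 (.node 760
 (.node 758
 (.node 757
 (.leaf 10640)
 (.leaf 10642))
 (.node 759
 (.leaf 10674)
 (.leaf 10705)))
 (.node 762
 (.node 761
 (.leaf 10721)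
 (.leaf 10723))
 (.node 763
 (.leaf 10754)
 (.node 764
 (.leaf 10755)
 (.leaf 10787)))))
 (.node 769
 (.node 767
 (.node 766
 (.leaf 10802)
 (.leaf 10818))
 (.node 768
 (.leaf 10833)
 (.leaf 10850)))
 (.node 771
 (.node 770
 (.leaf 10865)
 (.leaf 10881))
 (.node 772
 (.leaf 10896)
 (.node 773
 (.leaf 10912)
 (.leaf 10914))))))
 (.node 783
 (.node 778
 (.node 776
 (.node 775
 (.leaf 10946)
 (.leaf 10978))
 (.node 777
 (.leaf 10979)
 (.leaf 11011)))
 (.node 780
 (.node 779
 (.leaf 11026)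
 (.leaf 11042))
 (.node 781
 (.leaf 11057)
 (.node 782
 (.leaf 11073)
 (.leaf 11088)))))
 (.node 787
 (.node 785
 (.node 784
 (.leaf 11105)
 (.leaf 11120))
 (.node 786
 (.leaf 11136)
 (.leaf 11138)))
 (.node 789
 (.node 788
 (.leaf 11170)
 (.leaf 11201))
 (.node 790
 (.leaf 11219)
 (.node 791
 (.leaf 11234)
 (.leaf 11250))))))))
 (.node 828
 (.node 810
 (.node 801
 (.node 796
 (.node 794
 (.node 793
 (.leaf 11265)
 (.leaf 11281))
 (.node 795
 (.leaf 11296)
 (.leaf 11312)))
 (.node 798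
 (.node 797
 (.leaf 11314)
 (.leaf 11344))
 (.node 799
 (.leaf 11346)
 (.node 800
 (.leaf 11378)
 (.leaf 11409)))))
 (.node 805
 (.node 803
 (.node 802
 (.leaf 11426)
 (.leaf 11441))
 (.node 804
 (.leaf 11443)
 (.leaf 11474)))
 (.node 807
 (.node 806
 (.leaf 11475)
 (.leaf 11507))
 (.node 808
 (.leaf 11522)
 (.node 809
 (.leaf 11538)
 (.leaf 11553))))))
 (.node 819
 (.node 814
 (.node 812
 (.node 811
 (.leaf 11570)
 (.leaf 11585))
 (.node 813
 (.leaf 11601)
 (.leaf 11616)))
 (.node 816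
 (.node 815
 (.leaf 11632)
 (.leaf 11634))
 (.node 817
 (.leaf 11666)
 (.node 818
 (.leaf 11698)
 (.leaf 11699)))))
 (.node 823
 (.node 821
 (.node 820
 (.leaf 11731)
 (.leaf 11746))
 (.node 822
 (.leaf 11762)
 (.leaf 11777)))
 (.node 825
 (.node 824
 (.leaf 11793)
 (.leaf 11808))
 (.node 826
 (.leaf 11825)
 (.node 827
 (.leaf 11840)
 (.leaf 11856)))))))
 (.node 846
 (.node 837
 (.node 832
 (.node 830
 (.node 829
 (.leaf 11858)
 (.leaf 11890))
 (.node 831
 (.leaf 11921)
 (.leaf 11939)))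
 (.node 834
 (.node 833
 (.leaf 11954)
 (.leaf 11970))
 (.node 835
 (.leaf 11985)
 (.node 836
 (.leaf 12001)
 (.leaf 12016)))))
 (.node 841
 (.node 839
 (.node 838
 (.leaf 12032)
 (.leaf 12034))
 (.node 840
 (.leaf 12064)
 (.leaf 12066)))
 (.node 843
 (.node 842
 (.leaf 12098)
 (.leaf 12129))
 (.node 844
 (.leaf 12146)
 (.node 845
 (.leaf 12162)
 (.leaf 12163))))))
 (.node 855
 (.node 850
 (.node 848
 (.node 847
 (.leaf 12195)
 (.leaf 12210))
 (.node 849
 (.leaf 12226)
 (.leaf 12241)))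
 (.node 852
 (.node 851
 (.leaf 12257)
 (.leaf 12272))
 (.node 853
 (.leaf 12289)
 (.node 854
 (.leaf 12304)
 (.leaf 12320)))))
 (.node 859
 (.node 857
 (.node 856
 (.leaf 12322)
 (.leaf 12354))
 (.node 858
 (.leaf 12385)
 (.leaf 12403)))
 (.node 861
 (.node 860
 (.leaf 12418)
 (.leaf 12434))
 (.node 862
 (.leaf 12449)
 (.node 863
 (.leaf 12465)
 (.leaf 12480))))))))))
 (.node 1008
 (.node 936
 (.node 900
 (.node 882
 (.node 873
 (.node 868
 (.node 866
 (.node 865
 (.leaf 12496)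
 (.leaf 12498))
 (.node 867
 (.leaf 12528)
 (.leaf 12530)))
 (.node 870
 (.node 869
 (.leaf 12562)
 (.leaf 12593))
 (.node 871
 (.leaf 12610)
 (.node 872
 (.leaf 12626)
 (.leaf 12641)))))
 (.node 877
 (.node 875
 (.node 874
 (.leaf 12657)
 (.leaf 12672))
 (.node 876
 (.leaf 12688)
 (.leaf 12690)))
 (.node 879
 (.node 878
 (.leaf 12722)
 (.leaf 12754))
 (.node 880
 (.leaf 12785)
 (.node 881
 (.leaf 12802)
 (.leaf 12819))))))
 (.node 891
 (.node 886
 (.node 884
 (.node 883
 (.leaf 12834)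
 (.leaf 12835))
 (.node 885
 (.leaf 12867)
 (.leaf 12882)))
 (.node 888
 (.node 887
 (.leaf 12898)
 (.leaf 12913))
 (.node 889
 (.leaf 12929)
 (.node 890
 (.leaf 12944)
 (.leaf 12961)))))
 (.node 895
 (.node 893
 (.node 892
 (.leaf 12976)
 (.leaf 12992))
 (.node 894
 (.leaf 12994)
 (.leaf 13026)))
 (.node 897
 (.node 896
 (.leaf 13057)
 (.leaf 13075))
 (.node 898
 (.leaf 13090)
 (.node 899
 (.leaf 13106)
 (.leaf 13121)))))))
 (.node 918
 (.node 909
 (.node 904
 (.node 902
 (.node 901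
 (.leaf 13137)
 (.leaf 13152))
 (.node 903
 (.leaf 13168)
 (.leaf 13170)))
 (.node 906
 (.node 905
 (.leaf 13200)
 (.leaf 13202))
 (.node 907
 (.leaf 13234)
 (.node 908
 (.leaf 13265)
 (.leaf 13282)))))
 (.node 913
 (.node 911
 (.node 910
 (.leaf 13298)
 (.leaf 13313))
 (.node 912
 (.leaf 13329)
 (.leaf 13344)))
 (.node 915
 (.node 914
 (.leaf 13360)
 (.leaf 13362))
 (.node 916
 (.leaf 13394)
 (.node 917
 (.leaf 13426)
 (.leaf 13457))))))
 (.node 927
 (.node 922
 (.node 920
 (.node 919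
 (.leaf 13474)
 (.leaf 13491))
 (.node 921
 (.leaf 13507)
 (.leaf 13522)))
 (.node 924
 (.node 923
 (.leaf 13538)
 (.leaf 13553))
 (.node 925
 (.leaf 13569)
 (.node 926
 (.leaf 13584)
 (.leaf 13600)))))
 (.node 931
 (.node 929
 (.node 928
 (.leaf 13602)
 (.leaf 13632))
 (.node 930
 (.leaf 13634)
 (.leaf 13666)))
 (.node 933
 (.node 932
 (.leaf 13697)
 (.leaf 13714))
 (.node 934
 (.leaf 13730)
 (.node 935
 (.leaf 13745)
 (.leaf 13761))))))))
 (.node 972
 (.node 954
 (.node 945
 (.node 940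
 (.node 938
 (.node 937
 (.leaf 13776)
 (.leaf 13792))
 (.node 939
 (.leaf 13794)
 (.leaf 13826)))
 (.node 942
 (.node 941
 (.leaf 13858)
 (.leaf 13889))
 (.node 943
 (.leaf 13906)
 (.node 944
 (.leaf 13923)
 (.leaf 13937)))))
 (.node 949
 (.node 947
 (.node 946
 (.leaf 13952)
 (.leaf 13968))
 (.node 948
 (.leaf 13970)
 (.leaf 14002)))
 (.node 951
 (.node 950
 (.leaf 14033)
 (.leaf 14049))
 (.node 952
 (.leaf 14066)
 (.node 953
 (.leaf 14083)
 (.leaf 14115))))))
 (.node 963
 (.node 958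
 (.node 956
 (.node 955
 (.leaf 14130)
 (.leaf 14146))
 (.node 957
 (.leaf 14161)
 (.leaf 14177)))
 (.node 960
 (.node 959
 (.leaf 14192)
 (.leaf 14208))
 (.node 961
 (.leaf 14210)
 (.node 962
 (.leaf 14240)
 (.leaf 14242)))))
 (.node 967
 (.node 965
 (.node 964
 (.leaf 14274)
 (.leaf 14305))
 (.node 966
 (.leaf 14322)
 (.leaf 14338)))
 (.node 969
 (.node 968
 (.leaf 14353)
 (.leaf 14369))
 (.node 970
 (.leaf 14384)
 (.node 971
 (.leaf 14400)
 (.leaf 14402)))))))
 (.node 990
 (.node 981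
 (.node 976
 (.node 974
 (.node 973
 (.leaf 14434)
 (.leaf 14466))
 (.node 975
 (.leaf 14497)
 (.leaf 14514)))
 (.node 978
 (.node 977
 (.leaf 14531)
 (.leaf 14545))
 (.node 979
 (.leaf 14560)
 (.node 980
 (.leaf 14576)
 (.leaf 14578)))))
 (.node 985
 (.node 983
 (.node 982
 (.leaf 14610)
 (.leaf 14641))
 (.node 984
 (.leaf 14657)
 (.leaf 14674)))
 (.node 987
 (.node 986
 (.leaf 14691)
 (.leaf 14722))
 (.node 988
 (.leaf 14737)
 (.node 989
 (.leaf 14753)
 (.leaf 14768))))))
 (.node 999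
 (.node 994
 (.node 992
 (.node 991
 (.leaf 14784)
 (.leaf 14786))
 (.node 993
 (.leaf 14818)
 (.leaf 14850)))
 (.node 996
 (.node 995
 (.leaf 14881)
 (.leaf 14898))
 (.node 997
 (.leaf 14915)
 (.node 998
 (.leaf 14929)
 (.leaf 14944)))))
 (.node 1003
 (.node 1001
 (.node 1000
 (.leaf 14960)
 (.leaf 14962))
 (.node 1002
 (.leaf 14994)
 (.leaf 15025)))
 (.node 1005
 (.node 1004
 (.leaf 15041)
 (.leaf 15058))
 (.node 1006
 (.leaf 15075)
 (.node 1007
 (.leaf 15104)
 (.leaf 15106)))))))))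
 (.node 1080
 (.node 1044
 (.node 1026
 (.node 1017
 (.node 1012
 (.node 1010
 (.node 1009
 (.leaf 15138)
 (.leaf 15169))
 (.node 1011
 (.leaf 15186)
 (.leaf 15202)))
 (.node 1014
 (.node 1013
 (.leaf 15219)
 (.leaf 15250))
 (.node 1015
 (.leaf 15265)
 (.node 1016
 (.leaf 15281)
 (.leaf 15296)))))
 (.node 1021
 (.node 1019
 (.node 1018
 (.leaf 15312)
 (.leaf 15314))
 (.node 1020
 (.leaf 15346)
 (.leaf 15378)))
 (.node 1023
 (.node 1022
 (.leaf 15409)
 (.leaf 15426))
 (.node 1024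
 (.leaf 15443)
 (.node 1025
 (.leaf 15457)
 (.leaf 15472))))))
 (.node 1035
 (.node 1030
 (.node 1028
 (.node 1027
 (.leaf 15488)
 (.leaf 15490))
 (.node 1029
 (.leaf 15522)
 (.leaf 15553)))
 (.node 1032
 (.node 1031
 (.leaf 15569)
 (.leaf 15586))
 (.node 1033
 (.leaf 15603)
 (.node 1034
 (.leaf 15632)
 (.leaf 15634)))))
 (.node 1039
 (.node 1037
 (.node 1036
 (.leaf 15666)
 (.leaf 15697))
 (.node 1038
 (.leaf 15714)
 (.leaf 15730)))
 (.node 1041
 (.node 1040
 (.leaf 15747)
 (.leaf 15777))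
 (.node 1042
 (.leaf 15792)
 (.node 1043
 (.leaf 15808)
 (.leaf 15810)))))))
 (.node 1062
 (.node 1053
 (.node 1048
 (.node 1046
 (.node 1045
 (.leaf 15842)
 (.leaf 15873))
 (.node 1047
 (.leaf 15889)
 (.leaf 15906)))
 (.node 1050
 (.node 1049
 (.leaf 15923)
 (.leaf 15952))
 (.node 1051
 (.leaf 15954)
 (.node 1052
 (.leaf 15986)
 (.leaf 16017)))))
 (.node 1057
 (.node 1055
 (.node 1054
 (.leaf 16034)
 (.leaf 16050))
 (.node 1056
 (.leaf 16067)
 (.leaf 16098)))
 (.node 1059
 (.node 1058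
 (.leaf 16129)
 (.leaf 16146))
 (.node 1060
 (.leaf 16163)
 (.node 1061
 (.leaf 16179)
 (.leaf 16209))))))
 (.node 1071
 (.node 1066
 (.node 1064
 (.node 1063
 (.leaf 16224)
 (.leaf 16240))
 (.node 1065
 (.leaf 16242)
 (.leaf 16274)))
 (.node 1068
 (.node 1067
 (.leaf 16305)
 (.leaf 16321))
 (.node 1069
 (.leaf 16338)
 (.node 1070
 (.leaf 16355)
 (.leaf 16384)))))
 (.node 1075
 (.node 1073
 (.node 1072
 (.leaf 16386)
 (.leaf 16418))
 (.node 1074
 (.leaf 16449)
 (.leaf 16466)))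
 (.node 1077
 (.node 1076
 (.leaf 16482)
 (.leaf 16499))
 (.node 1078
 (.leaf 16530)
 (.node 1079
 (.leaf 16561)
 (.leaf 16578))))))))
 (.node 1116
 (.node 1098
 (.node 1089
 (.node 1084
 (.node 1082
 (.node 1081
 (.leaf 16595)
 (.leaf 16611))
 (.node 1083
 (.leaf 16640)
 (.leaf 16642)))
 (.node 1086
 (.node 1085
 (.leaf 16674)
 (.leaf 16705))
 (.node 1087
 (.leaf 16722)
 (.node 1088
 (.leaf 16738)
 (.leaf 16755)))))
 (.node 1093
 (.node 1091
 (.node 1090
 (.leaf 16786)
 (.leaf 16817))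
 (.node 1092
 (.leaf 16834)
 (.leaf 16851)))
 (.node 1095
 (.node 1094
 (.leaf 16867)
 (.leaf 16897))
 (.node 1096
 (.leaf 16914)
 (.node 1097
 (.leaf 16931)
 (.leaf 16976))))))
 (.node 1107
 (.node 1102
 (.node 1100
 (.node 1099
 (.leaf 16978)
 (.leaf 17010))
 (.node 1101
 (.leaf 17041)
 (.leaf 17058)))
 (.node 1104
 (.node 1103
 (.leaf 17074)
 (.leaf 17091))
 (.node 1105
 (.leaf 17122)
 (.node 1106
 (.leaf 17153)
 (.leaf 17170)))))
 (.node 1111
 (.node 1109
 (.node 1108
 (.leaf 17187)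
 (.leaf 17203))
 (.node 1110
 (.leaf 17233)
 (.leaf 17250)))
 (.node 1113
 (.node 1112
 (.leaf 17267)
 (.leaf 17314))
 (.node 1114
 (.leaf 17345)
 (.node 1115
 (.leaf 17362)
 (.leaf 17379)))))))
 (.node 1134
 (.node 1125
 (.node 1120
 (.node 1118
 (.node 1117
 (.leaf 17395)
 (.leaf 17425))
 (.node 1119
 (.leaf 17442)
 (.leaf 17459)))
 (.node 1122
 (.node 1121
 (.leaf 17506)
 (.leaf 17523))
 (.node 1123
 (.leaf 17554)
 (.node 1124
 (.leaf 17585)
 (.leaf 17602)))))
 (.node 1129
 (.node 1127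
 (.node 1126
 (.leaf 17619)
 (.leaf 17635))
 (.node 1128
 (.leaf 17665)
 (.leaf 17682)))
 (.node 1131
 (.node 1130
 (.leaf 17699)
 (.leaf 17746))
 (.node 1132
 (.leaf 17763)
 (.node 1133
 (.leaf 17793)
 (.leaf 17810))))))
 (.node 1143
 (.node 1138
 (.node 1136
 (.node 1135
 (.leaf 17827)
 (.leaf 17874))
 (.node 1137
 (.leaf 17891)
 (.leaf 17923)))
 (.node 1140
 (.node 1139
 (.leaf 17953)
 (.leaf 17970))
 (.node 1141
 (.leaf 17987)
 (.node 1142
 (.leaf 18034)
 (.leaf 18051)))))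
 (.node 1147
 (.node 1145
 (.node 1144
 (.leaf 18083)
 (.leaf 18114))
 (.node 1146
 (.leaf 18131)
 (.leaf 18163)))
 (.node 1149
 (.node 1148
 (.leaf 18210)
 (.leaf 18227))
 (.node 1150
 (.leaf 18259)
 (.node 1151
 (.leaf 18307)
 (.leaf 18355))))))))))))
  len := (.node 576
 (.node 288
 (.node 144
 (.node 72
 (.node 36
 (.node 18
 (.node 9
 (.node 4
 (.node 2
 (.node 1
 (.leaf 0)
 (.leaf 1))
 (.node 3
 (.leaf 1)
 (.leaf 2)))
 (.node 6
 (.node 5
 (.leaf 2)
 (.leaf 2))
 (.node 7
 (.leaf 3)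
 (.node 8
 (.leaf 3)
 (.leaf 2)))))
 (.node 13
 (.node 11
 (.node 10
 (.leaf 3)
 (.leaf 3))
 (.node 12
 (.leaf 3)
 (.leaf 4)))
 (.node 15
 (.node 14
 (.leaf 4)
 (.leaf 3))
 (.node 16
 (.leaf 4)
 (.node 17
 (.leaf 4)
 (.leaf 4))))))
 (.node 27
 (.node 22
 (.node 20
 (.node 19
 (.leaf 5)
 (.leaf 5))
 (.node 21
 (.leaf 4)
 (.leaf 4)))
 (.node 24
 (.node 23
 (.leaf 4)
 (.leaf 5))
 (.node 25
 (.leaf 5)
 (.node 26
 (.leaf 4)
 (.leaf 5)))))
 (.node 31
 (.node 29
 (.node 28
 (.leaf 5)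
 (.leaf 6))
 (.node 30
 (.leaf 5)
 (.leaf 5)))
 (.node 33
 (.node 32
 (.leaf 5)
 (.leaf 5))
 (.node 34
 (.leaf 6)
 (.node 35
 (.leaf 6)
 (.leaf 5)))))))
 (.node 54
 (.node 45
 (.node 40
 (.node 38
 (.node 37
 (.leaf 6)
 (.leaf 6))
 (.node 39
 (.leaf 7)
 (.leaf 6)))
 (.node 42
 (.node 41
 (.leaf 5)
 (.leaf 6))
 (.node 43
 (.leaf 6)
 (.node 44
 (.leaf 5)
 (.leaf 6)))))
 (.node 49
 (.node 47
 (.node 46
 (.leaf 6)
 (.leaf 7))
 (.node 48
 (.leaf 6)
 (.leaf 6)))
 (.node 51
 (.node 50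
 (.leaf 6)
 (.leaf 7))
 (.node 52
 (.leaf 7)
 (.node 53
 (.leaf 7)
 (.leaf 6))))))
 (.node 63
 (.node 58
 (.node 56
 (.node 55
 (.leaf 7)
 (.leaf 6))
 (.node 57
 (.leaf 7)
 (.leaf 7)))
 (.node 60
 (.node 59
 (.leaf 6)
 (.leaf 7))
 (.node 61
 (.leaf 7)
 (.node 62
 (.leaf 8)
 (.leaf 7)))))
 (.node 67
 (.node 65
 (.node 64
 (.leaf 7)
 (.leaf 7))
 (.node 66
 (.leaf 8)
 (.leaf 8)))
 (.node 69
 (.node 68
 (.leaf 8)
 (.leaf 7))
 (.node 70
 (.leaf 8)
 (.node 71
 (.leaf 6)
 (.leaf 7))))))))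
 (.node 108
 (.node 90
 (.node 81
 (.node 76
 (.node 74
 (.node 73
 (.leaf 7)
 (.leaf 8))
 (.node 75
 (.leaf 7)
 (.leaf 7)))
 (.node 78
 (.node 77
 (.leaf 7)
 (.leaf 8))
 (.node 79
 (.leaf 8)
 (.node 80
 (.leaf 8)
 (.leaf 7)))))
 (.node 85
 (.node 83
 (.node 82
 (.leaf 8)
 (.leaf 7))
 (.node 84
 (.leaf 8)
 (.leaf 8)))
 (.node 87
 (.node 86
 (.leaf 9)
 (.leaf 8))
 (.node 88
 (.leaf 8)
 (.node 89
 (.leaf 9)
 (.leaf 8))))))
 (.node 99
 (.node 94
 (.node 92
 (.node 91
 (.leaf 9)
 (.leaf 7))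
 (.node 93
 (.leaf 8)
 (.leaf 8)))
 (.node 96
 (.node 95
 (.leaf 9)
 (.leaf 8))
 (.node 97
 (.leaf 8)
 (.node 98
 (.leaf 8)
 (.leaf 9)))))
 (.node 103
 (.node 101
 (.node 100
 (.leaf 9)
 (.leaf 9))
 (.node 102
 (.leaf 8)
 (.leaf 9)))
 (.node 105
 (.node 104
 (.leaf 8)
 (.leaf 9))
 (.node 106
 (.leaf 9)
 (.node 107
 (.leaf 10)
 (.leaf 9)))))))
 (.node 126
 (.node 117
 (.node 112
 (.node 110
 (.node 109
 (.leaf 9)
 (.leaf 10))
 (.node 111
 (.leaf 9)
 (.leaf 10)))
 (.node 114
 (.node 113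
 (.leaf 8)
 (.leaf 8))
 (.node 115
 (.leaf 9)
 (.node 116
 (.leaf 9)
 (.leaf 9)))))
 (.node 121
 (.node 119
 (.node 118
 (.leaf 8)
 (.leaf 9))
 (.node 120
 (.leaf 8)
 (.leaf 9)))
 (.node 123
 (.node 122
 (.leaf 9)
 (.leaf 10))
 (.node 124
 (.leaf 9)
 (.node 125
 (.leaf 9)
 (.leaf 10))))))
 (.node 135
 (.node 130
 (.node 128
 (.node 127
 (.leaf 9)
 (.leaf 10))
 (.node 129
 (.leaf 9)
 (.leaf 9)))
 (.node 132
 (.node 131
 (.leaf 10)
 (.leaf 9))
 (.node 133
 (.leaf 10)
 (.node 134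
 (.leaf 9)
 (.leaf 10)))))
 (.node 139
 (.node 137
 (.node 136
 (.leaf 10)
 (.leaf 11))
 (.node 138
 (.leaf 9)
 (.leaf 10)))
 (.node 141
 (.node 140
 (.leaf 9)
 (.leaf 9))
 (.node 142
 (.leaf 10)
 (.node 143
 (.leaf 10)
 (.leaf 10)))))))))
 (.node 216
 (.node 180
 (.node 162
 (.node 153
 (.node 148
 (.node 146
 (.node 145
 (.leaf 9)
 (.leaf 10))
 (.node 147
 (.leaf 9)
 (.leaf 10)))
 (.node 150
 (.node 149
 (.leaf 10)
 (.leaf 11))
 (.node 151
 (.leaf 10)
 (.node 152
 (.leaf 10)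
 (.leaf 11)))))
 (.node 157
 (.node 155
 (.node 154
 (.leaf 10)
 (.leaf 11))
 (.node 156
 (.leaf 10)
 (.leaf 10)))
 (.node 159
 (.node 158
 (.leaf 11)
 (.leaf 10))
 (.node 160
 (.leaf 11)
 (.node 161
 (.leaf 10)
 (.leaf 11))))))
 (.node 171
 (.node 166
 (.node 164
 (.node 163
 (.leaf 11)
 (.leaf 12))
 (.node 165
 (.leaf 10)
 (.leaf 11)))
 (.node 168
 (.node 167
 (.leaf 9)
 (.leaf 10))
 (.node 169
 (.leaf 10)
 (.node 170
 (.leaf 11)
 (.leaf 10)))))
 (.node 175
 (.node 173
 (.node 172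
 (.leaf 10)
 (.leaf 11))
 (.node 174
 (.leaf 10)
 (.leaf 11)))
 (.node 177
 (.node 176
 (.leaf 10)
 (.leaf 10))
 (.node 178
 (.leaf 11)
 (.node 179
 (.leaf 10)
 (.leaf 11)))))))
 (.node 198
 (.node 189
 (.node 184
 (.node 182
 (.node 181
 (.leaf 10)
 (.leaf 11))
 (.node 183
 (.leaf 11)
 (.leaf 12)))
 (.node 186
 (.node 185
 (.leaf 10)
 (.leaf 11))
 (.node 187
 (.leaf 11)
 (.node 188
 (.leaf 11)
 (.leaf 11)))))
 (.node 193
 (.node 191
 (.node 190
 (.leaf 10)
 (.leaf 11))
 (.node 192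
 (.leaf 11)
 (.leaf 12)))
 (.node 195
 (.node 194
 (.leaf 11)
 (.leaf 12))
 (.node 196
 (.leaf 11)
 (.node 197
 (.leaf 12)
 (.leaf 11))))))
 (.node 207
 (.node 202
 (.node 200
 (.node 199
 (.leaf 11)
 (.leaf 10))
 (.node 201
 (.leaf 11)
 (.leaf 11)))
 (.node 204
 (.node 203
 (.leaf 12)
 (.leaf 11))
 (.node 205
 (.leaf 11)
 (.node 206
 (.leaf 12)
 (.leaf 11)))))
 (.node 211
 (.node 209
 (.node 208
 (.leaf 12)
 (.leaf 11))
 (.node 210
 (.leaf 11)
 (.leaf 12)))
 (.node 213
 (.node 212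
 (.leaf 11)
 (.leaf 12))
 (.node 214
 (.leaf 11)
 (.node 215
 (.leaf 12)
 (.leaf 12))))))))
 (.node 252
 (.node 234
 (.node 225
 (.node 220
 (.node 218
 (.node 217
 (.leaf 13)
 (.leaf 11))
 (.node 219
 (.leaf 12)
 (.leaf 12)))
 (.node 222
 (.node 221
 (.leaf 12)
 (.leaf 12))
 (.node 223
 (.leaf 11)
 (.node 224
 (.leaf 12)
 (.leaf 12)))))
 (.node 229
 (.node 227
 (.node 226
 (.leaf 13)
 (.leaf 12))
 (.node 228
 (.leaf 13)
 (.leaf 12)))
 (.node 231
 (.node 230
 (.leaf 13)
 (.leaf 12))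
 (.node 232
 (.leaf 12)
 (.node 233
 (.leaf 11)
 (.leaf 11))))))
 (.node 243
 (.node 238
 (.node 236
 (.node 235
 (.leaf 12)
 (.leaf 11))
 (.node 237
 (.leaf 12)
 (.leaf 11)))
 (.node 240
 (.node 239
 (.leaf 12)
 (.leaf 12))
 (.node 241
 (.leaf 13)
 (.node 242
 (.leaf 11)
 (.leaf 12)))))
 (.node 247
 (.node 245
 (.node 244
 (.leaf 12)
 (.leaf 12))
 (.node 246
 (.leaf 12)
 (.leaf 11)))
 (.node 249
 (.node 248
 (.leaf 12)
 (.leaf 12))
 (.node 250
 (.leaf 13)
 (.node 251
 (.leaf 12)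
 (.leaf 13)))))))
 (.node 270
 (.node 261
 (.node 256
 (.node 254
 (.node 253
 (.leaf 12)
 (.leaf 13))
 (.node 255
 (.leaf 12)
 (.leaf 12)))
 (.node 258
 (.node 257
 (.leaf 13)
 (.leaf 12))
 (.node 259
 (.leaf 12)
 (.node 260
 (.leaf 13)
 (.leaf 12)))))
 (.node 265
 (.node 263
 (.node 262
 (.leaf 13)
 (.leaf 13))
 (.node 264
 (.leaf 14)
 (.leaf 12)))
 (.node 267
 (.node 266
 (.leaf 13)
 (.leaf 13))
 (.node 268
 (.leaf 13)
 (.node 269
 (.leaf 13)
 (.leaf 13))))))
 (.node 279
 (.node 274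
 (.node 272
 (.node 271
 (.leaf 12)
 (.leaf 12))
 (.node 273
 (.leaf 13)
 (.leaf 12)))
 (.node 276
 (.node 275
 (.leaf 13)
 (.leaf 12))
 (.node 277
 (.leaf 13)
 (.node 278
 (.leaf 13)
 (.leaf 14)))))
 (.node 283
 (.node 281
 (.node 280
 (.leaf 12)
 (.leaf 13))
 (.node 282
 (.leaf 13)
 (.leaf 13)))
 (.node 285
 (.node 284
 (.leaf 13)
 (.leaf 12))
 (.node 286
 (.leaf 13)
 (.node 287
 (.leaf 13)
 (.leaf 14))))))))))
 (.node 432
 (.node 360
 (.node 324
 (.node 306
 (.node 297
 (.node 292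
 (.node 290
 (.node 289
 (.leaf 13)
 (.leaf 14))
 (.node 291
 (.leaf 13)
 (.leaf 14)))
 (.node 294
 (.node 293
 (.leaf 13)
 (.leaf 13))
 (.node 295
 (.leaf 14)
 (.node 296
 (.leaf 13)
 (.leaf 13)))))
 (.node 301
 (.node 299
 (.node 298
 (.leaf 14)
 (.leaf 13))
 (.node 300
 (.leaf 14)
 (.leaf 14)))
 (.node 303
 (.node 302
 (.leaf 15)
 (.leaf 13))
 (.node 304
 (.leaf 14)
 (.node 305
 (.leaf 14)
 (.leaf 14))))))
 (.node 315
 (.node 310
 (.node 308
 (.node 307
 (.leaf 14)
 (.leaf 14))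
 (.node 309
 (.leaf 13)
 (.leaf 13)))
 (.node 312
 (.node 311
 (.leaf 13)
 (.leaf 12))
 (.node 313
 (.leaf 13)
 (.node 314
 (.leaf 13)
 (.leaf 14)))))
 (.node 319
 (.node 317
 (.node 316
 (.leaf 13)
 (.leaf 14))
 (.node 318
 (.leaf 13)
 (.leaf 14)))
 (.node 321
 (.node 320
 (.leaf 13)
 (.leaf 13))
 (.node 322
 (.leaf 14)
 (.node 323
 (.leaf 13)
 (.leaf 13)))))))
 (.node 342
 (.node 333
 (.node 328
 (.node 326
 (.node 325
 (.leaf 14)
 (.leaf 13))
 (.node 327
 (.leaf 14)
 (.leaf 14)))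
 (.node 330
 (.node 329
 (.leaf 15)
 (.leaf 13))
 (.node 331
 (.leaf 14)
 (.node 332
 (.leaf 14)
 (.leaf 14)))))
 (.node 337
 (.node 335
 (.node 334
 (.leaf 14)
 (.leaf 14))
 (.node 336
 (.leaf 14)
 (.leaf 13)))
 (.node 339
 (.node 338
 (.leaf 14)
 (.leaf 14))
 (.node 340
 (.leaf 15)
 (.node 341
 (.leaf 13)
 (.leaf 14))))))
 (.node 351
 (.node 346
 (.node 344
 (.node 343
 (.leaf 14)
 (.leaf 15))
 (.node 345
 (.leaf 14)
 (.leaf 14)))
 (.node 348
 (.node 347
 (.leaf 15)
 (.leaf 15))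
 (.node 349
 (.leaf 15)
 (.node 350
 (.leaf 14)
 (.leaf 14)))))
 (.node 355
 (.node 353
 (.node 352
 (.leaf 14)
 (.leaf 14))
 (.node 354
 (.leaf 13)
 (.leaf 14)))
 (.node 357
 (.node 356
 (.leaf 14)
 (.leaf 15))
 (.node 358
 (.leaf 14)
 (.node 359
 (.leaf 15)
 (.leaf 14))))))))
 (.node 396
 (.node 378
 (.node 369
 (.node 364
 (.node 362
 (.node 361
 (.leaf 15)
 (.leaf 14))
 (.node 363
 (.leaf 14)
 (.leaf 15)))
 (.node 366
 (.node 365
 (.leaf 14)
 (.leaf 14))
 (.node 367
 (.leaf 15)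
 (.node 368
 (.leaf 14)
 (.leaf 15)))))
 (.node 373
 (.node 371
 (.node 370
 (.leaf 15)
 (.leaf 16))
 (.node 372
 (.leaf 14)
 (.leaf 15)))
 (.node 375
 (.node 374
 (.leaf 15)
 (.leaf 15))
 (.node 376
 (.leaf 15)
 (.node 377
 (.leaf 15)
 (.leaf 15))))))
 (.node 387
 (.node 382
 (.node 380
 (.node 379
 (.leaf 14)
 (.leaf 15))
 (.node 381
 (.leaf 15)
 (.leaf 16)))
 (.node 384
 (.node 383
 (.leaf 14)
 (.leaf 15))
 (.node 385
 (.leaf 15)
 (.node 386
 (.leaf 16)
 (.leaf 15)))))
 (.node 391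
 (.node 389
 (.node 388
 (.leaf 15)
 (.leaf 16))
 (.node 390
 (.leaf 16)
 (.leaf 16)))
 (.node 393
 (.node 392
 (.leaf 15)
 (.leaf 15))
 (.node 394
 (.leaf 14)
 (.node 395
 (.leaf 14)
 (.leaf 15)))))))
 (.node 414
 (.node 405
 (.node 400
 (.node 398
 (.node 397
 (.leaf 14)
 (.leaf 15))
 (.node 399
 (.leaf 15)
 (.leaf 16)))
 (.node 402
 (.node 401
 (.leaf 14)
 (.leaf 15))
 (.node 403
 (.leaf 15)
 (.node 404
 (.leaf 15)
 (.leaf 15)))))
 (.node 409
 (.node 407
 (.node 406
 (.leaf 15)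
 (.leaf 15))
 (.node 408
 (.leaf 14)
 (.leaf 15)))
 (.node 411
 (.node 410
 (.leaf 15)
 (.leaf 16))
 (.node 412
 (.leaf 14)
 (.node 413
 (.leaf 15)
 (.leaf 15))))))
 (.node 423
 (.node 418
 (.node 416
 (.node 415
 (.leaf 16)
 (.leaf 15))
 (.node 417
 (.leaf 15)
 (.leaf 16)))
 (.node 420
 (.node 419
 (.leaf 16)
 (.leaf 16))
 (.node 421
 (.leaf 15)
 (.node 422
 (.leaf 15)
 (.leaf 16)))))
 (.node 427
 (.node 425
 (.node 424
 (.leaf 15)
 (.leaf 16))
 (.node 426
 (.leaf 15)
 (.leaf 16)))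
 (.node 429
 (.node 428
 (.leaf 15)
 (.leaf 15))
 (.node 430
 (.leaf 16)
 (.node 431
 (.leaf 16)
 (.leaf 16)))))))))
 (.node 504
 (.node 468
 (.node 450
 (.node 441
 (.node 436
 (.node 434
 (.node 433
 (.leaf 16)
 (.leaf 17))
 (.node 435
 (.leaf 16)
 (.leaf 16)))
 (.node 438
 (.node 437
 (.leaf 15)
 (.leaf 16))
 (.node 439
 (.leaf 15)
 (.node 440
 (.leaf 15)
 (.leaf 16)))))
 (.node 445
 (.node 443
 (.node 442
 (.leaf 15)
 (.leaf 16))
 (.node 444
 (.leaf 16)
 (.leaf 17)))
 (.node 447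
 (.node 446
 (.leaf 15)
 (.leaf 16))
 (.node 448
 (.leaf 16)
 (.node 449
 (.leaf 16)
 (.leaf 16))))))
 (.node 459
 (.node 454
 (.node 452
 (.node 451
 (.leaf 16)
 (.leaf 16))
 (.node 453
 (.leaf 15)
 (.leaf 16)))
 (.node 456
 (.node 455
 (.leaf 16)
 (.leaf 17))
 (.node 457
 (.leaf 15)
 (.node 458
 (.leaf 16)
 (.leaf 16)))))
 (.node 463
 (.node 461
 (.node 460
 (.leaf 17)
 (.leaf 16))
 (.node 462
 (.leaf 16)
 (.leaf 17)))
 (.node 465
 (.node 464
 (.leaf 17)
 (.leaf 17))
 (.node 466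
 (.leaf 16)
 (.node 467
 (.leaf 16)
 (.leaf 17)))))))
 (.node 486
 (.node 477
 (.node 472
 (.node 470
 (.node 469
 (.leaf 16)
 (.leaf 17))
 (.node 471
 (.leaf 16)
 (.leaf 17)))
 (.node 474
 (.node 473
 (.leaf 16)
 (.leaf 16))
 (.node 475
 (.leaf 17)
 (.node 476
 (.leaf 17)
 (.leaf 17)))))
 (.node 481
 (.node 479
 (.node 478
 (.leaf 17)
 (.leaf 18))
 (.node 480
 (.leaf 17)
 (.leaf 17)))
 (.node 483
 (.node 482
 (.leaf 16)
 (.leaf 16))
 (.node 484
 (.leaf 15)
 (.node 485
 (.leaf 16)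
 (.leaf 16))))))
 (.node 495
 (.node 490
 (.node 488
 (.node 487
 (.leaf 17)
 (.leaf 15))
 (.node 489
 (.leaf 16)
 (.leaf 16)))
 (.node 492
 (.node 491
 (.leaf 17)
 (.leaf 16))
 (.node 493
 (.leaf 16)
 (.node 494
 (.leaf 17)
 (.leaf 17)))))
 (.node 499
 (.node 497
 (.node 496
 (.leaf 17)
 (.leaf 16))
 (.node 498
 (.leaf 16)
 (.leaf 17)))
 (.node 501
 (.node 500
 (.leaf 16)
 (.leaf 17))
 (.node 502
 (.leaf 16)
 (.node 503
 (.leaf 17)
 (.leaf 16))))))))
 (.node 540
 (.node 522
 (.node 513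
 (.node 508
 (.node 506
 (.node 505
 (.leaf 16)
 (.leaf 17))
 (.node 507
 (.leaf 17)
 (.leaf 17)))
 (.node 510
 (.node 509
 (.leaf 17)
 (.leaf 18))
 (.node 511
 (.leaf 17)
 (.node 512
 (.leaf 17)
 (.leaf 16)))))
 (.node 517
 (.node 515
 (.node 514
 (.leaf 17)
 (.leaf 18))
 (.node 516
 (.leaf 16)
 (.leaf 17)))
 (.node 519
 (.node 518
 (.leaf 17)
 (.leaf 17))
 (.node 520
 (.leaf 17)
 (.node 521
 (.leaf 17)
 (.leaf 18))))))
 (.node 531
 (.node 526
 (.node 524
 (.node 523
 (.leaf 18)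
 (.leaf 18))
 (.node 525
 (.leaf 17)
 (.leaf 18)))
 (.node 528
 (.node 527
 (.leaf 17)
 (.leaf 17))
 (.node 529
 (.leaf 18)
 (.node 530
 (.leaf 17)
 (.leaf 16)))))
 (.node 535
 (.node 533
 (.node 532
 (.leaf 17)
 (.leaf 17))
 (.node 534
 (.leaf 18)
 (.leaf 16)))
 (.node 537
 (.node 536
 (.leaf 17)
 (.leaf 17))
 (.node 538
 (.leaf 18)
 (.node 539
 (.leaf 17)
 (.leaf 17)))))))
 (.node 558
 (.node 549
 (.node 544
 (.node 542
 (.node 541
 (.leaf 18)
 (.leaf 18))
 (.node 543
 (.leaf 18)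
 (.leaf 17)))
 (.node 546
 (.node 545
 (.leaf 17)
 (.leaf 18))
 (.node 547
 (.leaf 17)
 (.node 548
 (.leaf 18)
 (.leaf 17)))))
 (.node 553
 (.node 551
 (.node 550
 (.leaf 18)
 (.leaf 17))
 (.node 552
 (.leaf 17)
 (.leaf 18)))
 (.node 555
 (.node 554
 (.leaf 18)
 (.leaf 18))
 (.node 556
 (.leaf 18)
 (.node 557
 (.leaf 19)
 (.leaf 18))))))
 (.node 567
 (.node 562
 (.node 560
 (.node 559
 (.leaf 18)
 (.leaf 17))
 (.node 561
 (.leaf 18)
 (.leaf 19)))
 (.node 564
 (.node 563
 (.leaf 17)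
 (.leaf 18))
 (.node 565
 (.leaf 18)
 (.node 566
 (.leaf 18)
 (.leaf 18)))))
 (.node 571
 (.node 569
 (.node 568
 (.leaf 18)
 (.leaf 19))
 (.node 570
 (.leaf 19)
 (.leaf 19)))
 (.node 573
 (.node 572
 (.leaf 18)
 (.leaf 19))
 (.node 574
 (.leaf 18)
 (.node 575
 (.leaf 18)
 (.leaf 19)))))))))))
 (.node 864
 (.node 720
 (.node 648
 (.node 612
 (.node 594
 (.node 585
 (.node 580
 (.node 578
 (.node 577
 (.leaf 17)
 (.leaf 18))
 (.node 579
 (.leaf 17)
 (.leaf 18)))
 (.node 582
 (.node 581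
 (.leaf 17)
 (.leaf 18))
 (.node 583
 (.leaf 17)
 (.node 584
 (.leaf 17)
 (.leaf 18)))))
 (.node 589
 (.node 587
 (.node 586
 (.leaf 18)
 (.leaf 18))
 (.node 588
 (.leaf 18)
 (.leaf 19)))
 (.node 591
 (.node 590
 (.leaf 18)
 (.leaf 18))
 (.node 592
 (.leaf 17)
 (.node 593
 (.leaf 18)
 (.leaf 19))))))
 (.node 603
 (.node 598
 (.node 596
 (.node 595
 (.leaf 17)
 (.leaf 18))
 (.node 597
 (.leaf 18)
 (.leaf 18)))
 (.node 600
 (.node 599
 (.leaf 18)
 (.leaf 18))
 (.node 601
 (.leaf 19)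
 (.node 602
 (.leaf 19)
 (.leaf 19)))))
 (.node 607
 (.node 605
 (.node 604
 (.leaf 18)
 (.leaf 19))
 (.node 606
 (.leaf 18)
 (.leaf 18)))
 (.node 609
 (.node 608
 (.leaf 19)
 (.leaf 18))
 (.node 610
 (.leaf 19)
 (.node 611
 (.leaf 18)
 (.leaf 18)))))))
 (.node 630
 (.node 621
 (.node 616
 (.node 614
 (.node 613
 (.leaf 19)
 (.leaf 19))
 (.node 615
 (.leaf 19)
 (.leaf 18)))
 (.node 618
 (.node 617
 (.leaf 20)
 (.leaf 19))
 (.node 619
 (.leaf 19)
 (.node 620
 (.leaf 18)
 (.leaf 19)))))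
 (.node 625
 (.node 623
 (.node 622
 (.leaf 20)
 (.leaf 19))
 (.node 624
 (.leaf 18)
 (.leaf 19)))
 (.node 627
 (.node 626
 (.leaf 18)
 (.leaf 19))
 (.node 628
 (.leaf 18)
 (.node 629
 (.leaf 19)
 (.leaf 18))))))
 (.node 639
 (.node 634
 (.node 632
 (.node 631
 (.leaf 18)
 (.leaf 19))
 (.node 633
 (.leaf 19)
 (.leaf 19)))
 (.node 636
 (.node 635
 (.leaf 19)
 (.leaf 20))
 (.node 637
 (.leaf 19)
 (.node 638
 (.leaf 19)
 (.leaf 18)))))
 (.node 643
 (.node 641
 (.node 640
 (.leaf 19)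
 (.leaf 20))
 (.node 642
 (.leaf 18)
 (.leaf 19)))
 (.node 645
 (.node 644
 (.leaf 19)
 (.leaf 19))
 (.node 646
 (.leaf 19)
 (.node 647
 (.leaf 19)
 (.leaf 20))))))))
 (.node 684
 (.node 666
 (.node 657
 (.node 652
 (.node 650
 (.node 649
 (.leaf 20)
 (.leaf 20))
 (.node 651
 (.leaf 19)
 (.leaf 20)))
 (.node 654
 (.node 653
 (.leaf 19)
 (.leaf 19))
 (.node 655
 (.leaf 20)
 (.node 656
 (.leaf 19)
 (.leaf 20)))))
 (.node 661
 (.node 659
 (.node 658
 (.leaf 19)
 (.leaf 19))
 (.node 660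
 (.leaf 20)
 (.leaf 20)))
 (.node 663
 (.node 662
 (.leaf 20)
 (.leaf 19))
 (.node 664
 (.leaf 21)
 (.node 665
 (.leaf 20)
 (.leaf 20))))))
 (.node 675
 (.node 670
 (.node 668
 (.node 667
 (.leaf 19)
 (.leaf 20))
 (.node 669
 (.leaf 21)
 (.leaf 20)))
 (.node 672
 (.node 671
 (.leaf 19)
 (.leaf 20))
 (.node 673
 (.leaf 18)
 (.node 674
 (.leaf 19)
 (.leaf 19)))))
 (.node 679
 (.node 677
 (.node 676
 (.leaf 19)
 (.leaf 19))
 (.node 678
 (.leaf 19)
 (.leaf 20)))
 (.node 681
 (.node 680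
 (.leaf 20)
 (.leaf 20))
 (.node 682
 (.leaf 19)
 (.node 683
 (.leaf 20)
 (.leaf 19)))))))
 (.node 702
 (.node 693
 (.node 688
 (.node 686
 (.node 685
 (.leaf 19)
 (.leaf 20))
 (.node 687
 (.leaf 19)
 (.leaf 20)))
 (.node 690
 (.node 689
 (.leaf 19)
 (.leaf 19))
 (.node 691
 (.leaf 20)
 (.node 692
 (.leaf 20)
 (.leaf 20)))))
 (.node 697
 (.node 695
 (.node 694
 (.leaf 19)
 (.leaf 21))
 (.node 696
 (.leaf 20)
 (.leaf 20)))
 (.node 699
 (.node 698
 (.leaf 19)
 (.leaf 20))
 (.node 700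
 (.leaf 21)
 (.node 701
 (.leaf 20)
 (.leaf 20))))))
 (.node 711
 (.node 706
 (.node 704
 (.node 703
 (.leaf 20)
 (.leaf 20))
 (.node 705
 (.leaf 20)
 (.leaf 21)))
 (.node 708
 (.node 707
 (.leaf 20)
 (.leaf 20))
 (.node 709
 (.leaf 19)
 (.node 710
 (.leaf 21)
 (.leaf 20)))))
 (.node 715
 (.node 713
 (.node 712
 (.leaf 20)
 (.leaf 21))
 (.node 714
 (.leaf 21)
 (.leaf 20)))
 (.node 717
 (.node 716
 (.leaf 20)
 (.leaf 21))
 (.node 718
 (.leaf 19)
 (.node 719
 (.leaf 20)
 (.leaf 20)))))))))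
 (.node 792
 (.node 756
 (.node 738
 (.node 729
 (.node 724
 (.node 722
 (.node 721
 (.leaf 20)
 (.leaf 20))
 (.node 723
 (.leaf 20)
 (.leaf 21)))
 (.node 726
 (.node 725
 (.leaf 21)
 (.leaf 21))
 (.node 727
 (.leaf 20)
 (.node 728
 (.leaf 21)
 (.leaf 20)))))
 (.node 733
 (.node 731
 (.node 730
 (.leaf 20)
 (.leaf 21))
 (.node 732
 (.leaf 20)
 (.leaf 21)))
 (.node 735
 (.node 734
 (.leaf 20)
 (.leaf 20))
 (.node 736
 (.leaf 21)
 (.node 737
 (.leaf 21)
 (.leaf 21))))))
 (.node 747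
 (.node 742
 (.node 740
 (.node 739
 (.leaf 20)
 (.leaf 22))
 (.node 741
 (.leaf 21)
 (.leaf 21)))
 (.node 744
 (.node 743
 (.leaf 20)
 (.leaf 21))
 (.node 745
 (.leaf 22)
 (.node 746
 (.leaf 21)
 (.leaf 21)))))
 (.node 751
 (.node 749
 (.node 748
 (.leaf 21)
 (.leaf 21))
 (.node 750
 (.leaf 21)
 (.leaf 22)))
 (.node 753
 (.node 752
 (.leaf 21)
 (.leaf 21))
 (.node 754
 (.leaf 20)
 (.node 755
 (.leaf 22)
 (.leaf 21)))))))
 (.node 774
 (.node 765
 (.node 760
 (.node 758
 (.node 757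
 (.leaf 21)
 (.leaf 22))
 (.node 759
 (.leaf 22)
 (.leaf 21)))
 (.node 762
 (.node 761
 (.leaf 20)
 (.leaf 21))
 (.node 763
 (.leaf 20)
 (.node 764
 (.leaf 20)
 (.leaf 21)))))
 (.node 769
 (.node 767
 (.node 766
 (.leaf 21)
 (.leaf 21))
 (.node 768
 (.leaf 20)
 (.leaf 22)))
 (.node 771
 (.node 770
 (.leaf 21)
 (.leaf 21))
 (.node 772
 (.leaf 20)
 (.node 773
 (.leaf 21)
 (.leaf 22))))))
 (.node 783
 (.node 778
 (.node 776
 (.node 775
 (.leaf 21)
 (.leaf 21))
 (.node 777
 (.leaf 21)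
 (.leaf 21)))
 (.node 780
 (.node 779
 (.leaf 21)
 (.leaf 22))
 (.node 781
 (.leaf 21)
 (.node 782
 (.leaf 21)
 (.leaf 20)))))
 (.node 787
 (.node 785
 (.node 784
 (.leaf 22)
 (.leaf 21))
 (.node 786
 (.leaf 21)
 (.leaf 22)))
 (.node 789
 (.node 788
 (.leaf 22)
 (.leaf 21))
 (.node 790
 (.leaf 22)
 (.node 791
 (.leaf 22)
 (.leaf 22))))))))
 (.node 828
 (.node 810
 (.node 801
 (.node 796
 (.node 794
 (.node 793
 (.leaf 21)
 (.leaf 22))
 (.node 795
 (.leaf 21)
 (.leaf 21)))
 (.node 798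
 (.node 797
 (.leaf 22)
 (.leaf 22))
 (.node 799
 (.leaf 23)
 (.node 800
 (.leaf 22)
 (.leaf 22)))))
 (.node 805
 (.node 803
 (.node 802
 (.leaf 22)
 (.leaf 21))
 (.node 804
 (.leaf 22)
 (.leaf 21)))
 (.node 807
 (.node 806
 (.leaf 21)
 (.leaf 22))
 (.node 808
 (.leaf 22)
 (.node 809
 (.leaf 22)
 (.leaf 21))))))
 (.node 819
 (.node 814
 (.node 812
 (.node 811
 (.leaf 23)
 (.leaf 22))
 (.node 813
 (.leaf 22)
 (.leaf 21)))
 (.node 816
 (.node 815
 (.leaf 22)
 (.leaf 23))
 (.node 817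
 (.leaf 22)
 (.node 818
 (.leaf 22)
 (.leaf 22)))))
 (.node 823
 (.node 821
 (.node 820
 (.leaf 22)
 (.leaf 22))
 (.node 822
 (.leaf 23)
 (.leaf 22)))
 (.node 825
 (.node 824
 (.leaf 22)
 (.leaf 21))
 (.node 826
 (.leaf 23)
 (.node 827
 (.leaf 22)
 (.leaf 22)))))))
 (.node 846
 (.node 837
 (.node 832
 (.node 830
 (.node 829
 (.leaf 23)
 (.leaf 23))
 (.node 831
 (.leaf 22)
 (.leaf 23)))
 (.node 834
 (.node 833
 (.leaf 23)
 (.leaf 23))
 (.node 835
 (.leaf 22)
 (.node 836
 (.leaf 23)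
 (.leaf 22)))))
 (.node 841
 (.node 839
 (.node 838
 (.leaf 22)
 (.leaf 23))
 (.node 840
 (.leaf 23)
 (.leaf 24)))
 (.node 843
 (.node 842
 (.leaf 23)
 (.leaf 23))
 (.node 844
 (.leaf 23)
 (.node 845
 (.leaf 22)
 (.leaf 22))))))
 (.node 855
 (.node 850
 (.node 848
 (.node 847
 (.leaf 22)
 (.leaf 22))
 (.node 849
 (.leaf 23)
 (.leaf 22)))
 (.node 852
 (.node 851
 (.leaf 22)
 (.leaf 21))
 (.node 853
 (.leaf 23)
 (.node 854
 (.leaf 22)
 (.leaf 22)))))
 (.node 859
 (.node 857
 (.node 856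
 (.leaf 23)
 (.leaf 23))
 (.node 858
 (.leaf 22)
 (.leaf 23)))
 (.node 861
 (.node 860
 (.leaf 23)
 (.leaf 23))
 (.node 862
 (.leaf 22)
 (.node 863
 (.leaf 23)
 (.leaf 22))))))))))
 (.node 1008
 (.node 936
 (.node 900
 (.node 882
 (.node 873
 (.node 868
 (.node 866
 (.node 865
 (.leaf 22)
 (.leaf 23))
 (.node 867
 (.leaf 23)
 (.leaf 24)))
 (.node 870
 (.node 869
 (.leaf 23)
 (.leaf 23))
 (.node 871
 (.leaf 23)
 (.node 872
 (.leaf 24)
 (.leaf 23)))))
 (.node 877
 (.node 875
 (.node 874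
 (.leaf 23)
 (.leaf 22))
 (.node 876
 (.leaf 23)
 (.leaf 24)))
 (.node 879
 (.node 878
 (.leaf 23)
 (.leaf 24))
 (.node 880
 (.leaf 23)
 (.node 881
 (.leaf 24)
 (.leaf 24))))))
 (.node 891
 (.node 886
 (.node 884
 (.node 883
 (.leaf 23)
 (.leaf 23))
 (.node 885
 (.leaf 23)
 (.leaf 23)))
 (.node 888
 (.node 887
 (.leaf 24)
 (.leaf 23))
 (.node 889
 (.leaf 23)
 (.node 890
 (.leaf 22)
 (.leaf 24)))))
 (.node 895
 (.node 893
 (.node 892
 (.leaf 23)
 (.leaf 23))
 (.node 894
 (.leaf 24)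
 (.leaf 24)))
 (.node 897
 (.node 896
 (.leaf 23)
 (.leaf 24))
 (.node 898
 (.leaf 24)
 (.node 899
 (.leaf 24)
 (.leaf 23)))))))
 (.node 918
 (.node 909
 (.node 904
 (.node 902
 (.node 901
 (.leaf 24)
 (.leaf 23))
 (.node 903
 (.leaf 23)
 (.leaf 24)))
 (.node 906
 (.node 905
 (.leaf 24)
 (.leaf 25))
 (.node 907
 (.leaf 24)
 (.node 908
 (.leaf 24)
 (.leaf 24)))))
 (.node 913
 (.node 911
 (.node 910
 (.leaf 25)
 (.leaf 24))
 (.node 912
 (.leaf 24)
 (.leaf 23)))
 (.node 915
 (.node 914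
 (.leaf 24)
 (.leaf 25))
 (.node 916
 (.leaf 24)
 (.node 917
 (.leaf 25)
 (.leaf 24))))))
 (.node 927
 (.node 922
 (.node 920
 (.node 919
 (.leaf 25)
 (.leaf 25))
 (.node 921
 (.leaf 24)
 (.leaf 24)))
 (.node 924
 (.node 923
 (.leaf 24)
 (.leaf 23))
 (.node 925
 (.leaf 24)
 (.node 926
 (.leaf 23)
 (.leaf 23)))))
 (.node 931
 (.node 929
 (.node 928
 (.leaf 24)
 (.leaf 24))
 (.node 930
 (.leaf 25)
 (.leaf 24)))
 (.node 933
 (.node 932
 (.leaf 24)
 (.leaf 24))
 (.node 934
 (.leaf 25)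
 (.node 935
 (.leaf 24)
 (.leaf 24))))))))
 (.node 972
 (.node 954
 (.node 945
 (.node 940
 (.node 938
 (.node 937
 (.leaf 23)
 (.leaf 24))
 (.node 939
 (.leaf 25)
 (.leaf 24)))
 (.node 942
 (.node 941
 (.leaf 25)
 (.leaf 24))
 (.node 943
 (.leaf 25)
 (.node 944
 (.leaf 25)
 (.leaf 25)))))
 (.node 949
 (.node 947
 (.node 946
 (.leaf 24)
 (.leaf 24))
 (.node 948
 (.leaf 25)
 (.leaf 25)))
 (.node 951
 (.node 950
 (.leaf 24)
 (.leaf 25))
 (.node 952
 (.leaf 25)
 (.node 953
 (.leaf 26)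
 (.leaf 25))))))
 (.node 963
 (.node 958
 (.node 956
 (.node 955
 (.leaf 25)
 (.leaf 25))
 (.node 957
 (.leaf 24)
 (.leaf 25)))
 (.node 960
 (.node 959
 (.leaf 24)
 (.leaf 24))
 (.node 961
 (.leaf 25)
 (.node 962
 (.leaf 25)
 (.leaf 26)))))
 (.node 967
 (.node 965
 (.node 964
 (.leaf 25)
 (.leaf 25))
 (.node 966
 (.leaf 25)
 (.leaf 26)))
 (.node 969
 (.node 968
 (.leaf 25)
 (.leaf 25))
 (.node 970
 (.leaf 24)
 (.node 971
 (.leaf 25)
 (.leaf 26)))))))
 (.node 990
 (.node 981
 (.node 976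
 (.node 974
 (.node 973
 (.leaf 25)
 (.leaf 26))
 (.node 975
 (.leaf 25)
 (.leaf 26)))
 (.node 978
 (.node 977
 (.leaf 26)
 (.leaf 26))
 (.node 979
 (.leaf 25)
 (.node 980
 (.leaf 25)
 (.leaf 26)))))
 (.node 985
 (.node 983
 (.node 982
 (.leaf 26)
 (.leaf 25))
 (.node 984
 (.leaf 26)
 (.leaf 26)))
 (.node 987
 (.node 986
 (.leaf 27)
 (.leaf 26))
 (.node 988
 (.leaf 25)
 (.node 989
 (.leaf 25)
 (.leaf 24))))))
 (.node 999
 (.node 994
 (.node 992
 (.node 991
 (.leaf 25)
 (.leaf 26))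
 (.node 993
 (.leaf 25)
 (.leaf 26)))
 (.node 996
 (.node 995
 (.leaf 25)
 (.leaf 26))
 (.node 997
 (.leaf 26)
 (.node 998
 (.leaf 26)
 (.leaf 25)))))
 (.node 1003
 (.node 1001
 (.node 1000
 (.leaf 25)
 (.leaf 26))
 (.node 1002
 (.leaf 26)
 (.leaf 25)))
 (.node 1005
 (.node 1004
 (.leaf 26)
 (.leaf 26))
 (.node 1006
 (.leaf 27)
 (.node 1007
 (.leaf 26)
 (.leaf 27)))))))))
 (.node 1080
 (.node 1044
 (.node 1026
 (.node 1017
 (.node 1012
 (.node 1010
 (.node 1009
 (.leaf 26)
 (.leaf 26))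
 (.node 1011
 (.leaf 26)
 (.leaf 27)))
 (.node 1014
 (.node 1013
 (.leaf 27)
 (.leaf 27))
 (.node 1015
 (.leaf 26)
 (.node 1016
 (.leaf 26)
 (.leaf 25)))))
 (.node 1021
 (.node 1019
 (.node 1018
 (.leaf 26)
 (.leaf 27))
 (.node 1020
 (.leaf 26)
 (.leaf 27)))
 (.node 1023
 (.node 1022
 (.leaf 26)
 (.leaf 27))
 (.node 1024
 (.leaf 27)
 (.node 1025
 (.leaf 27)
 (.leaf 26))))))
 (.node 1035
 (.node 1030
 (.node 1028
 (.node 1027
 (.leaf 26)
 (.leaf 27))
 (.node 1029
 (.leaf 27)
 (.leaf 26)))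
 (.node 1032
 (.node 1031
 (.leaf 27)
 (.leaf 27))
 (.node 1033
 (.leaf 28)
 (.node 1034
 (.leaf 27)
 (.leaf 28)))))
 (.node 1039
 (.node 1037
 (.node 1036
 (.leaf 27)
 (.leaf 27))
 (.node 1038
 (.leaf 27)
 (.leaf 28)))
 (.node 1041
 (.node 1040
 (.leaf 28)
 (.leaf 27))
 (.node 1042
 (.leaf 26)
 (.node 1043
 (.leaf 26)
 (.leaf 27)))))))
 (.node 1062
 (.node 1053
 (.node 1048
 (.node 1046
 (.node 1045
 (.leaf 27)
 (.leaf 26))
 (.node 1047
 (.leaf 27)
 (.leaf 27)))
 (.node 1050
 (.node 1049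
 (.leaf 28)
 (.leaf 27))
 (.node 1051
 (.leaf 28)
 (.node 1052
 (.leaf 27)
 (.leaf 27)))))
 (.node 1057
 (.node 1055
 (.node 1054
 (.leaf 27)
 (.leaf 28))
 (.node 1056
 (.leaf 28)
 (.leaf 28)))
 (.node 1059
 (.node 1058
 (.leaf 27)
 (.leaf 28))
 (.node 1060
 (.leaf 28)
 (.node 1061
 (.leaf 29)
 (.leaf 28))))))
 (.node 1071
 (.node 1066
 (.node 1064
 (.node 1063
 (.leaf 27)
 (.leaf 27))
 (.node 1065
 (.leaf 28)
 (.leaf 28)))
 (.node 1068
 (.node 1067
 (.leaf 27)
 (.leaf 28))
 (.node 1069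
 (.leaf 28)
 (.node 1070
 (.leaf 29)
 (.leaf 28)))))
 (.node 1075
 (.node 1073
 (.node 1072
 (.leaf 29)
 (.leaf 28))
 (.node 1074
 (.leaf 28)
 (.leaf 28)))
 (.node 1077
 (.node 1076
 (.leaf 29)
 (.leaf 29))
 (.node 1078
 (.leaf 29)
 (.node 1079
 (.leaf 28)
 (.leaf 29))))))))
 (.node 1116
 (.node 1098
 (.node 1089
 (.node 1084
 (.node 1082
 (.node 1081
 (.leaf 29)
 (.leaf 30))
 (.node 1083
 (.leaf 28)
 (.leaf 29)))
 (.node 1086
 (.node 1085
 (.leaf 28)
 (.leaf 28))
 (.node 1087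
 (.leaf 28)
 (.node 1088
 (.leaf 29)
 (.leaf 29)))))
 (.node 1093
 (.node 1091
 (.node 1090
 (.leaf 29)
 (.leaf 28))
 (.node 1092
 (.leaf 29)
 (.leaf 29)))
 (.node 1095
 (.node 1094
 (.leaf 30)
 (.leaf 29))
 (.node 1096
 (.leaf 29)
 (.node 1097
 (.leaf 30)
 (.leaf 29))))))
 (.node 1107
 (.node 1102
 (.node 1100
 (.node 1099
 (.leaf 30)
 (.leaf 29))
 (.node 1101
 (.leaf 29)
 (.leaf 29)))
 (.node 1104
 (.node 1103
 (.leaf 30)
 (.leaf 30))
 (.node 1105
 (.leaf 30)
 (.node 1106
 (.leaf 29)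
 (.leaf 30)))))
 (.node 1111
 (.node 1109
 (.node 1108
 (.leaf 30)
 (.leaf 31))
 (.node 1110
 (.leaf 30)
 (.leaf 30)))
 (.node 1113
 (.node 1112
 (.leaf 31)
 (.leaf 30))
 (.node 1114
 (.leaf 29)
 (.node 1115
 (.leaf 30)
 (.leaf 30)))))))
 (.node 1134
 (.node 1125
 (.node 1120
 (.node 1118
 (.node 1117
 (.leaf 31)
 (.leaf 30))
 (.node 1119
 (.leaf 30)
 (.leaf 31)))
 (.node 1122
 (.node 1121
 (.leaf 31)
 (.leaf 31))
 (.node 1123
 (.leaf 31)
 (.node 1124
 (.leaf 30)
 (.leaf 31)))))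
 (.node 1129
 (.node 1127
 (.node 1126
 (.leaf 31)
 (.leaf 32))
 (.node 1128
 (.leaf 31)
 (.leaf 31)))
 (.node 1131
 (.node 1130
 (.leaf 32)
 (.leaf 32))
 (.node 1132
 (.leaf 32)
 (.node 1133
 (.leaf 31)
 (.leaf 31))))))
 (.node 1143
 (.node 1138
 (.node 1136
 (.node 1135
 (.leaf 32)
 (.leaf 32))
 (.node 1137
 (.leaf 32)
 (.leaf 33)))
 (.node 1140
 (.node 1139
 (.leaf 32)
 (.leaf 32))
 (.node 1141
 (.leaf 33)
 (.node 1142
 (.leaf 33)
 (.leaf 33)))))
 (.node 1147
 (.node 1145
 (.node 1144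
 (.leaf 34)
 (.leaf 33))
 (.node 1146
 (.leaf 33)
 (.leaf 34)))
 (.node 1149
 (.node 1148
 (.leaf 34)
 (.leaf 34))
 (.node 1150
 (.leaf 35)
 (.node 1151
 (.leaf 35)
 (.leaf 36))))))))))))
  rk := (.node 576
 (.node 288
 (.node 144
 (.node 72
 (.node 36
 (.node 18
 (.node 9
 (.node 4
 (.node 2
 (.node 1
 (.leaf 585)
 (.leaf 587))
 (.node 3
 (.leaf 591)
 (.leaf 633)))
 (.node 6
 (.node 5
 (.leaf 561)
 (.leaf 593))
 (.node 7
 (.leaf 635)
 (.node 8
 (.leaf 563)
 (.leaf 597)))))
 (.node 13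
 (.node 11
 (.node 10
 (.leaf 639)
 (.leaf 567))
 (.node 12
 (.leaf 681)
 (.leaf 609)))
 (.node 15
 (.node 14
 (.leaf 513)
 (.leaf 599))
 (.node 16
 (.leaf 641)
 (.node 17
 (.leaf 569)
 (.leaf 683))))))
 (.node 27
 (.node 22
 (.node 20
 (.node 19
 (.leaf 611)
 (.leaf 515))
 (.node 21
 (.leaf 645)
 (.leaf 573)))
 (.node 24
 (.node 23
 (.leaf 687)
 (.leaf 615))
 (.node 25
 (.leaf 519)
 (.node 26
 (.leaf 801)
 (.leaf 753)))))
 (.node 31
 (.node 29
 (.node 28
 (.leaf 657)
 (.leaf 537))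
 (.node 30
 (.leaf 465)
 (.leaf 647)))
 (.node 33
 (.node 32
 (.leaf 575)
 (.leaf 689))
 (.node 34
 (.leaf 617)
 (.node 35
 (.leaf 521)
 (.leaf 803)))))))
 (.node 54
 (.node 45
 (.node 40
 (.node 38
 (.node 37
 (.leaf 755)
 (.leaf 659))
 (.node 39
 (.leaf 539)
 (.leaf 467)))
 (.node 42
 (.node 41
 (.leaf 693)
 (.leaf 621))
 (.node 43
 (.leaf 525)
 (.node 44
 (.leaf 807)
 (.leaf 759)))))
 (.node 49
 (.node 47
 (.node 46
 (.leaf 663)
 (.leaf 543))
 (.node 48
 (.leaf 471)
 (.leaf 849)))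
 (.node 51
 (.node 50
 (.leaf 777)
 (.leaf 993))
 (.node 52
 (.leaf 729)
 (.node 53
 (.leaf 489)
 (.leaf 345))))))
 (.node 63
 (.node 58
 (.node 56
 (.node 55
 (.leaf 393)
 (.leaf 695))
 (.node 57
 (.leaf 623)
 (.leaf 527)))
 (.node 60
 (.node 59
 (.leaf 809)
 (.leaf 761))
 (.node 61
 (.leaf 665)
 (.node 62
 (.leaf 545)
 (.leaf 473)))))
 (.node 67
 (.node 65
 (.node 64
 (.leaf 851)
 (.leaf 779))
 (.node 66
 (.leaf 995)
 (.leaf 731)))
 (.node 69
 (.node 68
 (.leaf 491)
 (.leaf 347))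
 (.node 70
 (.leaf 395)
 (.node 71
 (.leaf 813)
 (.leaf 765))))))))
 (.node 108
 (.node 90
 (.node 81
 (.node 76
 (.node 74
 (.node 73
 (.leaf 669)
 (.leaf 549))
 (.node 75
 (.leaf 477)
 (.leaf 855)))
 (.node 78
 (.node 77
 (.leaf 783)
 (.leaf 999))
 (.node 79
 (.leaf 735)
 (.node 80
 (.leaf 495)
 (.leaf 351)))))
 (.node 85
 (.node 83
 (.node 82
 (.leaf 399)
 (.leaf 873))
 (.node 84
 (.leaf 1041)
 (.leaf 825)))
 (.node 87
 (.node 86
 (.leaf 969)
 (.leaf 705))
 (.node 88
 (.leaf 369)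
 (.node 89
 (.leaf 417)
 (.leaf 297))))))
 (.node 99
 (.node 94
 (.node 92
 (.node 91
 (.leaf 153)
 (.leaf 815))
 (.node 93
 (.leaf 767)
 (.leaf 671)))
 (.node 96
 (.node 95
 (.leaf 551)
 (.leaf 479))
 (.node 97
 (.leaf 857)
 (.node 98
 (.leaf 785)
 (.leaf 1001)))))
 (.node 103
 (.node 101
 (.node 100
 (.leaf 737)
 (.leaf 497))
 (.node 102
 (.leaf 353)
 (.leaf 401)))
 (.node 105
 (.node 104
 (.leaf 875)
 (.leaf 1043))
 (.node 106
 (.leaf 827)
 (.node 107
 (.leaf 971)
 (.leaf 707)))))))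
 (.node 126
 (.node 117
 (.node 112
 (.node 110
 (.node 109
 (.leaf 371)
 (.leaf 419))
 (.node 111
 (.leaf 299)
 (.leaf 155)))
 (.node 114
 (.node 113
 (.leaf 861)
 (.leaf 789))
 (.node 115
 (.leaf 1005)
 (.node 116
 (.leaf 741)
 (.leaf 501)))))
 (.node 121
 (.node 119
 (.node 118
 (.leaf 357)
 (.leaf 405))
 (.node 120
 (.leaf 879)
 (.leaf 1047)))
 (.node 123
 (.node 122
 (.leaf 831)
 (.leaf 975))
 (.node 124
 (.leaf 711)
 (.node 125
 (.leaf 375)
 (.leaf 423))))))
 (.node 135
 (.node 130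
 (.node 128
 (.node 127
 (.leaf 303)
 (.leaf 159))
 (.node 129
 (.leaf 897)
 (.leaf 1065)))
 (.node 132
 (.node 131
 (.leaf 1017)
 (.leaf 819))
 (.node 133
 (.leaf 945)
 (.node 134
 (.leaf 699)
 (.leaf 441)))))
 (.node 139
 (.node 137
 (.node 136
 (.leaf 321)
 (.leaf 177))
 (.node 138
 (.leaf 273)
 (.leaf 105)))
 (.node 141
 (.node 140
 (.leaf 863)
 (.leaf 791))
 (.node 142
 (.leaf 1007)
 (.node 143
 (.leaf 743)
 (.leaf 503)))))))))
 (.node 216
 (.node 180
 (.node 162
 (.node 153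
 (.node 148
 (.node 146
 (.node 145
 (.leaf 359)
 (.leaf 407))
 (.node 147
 (.leaf 881)
 (.leaf 1049)))
 (.node 150
 (.node 149
 (.leaf 833)
 (.leaf 977))
 (.node 151
 (.leaf 713)
 (.node 152
 (.leaf 377)
 (.leaf 425)))))
 (.node 157
 (.node 155
 (.node 154
 (.leaf 305)
 (.leaf 161))
 (.node 156
 (.leaf 899)
 (.leaf 1067)))
 (.node 159
 (.node 158
 (.leaf 1019)
 (.leaf 821))
 (.node 160
 (.leaf 947)
 (.node 161
 (.leaf 701)
 (.leaf 443))))))
 (.node 171
 (.node 166
 (.node 164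
 (.node 163
 (.leaf 323)
 (.leaf 179))
 (.node 165
 (.leaf 275)
 (.leaf 107)))
 (.node 168
 (.node 167
 (.leaf 885)
 (.leaf 1053))
 (.node 169
 (.leaf 837)
 (.node 170
 (.leaf 981)
 (.leaf 717)))))
 (.node 175
 (.node 173
 (.node 172
 (.leaf 381)
 (.leaf 429))
 (.node 174
 (.leaf 309)
 (.leaf 165)))
 (.node 177
 (.node 176
 (.leaf 903)
 (.leaf 1071))
 (.node 178
 (.leaf 1023)
 (.node 179
 (.leaf 829)
 (.leaf 951)))))))
 (.node 198
 (.node 189
 (.node 184
 (.node 182
 (.node 181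
 (.leaf 709)
 (.leaf 447))
 (.node 183
 (.leaf 327)
 (.leaf 183)))
 (.node 186
 (.node 185
 (.leaf 279)
 (.leaf 111))
 (.node 187
 (.leaf 1089)
 (.node 188
 (.leaf 1113)
 (.leaf 1011)))))
 (.node 193
 (.node 191
 (.node 190
 (.leaf 723)
 (.leaf 771))
 (.node 192
 (.leaf 939)
 (.leaf 921)))
 (.node 195
 (.node 194
 (.leaf 435)
 (.leaf 201))
 (.node 196
 (.leaf 315)
 (.node 197
 (.leaf 129)
 (.leaf 249))))))
 (.node 207
 (.node 202
 (.node 200
 (.node 199
 (.leaf 81)
 (.leaf 887))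
 (.node 201
 (.leaf 1055)
 (.leaf 839)))
 (.node 204
 (.node 203
 (.leaf 983)
 (.leaf 719))
 (.node 205
 (.leaf 383)
 (.node 206
 (.leaf 431)
 (.leaf 311)))))
 (.node 211
 (.node 209
 (.node 208
 (.leaf 167)
 (.leaf 905))
 (.node 210
 (.leaf 1073)
 (.leaf 1025)))
 (.node 213
 (.node 212
 (.leaf 832)
 (.leaf 953))
 (.node 214
 (.leaf 712)
 (.node 215
 (.leaf 449)
 (.leaf 329))))))))
 (.node 252
 (.node 234
 (.node 225
 (.node 220
 (.node 218
 (.node 217
 (.leaf 185)
 (.leaf 281))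
 (.node 219
 (.leaf 113)
 (.leaf 1091)))
 (.node 222
 (.node 221
 (.leaf 1115)
 (.leaf 1013))
 (.node 223
 (.leaf 725)
 (.node 224
 (.leaf 773)
 (.leaf 941)))))
 (.node 229
 (.node 227
 (.node 226
 (.leaf 923)
 (.leaf 437))
 (.node 228
 (.leaf 203)
 (.leaf 317)))
 (.node 231
 (.node 230
 (.leaf 131)
 (.leaf 251))
 (.node 232
 (.leaf 83)
 (.node 233
 (.leaf 909)
 (.leaf 1077))))))
 (.node 243
 (.node 238
 (.node 236
 (.node 235
 (.leaf 1029)
 (.leaf 835))
 (.node 237
 (.leaf 957)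
 (.leaf 715)))
 (.node 240
 (.node 239
 (.leaf 453)
 (.leaf 333))
 (.node 241
 (.leaf 189)
 (.node 242
 (.leaf 285)
 (.leaf 117)))))
 (.node 247
 (.node 245
 (.node 244
 (.leaf 1095)
 (.leaf 1119))
 (.node 246
 (.leaf 1021)
 (.leaf 733)))
 (.node 249
 (.node 248
 (.leaf 781)
 (.leaf 949))
 (.node 250
 (.leaf 927)
 (.node 251
 (.leaf 445)
 (.leaf 207)))))))
 (.node 270
 (.node 261
 (.node 256
 (.node 254
 (.node 253
 (.leaf 325)
 (.leaf 135))
 (.node 255
 (.leaf 255)
 (.leaf 87)))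
 (.node 258
 (.node 257
 (.leaf 1137)
 (.leaf 1107))
 (.node 259
 (.leaf 963)
 (.node 260
 (.leaf 1035)
 (.leaf 651)))))
 (.node 265
 (.node 263
 (.node 262
 (.leaf 795)
 (.leaf 915))
 (.node 264
 (.leaf 225)
 (.leaf 411)))
 (.node 267
 (.node 266
 (.leaf 195)
 (.leaf 363))
 (.node 268
 (.leaf 123)
 (.node 269
 (.leaf 57)
 (.leaf 33))))))
 (.node 279
 (.node 274
 (.node 272
 (.node 271
 (.leaf 911)
 (.leaf 1079))
 (.node 273
 (.leaf 1031)
 (.leaf 838)))
 (.node 276
 (.node 275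
 (.leaf 959)
 (.leaf 718))
 (.node 277
 (.leaf 455)
 (.node 278
 (.leaf 335)
 (.leaf 191)))))
 (.node 283
 (.node 281
 (.node 280
 (.leaf 287)
 (.leaf 119))
 (.node 282
 (.leaf 1097)
 (.leaf 1121)))
 (.node 285
 (.node 284
 (.leaf 1024)
 (.leaf 736))
 (.node 286
 (.leaf 784)
 (.node 287
 (.leaf 952)
 (.leaf 929))))))))))
 (.node 432
 (.node 360
 (.node 324
 (.node 306
 (.node 297
 (.node 292
 (.node 290
 (.node 289
 (.leaf 448)
 (.leaf 209))
 (.node 291
 (.leaf 328)
 (.leaf 137)))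
 (.node 294
 (.node 293
 (.leaf 257)
 (.leaf 89))
 (.node 295
 (.leaf 1139)
 (.node 296
 (.leaf 1109)
 (.leaf 965)))))
 (.node 301
 (.node 299
 (.node 298
 (.leaf 1037)
 (.leaf 653))
 (.node 300
 (.leaf 797)
 (.leaf 917)))
 (.node 303
 (.node 302
 (.leaf 227)
 (.leaf 413))
 (.node 304
 (.leaf 197)
 (.node 305
 (.leaf 365)
 (.leaf 125))))))
 (.node 315
 (.node 310
 (.node 308
 (.node 307
 (.leaf 59)
 (.leaf 35))
 (.node 309
 (.leaf 1101)
 (.leaf 1125)))
 (.node 312
 (.node 311
 (.leaf 1027)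
 (.leaf 739))
 (.node 313
 (.leaf 787)
 (.node 314
 (.leaf 955)
 (.leaf 933)))))
 (.node 319
 (.node 317
 (.node 316
 (.leaf 451)
 (.leaf 213))
 (.node 318
 (.leaf 331)
 (.leaf 141)))
 (.node 321
 (.node 320
 (.leaf 261)
 (.leaf 93))
 (.node 322
 (.leaf 1143)
 (.node 323
 (.leaf 1117)
 (.leaf 973)))))))
 (.node 342
 (.node 333
 (.node 328
 (.node 326
 (.node 325
 (.leaf 1045)
 (.leaf 661))
 (.node 327
 (.leaf 805)
 (.leaf 925)))
 (.node 330
 (.node 329
 (.leaf 231)
 (.leaf 421))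
 (.node 331
 (.leaf 205)
 (.node 332
 (.leaf 373)
 (.leaf 133)))))
 (.node 337
 (.node 335
 (.node 334
 (.leaf 63)
 (.leaf 39))
 (.node 336
 (.leaf 1131)
 (.leaf 1105)))
 (.node 339
 (.node 338
 (.leaf 1059)
 (.leaf 987))
 (.node 340
 (.leaf 843)
 (.node 341
 (.leaf 603)
 (.leaf 675))))))
 (.node 351
 (.node 346
 (.node 344
 (.node 343
 (.leaf 913)
 (.leaf 219))
 (.node 345
 (.leaf 483)
 (.leaf 171)))
 (.node 348
 (.node 347
 (.leaf 339)
 (.leaf 99))
 (.node 349
 (.leaf 9)
 (.node 350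
 (.leaf 27)
 (.leaf 1103)))))
 (.node 355
 (.node 353
 (.node 352
 (.leaf 1127)
 (.leaf 1030))
 (.node 354
 (.leaf 742)
 (.leaf 790)))
 (.node 357
 (.node 356
 (.leaf 958)
 (.leaf 935))
 (.node 358
 (.leaf 454)
 (.node 359
 (.leaf 215)
 (.leaf 334))))))))
 (.node 396
 (.node 378
 (.node 369
 (.node 364
 (.node 362
 (.node 361
 (.leaf 143)
 (.leaf 263))
 (.node 363
 (.leaf 95)
 (.leaf 1145)))
 (.node 366
 (.node 365
 (.leaf 1120)
 (.leaf 976))
 (.node 367
 (.leaf 1048)
 (.node 368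
 (.leaf 664)
 (.leaf 808)))))
 (.node 373
 (.node 371
 (.node 370
 (.leaf 928)
 (.leaf 233))
 (.node 372
 (.leaf 424)
 (.leaf 208)))
 (.node 375
 (.node 374
 (.leaf 376)
 (.leaf 136))
 (.node 376
 (.leaf 65)
 (.node 377
 (.leaf 41)
 (.leaf 1133))))))
 (.node 387
 (.node 382
 (.node 380
 (.node 379
 (.leaf 1108)
 (.leaf 1061))
 (.node 381
 (.leaf 989)
 (.leaf 845)))
 (.node 384
 (.node 383
 (.leaf 605)
 (.leaf 677))
 (.node 385
 (.leaf 916)
 (.node 386
 (.leaf 221)
 (.leaf 485)))))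
 (.node 391
 (.node 389
 (.node 388
 (.leaf 173)
 (.leaf 341))
 (.node 390
 (.leaf 101)
 (.leaf 11)))
 (.node 393
 (.node 392
 (.leaf 29)
 (.leaf 1149))
 (.node 394
 (.leaf 1123)
 (.node 395
 (.leaf 979)
 (.leaf 1051)))))))
 (.node 414
 (.node 405
 (.node 400
 (.node 398
 (.node 397
 (.leaf 667)
 (.leaf 811))
 (.node 399
 (.leaf 931)
 (.leaf 237)))
 (.node 402
 (.node 401
 (.leaf 427)
 (.leaf 211))
 (.node 403
 (.leaf 379)
 (.node 404
 (.leaf 139)
 (.leaf 69)))))
 (.node 409
 (.node 407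
 (.node 406
 (.leaf 45)
 (.leaf 1141))
 (.node 408
 (.leaf 1111)
 (.leaf 1069)))
 (.node 411
 (.node 410
 (.leaf 997)
 (.leaf 853))
 (.node 412
 (.leaf 613)
 (.node 413
 (.leaf 685)
 (.leaf 919))))))
 (.node 423
 (.node 418
 (.node 416
 (.node 415
 (.leaf 229)
 (.leaf 493))
 (.node 417
 (.leaf 181)
 (.leaf 349)))
 (.node 420
 (.node 419
 (.leaf 109)
 (.leaf 15))
 (.node 421
 (.leaf 37)
 (.node 422
 (.leaf 1129)
 (.leaf 1083)))))
 (.node 427
 (.node 425
 (.node 424
 (.leaf 1057)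
 (.leaf 867))
 (.node 426
 (.leaf 985)
 (.leaf 747)))
 (.node 429
 (.node 428
 (.leaf 531)
 (.leaf 627))
 (.node 430
 (.leaf 937)
 (.node 431
 (.leaf 217)
 (.leaf 459)))))))))
 (.node 504
 (.node 468
 (.node 450
 (.node 441
 (.node 436
 (.node 434
 (.node 433
 (.leaf 147)
 (.leaf 291))
 (.node 435
 (.leaf 75)
 (.leaf 3)))
 (.node 438
 (.node 437
 (.leaf 25)
 (.leaf 1151))
 (.node 439
 (.leaf 1126)
 (.node 440
 (.leaf 982)
 (.leaf 1054)))))
 (.node 445
 (.node 443
 (.node 442
 (.leaf 670)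
 (.leaf 814))
 (.node 444
 (.leaf 934)
 (.leaf 239)))
 (.node 447
 (.node 446
 (.leaf 430)
 (.leaf 214))
 (.node 448
 (.leaf 382)
 (.node 449
 (.leaf 142)
 (.leaf 71))))))
 (.node 459
 (.node 454
 (.node 452
 (.node 451
 (.leaf 47)
 (.leaf 1144))
 (.node 453
 (.leaf 1114)
 (.leaf 1072)))
 (.node 456
 (.node 455
 (.leaf 1000)
 (.leaf 856))
 (.node 457
 (.leaf 616)
 (.node 458
 (.leaf 688)
 (.leaf 922)))))
 (.node 463
 (.node 461
 (.node 460
 (.leaf 232)
 (.leaf 496))
 (.node 462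
 (.leaf 184)
 (.leaf 352)))
 (.node 465
 (.node 464
 (.leaf 112)
 (.leaf 17))
 (.node 466
 (.leaf 40)
 (.node 467
 (.leaf 1132)
 (.leaf 1085)))))))
 (.node 486
 (.node 477
 (.node 472
 (.node 470
 (.node 469
 (.leaf 1060)
 (.leaf 869))
 (.node 471
 (.leaf 988)
 (.leaf 749)))
 (.node 474
 (.node 473
 (.leaf 533)
 (.leaf 629))
 (.node 475
 (.leaf 940)
 (.node 476
 (.leaf 220)
 (.leaf 461)))))
 (.node 481
 (.node 479
 (.node 478
 (.leaf 149)
 (.leaf 293))
 (.node 480
 (.leaf 77)
 (.leaf 5)))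
 (.node 483
 (.node 482
 (.leaf 28)
 (.leaf 1147))
 (.node 484
 (.leaf 1122)
 (.node 485
 (.leaf 1075)
 (.leaf 1003))))))
 (.node 495
 (.node 490
 (.node 488
 (.node 487
 (.leaf 859)
 (.leaf 619))
 (.node 489
 (.leaf 691)
 (.leaf 930)))
 (.node 492
 (.node 491
 (.leaf 235)
 (.leaf 499))
 (.node 493
 (.leaf 187)
 (.node 494
 (.leaf 355)
 (.leaf 115)))))
 (.node 499
 (.node 497
 (.node 496
 (.leaf 21)
 (.leaf 43))
 (.node 498
 (.leaf 1135)
 (.leaf 1093)))
 (.node 501
 (.node 500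
 (.leaf 1063)
 (.leaf 877))
 (.node 502
 (.leaf 991)
 (.node 503
 (.leaf 757)
 (.leaf 541))))))))
 (.node 540
 (.node 522
 (.node 513
 (.node 508
 (.node 506
 (.node 505
 (.leaf 637)
 (.leaf 943))
 (.node 507
 (.leaf 223)
 (.leaf 469)))
 (.node 510
 (.node 509
 (.leaf 157)
 (.leaf 301))
 (.node 511
 (.leaf 85)
 (.node 512
 (.leaf 13)
 (.leaf 31)))))
 (.node 517
 (.node 515
 (.node 514
 (.leaf 1081)
 (.leaf 891))
 (.node 516
 (.leaf 1033)
 (.leaf 865)))
 (.node 519
 (.node 518
 (.leaf 961)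
 (.leaf 745))
 (.node 520
 (.leaf 507)
 (.node 521
 (.leaf 579)
 (.leaf 697))))))
 (.node 531
 (.node 526
 (.node 524
 (.node 523
 (.leaf 193)
 (.leaf 387))
 (.node 525
 (.leaf 145)
 (.leaf 267)))
 (.node 528
 (.node 527
 (.leaf 73)
 (.leaf 1))
 (.node 529
 (.leaf 51)
 (.node 530
 (.leaf 1150)
 (.leaf 1124)))))
 (.node 535
 (.node 533
 (.node 532
 (.leaf 1078)
 (.leaf 1006))
 (.node 534
 (.leaf 862)
 (.leaf 622)))
 (.node 537
 (.node 536
 (.leaf 694)
 (.leaf 932))
 (.node 538
 (.leaf 238)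
 (.node 539
 (.leaf 502)
 (.leaf 190)))))))
 (.node 558
 (.node 549
 (.node 544
 (.node 542
 (.node 541
 (.leaf 358)
 (.leaf 118))
 (.node 543
 (.leaf 23)
 (.leaf 46)))
 (.node 546
 (.node 545
 (.leaf 1138)
 (.leaf 1096))
 (.node 547
 (.leaf 1066)
 (.node 548
 (.leaf 880)
 (.leaf 994)))))
 (.node 553
 (.node 551
 (.node 550
 (.leaf 760)
 (.leaf 544))
 (.node 552
 (.leaf 640)
 (.leaf 946)))
 (.node 555
 (.node 554
 (.leaf 226)
 (.leaf 472))
 (.node 556
 (.leaf 160)
 (.node 557
 (.leaf 304)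
 (.leaf 88))))))
 (.node 567
 (.node 562
 (.node 560
 (.node 559
 (.leaf 16)
 (.leaf 34))
 (.node 561
 (.leaf 1084)
 (.leaf 893)))
 (.node 564
 (.node 563
 (.leaf 1036)
 (.leaf 868))
 (.node 565
 (.leaf 964)
 (.node 566
 (.leaf 748)
 (.leaf 509)))))
 (.node 571
 (.node 569
 (.node 568
 (.leaf 581)
 (.leaf 700))
 (.node 570
 (.leaf 196)
 (.leaf 389)))
 (.node 573
 (.node 572
 (.leaf 148)
 (.leaf 269))
 (.node 574
 (.leaf 76)
 (.node 575
 (.leaf 4)
 (.leaf 53)))))))))))
 (.node 864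
 (.node 720
 (.node 648
 (.node 612
 (.node 594
 (.node 585
 (.node 580
 (.node 578
 (.node 577
 (.leaf 1146)
 (.leaf 1099))
 (.node 579
 (.leaf 1074)
 (.leaf 883)))
 (.node 582
 (.node 581
 (.leaf 1002)
 (.leaf 763))
 (.node 583
 (.leaf 547)
 (.node 584
 (.leaf 643)
 (.leaf 954)))))
 (.node 589
 (.node 587
 (.node 586
 (.leaf 234)
 (.leaf 475))
 (.node 588
 (.leaf 163)
 (.leaf 307)))
 (.node 591
 (.node 590
 (.leaf 91)
 (.leaf 19))
 (.node 592
 (.leaf 42)
 (.node 593
 (.leaf 1087)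
 (.leaf 901))))))
 (.node 603
 (.node 598
 (.node 596
 (.node 595
 (.leaf 1039)
 (.leaf 871))
 (.node 597
 (.leaf 967)
 (.leaf 751)))
 (.node 600
 (.node 599
 (.leaf 517)
 (.leaf 589))
 (.node 601
 (.leaf 703)
 (.node 602
 (.leaf 199)
 (.leaf 397)))))
 (.node 607
 (.node 605
 (.node 604
 (.leaf 151)
 (.leaf 277))
 (.node 606
 (.leaf 79)
 (.leaf 7)))
 (.node 609
 (.node 608
 (.leaf 61)
 (.leaf 1080))
 (.node 610
 (.leaf 889)
 (.node 611
 (.leaf 1009)
 (.leaf 841)))))))
 (.node 630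
 (.node 621
 (.node 616
 (.node 614
 (.node 613
 (.leaf 721)
 (.leaf 673))
 (.node 615
 (.leaf 555)
 (.leaf 577)))
 (.node 618
 (.node 617
 (.leaf 433)
 (.leaf 169))
 (.node 619
 (.leaf 385)
 (.node 620
 (.leaf 97)
 (.leaf 265)))))
 (.node 625
 (.node 623
 (.node 622
 (.leaf 243)
 (.leaf 49))
 (.node 624
 (.leaf 1148)
 (.leaf 1102)))
 (.node 627
 (.node 626
 (.leaf 1076)
 (.leaf 886))
 (.node 628
 (.leaf 1004)
 (.node 629
 (.leaf 766)
 (.leaf 550))))))
 (.node 639
 (.node 634
 (.node 632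
 (.node 631
 (.leaf 646)
 (.leaf 956))
 (.node 633
 (.leaf 236)
 (.leaf 478)))
 (.node 636
 (.node 635
 (.leaf 166)
 (.leaf 310))
 (.node 637
 (.leaf 94)
 (.node 638
 (.leaf 22)
 (.leaf 44)))))
 (.node 643
 (.node 641
 (.node 640
 (.leaf 1090)
 (.leaf 904))
 (.node 642
 (.leaf 1042)
 (.leaf 874)))
 (.node 645
 (.node 644
 (.leaf 970)
 (.leaf 754))
 (.node 646
 (.leaf 520)
 (.node 647
 (.leaf 592)
 (.leaf 706))))))))
 (.node 684
 (.node 666
 (.node 657
 (.node 652
 (.node 650
 (.node 649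
 (.leaf 202)
 (.leaf 400))
 (.node 651
 (.leaf 154)
 (.leaf 280)))
 (.node 654
 (.node 653
 (.leaf 82)
 (.leaf 10))
 (.node 655
 (.leaf 64)
 (.node 656
 (.leaf 1082)
 (.leaf 892)))))
 (.node 661
 (.node 659
 (.node 658
 (.leaf 1012)
 (.leaf 844))
 (.node 660
 (.leaf 724)
 (.leaf 676)))
 (.node 663
 (.node 662
 (.leaf 557)
 (.leaf 580))
 (.node 664
 (.leaf 436)
 (.node 665
 (.leaf 172)
 (.leaf 388))))))
 (.node 675
 (.node 670
 (.node 668
 (.node 667
 (.leaf 100)
 (.leaf 268))
 (.node 669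
 (.leaf 245)
 (.leaf 52)))
 (.node 672
 (.node 671
 (.leaf 1098)
 (.leaf 907))
 (.node 673
 (.leaf 1050)
 (.node 674
 (.leaf 882)
 (.leaf 978)))))
 (.node 679
 (.node 677
 (.node 676
 (.leaf 762)
 (.leaf 523))
 (.node 678
 (.leaf 595)
 (.leaf 714)))
 (.node 681
 (.node 680
 (.leaf 210)
 (.leaf 403))
 (.node 682
 (.leaf 162)
 (.node 683
 (.leaf 283)
 (.leaf 90)))))))
 (.node 702
 (.node 693
 (.node 688
 (.node 686
 (.node 685
 (.leaf 18)
 (.leaf 67))
 (.node 687
 (.leaf 1086)
 (.leaf 895)))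
 (.node 690
 (.node 689
 (.leaf 1015)
 (.leaf 847))
 (.node 691
 (.leaf 727)
 (.node 692
 (.leaf 679)
 (.leaf 565)))))
 (.node 697
 (.node 695
 (.node 694
 (.leaf 583)
 (.leaf 439))
 (.node 696
 (.leaf 175)
 (.leaf 391)))
 (.node 699
 (.node 698
 (.leaf 103)
 (.leaf 271))
 (.node 700
 (.leaf 253)
 (.node 701
 (.leaf 55)
 (.leaf 1128))))))
 (.node 711
 (.node 706
 (.node 704
 (.node 703
 (.leaf 888)
 (.leaf 817))
 (.node 705
 (.leaf 793)
 (.leaf 649)))
 (.node 708
 (.node 707
 (.leaf 625)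
 (.leaf 553))
 (.node 709
 (.leaf 576)
 (.node 710
 (.leaf 409)
 (.leaf 121)))))
 (.node 715
 (.node 713
 (.node 712
 (.leaf 289)
 (.leaf 457))
 (.node 714
 (.leaf 241)
 (.leaf 48)))
 (.node 717
 (.node 716
 (.leaf 1100)
 (.leaf 910))
 (.node 718
 (.leaf 1052)
 (.node 719
 (.leaf 884)
 (.leaf 980)))))))))
 (.node 792
 (.node 756
 (.node 738
 (.node 729
 (.node 724
 (.node 722
 (.node 721
 (.leaf 764)
 (.leaf 526))
 (.node 723
 (.leaf 598)
 (.leaf 716)))
 (.node 726
 (.node 725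
 (.leaf 212)
 (.leaf 406))
 (.node 727
 (.leaf 164)
 (.node 728
 (.leaf 286)
 (.leaf 92)))))
 (.node 733
 (.node 731
 (.node 730
 (.leaf 20)
 (.leaf 70))
 (.node 732
 (.leaf 1088)
 (.leaf 898)))
 (.node 735
 (.node 734
 (.leaf 1018)
 (.leaf 850))
 (.node 736
 (.leaf 730)
 (.node 737
 (.leaf 682)
 (.leaf 568))))))
 (.node 747
 (.node 742
 (.node 740
 (.node 739
 (.leaf 586)
 (.leaf 442))
 (.node 741
 (.leaf 178)
 (.leaf 394)))
 (.node 744
 (.node 743
 (.leaf 106)
 (.leaf 274))
 (.node 745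
 (.leaf 256)
 (.node 746
 (.leaf 58)
 (.leaf 1130)))))
 (.node 751
 (.node 749
 (.node 748
 (.leaf 890)
 (.leaf 820))
 (.node 750
 (.leaf 796)
 (.leaf 652)))
 (.node 753
 (.node 752
 (.leaf 628)
 (.leaf 556))
 (.node 754
 (.leaf 578)
 (.node 755
 (.leaf 412)
 (.leaf 124)))))))
 (.node 774
 (.node 765
 (.node 760
 (.node 758
 (.node 757
 (.leaf 292)
 (.leaf 460))
 (.node 759
 (.leaf 244)
 (.leaf 50)))
 (.node 762
 (.node 761
 (.leaf 1092)
 (.leaf 906))
 (.node 763
 (.leaf 1026)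
 (.node 764
 (.leaf 858)
 (.leaf 738)))))
 (.node 769
 (.node 767
 (.node 766
 (.leaf 690)
 (.leaf 571))
 (.node 768
 (.leaf 594)
 (.leaf 450)))
 (.node 771
 (.node 770
 (.leaf 186)
 (.leaf 402))
 (.node 772
 (.leaf 114)
 (.node 773
 (.leaf 282)
 (.leaf 259))))))
 (.node 783
 (.node 778
 (.node 776
 (.node 775
 (.leaf 66)
 (.leaf 1134))
 (.node 777
 (.leaf 894)
 (.leaf 823)))
 (.node 780
 (.node 779
 (.leaf 799)
 (.leaf 655))
 (.node 781
 (.leaf 631)
 (.node 782
 (.leaf 559)
 (.leaf 582)))))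
 (.node 787
 (.node 785
 (.node 784
 (.leaf 415)
 (.leaf 127))
 (.node 786
 (.leaf 295)
 (.leaf 463)))
 (.node 789
 (.node 788
 (.leaf 247)
 (.leaf 54))
 (.node 790
 (.leaf 1104)
 (.node 791
 (.leaf 864)
 (.leaf 769))))))))
 (.node 828
 (.node 810
 (.node 801
 (.node 796
 (.node 794
 (.node 793
 (.leaf 792)
 (.leaf 601))
 (.node 795
 (.leaf 624)
 (.leaf 552)))
 (.node 798
 (.node 797
 (.leaf 505)
 (.leaf 313))
 (.node 799
 (.leaf 481)
 (.node 800
 (.leaf 337)
 (.leaf 240)))))
 (.node 805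
 (.node 803
 (.node 802
 (.leaf 0)
 (.leaf 1094))
 (.node 804
 (.leaf 908)
 (.leaf 1028)))
 (.node 807
 (.node 806
 (.leaf 860)
 (.leaf 740))
 (.node 808
 (.leaf 692)
 (.node 809
 (.leaf 574)
 (.leaf 596))))))
 (.node 819
 (.node 814
 (.node 812
 (.node 811
 (.leaf 452)
 (.leaf 188))
 (.node 813
 (.leaf 404)
 (.leaf 116)))
 (.node 816
 (.node 815
 (.leaf 284)
 (.leaf 262))
 (.node 817
 (.leaf 68)
 (.node 818
 (.leaf 1136)
 (.leaf 896)))))
 (.node 823
 (.node 821
 (.node 820
 (.leaf 826)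
 (.leaf 802))
 (.node 822
 (.leaf 658)
 (.leaf 634)))
 (.node 825
 (.node 824
 (.leaf 562)
 (.leaf 584))
 (.node 826
 (.leaf 418)
 (.node 827
 (.leaf 130)
 (.leaf 298)))))))
 (.node 846
 (.node 837
 (.node 832
 (.node 830
 (.node 829
 (.leaf 466)
 (.leaf 250))
 (.node 831
 (.leaf 56)
 (.leaf 1106)))
 (.node 834
 (.node 833
 (.leaf 866)
 (.leaf 772))
 (.node 835
 (.leaf 794)
 (.node 836
 (.leaf 604)
 (.leaf 626)))))
 (.node 841
 (.node 839
 (.node 838
 (.leaf 554)
 (.leaf 508))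
 (.node 840
 (.leaf 316)
 (.leaf 484)))
 (.node 843
 (.node 842
 (.leaf 340)
 (.leaf 242))
 (.node 844
 (.leaf 2)
 (.node 845
 (.leaf 1140)
 (.leaf 900))))))
 (.node 855
 (.node 850
 (.node 848
 (.node 847
 (.leaf 834)
 (.leaf 810))
 (.node 849
 (.leaf 666)
 (.leaf 642)))
 (.node 852
 (.node 851
 (.leaf 570)
 (.leaf 588))
 (.node 853
 (.leaf 426)
 (.node 854
 (.leaf 138)
 (.leaf 306)))))
 (.node 859
 (.node 857
 (.node 856
 (.leaf 474)
 (.leaf 258))
 (.node 858
 (.leaf 60)
 (.leaf 1110)))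
 (.node 861
 (.node 860
 (.leaf 870)
 (.leaf 775))
 (.node 862
 (.leaf 798)
 (.node 863
 (.leaf 607)
 (.leaf 630))))))))))
 (.node 1008
 (.node 936
 (.node 900
 (.node 882
 (.node 873
 (.node 868
 (.node 866
 (.node 865
 (.leaf 558)
 (.leaf 511))
 (.node 867
 (.leaf 319)
 (.leaf 487)))
 (.node 870
 (.node 869
 (.leaf 343)
 (.leaf 246))
 (.node 871
 (.leaf 6)
 (.node 872
 (.leaf 1056)
 (.leaf 840)))))
 (.node 877
 (.node 875
 (.node 874
 (.leaf 768)
 (.leaf 672))
 (.node 876
 (.leaf 600)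
 (.leaf 529)))
 (.node 879
 (.node 878
 (.leaf 504)
 (.leaf 361))
 (.node 880
 (.leaf 336)
 (.node 881
 (.leaf 264)
 (.leaf 24))))))
 (.node 891
 (.node 886
 (.node 884
 (.node 883
 (.leaf 1142)
 (.leaf 902))
 (.node 885
 (.leaf 836)
 (.leaf 812)))
 (.node 888
 (.node 887
 (.leaf 668)
 (.leaf 644))
 (.node 889
 (.leaf 572)
 (.node 890
 (.leaf 590)
 (.leaf 428)))))
 (.node 895
 (.node 893
 (.node 892
 (.leaf 140)
 (.leaf 308))
 (.node 894
 (.leaf 476)
 (.leaf 260)))
 (.node 897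
 (.node 896
 (.leaf 62)
 (.leaf 1112))
 (.node 898
 (.leaf 872)
 (.node 899
 (.leaf 778)
 (.leaf 800)))))))
 (.node 918
 (.node 909
 (.node 904
 (.node 902
 (.node 901
 (.leaf 610)
 (.leaf 632))
 (.node 903
 (.leaf 560)
 (.leaf 514)))
 (.node 906
 (.node 905
 (.leaf 322)
 (.leaf 490))
 (.node 907
 (.leaf 346)
 (.node 908
 (.leaf 248)
 (.leaf 8)))))
 (.node 913
 (.node 911
 (.node 910
 (.leaf 1058)
 (.leaf 842))
 (.node 912
 (.leaf 770)
 (.leaf 674)))
 (.node 915
 (.node 914
 (.leaf 602)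
 (.leaf 532))
 (.node 916
 (.leaf 506)
 (.node 917
 (.leaf 364)
 (.leaf 338))))))
 (.node 927
 (.node 922
 (.node 920
 (.node 919
 (.leaf 266)
 (.leaf 26))
 (.node 921
 (.leaf 1116)
 (.leaf 876)))
 (.node 924
 (.node 923
 (.leaf 786)
 (.leaf 804))
 (.node 925
 (.leaf 618)
 (.node 926
 (.leaf 636)
 (.leaf 564)))))
 (.node 931
 (.node 929
 (.node 928
 (.leaf 522)
 (.leaf 330))
 (.node 930
 (.leaf 498)
 (.leaf 354)))
 (.node 933
 (.node 932
 (.leaf 252)
 (.leaf 12))
 (.node 934
 (.leaf 1062)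
 (.node 935
 (.leaf 846)
 (.leaf 774))))))))
 (.node 972
 (.node 954
 (.node 945
 (.node 940
 (.node 938
 (.node 937
 (.leaf 678)
 (.leaf 606))
 (.node 939
 (.leaf 535)
 (.leaf 510)))
 (.node 942
 (.node 941
 (.leaf 367)
 (.leaf 342))
 (.node 943
 (.leaf 270)
 (.node 944
 (.leaf 30)
 (.leaf 1032)))))
 (.node 949
 (.node 947
 (.node 946
 (.leaf 744)
 (.leaf 648))
 (.node 948
 (.leaf 816)
 (.leaf 528)))
 (.node 951
 (.node 950
 (.leaf 456)
 (.leaf 360))
 (.node 952
 (.leaf 288)
 (.node 953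
 (.leaf 72)
 (.leaf 1118))))))
 (.node 963
 (.node 958
 (.node 956
 (.node 955
 (.leaf 878)
 (.leaf 788))
 (.node 957
 (.leaf 806)
 (.leaf 620)))
 (.node 960
 (.node 959
 (.leaf 638)
 (.leaf 566))
 (.node 961
 (.leaf 524)
 (.node 962
 (.leaf 332)
 (.leaf 500)))))
 (.node 967
 (.node 965
 (.node 964
 (.leaf 356)
 (.leaf 254))
 (.node 966
 (.leaf 14)
 (.leaf 1064)))
 (.node 969
 (.node 968
 (.leaf 848)
 (.leaf 776))
 (.node 970
 (.leaf 680)
 (.node 971
 (.leaf 608)
 (.leaf 538)))))))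
 (.node 990
 (.node 981
 (.node 976
 (.node 974
 (.node 973
 (.leaf 512)
 (.leaf 370))
 (.node 975
 (.leaf 344)
 (.leaf 272)))
 (.node 978
 (.node 977
 (.leaf 32)
 (.leaf 1034))
 (.node 979
 (.leaf 746)
 (.node 980
 (.leaf 650)
 (.leaf 818)))))
 (.node 985
 (.node 983
 (.node 982
 (.leaf 530)
 (.leaf 458))
 (.node 984
 (.leaf 362)
 (.leaf 290)))
 (.node 987
 (.node 986
 (.leaf 74)
 (.leaf 1068))
 (.node 988
 (.leaf 852)
 (.node 989
 (.leaf 780)
 (.leaf 684))))))
 (.node 999
 (.node 994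
 (.node 992
 (.node 991
 (.leaf 612)
 (.leaf 546))
 (.node 993
 (.leaf 516)
 (.leaf 378)))
 (.node 996
 (.node 995
 (.leaf 348)
 (.leaf 276))
 (.node 997
 (.leaf 36)
 (.node 998
 (.leaf 1038)
 (.leaf 750)))))
 (.node 1003
 (.node 1001
 (.node 1000
 (.leaf 654)
 (.leaf 822))
 (.node 1002
 (.leaf 534)
 (.leaf 462)))
 (.node 1005
 (.node 1004
 (.leaf 366)
 (.leaf 294))
 (.node 1006
 (.leaf 78)
 (.node 1007
 (.leaf 984)
 (.leaf 1008)))))))))
 (.node 1080
 (.node 1044
 (.node 1026
 (.node 1017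
 (.node 1012
 (.node 1010
 (.node 1009
 (.leaf 720)
 (.leaf 480))
 (.node 1011
 (.leaf 384)
 (.leaf 312)))
 (.node 1014
 (.node 1013
 (.leaf 96)
 (.leaf 1070))
 (.node 1015
 (.leaf 854)
 (.node 1016
 (.leaf 782)
 (.leaf 686)))))
 (.node 1021
 (.node 1019
 (.node 1018
 (.leaf 614)
 (.leaf 548))
 (.node 1020
 (.leaf 518)
 (.leaf 380)))
 (.node 1023
 (.node 1022
 (.leaf 350)
 (.leaf 278))
 (.node 1024
 (.leaf 38)
 (.node 1025
 (.leaf 1040)
 (.leaf 752))))))
 (.node 1035
 (.node 1030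
 (.node 1028
 (.node 1027
 (.leaf 656)
 (.leaf 824))
 (.node 1029
 (.leaf 536)
 (.leaf 464)))
 (.node 1032
 (.node 1031
 (.leaf 368)
 (.leaf 296))
 (.node 1033
 (.leaf 80)
 (.node 1034
 (.leaf 986)
 (.leaf 1010)))))
 (.node 1039
 (.node 1037
 (.node 1036
 (.leaf 722)
 (.leaf 482))
 (.node 1038
 (.leaf 386)
 (.leaf 314)))
 (.node 1041
 (.node 1040
 (.leaf 98)
 (.leaf 1044))
 (.node 1042
 (.leaf 756)
 (.node 1043
 (.leaf 660)
 (.leaf 828)))))))
 (.node 1062
 (.node 1053
 (.node 1048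
 (.node 1046
 (.node 1045
 (.leaf 540)
 (.leaf 468))
 (.node 1047
 (.leaf 372)
 (.leaf 300)))
 (.node 1050
 (.node 1049
 (.leaf 84)
 (.leaf 990))
 (.node 1051
 (.leaf 1014)
 (.node 1052
 (.leaf 726)
 (.leaf 486)))))
 (.node 1057
 (.node 1055
 (.node 1054
 (.leaf 390)
 (.leaf 318))
 (.node 1056
 (.leaf 102)
 (.leaf 960)))
 (.node 1059
 (.node 1058
 (.leaf 696)
 (.leaf 408))
 (.node 1060
 (.leaf 144)
 (.node 1061
 (.leaf 120)
 (.leaf 1046))))))
 (.node 1071
 (.node 1066
 (.node 1064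
 (.node 1063
 (.leaf 758)
 (.leaf 662))
 (.node 1065
 (.leaf 830)
 (.leaf 542)))
 (.node 1068
 (.node 1067
 (.leaf 470)
 (.leaf 374))
 (.node 1069
 (.leaf 302)
 (.node 1070
 (.leaf 86)
 (.leaf 992)))))
 (.node 1075
 (.node 1073
 (.node 1072
 (.leaf 1016)
 (.leaf 728))
 (.node 1074
 (.leaf 488)
 (.leaf 392)))
 (.node 1077
 (.node 1076
 (.leaf 320)
 (.leaf 104))
 (.node 1078
 (.leaf 962)
 (.node 1079
 (.leaf 698)
 (.leaf 410))))))))
 (.node 1116
 (.node 1098
 (.node 1089
 (.node 1084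
 (.node 1082
 (.node 1081
 (.leaf 146)
 (.leaf 122))
 (.node 1083
 (.leaf 996)
 (.leaf 1020)))
 (.node 1086
 (.node 1085
 (.leaf 732)
 (.leaf 492))
 (.node 1087
 (.leaf 396)
 (.node 1088
 (.leaf 324)
 (.leaf 108)))))
 (.node 1093
 (.node 1091
 (.node 1090
 (.leaf 966)
 (.leaf 702))
 (.node 1092
 (.leaf 414)
 (.leaf 150)))
 (.node 1095
 (.node 1094
 (.leaf 126)
 (.leaf 936))
 (.node 1096
 (.leaf 432)
 (.node 1097
 (.leaf 168)
 (.leaf 998))))))
 (.node 1107
 (.node 1102
 (.node 1100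
 (.node 1099
 (.leaf 1022)
 (.leaf 734))
 (.node 1101
 (.leaf 494)
 (.leaf 398)))
 (.node 1104
 (.node 1103
 (.leaf 326)
 (.leaf 110))
 (.node 1105
 (.leaf 968)
 (.node 1106
 (.leaf 704)
 (.leaf 416)))))
 (.node 1111
 (.node 1109
 (.node 1108
 (.leaf 152)
 (.leaf 128))
 (.node 1110
 (.leaf 938)
 (.leaf 434)))
 (.node 1113
 (.node 1112
 (.leaf 170)
 (.leaf 972))
 (.node 1114
 (.leaf 708)
 (.node 1115
 (.leaf 420)
 (.leaf 156)))))))
 (.node 1134
 (.node 1125
 (.node 1120
 (.node 1118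
 (.node 1117
 (.leaf 132)
 (.leaf 942))
 (.node 1119
 (.leaf 438)
 (.leaf 174)))
 (.node 1122
 (.node 1121
 (.leaf 912)
 (.leaf 192))
 (.node 1123
 (.leaf 974)
 (.node 1124
 (.leaf 710)
 (.leaf 422)))))
 (.node 1129
 (.node 1127
 (.node 1126
 (.leaf 158)
 (.leaf 134))
 (.node 1128
 (.leaf 944)
 (.leaf 440)))
 (.node 1131
 (.node 1130
 (.leaf 176)
 (.leaf 914))
 (.node 1132
 (.leaf 194)
 (.node 1133
 (.leaf 948)
 (.leaf 444))))))
 (.node 1143
 (.node 1138
 (.node 1136
 (.node 1135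
 (.leaf 180)
 (.leaf 918))
 (.node 1137
 (.leaf 198)
 (.leaf 216)))
 (.node 1140
 (.node 1139
 (.leaf 950)
 (.leaf 446))
 (.node 1141
 (.leaf 182)
 (.node 1142
 (.leaf 920)
 (.leaf 200)))))
 (.node 1147
 (.node 1145
 (.node 1144
 (.leaf 218)
 (.leaf 924))
 (.node 1146
 (.leaf 204)
 (.leaf 222)))
 (.node 1149
 (.node 1148
 (.leaf 926)
 (.leaf 206))
 (.node 1150
 (.leaf 224)
 (.node 1151
 (.leaf 228)
 (.leaf 230))))))))))))
  pos := (.node 576
 (.node 288
 (.node 144
 (.node 72
 (.node 36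
 (.node 18
 (.node 9
 (.node 4
 (.node 2
 (.node 1
 (.leaf 801)
 (.leaf 527))
 (.node 3
 (.leaf 843)
 (.leaf 435)))
 (.node 6
 (.node 5
 (.leaf 574)
 (.leaf 480))
 (.node 7
 (.leaf 870)
 (.node 8
 (.leaf 606)
 (.leaf 908)))))
 (.node 13
 (.node 11
 (.node 10
 (.leaf 348)
 (.leaf 653))
 (.node 12
 (.leaf 390)
 (.leaf 932)))
 (.node 15
 (.node 14
 (.leaf 511)
 (.leaf 965))
 (.node 16
 (.leaf 419)
 (.node 17
 (.leaf 558)
 (.leaf 464))))))
 (.node 27
 (.node 22
 (.node 20
 (.node 19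
 (.leaf 684)
 (.leaf 590))
 (.node 21
 (.leaf 729)
 (.leaf 495)))
 (.node 24
 (.node 23
 (.leaf 637)
 (.leaf 542))
 (.node 25
 (.leaf 881)
 (.node 26
 (.leaf 436)
 (.leaf 919)))))
 (.node 31
 (.node 29
 (.node 28
 (.leaf 349)
 (.leaf 481))
 (.node 30
 (.leaf 391)
 (.leaf 943)))
 (.node 33
 (.node 32
 (.leaf 512)
 (.leaf 976))
 (.node 34
 (.leaf 269)
 (.node 35
 (.leaf 559)
 (.leaf 307)))))))
 (.node 54
 (.node 45
 (.node 40
 (.node 38
 (.node 37
 (.leaf 996)
 (.leaf 420))
 (.node 39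
 (.leaf 1023)
 (.leaf 334)))
 (.node 42
 (.node 41
 (.leaf 465)
 (.leaf 376))
 (.node 43
 (.leaf 591)
 (.node 44
 (.leaf 496)
 (.leaf 638)))))
 (.node 49
 (.node 47
 (.node 46
 (.leaf 405)
 (.leaf 543))
 (.node 48
 (.leaf 450)
 (.leaf 714)))
 (.node 51
 (.node 50
 (.leaf 622)
 (.leaf 759))
 (.node 52
 (.leaf 528)
 (.node 53
 (.leaf 669)
 (.leaf 575))))))
 (.node 63
 (.node 58
 (.node 56
 (.node 55
 (.leaf 788)
 (.leaf 700))
 (.node 57
 (.leaf 830)
 (.leaf 268)))
 (.node 60
 (.node 59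
 (.leaf 745)
 (.leaf 306))
 (.node 61
 (.leaf 857)
 (.node 62
 (.leaf 607)
 (.leaf 895)))))
 (.node 67
 (.node 65
 (.node 64
 (.leaf 333)
 (.leaf 654))
 (.node 66
 (.leaf 375)
 (.leaf 774)))
 (.node 69
 (.node 68
 (.leaf 685)
 (.leaf 816))
 (.node 70
 (.leaf 404)
 (.node 71
 (.leaf 730)
 (.leaf 449))))))))
 (.node 108
 (.node 90
 (.node 81
 (.node 76
 (.node 74
 (.node 73
 (.leaf 952)
 (.leaf 526))
 (.node 75
 (.leaf 985)
 (.leaf 434)))
 (.node 78
 (.node 77
 (.leaf 573)
 (.leaf 479))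
 (.node 79
 (.leaf 1005)
 (.node 80
 (.leaf 605)
 (.leaf 1032)))))
 (.node 85
 (.node 83
 (.node 82
 (.leaf 198)
 (.leaf 652))
 (.node 84
 (.leaf 231)
 (.leaf 1048)))
 (.node 87
 (.node 86
 (.leaf 510)
 (.leaf 1069))
 (.node 88
 (.leaf 255)
 (.node 89
 (.leaf 557)
 (.leaf 293))))))
 (.node 99
 (.node 94
 (.node 92
 (.node 91
 (.leaf 683)
 (.leaf 589))
 (.node 93
 (.leaf 728)
 (.leaf 320)))
 (.node 96
 (.node 95
 (.leaf 636)
 (.leaf 362))
 (.node 97
 (.leaf 1012)
 (.node 98
 (.leaf 619)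
 (.leaf 1039)))))
 (.node 103
 (.node 101
 (.node 100
 (.leaf 347)
 (.leaf 666))
 (.node 102
 (.leaf 389)
 (.leaf 1055)))
 (.node 105
 (.node 104
 (.leaf 697)
 (.leaf 1076))
 (.node 106
 (.leaf 138)
 (.node 107
 (.leaf 742)
 (.leaf 165)))))))
 (.node 126
 (.node 117
 (.node 112
 (.node 110
 (.node 109
 (.leaf 1088)
 (.leaf 418))
 (.node 111
 (.leaf 1103)
 (.leaf 185)))
 (.node 114
 (.node 113
 (.leaf 463)
 (.leaf 218))
 (.node 115
 (.leaf 771)
 (.node 116
 (.leaf 494)
 (.leaf 813)))))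
 (.node 121
 (.node 119
 (.node 118
 (.leaf 242)
 (.leaf 541))
 (.node 120
 (.leaf 280)
 (.leaf 1060)))
 (.node 123
 (.node 122
 (.leaf 710)
 (.leaf 1081))
 (.node 124
 (.leaf 267)
 (.node 125
 (.leaf 755)
 (.leaf 305))))))
 (.node 135
 (.node 130
 (.node 128
 (.node 127
 (.leaf 1093)
 (.leaf 784))
 (.node 129
 (.leaf 1108)
 (.leaf 196)))
 (.node 132
 (.node 131
 (.leaf 826)
 (.leaf 229))
 (.node 133
 (.leaf 1116)
 (.node 134
 (.leaf 332)
 (.leaf 1126)))))
 (.node 139
 (.node 137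
 (.node 136
 (.leaf 253)
 (.leaf 374))
 (.node 138
 (.leaf 291)
 (.leaf 853)))
 (.node 141
 (.node 140
 (.leaf 403)
 (.leaf 891))
 (.node 142
 (.leaf 318)
 (.node 143
 (.leaf 448)
 (.leaf 360)))))))))
 (.node 216
 (.node 180
 (.node 162
 (.node 153
 (.node 148
 (.node 146
 (.node 145
 (.leaf 1059)
 (.leaf 524))
 (.node 147
 (.leaf 1080)
 (.leaf 432)))
 (.node 150
 (.node 149
 (.leaf 571)
 (.leaf 477))
 (.node 151
 (.leaf 1092)
 (.node 152
 (.leaf 603)
 (.leaf 1107)))))
 (.node 157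
 (.node 155
 (.node 154
 (.leaf 90)
 (.leaf 650))
 (.node 156
 (.leaf 111)
 (.leaf 1115)))
 (.node 159
 (.node 158
 (.leaf 508)
 (.leaf 1125))
 (.node 160
 (.leaf 127)
 (.node 161
 (.leaf 555)
 (.leaf 154))))))
 (.node 171
 (.node 166
 (.node 164
 (.node 163
 (.leaf 681)
 (.leaf 587))
 (.node 165
 (.leaf 726)
 (.leaf 174)))
 (.node 168
 (.node 167
 (.leaf 634)
 (.leaf 207))
 (.node 169
 (.leaf 1096)
 (.node 170
 (.leaf 617)
 (.leaf 1111)))))
 (.node 175
 (.node 173
 (.node 172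
 (.leaf 345)
 (.leaf 664))
 (.node 174
 (.leaf 387)
 (.leaf 1119)))
 (.node 177
 (.node 176
 (.leaf 695)
 (.leaf 1129))
 (.node 178
 (.leaf 136)
 (.node 179
 (.leaf 740)
 (.leaf 163)))))))
 (.node 198
 (.node 189
 (.node 184
 (.node 182
 (.node 181
 (.leaf 1134)
 (.leaf 416))
 (.node 183
 (.leaf 1140)
 (.leaf 183)))
 (.node 186
 (.node 185
 (.leaf 461)
 (.leaf 216))
 (.node 187
 (.leaf 769)
 (.node 188
 (.leaf 492)
 (.leaf 811)))))
 (.node 193
 (.node 191
 (.node 190
 (.leaf 240)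
 (.leaf 539))
 (.node 192
 (.leaf 278)
 (.leaf 1121)))
 (.node 195
 (.node 194
 (.leaf 522)
 (.leaf 1131))
 (.node 196
 (.leaf 265)
 (.node 197
 (.leaf 569)
 (.leaf 303))))))
 (.node 207
 (.node 202
 (.node 200
 (.node 199
 (.leaf 1136)
 (.leaf 601))
 (.node 201
 (.leaf 1142)
 (.leaf 194)))
 (.node 204
 (.node 203
 (.leaf 648)
 (.leaf 227))
 (.node 205
 (.leaf 1145)
 (.node 206
 (.leaf 330)
 (.leaf 1148)))))
 (.node 211
 (.node 209
 (.node 208
 (.leaf 251)
 (.leaf 372))
 (.node 210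
 (.leaf 289)
 (.leaf 679)))
 (.node 213
 (.node 212
 (.leaf 401)
 (.leaf 724))
 (.node 214
 (.leaf 316)
 (.node 215
 (.leaf 446)
 (.leaf 358))))))))
 (.node 252
 (.node 234
 (.node 225
 (.node 220
 (.node 218
 (.node 217
 (.leaf 1137)
 (.leaf 430))
 (.node 219
 (.leaf 1143)
 (.leaf 343)))
 (.node 222
 (.node 221
 (.leaf 475)
 (.leaf 385))
 (.node 223
 (.leaf 1146)
 (.node 224
 (.leaf 506)
 (.leaf 1149)))))
 (.node 229
 (.node 227
 (.node 226
 (.leaf 263)
 (.leaf 553))
 (.node 228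
 (.leaf 301)
 (.leaf 1150)))
 (.node 231
 (.node 230
 (.leaf 414)
 (.leaf 1151))
 (.node 232
 (.leaf 328)
 (.node 233
 (.leaf 459)
 (.leaf 370))))))
 (.node 243
 (.node 238
 (.node 236
 (.node 235
 (.leaf 585)
 (.leaf 490))
 (.node 237
 (.leaf 632)
 (.leaf 399)))
 (.node 240
 (.node 239
 (.leaf 537)
 (.leaf 444))
 (.node 241
 (.leaf 800)
 (.node 242
 (.leaf 713)
 (.leaf 842)))))
 (.node 247
 (.node 245
 (.node 244
 (.leaf 621)
 (.leaf 758))
 (.node 246
 (.leaf 668)
 (.leaf 869)))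
 (.node 249
 (.node 248
 (.leaf 787)
 (.leaf 907))
 (.node 250
 (.leaf 197)
 (.node 251
 (.leaf 829)
 (.leaf 230)))))))
 (.node 270
 (.node 261
 (.node 256
 (.node 254
 (.node 253
 (.leaf 931)
 (.leaf 699))
 (.node 255
 (.leaf 964)
 (.leaf 254)))
 (.node 258
 (.node 257
 (.leaf 744)
 (.leaf 292))
 (.node 259
 (.leaf 856)
 (.node 260
 (.leaf 773)
 (.leaf 894)))))
 (.node 265
 (.node 263
 (.node 262
 (.leaf 319)
 (.leaf 815))
 (.node 264
 (.leaf 361)
 (.leaf 880)))
 (.node 267
 (.node 266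
 (.leaf 620)
 (.leaf 918))
 (.node 268
 (.leaf 525)
 (.node 269
 (.leaf 667)
 (.leaf 572))))))
 (.node 279
 (.node 274
 (.node 272
 (.node 271
 (.leaf 942)
 (.leaf 698))
 (.node 273
 (.leaf 975)
 (.leaf 137)))
 (.node 276
 (.node 275
 (.leaf 743)
 (.leaf 164))
 (.node 277
 (.leaf 995)
 (.node 278
 (.leaf 604)
 (.leaf 1022)))))
 (.node 283
 (.node 281
 (.node 280
 (.leaf 184)
 (.leaf 651))
 (.node 282
 (.leaf 217)
 (.leaf 772)))
 (.node 285
 (.node 284
 (.leaf 682)
 (.leaf 814))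
 (.node 286
 (.leaf 241)
 (.node 287
 (.leaf 727)
 (.leaf 279))))))))))
 (.node 432
 (.node 360
 (.node 324
 (.node 306
 (.node 297
 (.node 292
 (.node 290
 (.node 289
 (.leaf 951)
 (.leaf 711))
 (.node 291
 (.leaf 984)
 (.leaf 433)))
 (.node 294
 (.node 293
 (.leaf 756)
 (.leaf 478))
 (.node 295
 (.leaf 1004)
 (.node 296
 (.leaf 785)
 (.leaf 1031)))))
 (.node 301
 (.node 299
 (.node 298
 (.leaf 89)
 (.leaf 827))
 (.node 300
 (.leaf 110)
 (.leaf 1047)))
 (.node 303
 (.node 302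
 (.leaf 509)
 (.leaf 1068))
 (.node 304
 (.leaf 126)
 (.node 305
 (.leaf 556)
 (.leaf 153))))))
 (.node 315
 (.node 310
 (.node 308
 (.node 307
 (.leaf 854)
 (.leaf 588))
 (.node 309
 (.leaf 892)
 (.leaf 173)))
 (.node 312
 (.node 311
 (.leaf 635)
 (.leaf 206))
 (.node 313
 (.leaf 1011)
 (.node 314
 (.leaf 797)
 (.leaf 1038)))))
 (.node 319
 (.node 317
 (.node 316
 (.leaf 195)
 (.leaf 839))
 (.node 318
 (.leaf 228)
 (.leaf 1054)))
 (.node 321
 (.node 320
 (.leaf 866)
 (.leaf 1075))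
 (.node 322
 (.leaf 135)
 (.node 323
 (.leaf 904)
 (.leaf 162)))))))
 (.node 342
 (.node 333
 (.node 328
 (.node 326
 (.node 325
 (.leaf 1087)
 (.leaf 252))
 (.node 327
 (.leaf 1102)
 (.leaf 182)))
 (.node 330
 (.node 329
 (.leaf 290)
 (.leaf 215))
 (.node 331
 (.leaf 928)
 (.node 332
 (.leaf 317)
 (.leaf 961)))))
 (.node 337
 (.node 335
 (.node 334
 (.leaf 239)
 (.leaf 359))
 (.node 336
 (.leaf 277)
 (.leaf 879)))
 (.node 339
 (.node 338
 (.leaf 799)
 (.leaf 917))
 (.node 340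
 (.leaf 346)
 (.node 341
 (.leaf 841)
 (.leaf 388))))))
 (.node 351
 (.node 346
 (.node 344
 (.node 343
 (.leaf 941)
 (.leaf 868))
 (.node 345
 (.leaf 974)
 (.leaf 53)))
 (.node 348
 (.node 347
 (.leaf 906)
 (.leaf 68))
 (.node 349
 (.leaf 994)
 (.node 350
 (.leaf 417)
 (.leaf 1021)))))
 (.node 355
 (.node 353
 (.node 352
 (.leaf 80)
 (.leaf 462))
 (.node 354
 (.leaf 101)
 (.leaf 930)))
 (.node 357
 (.node 356
 (.leaf 493)
 (.leaf 963))
 (.node 358
 (.leaf 117)
 (.node 359
 (.leaf 540)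
 (.leaf 144))))))))
 (.node 396
 (.node 378
 (.node 369
 (.node 364
 (.node 362
 (.node 361
 (.leaf 950)
 (.leaf 878))
 (.node 363
 (.leaf 983)
 (.leaf 266)))
 (.node 366
 (.node 365
 (.leaf 916)
 (.leaf 304))
 (.node 367
 (.leaf 1003)
 (.node 368
 (.leaf 940)
 (.leaf 1030)))))
 (.node 373
 (.node 371
 (.node 370
 (.leaf 87)
 (.leaf 973))
 (.node 372
 (.leaf 108)
 (.leaf 1046)))
 (.node 375
 (.node 374
 (.leaf 331)
 (.leaf 1067))
 (.node 376
 (.leaf 124)
 (.node 377
 (.leaf 373)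
 (.leaf 151))))))
 (.node 387
 (.node 382
 (.node 380
 (.node 379
 (.leaf 993)
 (.leaf 402))
 (.node 381
 (.leaf 1020)
 (.leaf 171)))
 (.node 384
 (.node 383
 (.leaf 447)
 (.leaf 204))
 (.node 385
 (.leaf 1010)
 (.node 386
 (.leaf 618)
 (.leaf 1037)))))
 (.node 391
 (.node 389
 (.node 388
 (.leaf 523)
 (.leaf 665))
 (.node 390
 (.leaf 570)
 (.leaf 1053)))
 (.node 393
 (.node 392
 (.leaf 696)
 (.leaf 1074))
 (.node 394
 (.leaf 54)
 (.node 395
 (.leaf 741)
 (.leaf 69)))))))
 (.node 414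
 (.node 405
 (.node 400
 (.node 398
 (.node 397
 (.leaf 1086)
 (.leaf 602))
 (.node 399
 (.leaf 1101)
 (.leaf 81)))
 (.node 402
 (.node 401
 (.leaf 649)
 (.leaf 102))
 (.node 403
 (.leaf 770)
 (.node 404
 (.leaf 680)
 (.leaf 812)))))
 (.node 409
 (.node 407
 (.node 406
 (.leaf 118)
 (.leaf 725))
 (.node 408
 (.leaf 145)
 (.leaf 1058)))
 (.node 411
 (.node 410
 (.leaf 709)
 (.leaf 1079))
 (.node 412
 (.leaf 264)
 (.node 413
 (.leaf 754)
 (.leaf 302))))))
 (.node 423
 (.node 418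
 (.node 416
 (.node 415
 (.leaf 1091)
 (.leaf 783))
 (.node 417
 (.leaf 1106)
 (.leaf 88)))
 (.node 420
 (.node 419
 (.leaf 825)
 (.leaf 109))
 (.node 421
 (.leaf 1114)
 (.node 422
 (.leaf 329)
 (.leaf 1124)))))
 (.node 427
 (.node 425
 (.node 424
 (.leaf 125)
 (.leaf 371))
 (.node 426
 (.leaf 152)
 (.leaf 852)))
 (.node 429
 (.node 428
 (.leaf 400)
 (.leaf 890))
 (.node 430
 (.leaf 172)
 (.node 431
 (.leaf 445)
 (.leaf 205)))))))))
 (.node 504
 (.node 468
 (.node 450
 (.node 441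
 (.node 436
 (.node 434
 (.node 433
 (.leaf 1095)
 (.leaf 616))
 (.node 435
 (.leaf 1110)
 (.leaf 193)))
 (.node 438
 (.node 437
 (.leaf 663)
 (.leaf 226))
 (.node 439
 (.leaf 1118)
 (.node 440
 (.leaf 694)
 (.leaf 1128)))))
 (.node 445
 (.node 443
 (.node 442
 (.leaf 134)
 (.leaf 739))
 (.node 444
 (.leaf 161)
 (.leaf 1133)))
 (.node 447
 (.node 446
 (.leaf 250)
 (.leaf 1139))
 (.node 448
 (.leaf 181)
 (.node 449
 (.leaf 288)
 (.leaf 214))))))
 (.node 459
 (.node 454
 (.node 452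
 (.node 451
 (.leaf 768)
 (.leaf 315))
 (.node 453
 (.leaf 810)
 (.leaf 238)))
 (.node 456
 (.node 455
 (.leaf 357)
 (.leaf 276))
 (.node 457
 (.leaf 949)
 (.node 458
 (.leaf 712)
 (.leaf 982)))))
 (.node 463
 (.node 461
 (.node 460
 (.leaf 431)
 (.leaf 757))
 (.node 462
 (.leaf 476)
 (.leaf 1002)))
 (.node 465
 (.node 464
 (.leaf 786)
 (.leaf 1029))
 (.node 466
 (.leaf 29)
 (.node 467
 (.leaf 828)
 (.leaf 39)))))))
 (.node 486
 (.node 477
 (.node 472
 (.node 470
 (.node 469
 (.leaf 1045)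
 (.leaf 507))
 (.node 471
 (.leaf 1066)
 (.leaf 47)))
 (.node 474
 (.node 473
 (.leaf 554)
 (.leaf 62))
 (.node 475
 (.leaf 855)
 (.node 476
 (.leaf 586)
 (.leaf 893)))))
 (.node 481
 (.node 479
 (.node 478
 (.leaf 74)
 (.leaf 633))
 (.node 480
 (.leaf 95)
 (.leaf 1009)))
 (.node 483
 (.node 482
 (.leaf 798)
 (.leaf 1036))
 (.node 484
 (.leaf 344)
 (.node 485
 (.leaf 840)
 (.leaf 386))))))
 (.node 495
 (.node 490
 (.node 488
 (.node 487
 (.leaf 1052)
 (.leaf 867))
 (.node 489
 (.leaf 1073)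
 (.leaf 52)))
 (.node 492
 (.node 491
 (.leaf 905)
 (.leaf 67))
 (.node 493
 (.leaf 1085)
 (.node 494
 (.leaf 415)
 (.leaf 1100)))))
 (.node 499
 (.node 497
 (.node 496
 (.leaf 79)
 (.leaf 460))
 (.node 498
 (.leaf 100)
 (.leaf 929)))
 (.node 501
 (.node 500
 (.leaf 491)
 (.leaf 962))
 (.node 502
 (.leaf 116)
 (.node 503
 (.leaf 538)
 (.leaf 143))))))))
 (.node 540
 (.node 522
 (.node 513
 (.node 508
 (.node 506
 (.node 505
 (.leaf 877)
 (.leaf 796))
 (.node 507
 (.leaf 915)
 (.leaf 519)))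
 (.node 510
 (.node 509
 (.leaf 838)
 (.leaf 566))
 (.node 511
 (.leaf 939)
 (.node 512
 (.leaf 865)
 (.leaf 972)))))
 (.node 517
 (.node 515
 (.node 514
 (.leaf 13)
 (.leaf 903))
 (.node 516
 (.leaf 19)
 (.leaf 992)))
 (.node 519
 (.node 518
 (.leaf 598)
 (.leaf 1019))
 (.node 520
 (.leaf 24)
 (.node 521
 (.leaf 645)
 (.leaf 34))))))
 (.node 531
 (.node 526
 (.node 524
 (.node 523
 (.leaf 927)
 (.leaf 676))
 (.node 525
 (.leaf 960)
 (.leaf 42)))
 (.node 528
 (.node 527
 (.leaf 721)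
 (.leaf 57))
 (.node 529
 (.leaf 948)
 (.node 530
 (.leaf 876)
 (.leaf 981)))))
 (.node 535
 (.node 533
 (.node 532
 (.leaf 427)
 (.leaf 914))
 (.node 534
 (.leaf 472)
 (.leaf 1001)))
 (.node 537
 (.node 536
 (.leaf 938)
 (.leaf 1028))
 (.node 538
 (.leaf 28)
 (.node 539
 (.leaf 971)
 (.leaf 38)))))))
 (.node 558
 (.node 549
 (.node 544
 (.node 542
 (.node 541
 (.leaf 1044)
 (.leaf 503))
 (.node 543
 (.leaf 1065)
 (.leaf 46)))
 (.node 546
 (.node 545
 (.leaf 550)
 (.leaf 61))
 (.node 547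
 (.leaf 991)
 (.node 548
 (.leaf 582)
 (.leaf 1018)))))
 (.node 553
 (.node 551
 (.node 550
 (.leaf 73)
 (.leaf 629))
 (.node 552
 (.leaf 94)
 (.leaf 795)))
 (.node 555
 (.node 554
 (.leaf 707)
 (.leaf 837))
 (.node 556
 (.leaf 614)
 (.node 557
 (.leaf 752)
 (.leaf 661))))))
 (.node 567
 (.node 562
 (.node 560
 (.node 559
 (.leaf 864)
 (.leaf 781))
 (.node 561
 (.leaf 902)
 (.leaf 4)))
 (.node 564
 (.node 563
 (.leaf 823)
 (.leaf 7))
 (.node 565
 (.leaf 926)
 (.node 566
 (.leaf 692)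
 (.leaf 959)))))
 (.node 571
 (.node 569
 (.node 568
 (.leaf 10)
 (.leaf 737))
 (.node 570
 (.leaf 16)
 (.leaf 850)))
 (.node 573
 (.node 572
 (.leaf 766)
 (.leaf 888))
 (.node 574
 (.leaf 21)
 (.node 575
 (.leaf 808)
 (.leaf 31)))))))))))
 (.node 864
 (.node 720
 (.node 648
 (.node 612
 (.node 594
 (.node 585
 (.node 580
 (.node 578
 (.node 577
 (.leaf 708)
 (.leaf 615))
 (.node 579
 (.leaf 753)
 (.leaf 520)))
 (.node 582
 (.node 581
 (.leaf 662)
 (.leaf 567))
 (.node 583
 (.leaf 782)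
 (.node 584
 (.leaf 693)
 (.leaf 824)))))
 (.node 589
 (.node 587
 (.node 586
 (.leaf 0)
 (.leaf 738))
 (.node 588
 (.leaf 1)
 (.leaf 851)))
 (.node 591
 (.node 590
 (.leaf 599)
 (.leaf 889))
 (.node 592
 (.leaf 2)
 (.node 593
 (.leaf 646)
 (.leaf 5))))))
 (.node 603
 (.node 598
 (.node 596
 (.node 595
 (.leaf 767)
 (.leaf 677))
 (.node 597
 (.leaf 809)
 (.leaf 8)))
 (.node 600
 (.node 599
 (.leaf 722)
 (.leaf 14))
 (.node 601
 (.leaf 875)
 (.node 602
 (.leaf 793)
 (.leaf 913)))))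
 (.node 607
 (.node 605
 (.node 604
 (.leaf 340)
 (.leaf 835))
 (.node 606
 (.leaf 382)
 (.leaf 937)))
 (.node 609
 (.node 608
 (.leaf 862)
 (.leaf 970))
 (.node 610
 (.leaf 12)
 (.node 611
 (.leaf 900)
 (.leaf 18)))))))
 (.node 630
 (.node 621
 (.node 616
 (.node 614
 (.node 613
 (.leaf 990)
 (.leaf 411))
 (.node 615
 (.leaf 1017)
 (.leaf 23)))
 (.node 618
 (.node 617
 (.leaf 456)
 (.leaf 33))
 (.node 619
 (.leaf 924)
 (.node 620
 (.leaf 487)
 (.leaf 957)))))
 (.node 625
 (.node 623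
 (.node 622
 (.leaf 41)
 (.leaf 534))
 (.node 624
 (.leaf 56)
 (.leaf 794)))
 (.node 627
 (.node 626
 (.leaf 706)
 (.leaf 836))
 (.node 628
 (.leaf 428)
 (.node 629
 (.leaf 751)
 (.leaf 473))))))
 (.node 639
 (.node 634
 (.node 632
 (.node 631
 (.leaf 863)
 (.leaf 780))
 (.node 633
 (.leaf 901)
 (.leaf 3)))
 (.node 636
 (.node 635
 (.leaf 822)
 (.leaf 6))
 (.node 637
 (.leaf 925)
 (.node 638
 (.leaf 504)
 (.leaf 958)))))
 (.node 643
 (.node 641
 (.node 640
 (.leaf 9)
 (.leaf 551))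
 (.node 642
 (.leaf 15)
 (.leaf 849)))
 (.node 645
 (.node 644
 (.leaf 583)
 (.leaf 887))
 (.node 646
 (.leaf 20)
 (.node 647
 (.leaf 630)
 (.leaf 30))))))))
 (.node 684
 (.node 666
 (.node 657
 (.node 652
 (.node 650
 (.node 649
 (.leaf 946)
 (.leaf 705))
 (.node 651
 (.leaf 979)
 (.leaf 260)))
 (.node 654
 (.node 653
 (.leaf 750)
 (.leaf 298))
 (.node 655
 (.leaf 999)
 (.node 656
 (.leaf 779)
 (.leaf 1026)))))
 (.node 661
 (.node 659
 (.node 658
 (.leaf 27)
 (.leaf 821))
 (.node 660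
 (.leaf 37)
 (.leaf 1042)))
 (.node 663
 (.node 662
 (.leaf 325)
 (.leaf 1063))
 (.node 664
 (.leaf 45)
 (.node 665
 (.leaf 367)
 (.leaf 60))))))
 (.node 675
 (.node 670
 (.node 668
 (.node 667
 (.leaf 848)
 (.leaf 396))
 (.node 669
 (.leaf 886)
 (.leaf 72)))
 (.node 672
 (.node 671
 (.leaf 441)
 (.leaf 93))
 (.node 673
 (.leaf 874)
 (.node 674
 (.leaf 613)
 (.leaf 912)))))
 (.node 679
 (.node 677
 (.node 676
 (.leaf 341)
 (.leaf 660))
 (.node 678
 (.leaf 383)
 (.leaf 936)))
 (.node 681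
 (.node 680
 (.leaf 691)
 (.leaf 969))
 (.node 682
 (.leaf 11)
 (.node 683
 (.leaf 736)
 (.leaf 17)))))))
 (.node 702
 (.node 693
 (.node 688
 (.node 686
 (.node 685
 (.leaf 989)
 (.leaf 412))
 (.node 687
 (.leaf 1016)
 (.leaf 22)))
 (.node 690
 (.node 689
 (.leaf 457)
 (.leaf 32))
 (.node 691
 (.leaf 765)
 (.node 692
 (.leaf 488)
 (.leaf 807)))))
 (.node 697
 (.node 695
 (.node 694
 (.leaf 40)
 (.leaf 535))
 (.node 696
 (.leaf 55)
 (.leaf 1057)))
 (.node 699
 (.node 698
 (.leaf 521)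
 (.leaf 1078))
 (.node 700
 (.leaf 133)
 (.node 701
 (.leaf 568)
 (.leaf 160))))))
 (.node 711
 (.node 706
 (.node 704
 (.node 703
 (.leaf 1090)
 (.leaf 600))
 (.node 705
 (.leaf 1105)
 (.leaf 86)))
 (.node 708
 (.node 707
 (.leaf 647)
 (.leaf 107))
 (.node 709
 (.leaf 1113)
 (.node 710
 (.leaf 180)
 (.leaf 1123)))))
 (.node 715
 (.node 713
 (.node 712
 (.leaf 123)
 (.leaf 213))
 (.node 714
 (.leaf 150)
 (.leaf 678)))
 (.node 717
 (.node 716
 (.leaf 237)
 (.leaf 723))
 (.node 718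
 (.leaf 170)
 (.node 719
 (.leaf 275)
 (.leaf 203)))))))))
 (.node 792
 (.node 756
 (.node 738
 (.node 729
 (.node 724
 (.node 722
 (.node 721
 (.leaf 1008)
 (.leaf 612))
 (.node 723
 (.leaf 1035)
 (.leaf 189)))
 (.node 726
 (.node 725
 (.leaf 659)
 (.leaf 222))
 (.node 727
 (.leaf 1051)
 (.node 728
 (.leaf 690)
 (.leaf 1072)))))
 (.node 733
 (.node 731
 (.node 730
 (.leaf 51)
 (.leaf 735))
 (.node 732
 (.leaf 66)
 (.leaf 1084)))
 (.node 735
 (.node 734
 (.leaf 246)
 (.leaf 1099))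
 (.node 736
 (.leaf 78)
 (.node 737
 (.leaf 284)
 (.leaf 99))))))
 (.node 747
 (.node 742
 (.node 740
 (.node 739
 (.leaf 764)
 (.leaf 311))
 (.node 741
 (.leaf 806)
 (.leaf 115)))
 (.node 744
 (.node 743
 (.leaf 353)
 (.leaf 142))
 (.node 745
 (.leaf 945)
 (.node 746
 (.leaf 518)
 (.leaf 978)))))
 (.node 751
 (.node 749
 (.node 748
 (.leaf 426)
 (.leaf 565))
 (.node 750
 (.leaf 471)
 (.leaf 998)))
 (.node 753
 (.node 752
 (.leaf 597)
 (.leaf 1025))
 (.node 754
 (.leaf 26)
 (.node 755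
 (.leaf 644)
 (.leaf 36)))))))
 (.node 774
 (.node 765
 (.node 760
 (.node 758
 (.node 757
 (.leaf 1041)
 (.leaf 502))
 (.node 759
 (.leaf 1062)
 (.leaf 44)))
 (.node 762
 (.node 761
 (.leaf 549)
 (.leaf 59))
 (.node 763
 (.leaf 675)
 (.node 764
 (.leaf 581)
 (.leaf 720)))))
 (.node 769
 (.node 767
 (.node 766
 (.leaf 71)
 (.leaf 628))
 (.node 768
 (.leaf 92)
 (.leaf 873)))
 (.node 771
 (.node 770
 (.leaf 791)
 (.leaf 911))
 (.node 772
 (.leaf 190)
 (.node 773
 (.leaf 833)
 (.leaf 223))))))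
 (.node 783
 (.node 778
 (.node 776
 (.node 775
 (.leaf 935)
 (.leaf 860))
 (.node 777
 (.leaf 968)
 (.leaf 49)))
 (.node 780
 (.node 779
 (.leaf 898)
 (.leaf 64))
 (.node 781
 (.leaf 988)
 (.node 782
 (.leaf 247)
 (.leaf 1015)))))
 (.node 787
 (.node 785
 (.node 784
 (.leaf 76)
 (.leaf 285))
 (.node 786
 (.leaf 97)
 (.leaf 922)))
 (.node 789
 (.node 788
 (.leaf 312)
 (.leaf 955))
 (.node 790
 (.leaf 113)
 (.node 791
 (.leaf 354)
 (.leaf 140))))))))
 (.node 828
 (.node 810
 (.node 801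
 (.node 796
 (.node 794
 (.node 793
 (.leaf 792)
 (.leaf 704))
 (.node 795
 (.leaf 834)
 (.leaf 261)))
 (.node 798
 (.node 797
 (.leaf 749)
 (.leaf 299))
 (.node 799
 (.leaf 861)
 (.node 800
 (.leaf 778)
 (.leaf 899)))))
 (.node 805
 (.node 803
 (.node 802
 (.leaf 25)
 (.leaf 820))
 (.node 804
 (.leaf 35)
 (.leaf 923)))
 (.node 807
 (.node 806
 (.leaf 326)
 (.leaf 956))
 (.node 808
 (.leaf 43)
 (.node 809
 (.leaf 368)
 (.leaf 58))))))
 (.node 819
 (.node 814
 (.node 812
 (.node 811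
 (.leaf 847)
 (.leaf 397))
 (.node 813
 (.leaf 885)
 (.leaf 70)))
 (.node 816
 (.node 815
 (.leaf 442)
 (.leaf 91))
 (.node 817
 (.leaf 947)
 (.node 818
 (.leaf 703)
 (.leaf 980)))))
 (.node 823
 (.node 821
 (.node 820
 (.leaf 131)
 (.leaf 748))
 (.node 822
 (.leaf 158)
 (.leaf 1000)))
 (.node 825
 (.node 824
 (.leaf 777)
 (.leaf 1027))
 (.node 826
 (.leaf 84)
 (.node 827
 (.leaf 819)
 (.leaf 105)))))))
 (.node 846
 (.node 837
 (.node 832
 (.node 830
 (.node 829
 (.leaf 1043)
 (.leaf 178))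
 (.node 831
 (.leaf 1064)
 (.leaf 121)))
 (.node 834
 (.node 833
 (.leaf 211)
 (.leaf 148))
 (.node 835
 (.leaf 846)
 (.node 836
 (.leaf 235)
 (.leaf 884)))))
 (.node 841
 (.node 839
 (.node 838
 (.leaf 168)
 (.leaf 273))
 (.node 840
 (.leaf 201)
 (.leaf 872)))
 (.node 843
 (.node 842
 (.leaf 611)
 (.leaf 910))
 (.node 844
 (.leaf 339)
 (.node 845
 (.leaf 658)
 (.leaf 381))))))
 (.node 855
 (.node 850
 (.node 848
 (.node 847
 (.leaf 934)
 (.leaf 689))
 (.node 849
 (.leaf 967)
 (.leaf 48)))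
 (.node 852
 (.node 851
 (.leaf 734)
 (.leaf 63))
 (.node 853
 (.leaf 987)
 (.node 854
 (.leaf 410)
 (.leaf 1014)))))
 (.node 859
 (.node 857
 (.node 856
 (.leaf 75)
 (.leaf 455))
 (.node 858
 (.leaf 96)
 (.leaf 763)))
 (.node 861
 (.node 860
 (.leaf 486)
 (.leaf 805))
 (.node 862
 (.leaf 112)
 (.node 863
 (.leaf 533)
 (.leaf 139))))))))))
 (.node 1008
 (.node 936
 (.node 900
 (.node 882
 (.node 873
 (.node 868
 (.node 866
 (.node 865
 (.leaf 790)
 (.leaf 516))
 (.node 867
 (.leaf 832)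
 (.leaf 424)))
 (.node 870
 (.node 869
 (.leaf 563)
 (.leaf 469))
 (.node 871
 (.leaf 859)
 (.node 872
 (.leaf 595)
 (.leaf 897)))))
 (.node 877
 (.node 875
 (.node 874
 (.leaf 82)
 (.leaf 642))
 (.node 876
 (.leaf 103)
 (.leaf 921)))
 (.node 879
 (.node 878
 (.leaf 500)
 (.leaf 954))
 (.node 880
 (.leaf 119)
 (.node 881
 (.leaf 547)
 (.leaf 146))))))
 (.node 891
 (.node 886
 (.node 884
 (.node 883
 (.leaf 673)
 (.leaf 579))
 (.node 885
 (.leaf 718)
 (.leaf 166)))
 (.node 888
 (.node 887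
 (.leaf 626)
 (.leaf 199))
 (.node 889
 (.leaf 702)
 (.node 890
 (.leaf 609)
 (.leaf 747)))))
 (.node 895
 (.node 893
 (.node 892
 (.leaf 514)
 (.leaf 656))
 (.node 894
 (.leaf 561)
 (.leaf 776)))
 (.node 897
 (.node 896
 (.leaf 687)
 (.leaf 818))
 (.node 898
 (.leaf 128)
 (.node 899
 (.leaf 732)
 (.leaf 155)))))))
 (.node 918
 (.node 909
 (.node 904
 (.node 902
 (.node 901
 (.leaf 845)
 (.leaf 593))
 (.node 903
 (.leaf 883)
 (.leaf 175)))
 (.node 906
 (.node 905
 (.leaf 640)
 (.leaf 208))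
 (.node 907
 (.leaf 761)
 (.node 908
 (.leaf 671)
 (.leaf 803)))))
 (.node 913
 (.node 911
 (.node 910
 (.leaf 232)
 (.leaf 716))
 (.node 912
 (.leaf 270)
 (.leaf 1120)))
 (.node 915
 (.node 914
 (.leaf 342)
 (.leaf 1130))
 (.node 916
 (.leaf 262)
 (.node 917
 (.leaf 384)
 (.leaf 300))))))
 (.node 927
 (.node 922
 (.node 920
 (.node 919
 (.leaf 1135)
 (.leaf 413))
 (.node 921
 (.leaf 1141)
 (.leaf 192)))
 (.node 924
 (.node 923
 (.leaf 458)
 (.leaf 225))
 (.node 925
 (.leaf 1144)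
 (.node 926
 (.leaf 327)
 (.leaf 1147)))))
 (.node 931
 (.node 929
 (.node 928
 (.leaf 249)
 (.leaf 369))
 (.node 930
 (.leaf 287)
 (.leaf 489)))
 (.node 933
 (.node 932
 (.leaf 398)
 (.leaf 536))
 (.node 934
 (.leaf 314)
 (.node 935
 (.leaf 443)
 (.leaf 356))))))))
 (.node 972
 (.node 954
 (.node 945
 (.node 940
 (.node 938
 (.node 937
 (.leaf 1094)
 (.leaf 429))
 (.node 939
 (.leaf 1109)
 (.leaf 191)))
 (.node 942
 (.node 941
 (.leaf 474)
 (.leaf 224))
 (.node 943
 (.leaf 1117)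
 (.node 944
 (.leaf 505)
 (.leaf 1127)))))
 (.node 949
 (.node 947
 (.node 946
 (.leaf 132)
 (.leaf 552))
 (.node 948
 (.leaf 159)
 (.leaf 1132)))
 (.node 951
 (.node 950
 (.leaf 248)
 (.leaf 1138))
 (.node 952
 (.leaf 179)
 (.node 953
 (.leaf 286)
 (.leaf 212))))))
 (.node 963
 (.node 958
 (.node 956
 (.node 955
 (.leaf 584)
 (.leaf 313))
 (.node 957
 (.leaf 631)
 (.leaf 236)))
 (.node 960
 (.node 959
 (.leaf 355)
 (.leaf 274))
 (.node 961
 (.leaf 1056)
 (.node 962
 (.leaf 517)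
 (.leaf 1077)))))
 (.node 967
 (.node 965
 (.node 964
 (.leaf 258)
 (.leaf 564))
 (.node 966
 (.leaf 296)
 (.leaf 1089)))
 (.node 969
 (.node 968
 (.leaf 596)
 (.leaf 1104))
 (.node 970
 (.leaf 85)
 (.node 971
 (.leaf 643)
 (.leaf 106)))))))
 (.node 990
 (.node 981
 (.node 976
 (.node 974
 (.node 973
 (.leaf 1112)
 (.leaf 323))
 (.node 975
 (.leaf 1122)
 (.leaf 122)))
 (.node 978
 (.node 977
 (.leaf 365)
 (.leaf 149))
 (.node 979
 (.leaf 674)
 (.node 980
 (.leaf 394)
 (.leaf 719)))))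
 (.node 985
 (.node 983
 (.node 982
 (.leaf 169)
 (.leaf 439))
 (.node 984
 (.leaf 202)
 (.leaf 1006)))
 (.node 987
 (.node 986
 (.leaf 425)
 (.leaf 1033))
 (.node 988
 (.leaf 338)
 (.node 989
 (.leaf 470)
 (.leaf 380))))))
 (.node 999
 (.node 994
 (.node 992
 (.node 991
 (.leaf 1049)
 (.leaf 501))
 (.node 993
 (.leaf 1070)
 (.leaf 50)))
 (.node 996
 (.node 995
 (.leaf 548)
 (.leaf 65))
 (.node 997
 (.leaf 1082)
 (.node 998
 (.leaf 409)
 (.leaf 1097)))))
 (.node 1003
 (.node 1001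
 (.node 1000
 (.leaf 77)
 (.leaf 454))
 (.node 1002
 (.leaf 98)
 (.leaf 580)))
 (.node 1005
 (.node 1004
 (.leaf 485)
 (.leaf 627))
 (.node 1006
 (.leaf 114)
 (.node 1007
 (.leaf 532)
 (.leaf 141)))))))))
 (.node 1080
 (.node 1044
 (.node 1026
 (.node 1017
 (.node 1012
 (.node 1010
 (.node 1009
 (.leaf 1007)
 (.leaf 610))
 (.node 1011
 (.leaf 1034)
 (.leaf 188)))
 (.node 1014
 (.node 1013
 (.leaf 657)
 (.leaf 221))
 (.node 1015
 (.leaf 1050)
 (.node 1016
 (.leaf 688)
 (.leaf 1071)))))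
 (.node 1021
 (.node 1019
 (.node 1018
 (.leaf 130)
 (.leaf 733))
 (.node 1020
 (.leaf 157)
 (.leaf 1083)))
 (.node 1023
 (.node 1022
 (.leaf 245)
 (.leaf 1098))
 (.node 1024
 (.leaf 177)
 (.node 1025
 (.leaf 283)
 (.leaf 210))))))
 (.node 1035
 (.node 1030
 (.node 1028
 (.node 1027
 (.leaf 762)
 (.leaf 310))
 (.node 1029
 (.leaf 804)
 (.leaf 234)))
 (.node 1032
 (.node 1031
 (.leaf 352)
 (.leaf 272))
 (.node 1033
 (.leaf 944)
 (.node 1034
 (.leaf 515)
 (.leaf 977)))))
 (.node 1039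
 (.node 1037
 (.node 1036
 (.leaf 259)
 (.leaf 562))
 (.node 1038
 (.leaf 297)
 (.leaf 997)))
 (.node 1041
 (.node 1040
 (.leaf 594)
 (.leaf 1024))
 (.node 1042
 (.leaf 83)
 (.node 1043
 (.leaf 641)
 (.leaf 104)))))))
 (.node 1062
 (.node 1053
 (.node 1048
 (.node 1046
 (.node 1045
 (.leaf 1040)
 (.leaf 324))
 (.node 1047
 (.leaf 1061)
 (.leaf 120)))
 (.node 1050
 (.node 1049
 (.leaf 366)
 (.leaf 147))
 (.node 1051
 (.leaf 672)
 (.node 1052
 (.leaf 395)
 (.leaf 717)))))
 (.node 1057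
 (.node 1055
 (.node 1054
 (.leaf 167)
 (.leaf 440))
 (.node 1056
 (.leaf 200)
 (.leaf 871)))
 (.node 1059
 (.node 1058
 (.leaf 423)
 (.leaf 909))
 (.node 1060
 (.leaf 337)
 (.node 1061
 (.leaf 468)
 (.leaf 379))))))
 (.node 1071
 (.node 1066
 (.node 1064
 (.node 1063
 (.leaf 933)
 (.leaf 499))
 (.node 1065
 (.leaf 966)
 (.leaf 129)))
 (.node 1068
 (.node 1067
 (.leaf 546)
 (.leaf 156))
 (.node 1069
 (.leaf 986)
 (.node 1070
 (.leaf 408)
 (.leaf 1013)))))
 (.node 1075
 (.node 1073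
 (.node 1072
 (.leaf 176)
 (.leaf 453))
 (.node 1074
 (.leaf 209)
 (.leaf 578)))
 (.node 1077
 (.node 1076
 (.leaf 484)
 (.leaf 625))
 (.node 1078
 (.leaf 233)
 (.node 1079
 (.leaf 531)
 (.leaf 271))))))))
 (.node 1116
 (.node 1098
 (.node 1089
 (.node 1084
 (.node 1082
 (.node 1081
 (.leaf 608)
 (.leaf 513))
 (.node 1083
 (.leaf 655)
 (.leaf 422)))
 (.node 1086
 (.node 1085
 (.leaf 560)
 (.leaf 467))
 (.node 1087
 (.leaf 686)
 (.node 1088
 (.leaf 592)
 (.leaf 731)))))
 (.node 1093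
 (.node 1091
 (.node 1090
 (.leaf 186)
 (.leaf 639))
 (.node 1092
 (.leaf 219)
 (.leaf 760)))
 (.node 1095
 (.node 1094
 (.leaf 498)
 (.leaf 802))
 (.node 1096
 (.leaf 243)
 (.node 1097
 (.leaf 545)
 (.leaf 281))))))
 (.node 1107
 (.node 1102
 (.node 1100
 (.node 1099
 (.leaf 670)
 (.leaf 577))
 (.node 1101
 (.leaf 715)
 (.leaf 308)))
 (.node 1104
 (.node 1103
 (.leaf 624)
 (.leaf 350))
 (.node 1105
 (.leaf 789)
 (.node 1106
 (.leaf 336)
 (.leaf 831)))))
 (.node 1111
 (.node 1109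
 (.node 1108
 (.leaf 257)
 (.leaf 378))
 (.node 1110
 (.leaf 295)
 (.leaf 858)))
 (.node 1113
 (.node 1112
 (.leaf 407)
 (.leaf 896))
 (.node 1114
 (.leaf 187)
 (.node 1115
 (.leaf 452)
 (.leaf 220)))))))
 (.node 1134
 (.node 1125
 (.node 1120
 (.node 1118
 (.node 1117
 (.leaf 920)
 (.leaf 322))
 (.node 1119
 (.leaf 953)
 (.leaf 244)))
 (.node 1122
 (.node 1121
 (.leaf 364)
 (.leaf 282))
 (.node 1123
 (.leaf 483)
 (.node 1124
 (.leaf 393)
 (.leaf 530)))))
 (.node 1129
 (.node 1127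
 (.node 1126
 (.leaf 309)
 (.leaf 438))
 (.node 1128
 (.leaf 351)
 (.leaf 701)))
 (.node 1131
 (.node 1130
 (.leaf 421)
 (.leaf 746))
 (.node 1132
 (.leaf 335)
 (.node 1133
 (.leaf 466)
 (.leaf 377))))))
 (.node 1143
 (.node 1138
 (.node 1136
 (.node 1135
 (.leaf 775)
 (.leaf 497))
 (.node 1137
 (.leaf 817)
 (.leaf 256)))
 (.node 1140
 (.node 1139
 (.leaf 544)
 (.leaf 294))
 (.node 1141
 (.leaf 844)
 (.node 1142
 (.leaf 406)
 (.leaf 882)))))
 (.node 1147
 (.node 1145
 (.node 1144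
 (.leaf 321)
 (.leaf 451))
 (.node 1146
 (.leaf 363)
 (.leaf 576)))
 (.node 1149
 (.node 1148
 (.leaf 482)
 (.leaf 623))
 (.node 1150
 (.leaf 392)
 (.node 1151
 (.leaf 529)
 (.leaf 437))))))))))))
  wit := (.node 576
 (.node 288
 (.node 144
 (.node 72
 (.node 36
 (.node 18
 (.node 9
 (.node 4
 (.node 2
 (.node 1
 (.leaf 0)
 (.leaf 46))
 (.node 3
 (.leaf 39)
 (.leaf 42)))
 (.node 6
 (.node 5
 (.leaf 56)
 (.leaf 47))
 (.node 7
 (.leaf 42)
 (.node 8
 (.leaf 56)
 (.leaf 47)))))
 (.node 13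
 (.node 11
 (.node 10
 (.leaf 43)
 (.leaf 56))
 (.node 12
 (.leaf 44)
 (.leaf 57)))
 (.node 15
 (.node 14
 (.leaf 57)
 (.leaf 39))
 (.node 16
 (.leaf 50)
 (.node 17
 (.leaf 56)
 (.leaf 51))))))
 (.node 27
 (.node 22
 (.node 20
 (.node 19
 (.leaf 57)
 (.leaf 57))
 (.node 21
 (.leaf 43)
 (.leaf 56)))
 (.node 24
 (.node 23
 (.leaf 44)
 (.leaf 58))
 (.node 25
 (.leaf 58)
 (.node 26
 (.leaf 51)
 (.leaf 40)))))
 (.node 31
 (.node 29
 (.node 28
 (.leaf 57)
 (.leaf 56))
 (.node 30
 (.leaf 60)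
 (.leaf 50)))
 (.node 33
 (.node 32
 (.leaf 56)
 (.leaf 51))
 (.node 34
 (.leaf 61)
 (.node 35
 (.leaf 61)
 (.leaf 44)))))))
 (.node 54
 (.node 45
 (.node 40
 (.node 38
 (.node 37
 (.leaf 48)
 (.leaf 57))
 (.node 39
 (.leaf 56)
 (.leaf 63)))
 (.node 42
 (.node 41
 (.leaf 53)
 (.leaf 58))
 (.node 43
 (.leaf 58)
 (.node 44
 (.leaf 53)
 (.leaf 37)))))
 (.node 49
 (.node 47
 (.node 46
 (.leaf 58)
 (.leaf 56))
 (.node 48
 (.leaf 60)
 (.leaf 40)))
 (.node 51
 (.node 50
 (.leaf 57)
 (.leaf 59))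
 (.node 52
 (.leaf 59)
 (.node 53
 (.leaf 60)
 (.leaf 63))))))
 (.node 63
 (.node 58
 (.node 56
 (.node 55
 (.leaf 41)
 (.leaf 53))
 (.node 57
 (.leaf 61)
 (.leaf 61)))
 (.node 60
 (.node 59
 (.leaf 53)
 (.leaf 37))
 (.node 61
 (.leaf 61)
 (.node 62
 (.leaf 56)
 (.leaf 63)))))
 (.node 67
 (.node 65
 (.node 64
 (.leaf 48)
 (.leaf 57))
 (.node 66
 (.leaf 62)
 (.leaf 62)))
 (.node 69
 (.node 68
 (.leaf 63)
 (.leaf 60))
 (.node 70
 (.leaf 49)
 (.node 71
 (.leaf 44)
 (.leaf 48))))))))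
 (.node 108
 (.node 90
 (.node 81
 (.node 76
 (.node 74
 (.node 73
 (.leaf 58)
 (.leaf 56))
 (.node 75
 (.leaf 65)
 (.leaf 37)))
 (.node 78
 (.node 77
 (.leaf 58)
 (.leaf 59))
 (.node 79
 (.leaf 59)
 (.node 80
 (.leaf 60)
 (.leaf 65)))))
 (.node 85
 (.node 83
 (.node 82
 (.leaf 38)
 (.leaf 53))
 (.node 84
 (.leaf 59)
 (.leaf 59)))
 (.node 87
 (.node 86
 (.leaf 57)
 (.leaf 60))
 (.node 88
 (.leaf 63)
 (.node 89
 (.leaf 45)
 (.leaf 41))))))
 (.node 99
 (.node 94
 (.node 92
 (.node 91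
 (.leaf 45)
 (.leaf 51))
 (.node 93
 (.leaf 40)
 (.leaf 61)))
 (.node 96
 (.node 95
 (.leaf 56)
 (.leaf 65))
 (.node 97
 (.leaf 37)
 (.node 98
 (.leaf 61)
 (.leaf 62)))))
 (.node 103
 (.node 101
 (.node 100
 (.leaf 62)
 (.leaf 63))
 (.node 102
 (.leaf 65)
 (.leaf 38)))
 (.node 105
 (.node 104
 (.leaf 53)
 (.leaf 62))
 (.node 106
 (.leaf 62)
 (.node 107
 (.leaf 57)
 (.leaf 63)))))))
 (.node 126
 (.node 117
 (.node 112
 (.node 110
 (.node 109
 (.leaf 60)
 (.leaf 52))
 (.node 111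
 (.leaf 49)
 (.leaf 52)))
 (.node 114
 (.node 113
 (.leaf 48)
 (.leaf 58))
 (.node 115
 (.leaf 64)
 (.node 116
 (.leaf 64)
 (.leaf 65)))))
 (.node 121
 (.node 119
 (.node 118
 (.leaf 60)
 (.leaf 49))
 (.node 120
 (.leaf 51)
 (.leaf 59)))
 (.node 123
 (.node 122
 (.leaf 59)
 (.leaf 58))
 (.node 124
 (.leaf 60)
 (.node 125
 (.leaf 65)
 (.leaf 45))))))
 (.node 135
 (.node 130
 (.node 128
 (.node 127
 (.leaf 38)
 (.leaf 45))
 (.node 129
 (.leaf 50)
 (.leaf 59)))
 (.node 132
 (.node 131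
 (.leaf 57)
 (.leaf 69))
 (.node 133
 (.leaf 60)
 (.node 134
 (.leaf 69)
 (.leaf 36)))))
 (.node 139
 (.node 137
 (.node 136
 (.leaf 45)
 (.leaf 41))
 (.node 138
 (.leaf 65)
 (.leaf 45)))
 (.node 141
 (.node 140
 (.leaf 40)
 (.leaf 61))
 (.node 142
 (.leaf 64)
 (.node 143
 (.leaf 64)
 (.leaf 65)))))))))
 (.node 216
 (.node 180
 (.node 162
 (.node 153
 (.node 148
 (.node 146
 (.node 145
 (.leaf 63)
 (.leaf 41))
 (.node 147
 (.leaf 44)
 (.leaf 62)))
 (.node 150
 (.node 149
 (.leaf 62)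
 (.leaf 61))
 (.node 151
 (.leaf 63)
 (.node 152
 (.leaf 65)
 (.leaf 52)))))
 (.node 157
 (.node 155
 (.node 154
 (.leaf 38)
 (.leaf 52))
 (.node 156
 (.leaf 43)
 (.leaf 62)))
 (.node 159
 (.node 158
 (.leaf 57)
 (.leaf 69))
 (.node 160
 (.leaf 63)
 (.node 161
 (.leaf 69)
 (.leaf 36))))))
 (.node 171
 (.node 166
 (.node 164
 (.node 163
 (.leaf 52)
 (.leaf 49))
 (.node 165
 (.leaf 65)
 (.leaf 52)))
 (.node 168
 (.node 167
 (.leaf 51)
 (.leaf 64))
 (.node 169
 (.leaf 64)
 (.node 170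
 (.leaf 58)
 (.leaf 65)))))
 (.node 175
 (.node 173
 (.node 172
 (.leaf 60)
 (.leaf 54))
 (.node 174
 (.leaf 49)
 (.leaf 54)))
 (.node 177
 (.node 176
 (.leaf 50)
 (.leaf 59))
 (.node 178
 (.leaf 58)
 (.node 179
 (.leaf 70)
 (.leaf 60)))))))
 (.node 198
 (.node 189
 (.node 184
 (.node 182
 (.node 181
 (.leaf 70)
 (.leaf 36))
 (.node 183
 (.leaf 45)
 (.leaf 38)))
 (.node 186
 (.node 185
 (.leaf 63)
 (.leaf 45))
 (.node 187
 (.leaf 67)
 (.node 188
 (.leaf 67)
 (.leaf 69)))))
 (.node 193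
 (.node 191
 (.node 190
 (.leaf 60)
 (.leaf 52))
 (.node 192
 (.leaf 69)
 (.leaf 41)))
 (.node 195
 (.node 194
 (.leaf 36)
 (.leaf 41))
 (.node 196
 (.leaf 69)
 (.node 197
 (.leaf 41)
 (.leaf 61))))))
 (.node 207
 (.node 202
 (.node 200
 (.node 199
 (.leaf 45)
 (.leaf 44))
 (.node 201
 (.leaf 64)
 (.leaf 64)))
 (.node 204
 (.node 203
 (.leaf 61)
 (.leaf 65))
 (.node 205
 (.leaf 63)
 (.node 206
 (.leaf 54)
 (.leaf 41)))))
 (.node 211
 (.node 209
 (.node 208
 (.leaf 54)
 (.leaf 43))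
 (.node 210
 (.leaf 62)
 (.leaf 61)))
 (.node 213
 (.node 212
 (.leaf 71)
 (.leaf 63))
 (.node 214
 (.leaf 71)
 (.node 215
 (.leaf 36)
 (.leaf 52))))))))
 (.node 252
 (.node 234
 (.node 225
 (.node 220
 (.node 218
 (.node 217
 (.leaf 38)
 (.leaf 60))
 (.node 219
 (.leaf 52)
 (.leaf 67)))
 (.node 222
 (.node 221
 (.leaf 67)
 (.leaf 69))
 (.node 223
 (.leaf 63)
 (.node 224
 (.leaf 45)
 (.leaf 69)))))
 (.node 229
 (.node 227
 (.node 226
 (.leaf 49)
 (.leaf 36))
 (.node 228
 (.leaf 49)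
 (.leaf 69)))
 (.node 231
 (.node 230
 (.leaf 49)
 (.leaf 58))
 (.node 232
 (.leaf 52)
 (.node 233
 (.leaf 42)
 (.leaf 64))))))
 (.node 243
 (.node 238
 (.node 236
 (.node 235
 (.leaf 58)
 (.leaf 70))
 (.node 237
 (.leaf 65)
 (.leaf 70)))
 (.node 240
 (.node 239
 (.leaf 36)
 (.leaf 54))
 (.node 241
 (.leaf 49)
 (.node 242
 (.leaf 63)
 (.leaf 54)))))
 (.node 247
 (.node 245
 (.node 244
 (.leaf 67)
 (.leaf 67))
 (.node 246
 (.leaf 70)
 (.leaf 60)))
 (.node 249
 (.node 248
 (.leaf 54)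
 (.leaf 70))
 (.node 250
 (.leaf 38)
 (.node 251
 (.leaf 36)
 (.leaf 38)))))))
 (.node 270
 (.node 261
 (.node 256
 (.node 254
 (.node 253
 (.leaf 70)
 (.leaf 38))
 (.node 255
 (.leaf 61)
 (.leaf 45)))
 (.node 258
 (.node 257
 (.leaf 59)
 (.leaf 69))
 (.node 259
 (.leaf 60)
 (.node 260
 (.leaf 55)
 (.leaf 52)))))
 (.node 265
 (.node 263
 (.node 262
 (.leaf 55)
 (.leaf 41))
 (.node 264
 (.leaf 36)
 (.leaf 63)))
 (.node 267
 (.node 266
 (.leaf 41)
 (.leaf 62))
 (.node 268
 (.leaf 41)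
 (.node 269
 (.leaf 68)
 (.leaf 68))))))
 (.node 279
 (.node 274
 (.node 272
 (.node 271
 (.leaf 42)
 (.leaf 64))
 (.node 273
 (.leaf 61)
 (.leaf 71)))
 (.node 276
 (.node 275
 (.leaf 65)
 (.leaf 71))
 (.node 277
 (.leaf 36)
 (.node 278
 (.leaf 54)
 (.leaf 41)))))
 (.node 283
 (.node 281
 (.node 280
 (.leaf 60)
 (.leaf 54))
 (.node 282
 (.leaf 67)
 (.leaf 67)))
 (.node 285
 (.node 284
 (.leaf 71)
 (.leaf 63))
 (.node 286
 (.leaf 54)
 (.node 287
 (.leaf 71)
 (.leaf 38))))))))))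
 (.node 432
 (.node 360
 (.node 324
 (.node 306
 (.node 297
 (.node 292
 (.node 290
 (.node 289
 (.leaf 36)
 (.leaf 38))
 (.node 291
 (.leaf 71)
 (.leaf 38)))
 (.node 294
 (.node 293
 (.leaf 58)
 (.leaf 52))
 (.node 295
 (.leaf 62)
 (.node 296
 (.leaf 69)
 (.leaf 63)))))
 (.node 301
 (.node 299
 (.node 298
 (.leaf 55)
 (.leaf 45))
 (.node 300
 (.leaf 55)
 (.leaf 49)))
 (.node 303
 (.node 302
 (.leaf 36)
 (.leaf 60))
 (.node 304
 (.leaf 49)
 (.node 305
 (.leaf 59)
 (.leaf 49))))))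
 (.node 315
 (.node 310
 (.node 308
 (.node 307
 (.leaf 68)
 (.leaf 68))
 (.node 309
 (.leaf 67)
 (.leaf 67)))
 (.node 312
 (.node 311
 (.leaf 70)
 (.leaf 65))
 (.node 313
 (.leaf 45)
 (.node 314
 (.leaf 70)
 (.leaf 49)))))
 (.node 319
 (.node 317
 (.node 316
 (.leaf 36)
 (.leaf 49))
 (.node 318
 (.leaf 70)
 (.leaf 49)))
 (.node 321
 (.node 320
 (.leaf 57)
 (.leaf 54))
 (.node 322
 (.leaf 59)
 (.node 323
 (.leaf 70)
 (.leaf 60)))))))
 (.node 342
 (.node 333
 (.node 328
 (.node 326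
 (.node 325
 (.leaf 55)
 (.leaf 54))
 (.node 327
 (.leaf 55)
 (.leaf 38)))
 (.node 330
 (.node 329
 (.leaf 36)
 (.leaf 65))
 (.node 331
 (.leaf 38)
 (.node 332
 (.leaf 64)
 (.leaf 38)))))
 (.node 337
 (.node 335
 (.node 334
 (.leaf 68)
 (.leaf 68))
 (.node 336
 (.leaf 69)
 (.leaf 70)))
 (.node 339
 (.node 338
 (.leaf 38)
 (.leaf 55))
 (.node 340
 (.leaf 52)
 (.node 341
 (.leaf 63)
 (.leaf 55))))))
 (.node 351
 (.node 346
 (.node 344
 (.node 343
 (.leaf 70)
 (.leaf 36))
 (.node 345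
 (.leaf 62)
 (.leaf 41)))
 (.node 348
 (.node 347
 (.leaf 66)
 (.leaf 66))
 (.node 349
 (.leaf 45)
 (.node 350
 (.leaf 69)
 (.leaf 67)))))
 (.node 355
 (.node 353
 (.node 352
 (.leaf 67)
 (.leaf 71))
 (.node 354
 (.leaf 65)
 (.leaf 52)))
 (.node 357
 (.node 356
 (.leaf 71)
 (.leaf 41))
 (.node 358
 (.leaf 36)
 (.node 359
 (.leaf 41)
 (.leaf 71))))))))
 (.node 396
 (.node 378
 (.node 369
 (.node 364
 (.node 362
 (.node 361
 (.leaf 41)
 (.leaf 57))
 (.node 363
 (.leaf 54)
 (.leaf 62)))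
 (.node 366
 (.node 365
 (.leaf 71)
 (.leaf 63))
 (.node 367
 (.leaf 55)
 (.node 368
 (.leaf 54)
 (.leaf 55)))))
 (.node 373
 (.node 371
 (.node 370
 (.leaf 38)
 (.leaf 36))
 (.node 372
 (.leaf 65)
 (.leaf 38)))
 (.node 375
 (.node 374
 (.leaf 64)
 (.leaf 38))
 (.node 376
 (.leaf 68)
 (.node 377
 (.leaf 68)
 (.leaf 69))))))
 (.node 387
 (.node 382
 (.node 380
 (.node 379
 (.leaf 71)
 (.leaf 38))
 (.node 381
 (.leaf 55)
 (.leaf 45)))
 (.node 384
 (.node 383
 (.leaf 60)
 (.leaf 55))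
 (.node 385
 (.leaf 71)
 (.node 386
 (.leaf 36)
 (.leaf 59)))))
 (.node 391
 (.node 389
 (.node 388
 (.leaf 49)
 (.leaf 66))
 (.node 390
 (.leaf 66)
 (.leaf 52)))
 (.node 393
 (.node 392
 (.leaf 69)
 (.leaf 64))
 (.node 394
 (.leaf 70)
 (.node 395
 (.leaf 65)
 (.leaf 55)))))))
 (.node 414
 (.node 405
 (.node 400
 (.node 398
 (.node 397
 (.leaf 45)
 (.leaf 55))
 (.node 399
 (.leaf 49)
 (.leaf 36)))
 (.node 402
 (.node 401
 (.leaf 60)
 (.leaf 49))
 (.node 403
 (.leaf 59)
 (.node 404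
 (.leaf 49)
 (.leaf 68)))))
 (.node 409
 (.node 407
 (.node 406
 (.leaf 68)
 (.leaf 70))
 (.node 408
 (.leaf 69)
 (.leaf 41)))
 (.node 411
 (.node 410
 (.leaf 55)
 (.leaf 54))
 (.node 412
 (.leaf 65)
 (.node 413
 (.leaf 55)
 (.leaf 69))))))
 (.node 423
 (.node 418
 (.node 416
 (.node 415
 (.leaf 36)
 (.leaf 64))
 (.node 417
 (.leaf 38)
 (.leaf 66)))
 (.node 420
 (.node 419
 (.leaf 66)
 (.leaf 45))
 (.node 421
 (.leaf 70)
 (.node 422
 (.leaf 70)
 (.leaf 52)))))
 (.node 427
 (.node 425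
 (.node 424
 (.leaf 38)
 (.leaf 52))
 (.node 426
 (.leaf 70)
 (.leaf 52)))
 (.node 429
 (.node 428
 (.leaf 56)
 (.leaf 55))
 (.node 430
 (.leaf 67)
 (.node 431
 (.leaf 36)
 (.leaf 66)))))))))
 (.node 504
 (.node 468
 (.node 450
 (.node 441
 (.node 436
 (.node 434
 (.node 433
 (.leaf 66)
 (.leaf 41))
 (.node 435
 (.leaf 65)
 (.leaf 69)))
 (.node 438
 (.node 437
 (.leaf 70)
 (.leaf 64))
 (.node 439
 (.leaf 71)
 (.node 440
 (.leaf 65)
 (.leaf 55)))))
 (.node 445
 (.node 443
 (.node 442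
 (.leaf 52)
 (.leaf 55))
 (.node 444
 (.leaf 41)
 (.leaf 36)))
 (.node 447
 (.node 446
 (.leaf 63)
 (.leaf 41))
 (.node 448
 (.leaf 62)
 (.node 449
 (.leaf 41)
 (.leaf 68))))))
 (.node 459
 (.node 454
 (.node 452
 (.node 451
 (.leaf 68)
 (.leaf 71))
 (.node 453
 (.leaf 69)
 (.leaf 49)))
 (.node 456
 (.node 455
 (.leaf 55)
 (.leaf 54))
 (.node 457
 (.leaf 65)
 (.node 458
 (.leaf 55)
 (.leaf 69)))))
 (.node 463
 (.node 461
 (.node 460
 (.leaf 36)
 (.leaf 64))
 (.node 462
 (.leaf 38)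
 (.leaf 66)))
 (.node 465
 (.node 464
 (.leaf 66)
 (.leaf 52))
 (.node 466
 (.leaf 71)
 (.node 467
 (.leaf 71)
 (.leaf 45)))))))
 (.node 486
 (.node 477
 (.node 472
 (.node 470
 (.node 469
 (.leaf 38)
 (.leaf 45))
 (.node 471
 (.leaf 71)
 (.leaf 45)))
 (.node 474
 (.node 473
 (.leaf 56)
 (.leaf 55))
 (.node 475
 (.leaf 67)
 (.node 476
 (.leaf 36)
 (.leaf 66)))))
 (.node 481
 (.node 479
 (.node 478
 (.leaf 66)
 (.leaf 49))
 (.node 480
 (.leaf 65)
 (.leaf 69)))
 (.node 483
 (.node 482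
 (.leaf 71)
 (.leaf 70))
 (.node 484
 (.leaf 71)
 (.node 485
 (.leaf 41)
 (.leaf 55))))))
 (.node 495
 (.node 490
 (.node 488
 (.node 487
 (.leaf 45)
 (.leaf 60))
 (.node 489
 (.leaf 55)
 (.leaf 71)))
 (.node 492
 (.node 491
 (.leaf 36)
 (.leaf 59))
 (.node 493
 (.leaf 49)
 (.node 494
 (.leaf 66)
 (.leaf 66)))))
 (.node 499
 (.node 497
 (.node 496
 (.leaf 54)
 (.leaf 70))
 (.node 498
 (.leaf 69)
 (.leaf 54)))
 (.node 501
 (.node 500
 (.leaf 41)
 (.leaf 54))
 (.node 502
 (.leaf 69)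
 (.node 503
 (.leaf 54)
 (.leaf 56))))))))
 (.node 540
 (.node 522
 (.node 513
 (.node 508
 (.node 506
 (.node 505
 (.leaf 55)
 (.leaf 67))
 (.node 507
 (.leaf 36)
 (.leaf 66)))
 (.node 510
 (.node 509
 (.leaf 66)
 (.leaf 38))
 (.node 511
 (.leaf 63)
 (.node 512
 (.leaf 70)
 (.leaf 69)))))
 (.node 517
 (.node 515
 (.node 514
 (.leaf 52)
 (.leaf 38))
 (.node 516
 (.leaf 60)
 (.leaf 52)))
 (.node 519
 (.node 518
 (.leaf 58)
 (.leaf 52))
 (.node 520
 (.leaf 66)
 (.node 521
 (.leaf 66)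
 (.leaf 68))))))
 (.node 531
 (.node 526
 (.node 524
 (.node 523
 (.leaf 68)
 (.leaf 41))
 (.node 525
 (.leaf 70)
 (.leaf 65)))
 (.node 528
 (.node 527
 (.leaf 70)
 (.leaf 70))
 (.node 529
 (.leaf 62)
 (.node 530
 (.leaf 71)
 (.leaf 70)))))
 (.node 535
 (.node 533
 (.node 532
 (.leaf 49)
 (.leaf 55))
 (.node 534
 (.leaf 52)
 (.leaf 63)))
 (.node 537
 (.node 536
 (.leaf 55)
 (.leaf 70))
 (.node 538
 (.leaf 36)
 (.node 539
 (.leaf 62)
 (.leaf 41)))))))
 (.node 558
 (.node 549
 (.node 544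
 (.node 542
 (.node 541
 (.leaf 66)
 (.leaf 66))
 (.node 543
 (.leaf 54)
 (.leaf 71)))
 (.node 546
 (.node 545
 (.leaf 69)
 (.leaf 54))
 (.node 547
 (.leaf 49)
 (.node 548
 (.leaf 54)
 (.leaf 69)))))
 (.node 553
 (.node 551
 (.node 550
 (.leaf 54)
 (.leaf 56))
 (.node 552
 (.leaf 55)
 (.leaf 67)))
 (.node 555
 (.node 554
 (.leaf 36)
 (.leaf 66))
 (.node 556
 (.leaf 66)
 (.node 557
 (.leaf 38)
 (.leaf 60))))))
 (.node 567
 (.node 562
 (.node 560
 (.node 559
 (.leaf 71)
 (.leaf 69))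
 (.node 561
 (.leaf 45)
 (.leaf 38)))
 (.node 564
 (.node 563
 (.leaf 63)
 (.leaf 45))
 (.node 565
 (.leaf 61)
 (.node 566
 (.leaf 45)
 (.leaf 66)))))
 (.node 571
 (.node 569
 (.node 568
 (.leaf 66)
 (.leaf 68))
 (.node 570
 (.leaf 68)
 (.leaf 49)))
 (.node 573
 (.node 572
 (.leaf 71)
 (.leaf 65))
 (.node 574
 (.leaf 71)
 (.node 575
 (.leaf 71)
 (.leaf 59)))))))))))
 (.node 864
 (.node 720
 (.node 648
 (.node 612
 (.node 594
 (.node 585
 (.node 580
 (.node 578
 (.node 577
 (.leaf 71)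
 (.leaf 45))
 (.node 579
 (.leaf 41)
 (.leaf 45)))
 (.node 582
 (.node 581
 (.leaf 71)
 (.leaf 45))
 (.node 583
 (.leaf 56)
 (.node 584
 (.leaf 55)
 (.leaf 67)))))
 (.node 589
 (.node 587
 (.node 586
 (.leaf 36)
 (.leaf 66))
 (.node 588
 (.leaf 66)
 (.leaf 49)))
 (.node 591
 (.node 590
 (.leaf 63)
 (.leaf 70))
 (.node 592
 (.leaf 71)
 (.node 593
 (.leaf 54)
 (.leaf 41))))))
 (.node 603
 (.node 598
 (.node 596
 (.node 595
 (.leaf 60)
 (.leaf 54))
 (.node 597
 (.leaf 57)
 (.leaf 54)))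
 (.node 600
 (.node 599
 (.leaf 66)
 (.leaf 66))
 (.node 601
 (.leaf 68)
 (.node 602
 (.leaf 68)
 (.leaf 38)))))
 (.node 607
 (.node 605
 (.node 604
 (.leaf 69)
 (.leaf 63))
 (.node 606
 (.leaf 69)
 (.leaf 69)))
 (.node 609
 (.node 608
 (.leaf 64)
 (.leaf 71))
 (.node 610
 (.leaf 38)
 (.node 611
 (.leaf 58)
 (.leaf 52)))))))
 (.node 630
 (.node 621
 (.node 616
 (.node 614
 (.node 613
 (.leaf 68)
 (.leaf 68))
 (.node 615
 (.leaf 55)
 (.leaf 70)))
 (.node 618
 (.node 617
 (.leaf 36)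
 (.leaf 63))
 (.node 619
 (.leaf 70)
 (.node 620
 (.leaf 65)
 (.leaf 70)))))
 (.node 625
 (.node 623
 (.node 622
 (.leaf 61)
 (.leaf 62))
 (.node 624
 (.leaf 70)
 (.leaf 52)))
 (.node 627
 (.node 626
 (.leaf 49)
 (.leaf 52))
 (.node 628
 (.leaf 70)
 (.node 629
 (.leaf 52)
 (.leaf 56))))))
 (.node 639
 (.node 634
 (.node 632
 (.node 631
 (.leaf 55)
 (.leaf 67))
 (.node 633
 (.leaf 36)
 (.leaf 66)))
 (.node 636
 (.node 635
 (.leaf 66)
 (.leaf 41))
 (.node 637
 (.leaf 60)
 (.node 638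
 (.leaf 71)
 (.leaf 70)))))
 (.node 643
 (.node 641
 (.node 640
 (.leaf 54)
 (.leaf 49))
 (.node 642
 (.leaf 63)
 (.leaf 54)))
 (.node 645
 (.node 644
 (.leaf 57)
 (.leaf 54))
 (.node 646
 (.leaf 66)
 (.node 647
 (.leaf 66)
 (.leaf 68))))))))
 (.node 684
 (.node 666
 (.node 657
 (.node 652
 (.node 650
 (.node 649
 (.leaf 68)
 (.leaf 38))
 (.node 651
 (.leaf 69)
 (.leaf 60)))
 (.node 654
 (.node 653
 (.leaf 69)
 (.leaf 69))
 (.node 655
 (.leaf 64)
 (.node 656
 (.leaf 70)
 (.leaf 38)))))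
 (.node 661
 (.node 659
 (.node 658
 (.leaf 61)
 (.leaf 45))
 (.node 660
 (.leaf 68)
 (.leaf 68)))
 (.node 663
 (.node 662
 (.leaf 55)
 (.leaf 71))
 (.node 664
 (.leaf 36)
 (.node 665
 (.leaf 60)
 (.leaf 71))))))
 (.node 675
 (.node 670
 (.node 668
 (.node 667
 (.leaf 65)
 (.leaf 71))
 (.node 669
 (.leaf 58)
 (.leaf 59)))
 (.node 672
 (.node 671
 (.leaf 45)
 (.leaf 41))
 (.node 673
 (.leaf 65)
 (.node 674
 (.leaf 45)
 (.leaf 61)))))
 (.node 679
 (.node 677
 (.node 676
 (.leaf 45)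
 (.leaf 66))
 (.node 678
 (.leaf 66)
 (.leaf 68)))
 (.node 681
 (.node 680
 (.leaf 68)
 (.leaf 49))
 (.node 682
 (.leaf 71)
 (.node 683
 (.leaf 63)
 (.leaf 71)))))))
 (.node 702
 (.node 693
 (.node 688
 (.node 686
 (.node 685
 (.leaf 71)
 (.leaf 59))
 (.node 687
 (.leaf 71)
 (.leaf 41)))
 (.node 690
 (.node 689
 (.leaf 57)
 (.leaf 54))
 (.node 691
 (.leaf 68)
 (.node 692
 (.leaf 68)
 (.leaf 55)))))
 (.node 697
 (.node 695
 (.node 694
 (.leaf 69)
 (.leaf 36))
 (.node 696
 (.leaf 65)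
 (.leaf 69)))
 (.node 699
 (.node 698
 (.leaf 63)
 (.leaf 69))
 (.node 700
 (.leaf 61)
 (.node 701
 (.leaf 64)
 (.leaf 64))))))
 (.node 711
 (.node 706
 (.node 704
 (.node 703
 (.leaf 38)
 (.leaf 68))
 (.node 705
 (.leaf 68)
 (.leaf 52)))
 (.node 708
 (.node 707
 (.leaf 63)
 (.leaf 70))
 (.node 709
 (.leaf 71)
 (.node 710
 (.leaf 63)
 (.leaf 65)))))
 (.node 715
 (.node 713
 (.node 712
 (.leaf 65)
 (.leaf 67))
 (.node 714
 (.leaf 61)
 (.leaf 71)))
 (.node 717
 (.node 716
 (.leaf 52)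
 (.leaf 49))
 (.node 718
 (.leaf 65)
 (.node 719
 (.leaf 52)
 (.leaf 58)))))))))
 (.node 792
 (.node 756
 (.node 738
 (.node 729
 (.node 724
 (.node 722
 (.node 721
 (.leaf 52)
 (.leaf 66))
 (.node 723
 (.leaf 66)
 (.leaf 68)))
 (.node 726
 (.node 725
 (.leaf 68)
 (.leaf 41))
 (.node 727
 (.leaf 70)
 (.node 728
 (.leaf 60)
 (.leaf 70)))))
 (.node 733
 (.node 731
 (.node 730
 (.leaf 70)
 (.leaf 62))
 (.node 732
 (.leaf 70)
 (.leaf 49)))
 (.node 735
 (.node 734
 (.leaf 57)
 (.leaf 54))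
 (.node 736
 (.leaf 68)
 (.node 737
 (.leaf 68)
 (.leaf 55))))))
 (.node 747
 (.node 742
 (.node 740
 (.node 739
 (.leaf 69)
 (.leaf 36))
 (.node 741
 (.leaf 65)
 (.leaf 69)))
 (.node 744
 (.node 743
 (.leaf 60)
 (.leaf 69))
 (.node 745
 (.leaf 58)
 (.node 746
 (.leaf 64)
 (.leaf 64)))))
 (.node 751
 (.node 749
 (.node 748
 (.leaf 38)
 (.leaf 68))
 (.node 750
 (.leaf 68)
 (.leaf 45)))
 (.node 753
 (.node 752
 (.leaf 60)
 (.leaf 71))
 (.node 754
 (.leaf 70)
 (.node 755
 (.leaf 60)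
 (.leaf 65)))))))
 (.node 774
 (.node 765
 (.node 760
 (.node 758
 (.node 757
 (.leaf 65)
 (.leaf 67))
 (.node 759
 (.leaf 58)
 (.leaf 70)))
 (.node 762
 (.node 761
 (.leaf 69)
 (.leaf 41))
 (.node 763
 (.leaf 61)
 (.node 764
 (.leaf 45)
 (.leaf 68)))))
 (.node 769
 (.node 767
 (.node 766
 (.leaf 68)
 (.leaf 55))
 (.node 768
 (.leaf 71)
 (.leaf 36)))
 (.node 771
 (.node 770
 (.leaf 60)
 (.leaf 71))
 (.node 772
 (.leaf 63)
 (.node 773
 (.leaf 71)
 (.leaf 57))))))
 (.node 783
 (.node 778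
 (.node 776
 (.node 775
 (.leaf 59)
 (.leaf 62))
 (.node 777
 (.leaf 41)
 (.leaf 68)))
 (.node 780
 (.node 779
 (.leaf 68)
 (.leaf 54))
 (.node 781
 (.leaf 65)
 (.node 782
 (.leaf 69)
 (.leaf 71)))))
 (.node 787
 (.node 785
 (.node 784
 (.leaf 65)
 (.leaf 63))
 (.node 786
 (.leaf 63)
 (.leaf 67)))
 (.node 789
 (.node 788
 (.leaf 61)
 (.leaf 71))
 (.node 790
 (.leaf 66)
 (.node 791
 (.leaf 66)
 (.leaf 52))))))))
 (.node 828
 (.node 810
 (.node 801
 (.node 796
 (.node 794
 (.node 793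
 (.leaf 71)
 (.leaf 63))
 (.node 795
 (.leaf 71)
 (.leaf 71)))
 (.node 798
 (.node 797
 (.leaf 58)
 (.leaf 65))
 (.node 799
 (.leaf 62)
 (.node 800
 (.leaf 67)
 (.leaf 71)))))
 (.node 805
 (.node 803
 (.node 802
 (.leaf 54)
 (.leaf 69))
 (.node 804
 (.leaf 49)
 (.leaf 58)))
 (.node 807
 (.node 806
 (.leaf 52)
 (.leaf 68))
 (.node 808
 (.leaf 68)
 (.node 809
 (.leaf 55)
 (.leaf 70))))))
 (.node 819
 (.node 814
 (.node 812
 (.node 811
 (.leaf 36)
 (.leaf 63))
 (.node 813
 (.leaf 70)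
 (.leaf 60)))
 (.node 816
 (.node 815
 (.leaf 70)
 (.leaf 57))
 (.node 817
 (.leaf 62)
 (.node 818
 (.leaf 59)
 (.leaf 49)))))
 (.node 823
 (.node 821
 (.node 820
 (.leaf 68)
 (.leaf 68))
 (.node 822
 (.leaf 54)
 (.leaf 65)))
 (.node 825
 (.node 824
 (.leaf 69)
 (.leaf 70))
 (.node 826
 (.leaf 65)
 (.node 827
 (.leaf 60)
 (.leaf 60)))))))
 (.node 846
 (.node 837
 (.node 832
 (.node 830
 (.node 829
 (.leaf 67)
 (.leaf 58))
 (.node 831
 (.leaf 70)
 (.leaf 66)))
 (.node 834
 (.node 833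
 (.leaf 66)
 (.leaf 45))
 (.node 835
 (.leaf 70)
 (.node 836
 (.leaf 60)
 (.leaf 70)))))
 (.node 841
 (.node 839
 (.node 838
 (.leaf 70)
 (.leaf 61))
 (.node 840
 (.leaf 65)
 (.leaf 59)))
 (.node 843
 (.node 842
 (.leaf 67)
 (.leaf 70))
 (.node 844
 (.leaf 54)
 (.node 845
 (.leaf 62)
 (.leaf 41))))))
 (.node 855
 (.node 850
 (.node 848
 (.node 847
 (.leaf 68)
 (.leaf 68))
 (.node 849
 (.leaf 45)
 (.leaf 60)))
 (.node 852
 (.node 851
 (.leaf 71)
 (.leaf 69))
 (.node 853
 (.leaf 60)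
 (.node 854
 (.leaf 63)
 (.leaf 63)))))
 (.node 859
 (.node 857
 (.node 856
 (.leaf 67)
 (.leaf 57))
 (.node 858
 (.leaf 69)
 (.leaf 66)))
 (.node 861
 (.node 860
 (.leaf 66)
 (.leaf 54))
 (.node 862
 (.leaf 71)
 (.node 863
 (.leaf 65)
 (.leaf 71))))))))))
 (.node 1008
 (.node 936
 (.node 900
 (.node 882
 (.node 873
 (.node 868
 (.node 866
 (.node 865
 (.leaf 71)
 (.leaf 57))
 (.node 867
 (.leaf 63)
 (.leaf 64)))
 (.node 870
 (.node 869
 (.leaf 67)
 (.leaf 71))
 (.node 871
 (.leaf 52)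
 (.node 872
 (.leaf 38)
 (.leaf 60)))))
 (.node 877
 (.node 875
 (.node 874
 (.leaf 71)
 (.leaf 63))
 (.node 876
 (.leaf 71)
 (.leaf 56)))
 (.node 879
 (.node 878
 (.leaf 58)
 (.leaf 62))
 (.node 880
 (.leaf 71)
 (.node 881
 (.leaf 55)
 (.leaf 55))))))
 (.node 891
 (.node 886
 (.node 884
 (.node 883
 (.leaf 59)
 (.leaf 49))
 (.node 885
 (.leaf 68)
 (.leaf 68)))
 (.node 888
 (.node 887
 (.leaf 52)
 (.leaf 63))
 (.node 889
 (.leaf 70)
 (.node 890
 (.leaf 69)
 (.leaf 63)))))
 (.node 895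
 (.node 893
 (.node 892
 (.leaf 60)
 (.leaf 60))
 (.node 894
 (.leaf 67)
 (.leaf 57)))
 (.node 897
 (.node 896
 (.leaf 69)
 (.leaf 66))
 (.node 898
 (.leaf 66)
 (.node 899
 (.leaf 54)
 (.leaf 70)))))))
 (.node 918
 (.node 909
 (.node 904
 (.node 902
 (.node 901
 (.leaf 65)
 (.leaf 70))
 (.node 903
 (.leaf 70)
 (.leaf 57)))
 (.node 906
 (.node 905
 (.leaf 60)
 (.leaf 64))
 (.node 907
 (.leaf 67)
 (.node 908
 (.leaf 70)
 (.leaf 45)))))
 (.node 913
 (.node 911
 (.node 910
 (.leaf 38)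
 (.leaf 63))
 (.node 912
 (.leaf 70)
 (.leaf 60)))
 (.node 915
 (.node 914
 (.leaf 70)
 (.leaf 56))
 (.node 916
 (.leaf 61)
 (.node 917
 (.leaf 59)
 (.leaf 70))))))
 (.node 927
 (.node 922
 (.node 920
 (.node 919
 (.leaf 55)
 (.leaf 55))
 (.node 921
 (.leaf 66)
 (.leaf 66)))
 (.node 924
 (.node 923
 (.leaf 45)
 (.leaf 69))
 (.node 925
 (.leaf 60)
 (.node 926
 (.leaf 69)
 (.leaf 69)))))
 (.node 931
 (.node 929
 (.node 928
 (.leaf 61)
 (.leaf 63))
 (.node 930
 (.leaf 59)
 (.leaf 67)))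
 (.node 933
 (.node 932
 (.leaf 69)
 (.leaf 52))
 (.node 934
 (.leaf 41)
 (.node 935
 (.leaf 60)
 (.leaf 71))))))))
 (.node 972
 (.node 954
 (.node 945
 (.node 940
 (.node 938
 (.node 937
 (.leaf 65)
 (.leaf 71))
 (.node 939
 (.leaf 56)
 (.leaf 57)))
 (.node 942
 (.node 941
 (.leaf 64)
 (.leaf 71))
 (.node 943
 (.leaf 55)
 (.node 944
 (.leaf 55)
 (.leaf 60)))))
 (.node 949
 (.node 947
 (.node 946
 (.leaf 63)
 (.leaf 63))
 (.node 948
 (.leaf 64)
 (.leaf 56)))
 (.node 951
 (.node 950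
 (.leaf 65)
 (.leaf 71))
 (.node 952
 (.leaf 49)
 (.node 953
 (.leaf 54)
 (.leaf 66))))))
 (.node 963
 (.node 958
 (.node 956
 (.node 955
 (.leaf 66)
 (.leaf 52))
 (.node 957
 (.leaf 69)
 (.leaf 63)))
 (.node 960
 (.node 959
 (.leaf 69)
 (.leaf 69))
 (.node 961
 (.leaf 58)
 (.node 962
 (.leaf 60)
 (.leaf 62)))))
 (.node 967
 (.node 965
 (.node 964
 (.leaf 67)
 (.leaf 69))
 (.node 966
 (.leaf 45)
 (.leaf 49)))
 (.node 969
 (.node 968
 (.leaf 63)
 (.leaf 70))
 (.node 970
 (.leaf 65)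
 (.node 971
 (.leaf 70)
 (.leaf 56)))))))
 (.node 990
 (.node 981
 (.node 976
 (.node 974
 (.node 973
 (.leaf 57)
 (.leaf 64))
 (.node 975
 (.leaf 70)
 (.leaf 55)))
 (.node 978
 (.node 977
 (.leaf 55)
 (.leaf 63))
 (.node 979
 (.leaf 60)
 (.node 980
 (.leaf 60)
 (.leaf 64)))))
 (.node 985
 (.node 983
 (.node 982
 (.leaf 56)
 (.leaf 65))
 (.node 984
 (.leaf 70)
 (.leaf 41)))
 (.node 987
 (.node 986
 (.leaf 54)
 (.leaf 41))
 (.node 988
 (.leaf 65)
 (.node 989
 (.leaf 69)
 (.leaf 60))))))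
 (.node 999
 (.node 994
 (.node 992
 (.node 991
 (.leaf 69)
 (.leaf 56))
 (.node 993
 (.leaf 61)
 (.leaf 59)))
 (.node 996
 (.node 995
 (.leaf 69)
 (.leaf 55))
 (.node 997
 (.leaf 55)
 (.node 998
 (.leaf 60)
 (.leaf 65)))))
 (.node 1003
 (.node 1001
 (.node 1000
 (.leaf 65)
 (.leaf 62))
 (.node 1002
 (.leaf 56)
 (.leaf 63)))
 (.node 1005
 (.node 1004
 (.leaf 71)
 (.leaf 49))
 (.node 1006
 (.leaf 52)
 (.node 1007
 (.leaf 63)
 (.leaf 58)))))))))
 (.node 1080
 (.node 1044
 (.node 1026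
 (.node 1017
 (.node 1012
 (.node 1010
 (.node 1009
 (.leaf 64)
 (.leaf 65))
 (.node 1011
 (.leaf 49)
 (.leaf 54)))
 (.node 1014
 (.node 1013
 (.leaf 54)
 (.leaf 49))
 (.node 1015
 (.leaf 65)
 (.node 1016
 (.leaf 69)
 (.leaf 63)))))
 (.node 1021
 (.node 1019
 (.node 1018
 (.leaf 69)
 (.leaf 56))
 (.node 1020
 (.leaf 58)
 (.leaf 62)))
 (.node 1023
 (.node 1022
 (.leaf 69)
 (.leaf 55))
 (.node 1024
 (.leaf 55)
 (.node 1025
 (.leaf 63)
 (.leaf 65))))))
 (.node 1035
 (.node 1030
 (.node 1028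
 (.node 1027
 (.leaf 65)
 (.leaf 59))
 (.node 1029
 (.leaf 56)
 (.leaf 60)))
 (.node 1032
 (.node 1031
 (.leaf 70)
 (.leaf 41))
 (.node 1033
 (.leaf 45)
 (.node 1034
 (.leaf 60)
 (.leaf 61)))))
 (.node 1039
 (.node 1037
 (.node 1036
 (.leaf 64)
 (.leaf 65))
 (.node 1038
 (.leaf 41)
 (.leaf 54)))
 (.node 1041
 (.node 1040
 (.leaf 54)
 (.leaf 65))
 (.node 1042
 (.leaf 60)
 (.node 1043
 (.leaf 60)
 (.leaf 62)))))))
 (.node 1062
 (.node 1053
 (.node 1048
 (.node 1046
 (.node 1045
 (.leaf 56)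
 (.leaf 63))
 (.node 1047
 (.leaf 69)
 (.leaf 38)))
 (.node 1050
 (.node 1049
 (.leaf 52)
 (.leaf 65))
 (.node 1051
 (.leaf 57)
 (.node 1052
 (.leaf 62)
 (.leaf 63)))))
 (.node 1057
 (.node 1055
 (.node 1054
 (.leaf 49)
 (.leaf 52))
 (.node 1056
 (.leaf 52)
 (.leaf 58)))
 (.node 1059
 (.node 1058
 (.leaf 65)
 (.leaf 54))
 (.node 1060
 (.leaf 54)
 (.node 1061
 (.leaf 49)
 (.leaf 65))))))
 (.node 1071
 (.node 1066
 (.node 1064
 (.node 1063
 (.leaf 63)
 (.leaf 63))
 (.node 1065
 (.leaf 59)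
 (.leaf 56)))
 (.node 1068
 (.node 1067
 (.leaf 60)
 (.leaf 69))
 (.node 1069
 (.leaf 38)
 (.node 1070
 (.leaf 45)
 (.leaf 65)))))
 (.node 1075
 (.node 1073
 (.node 1072
 (.leaf 57)
 (.leaf 59))
 (.node 1074
 (.leaf 60)
 (.leaf 41)))
 (.node 1077
 (.node 1076
 (.leaf 45)
 (.leaf 45))
 (.node 1078
 (.leaf 61)
 (.node 1079
 (.leaf 65)
 (.leaf 54))))))))
 (.node 1116
 (.node 1098
 (.node 1089
 (.node 1084
 (.node 1082
 (.node 1081
 (.leaf 54)
 (.leaf 41))
 (.node 1083
 (.leaf 60)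
 (.leaf 61)))
 (.node 1086
 (.node 1085
 (.leaf 62)
 (.leaf 63))
 (.node 1087
 (.leaf 38)
 (.node 1088
 (.leaf 52)
 (.leaf 52)))))
 (.node 1093
 (.node 1091
 (.node 1090
 (.leaf 57)
 (.leaf 63))
 (.node 1092
 (.leaf 52)
 (.leaf 52)))
 (.node 1095
 (.node 1094
 (.leaf 49)
 (.leaf 65))
 (.node 1096
 (.leaf 36)
 (.node 1097
 (.leaf 49)
 (.leaf 63))))))
 (.node 1107
 (.node 1102
 (.node 1100
 (.node 1099
 (.leaf 58)
 (.leaf 59))
 (.node 1101
 (.leaf 60)
 (.leaf 38)))
 (.node 1104
 (.node 1103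
 (.leaf 45)
 (.leaf 45))
 (.node 1105
 (.leaf 57)
 (.node 1106
 (.leaf 60)
 (.leaf 45)))))
 (.node 1111
 (.node 1109
 (.node 1108
 (.leaf 45)
 (.leaf 41))
 (.node 1110
 (.leaf 65)
 (.leaf 36)))
 (.node 1113
 (.node 1112
 (.leaf 41)
 (.leaf 61))
 (.node 1114
 (.leaf 63)
 (.node 1115
 (.leaf 52)
 (.leaf 52)))))))
 (.node 1134
 (.node 1125
 (.node 1120
 (.node 1118
 (.node 1117
 (.leaf 38)
 (.leaf 63))
 (.node 1119
 (.leaf 36)
 (.leaf 49)))
 (.node 1122
 (.node 1121
 (.leaf 49)
 (.leaf 49))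
 (.node 1123
 (.leaf 58)
 (.node 1124
 (.leaf 60)
 (.leaf 45)))))
 (.node 1129
 (.node 1127
 (.node 1126
 (.leaf 45)
 (.leaf 38))
 (.node 1128
 (.leaf 60)
 (.leaf 36)))
 (.node 1131
 (.node 1130
 (.leaf 41)
 (.leaf 41))
 (.node 1132
 (.leaf 41)
 (.node 1133
 (.leaf 63)
 (.leaf 36))))))
 (.node 1143
 (.node 1138
 (.node 1136
 (.node 1135
 (.leaf 38)
 (.leaf 49))
 (.node 1137
 (.leaf 49)
 (.leaf 36)))
 (.node 1140
 (.node 1139
 (.leaf 60)
 (.leaf 36))
 (.node 1141
 (.leaf 38)
 (.node 1142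
 (.leaf 41)
 (.leaf 41)))))
 (.node 1147
 (.node 1145
 (.node 1144
 (.leaf 36)
 (.leaf 38))
 (.node 1146
 (.leaf 38)
 (.leaf 36)))
 (.node 1149
 (.node 1148
 (.leaf 38)
 (.leaf 38))
 (.node 1150
 (.leaf 36)
 (.node 1151
 (.leaf 36)
 (.leaf 36))))))))))))

theorem orbs_chk : chkOrbs DataE6.tab parE6 spec = true := by decide +kernel

theorem nxt0 : enum.chkNxt DataE6.tab spec 0 144 = true := by decide +kernel

theorem par0 : enum.chkPar DataE6.tab spec 0 144 = true := by decide +kernel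

theorem nxt1 : enum.chkNxt DataE6.tab spec 144 144 = true := by decide +kernel

theorem par1 : enum.chkPar DataE6.tab spec 144 144 = true := by decide +kernel

theorem nxt2 : enum.chkNxt DataE6.tab spec 288 144 = true := by decide +kernel

theorem par2 : enum.chkPar DataE6.tab spec 288 144 = true := by decide +kernel

theorem nxt3 : enum.chkNxt DataE6.tab spec 432 144 = true := by decide +kernel

theorem par3 : enum.chkPar DataE6.tab spec 432 144 = true := by decide +kernel

theorem nxt4 : enum.chkNxt DataE6.tab spec 576 144 = true := by decide +kernel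

theorem par4 : enum.chkPar DataE6.tab spec 576 144 = true := by decide +kernel

theorem nxt5 : enum.chkNxt DataE6.tab spec 720 144 = true := by decide +kernel

theorem par5 : enum.chkPar DataE6.tab spec 720 144 = true := by decide +kernel

theorem nxt6 : enum.chkNxt DataE6.tab spec 864 144 = true := by decide +kernel

theorem par6 : enum.chkPar DataE6.tab spec 864 144 = true := by decide +kernel

theorem nxt7 : enum.chkNxt DataE6.tab spec 1008 144 = true := by decide +kernel

theorem par7 : enum.chkPar DataE6.tab spec 1008 144 = true := by decide +kernel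

theorem misc : enum.chkMisc DataE6.tab = true := by decide +kernel

theorem size_eq : enum.size = 1152 := by decide +kernel

theorem nxt_to1 : enum.chkNxt DataE6.tab spec 0 144 = true := nxt0

theorem nxt_to2 : enum.chkNxt DataE6.tab spec 0 288 = true :=
  Enum.chkNxt_add (m := 144) (n := 144) nxt_to1 (by rw [Nat.zero_add]; exact nxt1)

theorem nxt_to3 : enum.chkNxt DataE6.tab spec 0 432 = true :=
  Enum.chkNxt_add (m := 288) (n := 144) nxt_to2 (by rw [Nat.zero_add]; exact nxt2)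

theorem nxt_to4 : enum.chkNxt DataE6.tab spec 0 576 = true :=
  Enum.chkNxt_add (m := 432) (n := 144) nxt_to3 (by rw [Nat.zero_add]; exact nxt3)

theorem nxt_to5 : enum.chkNxt DataE6.tab spec 0 720 = true :=
  Enum.chkNxt_add (m := 576) (n := 144) nxt_to4 (by rw [Nat.zero_add]; exact nxt4)

theorem nxt_to6 : enum.chkNxt DataE6.tab spec 0 864 = true :=
  Enum.chkNxt_add (m := 720) (n := 144) nxt_to5 (by rw [Nat.zero_add]; exact nxt5)

theorem nxt_to7 : enum.chkNxt DataE6.tab spec 0 1008 = true :=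
  Enum.chkNxt_add (m := 864) (n := 144) nxt_to6 (by rw [Nat.zero_add]; exact nxt6)

theorem nxt_to8 : enum.chkNxt DataE6.tab spec 0 1152 = true :=
  Enum.chkNxt_add (m := 1008) (n := 144) nxt_to7 (by rw [Nat.zero_add]; exact nxt7)

theorem nxt_all : enum.chkNxt DataE6.tab spec 0 enum.size = true := by
  rw [size_eq]; exact nxt_to8

theorem par_to1 : enum.chkPar DataE6.tab spec 0 144 = true := par0

theorem par_to2 : enum.chkPar DataE6.tab spec 0 288 = true :=
  Enum.chkPar_add (m := 144) (n := 144) par_to1 (by rw [Nat.zero_add]; exact par1)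

theorem par_to3 : enum.chkPar DataE6.tab spec 0 432 = true :=
  Enum.chkPar_add (m := 288) (n := 144) par_to2 (by rw [Nat.zero_add]; exact par2)

theorem par_to4 : enum.chkPar DataE6.tab spec 0 576 = true :=
  Enum.chkPar_add (m := 432) (n := 144) par_to3 (by rw [Nat.zero_add]; exact par3)

theorem par_to5 : enum.chkPar DataE6.tab spec 0 720 = true :=
  Enum.chkPar_add (m := 576) (n := 144) par_to4 (by rw [Nat.zero_add]; exact par4)

theorem par_to6 : enum.chkPar DataE6.tab spec 0 864 = true :=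
  Enum.chkPar_add (m := 720) (n := 144) par_to5 (by rw [Nat.zero_add]; exact par5)

theorem par_to7 : enum.chkPar DataE6.tab spec 0 1008 = true :=
  Enum.chkPar_add (m := 864) (n := 144) par_to6 (by rw [Nat.zero_add]; exact par6)

theorem par_to8 : enum.chkPar DataE6.tab spec 0 1152 = true :=
  Enum.chkPar_add (m := 1008) (n := 144) par_to7 (by rw [Nat.zero_add]; exact par7)

theorem par_all : enum.chkPar DataE6.tab spec 0 enum.size = true := by
  rw [size_eq]; exact par_to8

theorem enum_chk : enum.check DataE6.tab spec = true := by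
  rw [Enum.check, misc, nxt_all, par_all]; rfl

/-- The family of orbits is good. -/
theorem orb_ok : OrbOK DataE6.co parE6 (mkOrbs chevE6 spec) :=
  orbOK_of_chk DataE6.chk_arrays DataE6.chk_chain DataE6.facts orbs_chk

end CfsgLib.Chev.TwE6
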