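/-
The twisted groups of type ²E₆.
-/
import Mathlib
import Cfsg.Prelude.Def_LieTwisted
import Cfsg.Agent.Lib.Chev.Twist.Classes
import Cfsg.Agent.Lib.Chev.Twist.Simple
import Cfsg.Agent.Lib.Chev.Twist.DataE6

set_option autoImplicit false
set_option maxRecDepth 20000

namespace CfsgLib.Chev.TwE6

open Cfsg.Lie

universe v

variable {K : Type v} [Field K] [Fintype K] {q : ℕ} (hq : IsPrimePow q)
  (hK : Fintype.card K = q ^ 2)

/-- The orbit family. -/
abbrev O : Fin spec.length → Orb chevE6 := mkOrbs chevE6 spec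

/-- The field endomorphism and the endomorphism of the group. -/
structure Ctx (K : Type v) [Field K] [Fintype K] (q : ℕ) : Type v where
  f : K →+* K
  σ : ↥(chevE6.group K) →* GL chevE6.Idx K
  hf : ∀ t, f t = t ^ q
  sig : Sig chevE6 DataE6.co parE6 f σ
  q_gt : 1 < q
  card : Fintype.card K = q ^ 2

include hq hK in
theorem nonempty_ctx : Nonempty (Ctx K q) := by
  obtain ⟨f, hf⟩ := exists_powHom hq hK
  obtain ⟨⟨co, hF⟩, hC⟩ := good_E6.{v}
  have hN : HasNbr chevE6 := hasNbr_of_mem (by simp)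
  have hs : ∀ r < chevE6.nroots, Function.Surjective (parE6.coef f r) := fun r hr => by
    refine Finite.surjective_of_injective fun a b e => ?_
    simp only [TwPar.coef, show parE6.lam r = 1 from rfl, pow_one] at e
    refine f.injective (mul_left_cancel₀ ?_ e)
    rcases parE6_ok.eps_pm r hr with h | h <;> simp [h]
  obtain ⟨σ, hσ⟩ := DataE6.facts.exists_sigma hC hN parE6_ok f Nat.cast_zero hs
  exact ⟨⟨f, σ, hf, ⟨DataE6.facts, hC, parE6_ok, Nat.cast_zero, hσ⟩, hq.one_lt, hK⟩⟩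

theorem single_tables : ∀ r ∈ [e6p2, e6m2, e6p4, e6m4],
    r < chevE6.nroots ∧ parE6.rho r = r ∧ parE6.eps r = 1 := by
  decide +kernel

theorem pair_tables :
    ∀ rs ∈ [(e6p1, e6p6), (e6m1, e6m6), (e6p3, e6p5), (e6m3, e6m5)],
      rs.1 < chevE6.nroots ∧ rs.2 < chevE6.nroots ∧ parE6.rho rs.1 = rs.2 ∧
      parE6.rho rs.2 = rs.1 ∧ parE6.eps rs.1 = 1 ∧ parE6.eps rs.2 = 1 ∧
      parE6.commB chevE6 rs.1 rs.2 = true := by
  decide +kernel

theorem coords : coordB chevE6 [e6p2] = true ∧ coordB chevE6 [e6p4] = true ∧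
    coordB chevE6 [e6p3, e6p5] = true ∧ coordB chevE6 [e6p1, e6p6] = true := by
  decide +kernel

theorem pos_lists : chkPosList DataE6.tab [1] [e6p2] = true ∧
    chkPosList DataE6.tab [3] [e6p4] = true ∧
    chkPosList DataE6.tab [2, 4] [e6p3, e6p5] = true ∧
    chkPosList DataE6.tab [0, 5] [e6p1, e6p6] = true := by
  decide +kernel

theorem neg_lists : chkNegList DataE6.tab [1] [e6m2] = true ∧
    chkNegList DataE6.tab [3] [e6m4] = true ∧
    chkNegList DataE6.tab [2, 4] [e6m3, e6m5] = true ∧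
    chkNegList DataE6.tab [0, 5] [e6m1, e6m6] = true := by
  decide +kernel

theorem fin_cases_spec {p : Fin spec.length → Prop} (h0 : p ⟨0, by decide⟩)
    (h1 : p ⟨1, by decide⟩) (h2 : p ⟨2, by decide⟩) (h3 : p ⟨3, by decide⟩) : ∀ o, p o := by
  rintro ⟨o, ho⟩
  have : o < 4 := ho
  interval_cases o
  exacts [h0, h1, h2, h3]

theorem flips : ∀ o : Fin spec.length,
    Table.flipW DataE6.tab ((O o).word.map Fin.val) = if o.val < 2 then 1 else 2 := by
  decide +kernel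

variable (C : Ctx K q)
include C

theorem Ctx.pow_two (t : K) : C.f (C.f t) = t := by
  rw [C.hf, C.hf, ← pow_mul, ← sq, ← C.card]
  exact FiniteField.pow_card t

theorem Ctx.one_fixed {r : ℕ} (hr : r ∈ [e6p2, e6m2, e6p4, e6m4]) {t : K} (ht : t ^ q = t) :
    wU chevE6 [(r, t)] ∈ fixS C.σ := by
  obtain ⟨h1, h2, h3⟩ := single_tables r hr
  exact C.sig.word_one_fixed h1 h2 h3 rfl ((C.hf t).trans ht)

theorem Ctx.two_fixed {rs : ℕ × ℕ}
    (h : rs ∈ [(e6p1, e6p6), (e6m1, e6m6), (e6p3, e6p5), (e6m3, e6m5)]) (t : K) :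
    wU chevE6 [(rs.1, t), (rs.2, t ^ q)] ∈ fixS C.σ := by
  obtain ⟨h1, h2, h3, h4, h5, h6, h7⟩ := pair_tables rs h
  rw [← C.hf]
  exact C.sig.word_two_fixed h1 h2 h3 h4 h5 h6 rfl rfl h7 (C.pow_two t)

theorem Ctx.gen_fixed : ∀ w ∈ e6Words K q, wU chevE6 w ∈ fixS C.σ ∧
    (∀ p ∈ w, p.1 < chevE6.nroots) := by
  rintro w (⟨t, ht, r, hr, rfl⟩ | ⟨t, rs, hrs, rfl⟩)
  · refine ⟨C.one_fixed hr ht, ?_⟩
    simpa using (single_tables r hr).1
  · refine ⟨C.two_fixed hrs t, ?_⟩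
    obtain ⟨h1, h2, -⟩ := pair_tables rs hrs
    simp [h1, h2]

theorem Ctx.mem_gen {w : List (ℕ × K)} (hw : w ∈ e6Words K q) :
    wU chevE6 w ∈ twistedE6 K q :=
  Subgroup.subset_closure ⟨w, hw, DataE6.facts.wU_val (C.gen_fixed w hw).2⟩

theorem Ctx.gen_eq : twistedE6 K q =
    Subgroup.closure {g | ∃ w ∈ e6Words K q, g = wU chevE6 w} := by
  refine congrArg Subgroup.closure (Set.ext fun g => ?_)
  refine exists_congr fun w => and_congr_right fun hw => ?_
  rw [← DataE6.facts.wU_val (C.gen_fixed w hw).2, Units.val_inj]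

theorem Ctx.one_mem {r : ℕ} (hr : r ∈ [e6p2, e6m2, e6p4, e6m4]) {t : K} (ht : t ^ q = t) :
    xU chevE6 r t ∈ twistedE6 K q := by
  simpa [wU] using C.mem_gen (Or.inl ⟨t, ht, r, hr, rfl⟩)

theorem Ctx.two_mem {rs : ℕ × ℕ}
    (h : rs ∈ [(e6p1, e6p6), (e6m1, e6m6), (e6p3, e6p5), (e6m3, e6m5)]) (t : K) :
    xU chevE6 rs.1 t * xU chevE6 rs.2 (C.f t) ∈ twistedE6 K q := by
  simpa [wU, C.hf] using C.mem_gen (Or.inr ⟨t, rs, h, rfl⟩)

theorem Ctx.posO_single {r : ℕ} (hr : r ∈ [e6p2, e6m2, e6p4, e6m4])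
    (hc : coordB chevE6 [r] = true) {g : GL chevE6.Idx K} (hg : g ∈ fixS C.σ)
    (h : g ∈ rootClosure chevE6 K (· ∈ [r])) : ∃ t : K, t ^ q = t ∧ g = wU chevE6 [(r, t)] := by
  obtain ⟨-, h2, h3⟩ := single_tables r hr
  obtain ⟨t, ht, rfl⟩ := C.sig.fix_one hc h2 h3 rfl hg h
  exact ⟨t, (C.hf t).symm.trans ht, rfl⟩

theorem Ctx.posO_pair {rs : ℕ × ℕ}
    (hrs : rs ∈ [(e6p1, e6p6), (e6m1, e6m6), (e6p3, e6p5), (e6m3, e6m5)])
    (hc : coordB chevE6 [rs.1, rs.2] = true) {g : GL chevE6.Idx K} (hg : g ∈ fixS C.σ)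
    (h : g ∈ rootClosure chevE6 K (· ∈ [rs.1, rs.2])) :
    ∃ t : K, g = wU chevE6 [(rs.1, t), (rs.2, t ^ q)] := by
  obtain ⟨-, -, h3, h4, h5, h6, h7⟩ := pair_tables rs hrs
  obtain ⟨t, -, rfl⟩ := C.sig.fix_two hc h3 h4 h5 h6 rfl rfl h7 hg h
  exact ⟨t, by rw [C.hf]⟩

/-- The twisted group satisfies the standing hypotheses. -/
theorem Ctx.sys : TwSys chevE6 DataE6.co parE6 C.f C.σ O (twistedE6 K q) where
  sig := C.sig
  orb := orb_ok
  le_fix := by
    rw [C.gen_eq, Subgroup.closure_le]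
    rintro g ⟨w, hw, rfl⟩
    exact (C.gen_fixed w hw).1
  posO_le := by
    refine fin_cases_spec ?_ ?_ ?_ ?_
    · rintro g ⟨hg, h⟩
      obtain ⟨t, ht, rfl⟩ := C.posO_single (r := e6p2) (by simp) coords.1 hg
        (rootClosure_mono (fun r hr => (posO_iff_list DataE6.chk_arrays pos_lists.1 r hr).1) h)
      exact C.mem_gen (Or.inl ⟨t, ht, e6p2, by simp, rfl⟩)
    · rintro g ⟨hg, h⟩
      obtain ⟨t, ht, rfl⟩ := C.posO_single (r := e6p4) (by simp) coords.2.1 hg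
        (rootClosure_mono (fun r hr => (posO_iff_list DataE6.chk_arrays pos_lists.2.1 r hr).1) h)
      exact C.mem_gen (Or.inl ⟨t, ht, e6p4, by simp, rfl⟩)
    · rintro g ⟨hg, h⟩
      obtain ⟨t, rfl⟩ := C.posO_pair (rs := (e6p3, e6p5)) (by simp) coords.2.2.1 hg
        (rootClosure_mono (fun r hr => (posO_iff_list DataE6.chk_arrays pos_lists.2.2.1 r hr).1) h)
      exact C.mem_gen (Or.inr ⟨t, (e6p3, e6p5), by simp, rfl⟩)
    · rintro g ⟨hg, h⟩
      obtain ⟨t, rfl⟩ := C.posO_pair (rs := (e6p1, e6p6)) (by simp) coords.2.2.2 hg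
        (rootClosure_mono (fun r hr => (posO_iff_list DataE6.chk_arrays pos_lists.2.2.2 r hr).1) h)
      exact C.mem_gen (Or.inr ⟨t, (e6p1, e6p6), by simp, rfl⟩)
  neg_ex := by
    refine fin_cases_spec ?_ ?_ ?_ ?_
    · refine ⟨wU chevE6 [(e6m2, 1)], C.mem_gen (Or.inl ⟨1, one_pow q, e6m2, by simp, rfl⟩), ?_, ?_⟩
      · exact rootClosure_mono
          (fun r hr h => (negO_iff_list DataE6.chk_arrays neg_lists.1 r hr).2 h)
          (Facts.wU_mem_closure (L := [e6m2]) (ts := [(1 : K)]) (by decide +kernel))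
      · exact DataE6.facts.word_ne_one' C.sig.hC [⟨1, by decide⟩] [⟨e6m2, by decide⟩]
          (by decide +kernel) (ts := []) rfl one_ne_zero
    · refine ⟨wU chevE6 [(e6m4, 1)], C.mem_gen (Or.inl ⟨1, one_pow q, e6m4, by simp, rfl⟩), ?_, ?_⟩
      · exact rootClosure_mono
          (fun r hr h => (negO_iff_list DataE6.chk_arrays neg_lists.2.1 r hr).2 h)
          (Facts.wU_mem_closure (L := [e6m4]) (ts := [(1 : K)]) (by decide +kernel))
      · exact DataE6.facts.word_ne_one' C.sig.hC [⟨3, by decide⟩] [⟨e6m4, by decide⟩]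
          (by decide +kernel) (ts := []) rfl one_ne_zero
    · refine ⟨wU chevE6 [(e6m3, 1), (e6m5, 1 ^ q)],
        C.mem_gen (Or.inr ⟨1, (e6m3, e6m5), by simp, rfl⟩), ?_, ?_⟩
      · exact rootClosure_mono
          (fun r hr h => (negO_iff_list DataE6.chk_arrays neg_lists.2.2.1 r hr).2 h)
          (Facts.wU_mem_closure (L := [e6m3, e6m5]) (ts := [(1 : K), 1 ^ q]) (by decide +kernel))
      · exact DataE6.facts.word_ne_one' C.sig.hC [⟨2, by decide⟩, ⟨4, by decide⟩]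
          [⟨e6m3, by decide⟩, ⟨e6m5, by decide⟩]
          (by decide +kernel) (ts := [1 ^ q]) rfl one_ne_zero
    · refine ⟨wU chevE6 [(e6m1, 1), (e6m6, 1 ^ q)],
        C.mem_gen (Or.inr ⟨1, (e6m1, e6m6), by simp, rfl⟩), ?_, ?_⟩
      · exact rootClosure_mono
          (fun r hr h => (negO_iff_list DataE6.chk_arrays neg_lists.2.2.2 r hr).2 h)
          (Facts.wU_mem_closure (L := [e6m1, e6m6]) (ts := [(1 : K), 1 ^ q]) (by decide +kernel))
      · exact DataE6.facts.word_ne_one' C.sig.hC [⟨0, by decide⟩, ⟨5, by decide⟩]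
          [⟨e6m1, by decide⟩, ⟨e6m6, by decide⟩]
          (by decide +kernel) (ts := [1 ^ q]) rfl one_ne_zero

theorem Ctx.card_orbit : ∀ o, Nat.card ↥(C.sys.fixU (O o).wO) ^ 1 = q ^ flipNum (O o).wO := by
  intro o
  have hfl : flipNum (O o).wO = if o.val < 2 then 1 else 2 := by
    rw [Orb.wO, flipW_eq DataE6.chk_arrays DataE6.chk_chain DataE6.facts]
    exact flips o
  rw [C.sys.fixU_wO, hfl, pow_one]
  have one : ∀ r ∈ [e6p2, e6m2, e6p4, e6m4], coordB chevE6 [r] = true →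
      Nat.card ↥(fixS C.σ ⊓ rootClosure chevE6 K (· ∈ [r]) : Subgroup (GL chevE6.Idx K)) = q := by
    intro r hr hc
    obtain ⟨-, h2, h3⟩ := single_tables r hr
    rw [C.sig.card_fix_one hc h2 h3 rfl]
    simp only [C.hf]
    exact card_field_fix C.q_gt C.card
  have two : ∀ rs ∈ [(e6p1, e6p6), (e6m1, e6m6), (e6p3, e6p5), (e6m3, e6m5)],
      coordB chevE6 [rs.1, rs.2] = true →
      Nat.card ↥(fixS C.σ ⊓ rootClosure chevE6 K (· ∈ [rs.1, rs.2]) :
        Subgroup (GL chevE6.Idx K)) = q ^ 2 := by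
    intro rs hrs hc
    obtain ⟨-, -, h3, h4, h5, h6, h7⟩ := pair_tables rs hrs
    rw [C.sig.card_fix_two hc h3 h4 h5 h6 rfl rfl h7, ← C.card, ← Nat.card_eq_fintype_card]
    exact Nat.card_congr (Equiv.subtypeUnivEquiv C.pow_two)
  have hcongr : ∀ {p : List ℕ × List ℕ} {L : List ℕ}, chkPosList DataE6.tab p.1 L = true →
      rootClosure chevE6 K ((mkOrb chevE6 p).posO DataE6.co) =
        rootClosure chevE6 K (· ∈ L) :=
    fun h => rootClosure_congr (posO_iff_list DataE6.chk_arrays h)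
  revert o
  refine fin_cases_spec (fun _ => ?_) (fun _ => ?_) (fun _ => ?_) (fun _ => ?_) <;>
    simp only [Nat.reduceLT, if_true, if_false, pow_one]
  · exact (hcongr (p := ([1], [1])) pos_lists.1).symm ▸ one e6p2 (by simp) coords.1
  · exact (hcongr (p := ([3], [3])) pos_lists.2.1).symm ▸ one e6p4 (by simp) coords.2.1
  · exact (hcongr (p := ([2, 4], [2, 4])) pos_lists.2.2.1).symm ▸
      two (e6p3, e6p5) (by simp) coords.2.2.1
  · exact (hcongr (p := ([0, 5], [0, 5])) pos_lists.2.2.2).symm ▸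
      two (e6p1, e6p6) (by simp) coords.2.2.2

theorem Ctx.sep {h : GL chevE6.Idx K} (hh : h ∈ chevE6.diagonalSubgroup K)
    (hc : ∀ g, g ∈ twistedE6 K q → g ∈ rootClosure chevE6 K (chevE6.nroots / 2 ≤ ·) →
      h * g = g * h) : h = 1 := by
  obtain ⟨c, rfl⟩ := DataE6.facts.mem_diagonal_iff.1 hh
  refine DataE6.facts.hT_eq_one_of_simple c fun i hi => ?_
  have key : ∀ (L : List ℕ) (ts : List K), coordB chevE6 L = true → ts.length = L.length →
      L.zip ts ∈ e6Words K q → ∀ p ∈ L.zip ts, p.2 ≠ 0 →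
      ((∏ i ∈ Finset.range chevE6.rank, c i ^ chevE6.cartan i p.1 : Kˣ) : K) = 1 :=
    fun L ts hL hts hw p hp hne => DataE6.facts.char_eq_one C.sig.hC hL hts c
      (hc _ (C.mem_gen hw) (rootClosure_mono (fun r _ h => (Facts.coord_lt hL r h).2)
        (Facts.wU_mem_closure fun r hr => (Facts.coord_lt hL r hr).1))) p hp hne
  have h2 := key [e6p2] [1] coords.1 rfl (Or.inl ⟨1, one_pow q, e6p2, by simp, rfl⟩)
  have h4 := key [e6p4] [1] coords.2.1 rfl (Or.inl ⟨1, one_pow q, e6p4, by simp, rfl⟩)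
  have h35 := key [e6p3, e6p5] [1, 1 ^ q] coords.2.2.1 rfl
    (Or.inr ⟨1, (e6p3, e6p5), by simp, rfl⟩)
  have h16 := key [e6p1, e6p6] [1, 1 ^ q] coords.2.2.2 rfl
    (Or.inr ⟨1, (e6p1, e6p6), by simp, rfl⟩)
  have : i < 6 := hi
  interval_cases i
  · exact h16 (e6p1, 1) (by simp) one_ne_zero
  · exact h2 (e6p2, 1) (by simp) one_ne_zero
  · exact h35 (e6p3, 1) (by simp) one_ne_zero
  · exact h4 (e6p4, 1) (by simp) one_ne_zero
  · exact h35 (e6p5, 1 ^ q) (by simp) (by simp)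
  · exact h16 (e6p6, 1 ^ q) (by simp) (by simp)

end CfsgLib.Chev.TwE6
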