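/-
The torus of the twisted groups of type ²E₆.
-/
import Mathlib
import Cfsg.Agent.Lib.Chev.Twist.E6
import Cfsg.Agent.Lib.Chev.Twist.Closed
import Cfsg.Agent.Lib.Chev.SL2

open scoped Pointwise

set_option autoImplicit false
set_option maxRecDepth 20000

namespace CfsgLib.Chev

open Cfsg.Lie

universe v

/-- Conjugation by a product of two commuting factors. -/
theorem conj_two {M : Type*} [Group M] {n n' x x' : M} (h1 : Commute n' x) (h2 : Commute x' n)
    (h3 : Commute n' n) :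
    n * n' * (x * x') * (n * n')⁻¹ = n * x * n⁻¹ * (n' * x' * n'⁻¹) := by
  have e : Commute n⁻¹ (n' * x' * n'⁻¹) :=
    ((h3.mul_left h2).mul_left h3.inv_left).symm.inv_left
  calc n * n' * (x * x') * (n * n')⁻¹ = n * (n' * x) * x' * (n * n')⁻¹ := by group
    _ = n * x * (n' * x' * n'⁻¹ * n⁻¹) := by rw [h1.eq]; group
    _ = _ := by rw [← e.eq]; group

namespace Facts

variable {D : ChevalleyDatum} {co : ℕ → ℕ → ℤ} {K : Type v} [Field K] (hF : Facts D co)
include hF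

/-- Conjugation of a torus element by a fundamental `n`. -/
theorem nS_conj_hT_eq (i : Fin D.rank) (c : ℕ → Kˣ) :
    nS D K i * hT D c * (nS D K i)⁻¹ = hT D (fun j => if j = i.val then
      c j * (∏ m ∈ Finset.range D.rank, c m ^ D.cartan m (D.simple i.val))⁻¹ else c j) := by
  rw [hT, nS, hF.nU_simple_conj_dU i.isLt, hT]
  refine dU_congr fun s hs => ?_
  set X := ∏ m ∈ Finset.range D.rank, c m ^ D.cartan m (D.simple i.val) with hX
  have e : ∀ m ∈ Finset.range D.rank, c m ^ D.cartan m (D.reflectRoot i.val s) =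
      c m ^ D.cartan m s * ((c m ^ D.cartan m (D.simple i.val)) ^ D.cartan i.val s)⁻¹ := by
    intro m hm
    rw [hF.cartan_refl i.val i.isLt s hs m (Finset.mem_range.1 hm), zpow_sub, zpow_mul]
  rw [Finset.prod_congr rfl e, Finset.prod_mul_distrib, Finset.prod_inv_distrib,
    Finset.prod_zpow, ← hX]
  have e' : ∀ m ∈ Finset.range D.rank,
      (if m = i.val then c m * X⁻¹ else c m) ^ D.cartan m s =
        c m ^ D.cartan m s * (if m = i.val then (X⁻¹) ^ D.cartan m s else 1) := by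
    intro m _
    split_ifs
    · rw [mul_zpow]
    · rw [mul_one]
  rw [Finset.prod_congr rfl e', Finset.prod_mul_distrib, Finset.prod_ite_eq',
    if_pos (Finset.mem_range.2 i.isLt), inv_zpow]

theorem nU_key {r : ℕ} (hr : r < D.nroots) (u : Kˣ) :
    nU D r (u : K) = hU D r (u : K) * nU D r 1 :=
  (hF.rankOne hr).key u

/-- A negative root element in terms of `n`. -/
theorem xU_neg_eq {r : ℕ} (hr : r < D.nroots) {s : K} (_hs : s ≠ 0) :
    xU D (D.neg r) s = xU D r s⁻¹ * nU D r (-s⁻¹) * xU D r s⁻¹ := by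
  have e : nU D r (-s⁻¹) = xU D r (-s⁻¹) * xU D (D.neg r) s * xU D r (-s⁻¹) := by
    rw [nU, inv_neg, _root_.neg_neg, inv_inv]
  rw [e, ← mul_assoc, ← mul_assoc, hF.xU_add hr, add_neg_cancel, hF.xU_zero hr, one_mul, mul_assoc,
    hF.xU_add hr, neg_add_cancel, hF.xU_zero hr, mul_one]

end Facts

/-- `g` permutes the root elements up to signs. -/
def Signed (D : ChevalleyDatum) {K : Type v} [Field K] (g : GL D.Idx K) : Prop :=
  ∃ w : Equiv.Perm (Fin D.nroots), ∀ s : Fin D.nroots, ∃ e : K, (e = 1 ∨ e = -1) ∧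
    ∀ t : K, g * xU D s.val t * g⁻¹ = xU D (w s).val (e * t)

namespace Signed

variable {D : ChevalleyDatum} {K : Type v} [Field K]

theorem one : Signed D (1 : GL D.Idx K) :=
  ⟨1, fun s => ⟨1, Or.inl rfl, fun t => by simp⟩⟩

theorem mul {g h : GL D.Idx K} (hg : Signed D g) (hh : Signed D h) : Signed D (g * h) := by
  obtain ⟨w, hw⟩ := hg
  obtain ⟨v, hv⟩ := hh
  refine ⟨w * v, fun s => ?_⟩
  obtain ⟨e, he, h1⟩ := hv s
  obtain ⟨d, hd, h2⟩ := hw (v s)
  refine ⟨d * e, ?_, fun t => ?_⟩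
  · rcases hd with rfl | rfl <;> rcases he with rfl | rfl <;> simp
  · rw [show g * h * xU D s.val t * (g * h)⁻¹ = g * (h * xU D s.val t * h⁻¹) * g⁻¹ by group,
      h1, h2, mul_assoc]
    rfl

theorem inv {g : GL D.Idx K} (hg : Signed D g) : Signed D g⁻¹ := by
  obtain ⟨w, hw⟩ := hg
  refine ⟨w⁻¹, fun s => ?_⟩
  obtain ⟨e, he, h1⟩ := hw (w⁻¹ s)
  rw [show w (w⁻¹ s) = s from w.apply_symm_apply s] at h1
  refine ⟨e, he, fun t => ?_⟩
  have h2 := h1 (e * t)
  rw [← mul_assoc, show e * e = 1 by rcases he with rfl | rfl <;> simp, one_mul] at h2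
  rw [← h2]
  group

theorem nW {co : ℕ → ℕ → ℤ} (hF : Facts D co) :
    ∀ l : List (Fin D.rank), Signed D (nW D K l)
  | [] => by rw [nW_nil]; exact one
  | i :: l => by
    rw [nW_cons]
    refine mul ⟨sP D i, fun s => ?_⟩ (nW hF l)
    obtain ⟨η, h1, -, h3⟩ := hF.exists_eta (F := K) i.isLt
    refine ⟨(η s.val : K), (h1 s.val s.isLt).imp (fun h => by rw [h, Int.cast_one])
      (fun h => by rw [h, Int.cast_neg, Int.cast_one]), fun t => ?_⟩
    rw [nS, h3 s.val s.isLt, mul_inv_cancel_right, hF.sP_val]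

theorem sq_eq_one {co : ℕ → ℕ → ℤ} (hF : Facts D co) {h : GL D.Idx K}
    (hh : h ∈ D.diagonalSubgroup K) (hs : Signed D h) : h * h = 1 := by
  obtain ⟨c, rfl⟩ := hF.mem_diagonal_iff.1 hh
  obtain ⟨w, hw⟩ := hs
  rw [← hF.hT_mul]
  refine hF.hT_eq_one_of_simple _ fun q hq => ?_
  obtain ⟨e, he, h1⟩ := hw ⟨D.simple q, hF.simple_lt' hq⟩
  have h2 := (hF.hT_conj_xU c (hF.simple_lt' hq) 1).symm.trans (h1 1)
  simp only [mul_one] at h2
  have h3 := hF.xU_root_unique (hF.simple_lt' hq) (w ⟨D.simple q, hF.simple_lt' hq⟩).isLt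
    (Units.ne_zero _) h2
  rw [← h3, ← mul_inv_eq_one, hF.xU_inv (hF.simple_lt' hq), hF.xU_add (hF.simple_lt' hq)] at h2
  have h4 := hF.xU_eq_one (hF.simple_lt' hq) h2
  rw [← sub_eq_add_neg, sub_eq_zero] at h4
  simp only [mul_zpow, Finset.prod_mul_distrib, Units.val_mul]
  rw [h4]
  rcases he with rfl | rfl <;> simp

end Signed

namespace TwE6

theorem pair_cross :
    ∀ rs ∈ [(e6p3, e6p5), (e6p1, e6p6)],
      parE6.commB chevE6 rs.2 rs.1 = true ∧ parE6.commB chevE6 rs.2 (chevE6.neg rs.1) = true ∧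
      parE6.commB chevE6 (chevE6.neg rs.2) rs.1 = true ∧
      parE6.commB chevE6 (chevE6.neg rs.2) (chevE6.neg rs.1) = true ∧
      rs.1 < chevE6.nroots ∧ rs.2 < chevE6.nroots ∧
      rs ∈ [(e6p1, e6p6), (e6m1, e6m6), (e6p3, e6p5), (e6m3, e6m5)] ∧
      (chevE6.neg rs.1, chevE6.neg rs.2) ∈
        [(e6p1, e6p6), (e6m1, e6m6), (e6p3, e6p5), (e6m3, e6m5)] := by
  decide +kernel

theorem single_neg : ∀ r ∈ [e6p2, e6p4],
    r < chevE6.nroots ∧ r ∈ [e6p2, e6m2, e6p4, e6m4] ∧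
      chevE6.neg r ∈ [e6p2, e6m2, e6p4, e6m4] := by
  decide +kernel

theorem torus_tables : chevE6.simple 0 = e6p1 ∧ chevE6.simple 1 = e6p2 ∧
    chevE6.simple 2 = e6p3 ∧ chevE6.simple 3 = e6p4 ∧ chevE6.simple 4 = e6p5 ∧
    chevE6.simple 5 = e6p6 ∧ parE6.pi 0 = 5 ∧ parE6.pi 1 = 1 ∧ parE6.pi 2 = 4 ∧ parE6.pi 3 = 3 ∧
    parE6.pi 4 = 2 ∧ parE6.pi 5 = 0 ∧ chevE6.rank = 6 := by
  decide +kernel

/-- The Cartan matrix of type E₆. -/
def cart : List (List ℤ) :=
  [[2, 0, -1, 0, 0, 0], [0, 2, 0, -1, 0, 0], [-1, 0, 2, -1, 0, 0], [0, -1, -1, 2, -1, 0],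
    [0, 0, 0, -1, 2, -1], [0, 0, 0, 0, -1, 2]]

theorem cart_eq : ∀ i < 6, ∀ m < 6,
    chevE6.cartan m (chevE6.simple i) = (cart.getD i []).getD m 0 := by
  decide +kernel

theorem words : (O ⟨0, by decide⟩).word = [⟨1, by decide⟩] ∧
    (O ⟨1, by decide⟩).word = [⟨3, by decide⟩] ∧
    (O ⟨2, by decide⟩).word = [⟨2, by decide⟩, ⟨4, by decide⟩] ∧
    (O ⟨3, by decide⟩).word = [⟨0, by decide⟩, ⟨5, by decide⟩] := by
  decide +kernel

variable {K : Type v} [Field K] [Fintype K] {q : ℕ} (C : Ctx K q)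

/-- Six values as a sequence. -/
def six (a b e d e' a' : Kˣ) : ℕ → Kˣ
  | 0 => a
  | 1 => b
  | 2 => e
  | 3 => d
  | 4 => e'
  | 5 => a'
  | _ => 1

omit [Fintype K] in
theorem char_six (a b e d e' a' : Kˣ) :
    (∏ m ∈ Finset.range chevE6.rank, six a b e d e' a' m ^ chevE6.cartan m (chevE6.simple 0) =
      a * a / e) ∧
    (∏ m ∈ Finset.range chevE6.rank, six a b e d e' a' m ^ chevE6.cartan m (chevE6.simple 1) =
      b * b / d) ∧
    (∏ m ∈ Finset.range chevE6.rank, six a b e d e' a' m ^ chevE6.cartan m (chevE6.simple 2) =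
      e * e / (a * d)) ∧
    (∏ m ∈ Finset.range chevE6.rank, six a b e d e' a' m ^ chevE6.cartan m (chevE6.simple 3) =
      d * d / (b * e * e')) ∧
    (∏ m ∈ Finset.range chevE6.rank, six a b e d e' a' m ^ chevE6.cartan m (chevE6.simple 4) =
      e' * e' / (d * a')) ∧
    (∏ m ∈ Finset.range chevE6.rank, six a b e d e' a' m ^ chevE6.cartan m (chevE6.simple 5) =
      a' * a' / e') := by
  rw [show chevE6.rank = 6 from torus_tables.2.2.2.2.2.2.2.2.2.2.2.2]
  refine ⟨?_, ?_, ?_, ?_, ?_, ?_⟩ <;>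
    simp (config := { decide := true }) [Finset.prod_range_succ, cart_eq, cart, six, sq,
      div_eq_mul_inv, mul_comm, mul_left_comm, mul_assoc]

omit [Fintype K] in
theorem six_eta (c : ℕ → Kˣ) :
    hT chevE6 c = hT chevE6 (six (c 0) (c 1) (c 2) (c 3) (c 4) (c 5)) :=
  DataE6.facts.hT_congr fun i hi => by
    have : i < 6 := hi
    interval_cases i <;> rfl

omit [Fintype K] in
/-- The centre of the simply connected group. -/
theorem six_eq_one_iff (a b e d e' a' : Kˣ) :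
    hT chevE6 (six a b e d e' a') = 1 ↔
      a ^ 3 = 1 ∧ b = 1 ∧ e = a ^ 2 ∧ d = 1 ∧ e' = a ∧ a' = a ^ 2 := by
  have h6 : chevE6.rank = 6 := torus_tables.2.2.2.2.2.2.2.2.2.2.2.2
  obtain ⟨e0, e1, e2, e3, e4, e5⟩ := char_six a b e d e' a'
  rw [← DataE6.facts.hT_one, DataE6.facts.hT_eq_iff]
  simp only [div_one]
  constructor
  · intro h
    have h0 := h 0 (by omega)
    have h1 := h 1 (by omega)
    have h2 := h 2 (by omega)
    have h3 := h 3 (by omega)
    have h4 := h 4 (by omega)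
    have h5 := h 5 (by omega)
    rw [e0, div_eq_one] at h0
    rw [e1, div_eq_one] at h1
    rw [e2, div_eq_one] at h2
    rw [e3, div_eq_one] at h3
    rw [e4, div_eq_one] at h4
    rw [e5, div_eq_one] at h5
    -- h0 : a² = e, h1 : b² = d, h2 : e² = a d, h3 : d² = b e e', h4 : e'² = d a', h5 : a'² = e'
    subst h0 h5 h1
    have hd : b * b = a * a * a := by
      refine mul_left_cancel (a := a) ?_
      rw [← h2]; simp [mul_assoc]
    have hd' : b * b = a' * a' * a' := by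
      refine mul_right_cancel (b := a') ?_
      rw [← h4]; simp [mul_assoc]
    have hb : b * b * b = a * a * (a' * a') := by
      refine mul_left_cancel (a := b) ?_
      simpa [mul_assoc] using h3
    have hb' : b = 1 := by
      have t1 : b ^ 2 = a ^ 3 := by simpa [pow_succ, mul_assoc] using hd
      have t2 : b ^ 2 = a' ^ 3 := by simpa [pow_succ, mul_assoc] using hd'
      have t3 : b ^ 3 = a ^ 2 * a' ^ 2 := by simpa [pow_succ, mul_assoc] using hb
      refine mul_left_cancel (a := b ^ 8) ?_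
      calc b ^ 8 * b = (b ^ 3) ^ 3 := by rw [← pow_mul, ← pow_succ]
        _ = (a ^ 3) ^ 2 * (a' ^ 3) ^ 2 := by
          rw [t3, mul_pow, ← pow_mul, ← pow_mul, ← pow_mul, ← pow_mul]
        _ = b ^ 8 * 1 := by rw [← t1, ← t2, ← pow_mul, ← pow_add, mul_one]
    subst hb'
    simp only [one_mul] at hd hd' hb h2 h4
    have ha' : a' = a ^ 2 := by
      calc a' = a * a * (a' * a') * a' := by rw [← hb, one_mul]
        _ = a * a * (a' * a' * a') := by simp [mul_assoc]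
        _ = a ^ 2 := by rw [← hd', mul_one, sq]
    refine ⟨by rw [pow_succ, sq, hd], rfl, (sq a).symm, one_mul 1, ?_, ha'⟩
    rw [ha', ← sq, ← pow_mul, show 2 * 2 = 3 + 1 from rfl, pow_succ, pow_succ, sq, ← hd, one_mul]
  · rintro ⟨ha, rfl, rfl, rfl, he', rfl⟩ i hi
    rw [he'] at e0 e1 e2 e3 e4 e5 ⊢
    have : i < 6 := by omega
    have ha4 : a ^ 2 * a ^ 2 = a := by rw [← pow_add, pow_succ, ha, one_mul]
    interval_cases i
    · rw [e0, div_eq_one, sq]
    · rw [e1, div_eq_one, one_mul]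
    · rw [e2, div_eq_one, ha4, mul_one]
    · rw [e3, div_eq_one, one_mul, one_mul, ← pow_succ, ha]
    · rw [e4, div_eq_one, one_mul, sq]
    · rw [e5, div_eq_one, ha4]

include C

/-- The image of a unit. -/
abbrev Ctx.fu : Kˣ →* Kˣ := Units.map (C.f : K →* K)

theorem Ctx.fu_two (a : Kˣ) : C.fu (C.fu a) = a := Units.ext (C.pow_two _)

theorem Ctx.fu_val (a : Kˣ) : ((C.fu a : Kˣ) : K) = (a : K) ^ q := C.hf _

theorem Ctx.fu_eq_pow (a : Kˣ) : C.fu a = a ^ q :=
  Units.ext (by rw [C.fu_val, Units.val_pow_eq_pow_val])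

theorem Ctx.fu_fix_iff (b : Kˣ) : C.fu b = b ↔ b ∈ (powMonoidHom (α := Kˣ) (q - 1)).ker := by
  rw [MonoidHom.mem_ker, powMonoidHom_apply, C.fu_eq_pow]
  conv_lhs => lhs; rw [← Nat.sub_add_cancel C.q_gt.le, pow_succ]
  exact mul_eq_right

/-- The parametrisation of the torus. -/
noncomputable def Ctx.par : (Kˣ × Kˣ) × ((powMonoidHom (α := Kˣ) (q - 1)).ker ×
    (powMonoidHom (α := Kˣ) (q - 1)).ker) →* GL chevE6.Idx K :=
  MonoidHom.mk'
    (fun p => hT chevE6 (six p.1.1 p.2.1 p.1.2 p.2.2 (C.fu p.1.2) (C.fu p.1.1)))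
    fun x y => by
      rw [← DataE6.facts.hT_mul]
      refine DataE6.facts.hT_congr fun i hi => ?_
      have : i < 6 := hi
      interval_cases i <;> simp [six]

theorem Ctx.mem_range (a e : Kˣ) {b d : Kˣ} (hb : C.fu b = b) (hd : C.fu d = d) :
    hT chevE6 (six a b e d (C.fu e) (C.fu a)) ∈ C.par.range :=
  ⟨((a, e), ⟨b, (C.fu_fix_iff b).1 hb⟩, ⟨d, (C.fu_fix_iff d).1 hd⟩), rfl⟩

theorem Ctx.conj_step (i : Fin chevE6.rank) (a b e d e' a' : Kˣ) :
    nS chevE6 K i * hT chevE6 (six a b e d e' a') * (nS chevE6 K i)⁻¹ =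
      hT chevE6 (six
        (if i.val = 0 then e / a else a) (if i.val = 1 then d / b else b)
        (if i.val = 2 then a * d / e else e) (if i.val = 3 then b * e * e' / d else d)
        (if i.val = 4 then d * a' / e' else e') (if i.val = 5 then e' / a' else a')) := by
  obtain ⟨e0, e1, e2, e3, e4, e5⟩ := char_six a b e d e' a'
  rw [DataE6.facts.nS_conj_hT_eq]
  refine DataE6.facts.hT_congr fun j hj => ?_
  have hj6 : j < 6 := hj
  obtain ⟨i, hi⟩ := i
  have hi6 : i < 6 := hi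
  interval_cases i <;> simp only [e0, e1, e2, e3, e4, e5] <;> interval_cases j <;>
    simp only [six, Nat.reduceEqDiff, if_false, if_true, inv_div, mul_div_assoc',
      div_eq_div_iff_mul_eq_mul] <;>
    simp [mul_comm, mul_left_comm]

theorem Ctx.conj_range (o : Fin spec.length) {h : GL chevE6.Idx K} (hh : h ∈ C.par.range) :
    nW chevE6 K (O o).word * h * (nW chevE6 K (O o).word)⁻¹ ∈ C.par.range := by
  obtain ⟨⟨⟨a, e⟩, ⟨b, hb⟩, ⟨d, hd⟩⟩, rfl⟩ := hh
  have fb := (C.fu_fix_iff b).2 hb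
  have fd := (C.fu_fix_iff d).2 hd
  obtain ⟨w0, w1, w2, w3⟩ := words
  show nW chevE6 K (O o).word * hT chevE6 (six a b e d (C.fu e) (C.fu a)) * _ ∈ _
  revert o
  refine fin_cases_spec ?_ ?_ ?_ ?_
  · rw [w0, nW_cons, nW_nil, mul_one, C.conj_step]
    simp only [show ((1 : ℕ) = 0) = False by simp, if_false, if_true,
      show ((1 : ℕ) = 2) = False by simp, show ((1 : ℕ) = 3) = False by simp,
      show ((1 : ℕ) = 4) = False by simp, show ((1 : ℕ) = 5) = False by simp]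
    exact C.mem_range a e (by rw [map_div, fb, fd]) fd
  · rw [w1, nW_cons, nW_nil, mul_one, C.conj_step]
    simp only [Nat.reduceEqDiff, if_false, if_true]
    exact C.mem_range a e fb (by rw [map_div, map_mul, map_mul, fb, fd, C.fu_two]
                                 congr 1; rw [mul_assoc, mul_assoc, mul_comm e])
  · rw [w2, nW_cons, nW_cons, nW_nil, mul_one,
      show ∀ x y z : GL chevE6.Idx K, x * y * z * (x * y)⁻¹ = x * (y * z * y⁻¹) * x⁻¹ from
        fun x y z => by group,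
      C.conj_step, C.conj_step]
    simp only [Nat.reduceEqDiff, if_false, if_true]
    rw [show d * C.fu a / C.fu e = C.fu (a * d / e) by
      rw [map_div, map_mul, fd, mul_comm]]
    exact C.mem_range a _ fb fd
  · rw [w3, nW_cons, nW_cons, nW_nil, mul_one,
      show ∀ x y z : GL chevE6.Idx K, x * y * z * (x * y)⁻¹ = x * (y * z * y⁻¹) * x⁻¹ from
        fun x y z => by group,
      C.conj_step, C.conj_step]
    simp only [Nat.reduceEqDiff, if_false, if_true]
    rw [← map_div]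
    exact C.mem_range _ e fb fd

theorem Ctx.img_six (c : ℕ → Kˣ) : Img C.σ (hT chevE6 c)
    (hT chevE6 (six (C.fu (c 5)) (C.fu (c 1)) (C.fu (c 4)) (C.fu (c 3)) (C.fu (c 2))
      (C.fu (c 0)))) := by
  obtain ⟨-, -, -, -, -, -, p0, p1, p2, p3, p4, p5, h6⟩ := torus_tables
  refine (congrArg (Img C.σ (hT chevE6 c)) (DataE6.facts.hT_congr fun i hi => ?_)).mp
    (C.sig.img_hT c)
  have : i < 6 := hi
  interval_cases i <;>
    simp [h6, Finset.prod_range_succ, p0, p1, p2, p3, p4, p5, six,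
      show ∀ r, parE6.lam r = 1 from fun _ => rfl]

/-- The cube of a fixed torus element lies in the image of the fixed torus. -/
theorem Ctx.cube_mem {h : GL chevE6.Idx K} (hh : h ∈ chevE6.diagonalSubgroup K)
    (hf : h ∈ fixS C.σ) : h * h * h ∈ C.par.range := by
  have hF := DataE6.facts
  obtain ⟨c, rfl⟩ := hF.mem_diagonal_iff.1 hh
  have e := (C.img_six c).unique hf
  rw [six_eta c, ← mul_inv_eq_one, ← hF.hT_inv, ← hF.hT_mul, six_eta] at e
  obtain ⟨k0, k1, k2, k3, k4, k5⟩ := (six_eq_one_iff _ _ _ _ _ _).1 e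
  simp only [six, mul_inv_eq_one] at k1 k3
  simp only [six] at k0 k2 k4 k5
  rw [← hF.hT_mul, ← hF.hT_mul, six_eta]
  have q2 : C.fu (c 2 * c 2 * c 2) = c 4 * c 4 * c 4 := by
    refine div_eq_one.1 (Eq.trans ?_ k0)
    rw [← k4]; simp [map_mul, pow_succ, div_eq_mul_inv, mul_comm, mul_left_comm, mul_assoc]
  have q0 : C.fu (c 0 * c 0 * c 0) = c 5 * c 5 * c 5 := by
    refine div_eq_one.1 (Eq.trans ?_ (show (1 : Kˣ) ^ 2 = 1 from one_pow _))
    rw [← k0, ← pow_mul, mul_comm 3 2, pow_mul, ← k5]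
    simp [map_mul, pow_succ, div_eq_mul_inv, mul_comm, mul_left_comm, mul_assoc]
  rw [← q2, ← q0]
  exact C.mem_range _ _ (by simp only [map_mul, k1]) (by simp only [map_mul, k3])

theorem Ctx.commute_pair {rs : ℕ × ℕ} (h : rs ∈ [(e6p3, e6p5), (e6p1, e6p6)]) :
    (∀ x y : K, Commute (xU chevE6 rs.2 x) (xU chevE6 rs.1 y)) ∧
    (∀ x y : K, Commute (xU chevE6 rs.2 x) (xU chevE6 (chevE6.neg rs.1) y)) ∧
    (∀ x y : K, Commute (xU chevE6 (chevE6.neg rs.2) x) (xU chevE6 rs.1 y)) ∧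
    ∀ x y : K, Commute (nU chevE6 rs.2 x) (nU chevE6 rs.1 y) := by
  have hF := DataE6.facts
  obtain ⟨h1, h2, h3, h4, hr, hs, -, -⟩ := pair_cross rs h
  have A : ∀ x y : K, Commute (xU chevE6 rs.2 x) (xU chevE6 rs.1 y) :=
    C.sig.commute_xU hs hr h1
  have B : ∀ x y : K, Commute (xU chevE6 rs.2 x) (xU chevE6 (chevE6.neg rs.1) y) :=
    C.sig.commute_xU hs (hF.neg_lt hr) h2
  have A' : ∀ x y : K, Commute (xU chevE6 (chevE6.neg rs.2) x) (xU chevE6 rs.1 y) :=
    C.sig.commute_xU (hF.neg_lt hs) hr h3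
  have B' := C.sig.commute_xU (hF.neg_lt hs) (hF.neg_lt hr) h4
  refine ⟨A, B, A', fun x y => ?_⟩
  have e1 := ((A x y).mul_right (B x (-y⁻¹))).mul_right (A x y)
  have e2 := ((A' (-x⁻¹) y).mul_right (B' (-x⁻¹) (-y⁻¹))).mul_right (A' (-x⁻¹) y)
  exact (e1.mul_left e2).mul_left e1

theorem Ctx.nU_pair {rs : ℕ × ℕ} (h : rs ∈ [(e6p3, e6p5), (e6p1, e6p6)]) (u : K) :
    nU chevE6 rs.1 u * nU chevE6 rs.2 (C.f u) ∈ twistedE6 K q := by
  obtain ⟨A, B, A', -⟩ := C.commute_pair h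
  obtain ⟨-, -, -, -, -, -, hp, hn⟩ := pair_cross rs h
  have hP := C.two_mem hp u
  have hM := C.two_mem hn (-u⁻¹)
  rw [map_neg, map_inv₀] at hM
  have := Subgroup.mul_mem _ (Subgroup.mul_mem _ hP hM) hP
  rwa [sandwich (A _ _) (B _ _) (A' _ _)] at this

theorem Ctx.hU_pair {rs : ℕ × ℕ} (h : rs ∈ [(e6p3, e6p5), (e6p1, e6p6)]) (u : K) :
    hU chevE6 rs.1 u * hU chevE6 rs.2 (C.f u) ∈ twistedE6 K q := by
  have h1 := Subgroup.mul_mem _ (C.nU_pair h u) (C.nU_pair h (-1))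
  rw [map_neg, map_one, ((C.commute_pair h).2.2.2 _ _).mul_mul_mul_comm] at h1
  exact h1

theorem Ctx.nU_single {r : ℕ} (h : r ∈ [e6p2, e6p4]) {u : K} (hu : u ^ q = u) :
    nU chevE6 r u ∈ twistedE6 K q := by
  obtain ⟨-, hp, hn⟩ := single_neg r h
  exact Subgroup.mul_mem _ (Subgroup.mul_mem _ (C.one_mem hp hu) (C.one_mem hn (by
    rw [← C.hf, map_neg, map_inv₀, C.hf, hu]))) (C.one_mem hp hu)

theorem Ctx.hU_single_mem {r : ℕ} (h : r ∈ [e6p2, e6p4]) {u : K} (hu : u ^ q = u) :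
    hU chevE6 r u ∈ twistedE6 K q :=
  Subgroup.mul_mem _ (C.nU_single h hu) (C.nU_single h (by rw [← C.hf, map_neg, map_one]))

theorem Ctx.range_le : C.par.range ≤ chevE6.diagonalSubgroup K ⊓ twistedE6 K q := by
  rintro _ ⟨⟨⟨a, e⟩, ⟨b, hb⟩, ⟨d, hd⟩⟩, rfl⟩
  have hF := DataE6.facts
  have fb := (C.fu_val b).symm.trans (congrArg Units.val ((C.fu_fix_iff b).2 hb))
  have fd := (C.fu_val d).symm.trans (congrArg Units.val ((C.fu_fix_iff d).2 hd))
  obtain ⟨s0, s1, s2, s3, s4, s5, -, -, -, -, -, -, h6⟩ := torus_tables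
  refine ⟨hF.mem_diagonal_iff.2 ⟨_, rfl⟩, ?_⟩
  show hT chevE6 (six a b e d (C.fu e) (C.fu a)) ∈ twistedE6 K q
  rw [show hT chevE6 (six a b e d (C.fu e) (C.fu a)) =
      (hU chevE6 e6p1 (a : K) * hU chevE6 e6p6 (C.fu a : K)) *
      (hU chevE6 e6p3 (e : K) * hU chevE6 e6p5 (C.fu e : K)) *
      hU chevE6 e6p2 (b : K) * hU chevE6 e6p4 (d : K) by
    rw [← s0, ← s1, ← s2, ← s3, ← s4, ← s5, hF.hU_single (by omega), hF.hU_single (by omega),
      hF.hU_single (by omega), hF.hU_single (by omega), hF.hU_single (by omega),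
      hF.hU_single (by omega)]
    simp only [← hF.hT_mul]
    refine hF.hT_congr fun i hi => ?_
    have : i < 6 := hi
    interval_cases i <;> simp [six]]
  exact Subgroup.mul_mem _ (Subgroup.mul_mem _ (Subgroup.mul_mem _
    (C.hU_pair (rs := (e6p1, e6p6)) (by simp) a) (C.hU_pair (rs := (e6p3, e6p5)) (by simp) e))
    (C.hU_single_mem (by simp) fb)) (C.hU_single_mem (by simp) fd)

theorem Ctx.nW_mem_G (o : Fin spec.length) : nW chevE6 K (O o).word ∈ twistedE6 K q := by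
  obtain ⟨w0, w1, w2, w3⟩ := words
  obtain ⟨s0, s1, s2, s3, s4, s5, -⟩ := torus_tables
  revert o
  refine fin_cases_spec ?_ ?_ ?_ ?_
  · simpa [w0, nW, nS, s1] using C.nU_single (r := e6p2) (by simp) (one_pow q)
  · simpa [w1, nW, nS, s3] using C.nU_single (r := e6p4) (by simp) (one_pow q)
  · simpa [w2, nW, nS, s2, s4] using C.nU_pair (rs := (e6p3, e6p5)) (by simp) 1
  · simpa [w3, nW, nS, s0, s5] using C.nU_pair (rs := (e6p1, e6p6)) (by simp) 1

/-- The group generated by the representatives and the image of the fixed torus. -/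
noncomputable def Ctx.bigM : Subgroup (GL chevE6.Idx K) :=
  Subgroup.closure (Set.range fun o : Fin spec.length => nW chevE6 K (O o).word) ⊔ C.par.range

theorem Ctx.nW_mem_bigM (o : Fin spec.length) : nW chevE6 K (O o).word ∈ C.bigM :=
  Subgroup.mem_sup_left (Subgroup.subset_closure ⟨o, rfl⟩)

theorem Ctx.bigM_le : C.bigM ≤ chevE6.monomialSubgroup K ⊓ twistedE6 K q := by
  refine sup_le ((Subgroup.closure_le _).2 ?_) (C.range_le.trans (inf_le_inf_right _
    DataE6.facts.diag_le_monomial))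
  rintro _ ⟨o, rfl⟩
  exact ⟨DataE6.facts.nW_mem _, C.nW_mem_G o⟩

theorem Ctx.diag_bigM {h : GL chevE6.Idx K} (hh : h ∈ chevE6.diagonalSubgroup K)
    (hM : h ∈ C.bigM) : h ∈ C.par.range := by
  have hF := DataE6.facts
  set N₀ := Subgroup.closure (Set.range fun o : Fin spec.length => nW chevE6 K (O o).word) with hN₀
  have hnorm : N₀ ≤ Subgroup.normalizer (C.par.range : Set (GL chevE6.Idx K)) := by
    rw [hN₀, Subgroup.closure_le]
    rintro _ ⟨o, rfl⟩
    set n := nW chevE6 K (O o).word with hn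
    let φ : ↥C.par.range → ↥C.par.range := fun x => ⟨n * x * n⁻¹, C.conj_range o x.2⟩
    have hinj : Function.Injective φ := fun x y e => Subtype.ext (by
      simpa [φ] using congrArg Subtype.val e)
    have hsurj := Finite.surjective_of_injective hinj
    rw [SetLike.mem_coe, Subgroup.mem_normalizer_iff]
    intro x
    refine ⟨fun hx => C.conj_range o hx, fun hx => ?_⟩
    obtain ⟨y, hy⟩ := hsurj ⟨_, hx⟩
    have e : n * (y : GL chevE6.Idx K) * n⁻¹ = n * x * n⁻¹ := congrArg Subtype.val hy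
    exact (mul_left_cancel (mul_right_cancel e)) ▸ y.2
  have hmul : (↑(N₀ ⊔ C.par.range) : Set (GL chevE6.Idx K)) =
      (N₀ : Set (GL chevE6.Idx K)) * (C.par.range : Set (GL chevE6.Idx K)) :=
    Subgroup.coe_mul_of_left_le_normalizer_right N₀ C.par.range hnorm
  have hM' : h ∈ (↑(N₀ ⊔ C.par.range) : Set (GL chevE6.Idx K)) := hM
  rw [hmul] at hM'
  have hsgAll : ∀ x ∈ N₀, Signed chevE6 x := by
    intro x hx
    induction hx using Subgroup.closure_induction with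
    | mem y hy => obtain ⟨o, rfl⟩ := hy; exact Signed.nW hF _
    | one => exact Signed.one
    | mul a b _ _ ha hb => exact ha.mul hb
    | inv a _ ha => exact ha.inv
  obtain ⟨m, hm, i, hi, rfl⟩ := hM'
  rw [SetLike.mem_coe] at hm hi
  have hmd : m ∈ chevE6.diagonalSubgroup K := by
    simpa using Subgroup.mul_mem _ hh (Subgroup.inv_mem _ (C.range_le hi).1)
  have hsg : Signed chevE6 m := hsgAll m hm
  have hmG : m ∈ twistedE6 K q := (C.bigM_le (Subgroup.mem_sup_left hm)).2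
  have h3 := C.cube_mem hmd (C.sys.le_fix hmG)
  rw [hsg.sq_eq_one hF hmd, one_mul] at h3
  exact Subgroup.mul_mem _ h3 hi

theorem Ctx.conj_pos (o : Fin spec.length) {v : GL chevE6.Idx K}
    (hv : v ∈ rootClosure chevE6 K ((O o).negO DataE6.co)) :
    (nW chevE6 K (O o).word)⁻¹ * v * nW chevE6 K (O o).word ∈
      rootClosure chevE6 K ((O o).posO DataE6.co) := by
  have hF := DataE6.facts
  have hp := hF.permAct_inv (hF.nW_mem (F := K) (O o).word) (hF.permAct_nW (O o).word)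
  rw [show (sW chevE6 (O o).word)⁻¹ = (O o).wO from C.sys.wO_inv o] at hp
  have := hF.conj_rootClosure hp (P := (O o).negO DataE6.co)
    (Q := (O o).posO DataE6.co) (fun s hs => ?_) hv
  · simpa using this
  obtain ⟨h1, h2⟩ := C.sys.wO_inO o (r := hF.negFin s) ((hF.negFin_pos s).2 hs.1)
    (hF.inSub_neg s.isLt hs.2)
  have e : (O o).wO (hF.negFin s) = hF.negFin ((O o).wO s) := hF.sW_neg _ s
  rw [e] at h1 h2
  refine ⟨not_lt.1 fun h => absurd ((hF.negFin_pos _).2 h) (not_le.2 h1), ?_⟩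
  have h3 := hF.inSub_neg (hF.neg_lt ((O o).wO s).isLt) h2
  rwa [hF.neg_neg ((O o).wO s).isLt] at h3

theorem Ctx.hU_pair_range (u : Kˣ) :
    hU chevE6 e6p1 (u : K) * hU chevE6 e6p6 (C.fu u : K) ∈ C.par.range ∧
    hU chevE6 e6p3 (u : K) * hU chevE6 e6p5 (C.fu u : K) ∈ C.par.range := by
  have hF := DataE6.facts
  obtain ⟨s0, -, s2, -, s4, s5, -, -, -, -, -, -, h6⟩ := torus_tables
  rw [← s0, ← s2, ← s4, ← s5, hF.hU_single (by omega), hF.hU_single (by omega),
    hF.hU_single (by omega), hF.hU_single (by omega), ← hF.hT_mul, ← hF.hT_mul]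
  constructor
  · convert C.mem_range u 1 (map_one C.fu) (map_one C.fu) using 1
    refine hF.hT_congr fun i hi => ?_
    have : i < 6 := hi
    interval_cases i <;> simp [six]
  · convert C.mem_range 1 u (map_one C.fu) (map_one C.fu) using 1
    refine hF.hT_congr fun i hi => ?_
    have : i < 6 := hi
    interval_cases i <;> simp [six]

theorem Ctx.hU_single_range {u : Kˣ} (hu : C.fu u = u) :
    hU chevE6 e6p2 (u : K) ∈ C.par.range ∧ hU chevE6 e6p4 (u : K) ∈ C.par.range := by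
  have hF := DataE6.facts
  obtain ⟨-, s1, -, s3, -, -, -, -, -, -, -, -, h6⟩ := torus_tables
  rw [← s1, ← s3, hF.hU_single (by omega), hF.hU_single (by omega)]
  constructor
  · convert C.mem_range 1 1 hu (map_one C.fu) using 1
    refine hF.hT_congr fun i hi => ?_
    have : i < 6 := hi
    interval_cases i <;> simp [six]
  · convert C.mem_range 1 1 (map_one C.fu) hu using 1
    refine hF.hT_congr fun i hi => ?_
    have : i < 6 := hi
    interval_cases i <;> simp [six]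

set_option maxHeartbeats 1000000 in
theorem Ctx.neg_split (o : Fin spec.length) (v : GL chevE6.Idx K) (hv : v ∈ twistedE6 K q)
    (hvn : v ∈ rootClosure chevE6 K ((O o).negO DataE6.co)) (hv1 : v ≠ 1) :
    ∃ u₁ ∈ twistedE6 K q ⊓ rootClosure chevE6 K ((O o).posO DataE6.co), ∃ m ∈ C.bigM,
      ∃ u₂ ∈ twistedE6 K q ⊓ rootClosure chevE6 K ((O o).posO DataE6.co),
        v = u₁ * m * u₂ := by
  have hF := DataE6.facts
  obtain ⟨w0, w1, w2, w3⟩ := words
  obtain ⟨s0, s1, s2, s3, s4, s5, -⟩ := torus_tables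
  have hc := C.conj_pos o hvn
  set n := nW chevE6 K (O o).word with hn
  have hcG : n⁻¹ * v * n ∈ twistedE6 K q :=
    Subgroup.mul_mem _ (Subgroup.mul_mem _ (Subgroup.inv_mem _ (C.nW_mem_G o)) hv) (C.nW_mem_G o)
  have hfix := C.sys.le_fix hcG
  have hnM := C.nW_mem_bigM o
  have hvc : v = n * (n⁻¹ * v * n) * n⁻¹ := by group
  have single : ∀ {r : ℕ}, r ∈ [e6p2, e6p4] → n = nU chevE6 r 1 →
      (∀ {u : Kˣ}, C.fu u = u → hU chevE6 r (u : K) ∈ C.par.range) →
      ∀ t : K, t ^ q = t → n⁻¹ * v * n = wU chevE6 [(r, t)] →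
      ∃ s : K, s ^ q = s ∧ s ≠ 0 ∧ v = xU chevE6 r s⁻¹ * nU chevE6 r (-s⁻¹) * xU chevE6 r s⁻¹ ∧
        nU chevE6 r (-s⁻¹) ∈ C.bigM := by
    intro r hr hnr hrange t ht e
    have hlt := (single_neg r hr).1
    simp only [wU, List.map_cons, List.map_nil, List.prod_cons, List.prod_nil, mul_one] at e
    rw [e, hnr, hF.nU_conj_self hlt] at hvc
    have hne : -t ≠ 0 := by
      intro h0
      exact hv1 (by rw [hvc, h0, hF.xU_zero (hF.neg_lt hlt)])
    have hsq : (-t) ^ q = -t := by rw [← C.hf, map_neg, C.hf, ht]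
    refine ⟨-t, hsq, hne, hvc.trans (hF.xU_neg_eq hlt hne), ?_⟩
    have := hF.nU_key hlt (Units.mk0 _ (neg_ne_zero.2 (inv_ne_zero hne)))
    rw [Units.val_mk0] at this
    rw [this, ← hnr]
    refine Subgroup.mul_mem _ (Subgroup.mem_sup_right (hrange (u := Units.mk0 _
      (neg_ne_zero.2 (inv_ne_zero hne))) (Units.ext ?_))) hnM
    show C.f (-(-t)⁻¹) = -(-t)⁻¹
    rw [map_neg, map_inv₀, C.hf, hsq]
  have pair : ∀ {r s : ℕ}, (r, s) ∈ [(e6p3, e6p5), (e6p1, e6p6)] →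
      n = nU chevE6 r 1 * nU chevE6 s 1 →
      (∀ u : Kˣ, hU chevE6 r (u : K) * hU chevE6 s (C.fu u : K) ∈ C.par.range) →
      ∀ t : K, n⁻¹ * v * n = wU chevE6 [(r, t), (s, t ^ q)] →
      ∃ x : K, x ≠ 0 ∧
        v = xU chevE6 r x⁻¹ * xU chevE6 s (C.f x⁻¹) *
          (nU chevE6 r (-x⁻¹) * nU chevE6 s (C.f (-x⁻¹))) *
          (xU chevE6 r x⁻¹ * xU chevE6 s (C.f x⁻¹)) ∧
        nU chevE6 r (-x⁻¹) * nU chevE6 s (C.f (-x⁻¹)) ∈ C.bigM := by
    intro r s hrs hnr hrange t e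
    obtain ⟨A, B, A', N⟩ := C.commute_pair hrs
    obtain ⟨h1, h2, h3, h4, hlr, hls, -, -⟩ := pair_cross _ hrs
    simp only [wU, List.map_cons, List.map_nil, List.prod_cons, List.prod_nil, mul_one,
      ← C.hf] at e
    have AN : ∀ x y : K, Commute (xU chevE6 s x) (nU chevE6 r y) := fun x y =>
      ((A _ _).mul_right (B _ _)).mul_right (A _ _)
    have A'N : ∀ x y : K, Commute (nU chevE6 s x) (xU chevE6 r y) := fun x y =>
      ((A _ _).mul_left (A' _ _)).mul_left (A _ _)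
    have hconj : n * (xU chevE6 r t * xU chevE6 s (C.f t)) * n⁻¹ =
        xU chevE6 (chevE6.neg r) (-t) * xU chevE6 (chevE6.neg s) (-(C.f t)) := by
      rw [hnr, ← hF.nU_conj_self hlr, ← hF.nU_conj_self hls]
      exact conj_two (A'N 1 t) (AN (C.f t) 1) (N 1 1)
    rw [e, hconj] at hvc
    have hne : -t ≠ 0 := by
      intro h0
      apply hv1
      rw [hvc, h0, show -(C.f t) = C.f (-t) from (map_neg C.f t).symm, h0, map_zero,
        hF.xU_zero (hF.neg_lt hlr), hF.xU_zero (hF.neg_lt hls), one_mul]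
    have hne' : C.f (-t) ≠ 0 := (map_ne_zero C.f).2 hne
    refine ⟨-t, hne, ?_, ?_⟩
    · rw [hvc, show -(C.f t) = C.f (-t) from (map_neg C.f t).symm, hF.xU_neg_eq hlr hne,
        hF.xU_neg_eq hls hne']
      simp only [map_inv₀, map_neg]
      rw [sandwich (A _ _) (AN _ _) (A'N _ _)]
    · have k1 := hF.nU_key hlr (Units.mk0 _ (neg_ne_zero.2 (inv_ne_zero hne)))
      have k2 := hF.nU_key hls (C.fu (Units.mk0 _ (neg_ne_zero.2 (inv_ne_zero hne))))
      rw [Units.val_mk0] at k1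
      rw [show ((C.fu (Units.mk0 _ (neg_ne_zero.2 (inv_ne_zero hne))) : Kˣ) : K) =
        C.f (-(-t)⁻¹) from rfl] at k2
      rw [k1, k2]
      have c3 : Commute (hU chevE6 s (C.f (-(-t)⁻¹))) (nU chevE6 r 1) :=
        (N _ _).mul_left (N _ _)
      rw [show ∀ a b c d : GL chevE6.Idx K, Commute c b → a * b * (c * d) = a * c * (b * d) from
        fun a b c d h => by rw [mul_assoc, ← mul_assoc b, ← h.eq, mul_assoc, ← mul_assoc a] ]
      · rw [← hnr]
        exact Subgroup.mul_mem _ (Subgroup.mem_sup_right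
          (hrange (Units.mk0 _ (neg_ne_zero.2 (inv_ne_zero hne))))) hnM
      · exact c3
  have hcongr : ∀ {p : List ℕ × List ℕ} {L : List ℕ}, chkPosList DataE6.tab p.1 L = true →
      rootClosure chevE6 K ((mkOrb chevE6 p).posO DataE6.co) =
        rootClosure chevE6 K (· ∈ L) :=
    fun h => rootClosure_congr (posO_iff_list DataE6.chk_arrays h)
  revert o
  refine fin_cases_spec ?_ ?_ ?_ ?_
  · intro hvn n hc hn _ hfix hnM hvc single _
    have hL := hcongr (p := ([1], [1])) pos_lists.1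
    obtain ⟨t, ht, e⟩ := C.posO_single (r := e6p2) (by simp) coords.1 hfix (hL ▸ hc)
    obtain ⟨s, hsq, -, hv', hm⟩ := single (r := e6p2) (by simp)
      (by rw [hn, w0]; simp [nW, nS, s1]) (fun hu => (C.hU_single_range hu).1) t ht e
    have hu : xU chevE6 e6p2 s⁻¹ ∈ twistedE6 K q ⊓
        rootClosure chevE6 K ((mkOrb chevE6 ([1], [1])).posO DataE6.co) := by
      refine ⟨C.one_mem (by simp) (by rw [inv_pow, hsq]), ?_⟩
      rw [hL]
      exact xU_mem_rootClosure (by decide) (by simp) _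
    exact ⟨_, hu, _, hm, _, hu, hv'⟩
  · intro hvn n hc hn _ hfix hnM hvc single _
    have hL := hcongr (p := ([3], [3])) pos_lists.2.1
    obtain ⟨t, ht, e⟩ := C.posO_single (r := e6p4) (by simp) coords.2.1 hfix (hL ▸ hc)
    obtain ⟨s, hsq, -, hv', hm⟩ := single (r := e6p4) (by simp)
      (by rw [hn, w1]; simp [nW, nS, s3]) (fun hu => (C.hU_single_range hu).2) t ht e
    have hu : xU chevE6 e6p4 s⁻¹ ∈ twistedE6 K q ⊓
        rootClosure chevE6 K ((mkOrb chevE6 ([3], [3])).posO DataE6.co) := by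
      refine ⟨C.one_mem (by simp) (by rw [inv_pow, hsq]), ?_⟩
      rw [hL]
      exact xU_mem_rootClosure (by decide) (by simp) _
    exact ⟨_, hu, _, hm, _, hu, hv'⟩
  · intro hvn n hc hn _ hfix hnM hvc _ pair
    have hL := hcongr (p := ([2, 4], [2, 4])) pos_lists.2.2.1
    obtain ⟨t, e⟩ := C.posO_pair (rs := (e6p3, e6p5)) (by simp) coords.2.2.1 hfix (hL ▸ hc)
    obtain ⟨x, -, hv', hm⟩ := pair (r := e6p3) (s := e6p5) (by simp)
      (by rw [hn, w2]; simp [nW, nS, s2, s4]) (fun u => (C.hU_pair_range u).2) t e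
    have hu : xU chevE6 e6p3 x⁻¹ * xU chevE6 e6p5 (C.f x⁻¹) ∈ twistedE6 K q ⊓
        rootClosure chevE6 K ((mkOrb chevE6 ([2, 4], [2, 4])).posO DataE6.co) := by
      refine ⟨C.two_mem (rs := (e6p3, e6p5)) (by simp) _, ?_⟩
      rw [hL]
      exact Subgroup.mul_mem _ (xU_mem_rootClosure (by decide) (by simp) _)
        (xU_mem_rootClosure (by decide) (by simp) _)
    exact ⟨_, hu, _, hm, _, hu, hv'⟩
  · intro hvn n hc hn _ hfix hnM hvc _ pair
    have hL := hcongr (p := ([0, 5], [0, 5])) pos_lists.2.2.2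
    obtain ⟨t, e⟩ := C.posO_pair (rs := (e6p1, e6p6)) (by simp) coords.2.2.2 hfix (hL ▸ hc)
    obtain ⟨x, -, hv', hm⟩ := pair (r := e6p1) (s := e6p6) (by simp)
      (by rw [hn, w3]; simp [nW, nS, s0, s5]) (fun u => (C.hU_pair_range u).1) t e
    have hu : xU chevE6 e6p1 x⁻¹ * xU chevE6 e6p6 (C.f x⁻¹) ∈ twistedE6 K q ⊓
        rootClosure chevE6 K ((mkOrb chevE6 ([0, 5], [0, 5])).posO DataE6.co) := by
      refine ⟨C.two_mem (rs := (e6p1, e6p6)) (by simp) _, ?_⟩
      rw [hL]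
      exact Subgroup.mul_mem _ (xU_mem_rootClosure (by decide) (by simp) _)
        (xU_mem_rootClosure (by decide) (by simp) _)
    exact ⟨_, hu, _, hm, _, hu, hv'⟩

theorem Ctx.gen_orbit {g : GL chevE6.Idx K} (hg : g ∈ {g | ∃ w ∈ e6Words K q, g = wU chevE6 w}) :
    g ∈ twistedE6 K q ∧ ∃ o, g ∈ rootClosure chevE6 K ((O o).posO DataE6.co) ∨
      g ∈ rootClosure chevE6 K ((O o).negO DataE6.co) := by
  obtain ⟨w, hw, rfl⟩ := hg
  refine ⟨C.mem_gen hw, ?_⟩
  rcases hw with ⟨t, -, r, hr, rfl⟩ | ⟨t, rs, hrs, rfl⟩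
  · have hlt := (single_tables r hr).1
    have hmem := Facts.wU_mem_closure (D := chevE6) (L := [r]) (ts := [t]) (by simpa using hlt)
    simp only [List.mem_cons, List.not_mem_nil, or_false] at hr
    rcases hr with rfl | rfl | rfl | rfl
    · exact ⟨⟨0, by decide⟩, Or.inl (rootClosure_mono
        (fun r hr h => (posO_iff_list DataE6.chk_arrays pos_lists.1 r hr).2 h) hmem)⟩
    · exact ⟨⟨0, by decide⟩, Or.inr (rootClosure_mono
        (fun r hr h => (negO_iff_list DataE6.chk_arrays neg_lists.1 r hr).2 h) hmem)⟩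
    · exact ⟨⟨1, by decide⟩, Or.inl (rootClosure_mono
        (fun r hr h => (posO_iff_list DataE6.chk_arrays pos_lists.2.1 r hr).2 h) hmem)⟩
    · exact ⟨⟨1, by decide⟩, Or.inr (rootClosure_mono
        (fun r hr h => (negO_iff_list DataE6.chk_arrays neg_lists.2.1 r hr).2 h) hmem)⟩
  · obtain ⟨hlt, hlt', -⟩ := pair_tables rs hrs
    have hmem := Facts.wU_mem_closure (D := chevE6) (L := [rs.1, rs.2]) (ts := [t, t ^ q])
      (by simp [hlt, hlt'])
    simp only [List.mem_cons, List.not_mem_nil, or_false] at hrs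
    rcases hrs with rfl | rfl | rfl | rfl
    · exact ⟨⟨3, by decide⟩, Or.inl (rootClosure_mono
        (fun r hr h => (posO_iff_list DataE6.chk_arrays pos_lists.2.2.2 r hr).2 h) hmem)⟩
    · exact ⟨⟨3, by decide⟩, Or.inr (rootClosure_mono
        (fun r hr h => (negO_iff_list DataE6.chk_arrays neg_lists.2.2.2 r hr).2 h) hmem)⟩
    · exact ⟨⟨2, by decide⟩, Or.inl (rootClosure_mono
        (fun r hr h => (posO_iff_list DataE6.chk_arrays pos_lists.2.2.1 r hr).2 h) hmem)⟩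
    · exact ⟨⟨2, by decide⟩, Or.inr (rootClosure_mono
        (fun r hr h => (negO_iff_list DataE6.chk_arrays neg_lists.2.2.1 r hr).2 h) hmem)⟩

theorem Ctx.diag_eq : chevE6.diagonalSubgroup K ⊓ twistedE6 K q = C.par.range := by
  refine le_antisymm (fun g hg => C.diag_bigM hg.1 ?_) C.range_le
  exact C.sys.diag_le (M := C.bigM) C.bigM_le
    (fun o => ⟨_, C.nW_mem_bigM o, DataE6.facts.permAct_nW _⟩) C.neg_split
    (S := {g | ∃ w ∈ e6Words K q, g = wU chevE6 w}) C.gen_eq.le (fun g hg => C.gen_orbit hg)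
    hg.2 hg.1

theorem Ctx.card_ker : Nat.card C.par.ker = Nat.gcd 3 (q + 1) := by
  have h1 : Nat.card (powMonoidHom (α := Kˣ) (Nat.gcd 3 (q + 1))).ker = Nat.gcd 3 (q + 1) := by
    rw [IsCyclic.card_powMonoidHom_ker, Nat.card_units, Nat.card_eq_fintype_card, C.card]
    refine Nat.gcd_eq_right ((Nat.gcd_dvd_right 3 (q + 1)).trans ⟨q - 1, ?_⟩)
    obtain ⟨k, rfl⟩ : ∃ k, q = k + 1 := ⟨q - 1, by have := C.q_gt; omega⟩
    rw [show (k + 1) ^ 2 = (k + 1 + 1) * k + 1 by ring, Nat.add_sub_cancel, Nat.add_sub_cancel]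
  refine Eq.trans ?_ h1
  have hker : ∀ {a e b d : Kˣ}, hT chevE6 (six a b e d (C.fu e) (C.fu a)) = 1 ↔
      a ^ Nat.gcd 3 (q + 1) = 1 ∧ b = 1 ∧ e = a ^ 2 ∧ d = 1 := by
    intro a e b d
    rw [six_eq_one_iff]
    constructor
    · rintro ⟨h3, hb, he, hd, -, ha'⟩
      refine ⟨pow_gcd_eq_one.2 ⟨h3, ?_⟩, hb, he, hd⟩
      rw [pow_succ, ← C.fu_eq_pow, ha', ← pow_succ, h3]
    · rintro ⟨hg, hb, he, hd⟩
      obtain ⟨h3, hq1⟩ := pow_gcd_eq_one.1 hg
      have ha' : C.fu a = a ^ 2 := by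
        refine mul_right_cancel (b := a) ?_
        rw [← pow_succ, h3, C.fu_eq_pow, ← pow_succ, hq1]
      refine ⟨h3, hb, he, hd, ?_, ha'⟩
      rw [he, map_pow, ha', ← pow_mul, show 2 * 2 = 3 + 1 from rfl, pow_succ, h3, one_mul]
  refine Nat.card_congr
    { toFun := fun p => ⟨p.1.1.1, (hker.1 p.2).1⟩
      invFun := fun a => ⟨((a.1, a.1 ^ 2), 1, 1), hker.2 ⟨a.2, rfl, rfl, rfl⟩⟩
      left_inv := ?_
      right_inv := fun a => rfl }
  rintro ⟨⟨⟨a, e⟩, ⟨b, hb⟩, ⟨d, hd⟩⟩, hp⟩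
  obtain ⟨-, hb', he', hd'⟩ := hker.1 hp
  simp only at he' hb' hd'
  subst he' hb' hd'
  rfl

theorem Ctx.card_torus :
    Nat.gcd 3 (q + 1) *
      Nat.card ↥(chevE6.diagonalSubgroup K ⊓ twistedE6 K q : Subgroup (GL chevE6.Idx K)) =
      (q - 1) ^ 4 * (q + 1) ^ 2 := by
  rw [C.diag_eq, ← C.card_ker, ← Subgroup.index_ker, Subgroup.card_mul_index]
  have h1 : Nat.card Kˣ = (q - 1) * (q + 1) := by
    rw [Nat.card_units, Nat.card_eq_fintype_card, C.card, mul_comm, ← Nat.sq_sub_sq, one_pow]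
  have h2 : Nat.card (powMonoidHom (α := Kˣ) (q - 1)).ker = q - 1 := by
    rw [IsCyclic.card_powMonoidHom_ker, h1, Nat.gcd_mul_right_left]
  rw [Nat.card_prod, Nat.card_prod, Nat.card_prod, h1, h2]
  ring

end TwE6

end CfsgLib.Chev
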