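/-
Sums of powers given by a table of exponents.
-/
import Mathlib
import Cfsg.Agent.Lib.Chev.Poincare

set_option autoImplicit false

namespace CfsgLib.Chev

/-- A sum of powers grouped by the exponent. -/
theorem sum_pow_eq_hist (g : ℕ → ℕ) (n N : ℕ) (h : Table.allBelow n (fun a => Nat.blt (g a) N) = true)
    (x : ℕ) : ∑ a ∈ Finset.range n, x ^ g a =
      ∑ d ∈ Finset.range N, Table.countBelow n (fun a => g a == d) * x ^ d := by
  classical
  rw [← Finset.sum_fiberwise_of_maps_to (t := Finset.range N) (g := g) (fun a ha =>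
    Finset.mem_range.2 (Table.blt_iff.1 (Table.allBelow_spec h a (Finset.mem_range.1 ha))))]
  refine Finset.sum_congr rfl fun d _ => ?_
  rw [Finset.sum_congr rfl (g := fun _ => x ^ d) fun a ha => by rw [(Finset.mem_filter.1 ha).2],
    Finset.sum_const, smul_eq_mul, Table.countBelow_eq]
  congr 2
  ext a
  simp

end CfsgLib.Chev
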