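/-
Order, simplicity and Weyl group of the groups of type ²E₆.
-/
import Mathlib
import Cfsg.Agent.Lib.Chev.Twist.E6Torus
import Cfsg.Agent.Lib.Chev.Twist.Cox
import Cfsg.Agent.Lib.Chev.Twist.Hist

set_option autoImplicit false
set_option maxRecDepth 20000
set_option Elab.async false

namespace CfsgLib.Chev

open Cfsg.Lie

universe v

namespace TwE6

theorem hist_chk : Table.allBelow enum.size (fun a => Nat.blt (enum.len.get a) 37) = true := by
  decide +kernel

theorem hist_vals : (List.range 37).map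
      (fun d => Table.countBelow enum.size fun a => enum.len.get a == d) =
    [1, 2, 4, 6, 9, 13, 17, 22, 26, 32, 37, 43, 47, 51, 55, 58, 61, 61, 62, 61, 61, 58, 55, 51, 47,
      43, 37, 32, 26, 22, 17, 13, 9, 6, 4, 2, 1] := by
  decide +kernel

theorem orders : ∀ o o' : Fin 4,
    Table.chkOrder DataE6.tab
      (((O o).word ++ (O o').word).map Fin.val) (CoxeterMatrix.F₄.M o o') = true := by
  decide +kernel

theorem fixed_roots : parE6.rho 47 = 47 ∧ parE6.eps 47 = 1 ∧ coordB chevE6 [47] = true ∧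
    (e6p2 ≠ e6p4 ∧ e6p2 ≠ chevE6.neg e6p4) ∧ chevE6.commTerms e6p4 e6p2 = [(47, 1, 1, 1)] ∧
    [3].foldr (fun i x => chevE6.reflectRoot i x) 47 = e6p2 ∧
    [1].foldr (fun i x => chevE6.reflectRoot i x) 47 = e6p4 := by
  decide +kernel

variable {K : Type v} [Field K] [Fintype K] {q : ℕ} (C : Ctx K q)
include C

theorem Ctx.order_eq (o o' : Fin spec.length) :
    orderOf ((O o).wO * (O o').wO) = CoxeterMatrix.F₄.M o o' := by
  rw [Orb.wO, Orb.wO, ← sW_append]
  exact Table.orderOf_sW DataE6.chk_arrays DataE6.chk_chain DataE6.facts (orders o o')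

theorem Ctx.coxeter :
    ∃ φ : ↥(chevE6.monomialSubgroup K ⊓ twistedE6 K q) →* (CoxeterMatrix.F₄).Group,
      Function.Surjective φ ∧ φ.ker = (chevE6.diagonalSubgroup K ⊓ twistedE6 K q).subgroupOf
        (chevE6.monomialSubgroup K ⊓ twistedE6 K q) :=
  C.sys.exists_orb_coxeter (M := CoxeterMatrix.F₄) C.order_eq

theorem Ctx.irr : C.sys.bnPair.Irreducible := by
  refine TwSys.irreducible C.sys fun o o' h e => ?_
  have h2 : ((O o).wO * (O o').wO) ^ 2 = 1 := by
    rw [sq]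
    nth_rewrite 2 [e]
    rw [mul_assoc, ← mul_assoc (O o').wO, C.sys.orb.sq o', one_mul, C.sys.orb.sq o]
  have h3 := orderOf_dvd_of_pow_eq_one h2
  rw [C.order_eq] at h3
  have key : ∀ a b : Fin 4, a.val + 1 = b.val → ¬ (CoxeterMatrix.F₄.M a b ∣ 2) := by
    intro a b
    fin_cases a <;> fin_cases b <;> simp [CoxeterMatrix.F₄]
  exact key o o' h h3

theorem Ctx.card_posU :
    Nat.card ↥(chevE6.posUnipotent K ⊓ twistedE6 K q : Subgroup (GL chevE6.Idx K)) = q ^ 36 := by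
  have h := C.sys.card_posU (e := 1) (q := q) C.card_orbit
  rw [pow_one, show chevE6.nroots / 2 = 36 by decide +kernel] at h
  rw [← h, DataE6.facts.posUnipotent_eq]
  refine Nat.card_congr (Equiv.setCongr (Set.ext fun g => ?_))
  rw [show chevE6.nroots / 2 = 36 by decide +kernel]
  exact ⟨fun hg => ⟨C.sys.le_fix hg.2, hg.1⟩, fun hg => ⟨hg.2, C.sys.posU_le (by
    rwa [show chevE6.nroots / 2 = 36 by decide +kernel])⟩⟩

theorem Ctx.card_twisted : Nat.gcd 3 (q + 1) * Nat.card ↥(twistedE6 K q) =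
    q ^ 36 * (q ^ 2 - 1) * (q ^ 5 + 1) * (q ^ 6 - 1) * (q ^ 8 - 1) * (q ^ 9 + 1) * (q ^ 12 - 1) := by
  obtain ⟨W, hW, hwf, hlen⟩ := enum_sound DataE6.chk_arrays DataE6.chk_chain DataE6.facts
    C.sys orbs_chk enum_chk
  have h2 : ∀ w ∈ C.sys.wFix, Nat.card ↥(C.sys.fixU w) = q ^ flipNum w := by
    intro w hw
    obtain ⟨⟨l, hl⟩, hwf'⟩ := C.sys.mem_wFix.1 hw
    simpa using C.sys.card_fixU (e := 1) C.card_orbit hl hwf'
  rw [C.sys.card_group, Finset.sum_congr rfl h2, hwf, Finset.sum_image hW,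
    Finset.sum_congr rfl (g := fun a => q ^ enum.len.get a)
      fun a ha => by rw [hlen a (Finset.mem_range.1 ha)],
    C.sys.card_B]
  have hU := C.sys.card_posU (e := 1) (q := q) C.card_orbit
  rw [pow_one, show chevE6.nroots / 2 = 36 by decide +kernel] at hU
  have hT' := C.card_torus
  rw [inf_comm] at hT'
  rw [show chevE6.nroots / 2 = 36 by decide +kernel, hU, sum_pow_eq_hist _ _ _ hist_chk]
  have hs : ∑ d ∈ Finset.range 37,
      Table.countBelow enum.size (fun a => enum.len.get a == d) * q ^ d =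
      (((List.range 37).map fun d => Table.countBelow enum.size fun a => enum.len.get a == d).zip
        (List.range 37) |>.map fun p => p.1 * q ^ p.2).sum := by
    rw [List.zip_map_left, List.map_map, List.zip_eq_zipWith, List.zipWith_self, List.map_map,
      ← List.sum_toFinset _ List.nodup_range, List.toFinset_range]
    rfl
  rw [hs, hist_vals, show ∀ a b c d : ℕ, a * (b * c * d) = a * c * (b * d) from
    fun a b c d => by ring, hT']
  obtain ⟨k, hk⟩ : ∃ k, q = k + 1 := ⟨q - 1, by have := C.q_gt; omega⟩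
  subst hk
  have a2 : (k + 1) ^ 2 = k * (k + 2) + 1 := by ring
  have a6 : (k + 1) ^ 6 =
      k * ((k + 1) ^ 5 + (k + 1) ^ 4 + (k + 1) ^ 3 + (k + 1) ^ 2 + (k + 1) + 1) + 1 := by ring
  have a8 : (k + 1) ^ 8 = k * ((k + 1) ^ 7 + (k + 1) ^ 6 + (k + 1) ^ 5 + (k + 1) ^ 4 +
      (k + 1) ^ 3 + (k + 1) ^ 2 + (k + 1) + 1) + 1 := by ring
  have a12 : (k + 1) ^ 12 = k * ((k + 1) ^ 11 + (k + 1) ^ 10 + (k + 1) ^ 9 + (k + 1) ^ 8 +
      (k + 1) ^ 7 + (k + 1) ^ 6 + (k + 1) ^ 5 + (k + 1) ^ 4 + (k + 1) ^ 3 + (k + 1) ^ 2 +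
      (k + 1) + 1) + 1 := by ring
  conv_rhs => rw [a2, a6, a8, a12]
  simp only [Nat.add_sub_cancel, List.map_cons, List.map_nil, List.sum_cons, List.sum_nil,
    List.range_succ, List.range_zero, List.nil_append, List.cons_append, List.zip_cons_cons,
    List.zip_nil_left]
  ring

theorem Ctx.exists_sq_ne_one : ∃ a : Kˣ, a * a ≠ 1 := by
  by_contra h
  push Not at h
  classical
  have hsub : (Finset.univ : Finset K) ⊆ {0, 1, -1} := fun x _ => by
    by_cases hx : x = 0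
    · simp [hx]
    · have := congrArg Units.val (h (Units.mk0 x hx))
      rw [Units.val_mul, Units.val_mk0, Units.val_one, mul_self_eq_one_iff] at this
      rcases this with e | e <;> simp [e]
  have hc := (Finset.card_le_card hsub).trans Finset.card_le_three
  rw [Finset.card_univ, C.card] at hc
  have : 2 ^ 2 ≤ q ^ 2 := Nat.pow_le_pow_left C.q_gt 2
  omega

theorem Ctx.inDer_pair {rs : ℕ × ℕ} (hrs : rs ∈ [(e6p3, e6p5), (e6p1, e6p6)]) (t : K) :
    C.sys.InDer (wU chevE6 [(rs.1, t), (rs.2, t ^ q)]) := by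
  have hF := DataE6.facts
  obtain ⟨-, -, -, -, hr, hs, hp, -⟩ := pair_cross rs hrs
  obtain ⟨A, -, -, -⟩ := C.commute_pair hrs
  obtain ⟨a, ha⟩ := C.exists_sq_ne_one
  obtain ⟨h, hG, hr1, hs1⟩ : ∃ h ∈ twistedE6 K q,
      (∀ u, h * xU chevE6 rs.1 u * h⁻¹ = xU chevE6 rs.1 (((a * a : Kˣ) : K) * u)) ∧
      ∀ u, h * xU chevE6 rs.2 u * h⁻¹ = xU chevE6 rs.2 (C.f ((a * a : Kˣ) : K) * u) := by
    obtain ⟨s0, s1, s2, s3, s4, s5, -⟩ := torus_tables
    simp only [List.mem_cons, List.not_mem_nil, or_false] at hrs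
    rcases hrs with rfl | rfl
    · refine ⟨_, (C.range_le (C.mem_range 1 a (map_one C.fu) (map_one C.fu))).2,
        fun u => ?_, fun u => ?_⟩
      · rw [hF.hT_conj_xU _ (by decide), ← s2, (char_six _ _ _ _ _ _).2.2.1]
        simp
      · rw [hF.hT_conj_xU _ (by decide), ← s4, (char_six _ _ _ _ _ _).2.2.2.2.1]
        simp
    · refine ⟨_, (C.range_le (C.mem_range a 1 (map_one C.fu) (map_one C.fu))).2,
        fun u => ?_, fun u => ?_⟩
      · rw [hF.hT_conj_xU _ (by decide), ← s0, (char_six _ _ _ _ _ _).1]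
        simp
      · rw [hF.hT_conj_xU _ (by decide), ← s5, (char_six _ _ _ _ _ _).2.2.2.2.2]
        simp
  have hne : ((a * a : Kˣ) : K) - 1 ≠ 0 := sub_ne_zero.2 fun e => ha (Units.ext (e.trans rfl))
  set χ : K := ((a * a : Kˣ) : K) with hχ
  set s : K := t / (χ - 1) with hsd
  have key := C.sys.inDer_commutator hG (C.two_mem hp s)
  have e1 : h * (xU chevE6 rs.1 s * xU chevE6 rs.2 (C.f s)) * h⁻¹ =
      xU chevE6 rs.1 (χ * s) * xU chevE6 rs.2 (C.f (χ * s)) := by
    rw [show ∀ x y : GL chevE6.Idx K, h * (x * y) * h⁻¹ = h * x * h⁻¹ * (h * y * h⁻¹) from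
      fun x y => by group, hr1, hs1, map_mul]
  have e2 : (xU chevE6 rs.1 s * xU chevE6 rs.2 (C.f s))⁻¹ =
      xU chevE6 rs.1 (-s) * xU chevE6 rs.2 (C.f (-s)) := by
    rw [mul_inv_rev, hF.xU_inv hr, hF.xU_inv hs, map_neg]
    exact A _ _
  rw [e1, e2, (A (C.f (χ * s)) (-s)).mul_mul_mul_comm, hF.xU_add hr, hF.xU_add hs, ← map_add,
    show χ * s + -s = t by rw [hsd]; field_simp; ring] at key
  simpa [wU, C.hf] using key

theorem Ctx.inDer_47 {c : K} (hc : C.f c = c) : C.sys.InDer (xU chevE6 47 c) := by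
  obtain ⟨r47, e47, c47, hne, hT', -, -⟩ := fixed_roots
  have h := C.sys.inDer_single (r := e6p4) (s := e6p2) (by decide) (by decide) hne.1 hne.2 hT'
    (C.one_mem (r := e6p4) (by simp) (t := (-1 : K)) (by rw [← C.hf, map_neg, map_one]))
    (C.one_mem (r := e6p2) (by simp) (t := c) ((C.hf c).symm.trans hc))
  simpa using h

theorem Ctx.inDer_single_root {r : ℕ} (o : Fin spec.length) (hr : r ∈ [e6p2, e6m2, e6p4, e6m4])
    (hw : ((O o).wO ⟨47, by decide⟩).val = r) {t : K} (ht : t ^ q = t) :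
    C.sys.InDer (wU chevE6 [(r, t)]) := by
  obtain ⟨r47, e47, c47, -⟩ := fixed_roots
  obtain ⟨c, hc0, hc, -⟩ := C.sys.nO_perm o ⟨47, by decide⟩
  rw [hw] at hc
  have hcancel : C.sys.nO o * xU chevE6 47 (t / c) * (C.sys.nO o)⁻¹ = xU chevE6 r t := by
    rw [hc, mul_div_cancel₀ _ hc0]
  have hnG := C.sys.nO_mem o
  have hin : xU chevE6 47 (t / c) ∈ twistedE6 K q := by
    have := Subgroup.mul_mem _ (Subgroup.mul_mem _ (Subgroup.inv_mem _ hnG) (C.one_mem hr ht)) hnG
    rwa [← hcancel, show (C.sys.nO o)⁻¹ * (C.sys.nO o * xU chevE6 47 (t / c) * (C.sys.nO o)⁻¹) *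
      C.sys.nO o = xU chevE6 47 (t / c) by group] at this
  have hfix := (C.sig.fix_single_iff c47 r47 e47 rfl _).1 (C.sys.le_fix hin)
  have := C.sys.inDer_conj (C.inDer_47 hfix) hnG
  rw [hcancel] at this
  simpa [wU] using this

theorem Ctx.perfect_twisted : commutator ↥(twistedE6 K q) = ⊤ := by
  refine C.sys.perfect (S := {g | ∃ w ∈ e6Words K q, g = wU chevE6 w}) C.gen_eq.le
    (fun g hg => C.gen_orbit hg) (fin_cases_spec ?_ ?_ ?_ ?_)
  · intro g hg h
    obtain ⟨t, ht, rfl⟩ := C.posO_single (r := e6p2) (by simp) coords.1 (C.sys.le_fix hg)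
      (rootClosure_mono (fun r hr => (posO_iff_list DataE6.chk_arrays pos_lists.1 r hr).1) h)
    refine C.inDer_single_root ⟨1, by decide⟩ (by simp) ?_ ht
    rw [Orb.wO, DataE6.facts.sW_val_foldr, words.2.1]
    exact fixed_roots.2.2.2.2.2.1
  · intro g hg h
    obtain ⟨t, ht, rfl⟩ := C.posO_single (r := e6p4) (by simp) coords.2.1 (C.sys.le_fix hg)
      (rootClosure_mono (fun r hr => (posO_iff_list DataE6.chk_arrays pos_lists.2.1 r hr).1) h)
    refine C.inDer_single_root ⟨0, by decide⟩ (by simp) ?_ ht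
    rw [Orb.wO, DataE6.facts.sW_val_foldr, words.1]
    exact fixed_roots.2.2.2.2.2.2
  · intro g hg h
    obtain ⟨t, rfl⟩ := C.posO_pair (rs := (e6p3, e6p5)) (by simp) coords.2.2.1 (C.sys.le_fix hg)
      (rootClosure_mono (fun r hr => (posO_iff_list DataE6.chk_arrays pos_lists.2.2.1 r hr).1) h)
    exact C.inDer_pair (rs := (e6p3, e6p5)) (by simp) t
  · intro g hg h
    obtain ⟨t, rfl⟩ := C.posO_pair (rs := (e6p1, e6p6)) (by simp) coords.2.2.2 (C.sys.le_fix hg)
      (rootClosure_mono (fun r hr => (posO_iff_list DataE6.chk_arrays pos_lists.2.2.2 r hr).1) h)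
    exact C.inDer_pair (rs := (e6p1, e6p6)) (by simp) t

theorem Ctx.simple_twisted :
    IsSimpleGroup ↥(twistedE6 K q) ∧ ¬ IsMulCommutative ↥(twistedE6 K q) := by
  obtain ⟨v, hv, -, hv1⟩ := C.sys.neg_ex ⟨0, by decide⟩
  exact C.sys.simple (fun h hh hc => C.sep hh hc) C.irr C.perfect_twisted ⟨v, hv, hv1⟩

end TwE6

end CfsgLib.Chev
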