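/-
The orbits and the fixed Weyl group of type ²F₄, generated from the tables of `Cfsg.Lie.chevF4`,
with their verification.
-/
import Cfsg.Agent.Lib.Chev.Twist.Enum
import Cfsg.Agent.Lib.Chev.Twist.Par

set_option autoImplicit false
set_option maxRecDepth 20000
set_option linter.all false
set_option Elab.async false

namespace CfsgLib.Chev.TwF4

open Cfsg.Lie CfsgLib.Chev.Table

/-- The orbits on the nodes, with a word for each longest element. -/
def spec : List (List ℕ × List ℕ) := [([0, 3], [0, 3]), ([1, 2], [1, 2, 1, 2])]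

/-- The fixed Weyl group. -/
def enum : Enum where
  size := 16
  img := (.node 8
 (.node 4
 (.node 2
 (.node 1
 (.leaf 6755506817007649)
 (.leaf 6474036135723022))
 (.node 3
 (.leaf 9007293745332261)
 (.leaf 4222257796939786)))
 (.node 6
 (.node 5
 (.leaf 12103514193723430)
 (.leaf 1126076002402313))
 (.node 7
 (.leaf 12666442672242727)
 (.leaf 563126048981000))))
 (.node 12
 (.node 10
 (.node 9
 (.leaf 12666399722962983)
 (.leaf 563083099701256))
 (.node 11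
 (.leaf 12103449769541670)
 (.leaf 1126011578220553)))
 (.node 14
 (.node 13
 (.leaf 9007267975004197)
 (.leaf 4222232026611722))
 (.node 15
 (.leaf 6755489636220961)
 (.leaf 6474018954936334)))))
  nxt := (.node 8
 (.node 4
 (.node 2
 (.node 1
 (.leaf 131073)
 (.leaf 196608))
 (.node 3
 (.leaf 4)
 (.leaf 65541)))
 (.node 6
 (.node 5
 (.leaf 393218)
 (.leaf 458755))
 (.node 7
 (.leaf 262152)
 (.leaf 327689))))
 (.node 12
 (.node 10
 (.node 9
 (.leaf 655366)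
 (.leaf 720903))
 (.node 11
 (.leaf 524300)
 (.leaf 589837)))
 (.node 14
 (.node 13
 (.leaf 917514)
 (.leaf 983051))
 (.node 15
 (.leaf 786447)
 (.leaf 851982)))))
  par := (.node 8
 (.node 4
 (.node 2
 (.node 1
 (.leaf 0)
 (.leaf 0))
 (.node 3
 (.leaf 1)
 (.leaf 17)))
 (.node 6
 (.node 5
 (.leaf 32)
 (.leaf 48))
 (.node 7
 (.leaf 65)
 (.leaf 81))))
 (.node 12
 (.node 10
 (.node 9
 (.leaf 96)
 (.leaf 112))
 (.node 11
 (.leaf 129)
 (.leaf 145)))
 (.node 14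
 (.node 13
 (.leaf 160)
 (.leaf 176))
 (.node 15
 (.leaf 193)
 (.leaf 209)))))
  len := (.node 8
 (.node 4
 (.node 2
 (.node 1
 (.leaf 0)
 (.leaf 2))
 (.node 3
 (.leaf 4)
 (.leaf 6)))
 (.node 6
 (.node 5
 (.leaf 6)
 (.leaf 8))
 (.node 7
 (.leaf 10)
 (.leaf 12))))
 (.node 12
 (.node 10
 (.node 9
 (.leaf 12)
 (.leaf 14))
 (.node 11
 (.leaf 16)
 (.leaf 18)))
 (.node 14
 (.node 13
 (.leaf 18)
 (.leaf 20))
 (.node 15
 (.leaf 22)
 (.leaf 24)))))
  rk := (.node 8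
 (.node 4
 (.node 2
 (.node 1
 (.leaf 9)
 (.leaf 7))
 (.node 3
 (.leaf 11)
 (.leaf 5)))
 (.node 6
 (.node 5
 (.leaf 13)
 (.leaf 3))
 (.node 7
 (.leaf 15)
 (.leaf 1))))
 (.node 12
 (.node 10
 (.node 9
 (.leaf 14)
 (.leaf 0))
 (.node 11
 (.leaf 12)
 (.leaf 2)))
 (.node 14
 (.node 13
 (.leaf 10)
 (.leaf 4))
 (.node 15
 (.leaf 8)
 (.leaf 6)))))
  pos := (.node 8
 (.node 4
 (.node 2
 (.node 1
 (.leaf 9)
 (.leaf 7))
 (.node 3
 (.leaf 11)
 (.leaf 5)))
 (.node 6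
 (.node 5
 (.leaf 13)
 (.leaf 3))
 (.node 7
 (.leaf 15)
 (.leaf 1))))
 (.node 12
 (.node 10
 (.node 9
 (.leaf 14)
 (.leaf 0))
 (.node 11
 (.leaf 12)
 (.leaf 2)))
 (.node 14
 (.node 13
 (.leaf 10)
 (.leaf 4))
 (.node 15
 (.leaf 8)
 (.leaf 6)))))
  wit := (.node 8
 (.node 4
 (.node 2
 (.node 1
 (.leaf 0)
 (.leaf 33))
 (.node 3
 (.leaf 27)
 (.leaf 34)))
 (.node 6
 (.node 5
 (.leaf 37)
 (.leaf 38))
 (.node 7
 (.leaf 35)
 (.leaf 29))))
 (.node 12
 (.node 10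
 (.node 9
 (.leaf 39)
 (.leaf 39))
 (.node 11
 (.leaf 29)
 (.leaf 35)))
 (.node 14
 (.node 13
 (.leaf 38)
 (.leaf 37))
 (.node 15
 (.leaf 34)
 (.leaf 27)))))

theorem orbs_chk : chkOrbs DataF4.tab parF4 spec = true := by decide +kernel

theorem enum_chk : enum.check DataF4.tab spec = true := by decide +kernel

/-- The family of orbits is good. -/
theorem orb_ok : OrbOK DataF4.co parF4 (mkOrbs chevF4 spec) :=
  orbOK_of_chk DataF4.chk_arrays DataF4.chk_chain DataF4.facts orbs_chk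

end CfsgLib.Chev.TwF4
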