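/-
The twisted groups of type ²F₄.
-/
import Mathlib
import Cfsg.Prelude.Def_LieTwisted
import Cfsg.Agent.Lib.Chev.Twist.Torus
import Cfsg.Agent.Lib.Chev.Twist.Simple
import Cfsg.Agent.Lib.Chev.Twist.DataF4

set_option autoImplicit false
set_option maxRecDepth 20000

namespace CfsgLib.Chev

open Cfsg.Lie

universe v

/-- The powers of the Frobenius of a finite field of given order. -/
theorem exists_frobPow {K : Type v} [Field K] [Fintype K] {p n : ℕ} (hp : p.Prime) (_hn : n ≠ 0)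
    (hK : Fintype.card K = p ^ n) (k : ℕ) :
    (p : K) = 0 ∧ ∃ f : K →+* K, ∀ t, f t = t ^ p ^ k := by
  obtain ⟨p', hch⟩ := CharP.exists K
  obtain ⟨m, hp', hcard⟩ := FiniteField.card K p'
  have : p' = p := by
    have h : p' ∣ p ^ n := by rw [← hK, hcard]; exact dvd_pow_self _ m.pos.ne'
    exact (Nat.prime_dvd_prime_iff_eq hp' hp).1 (hp'.dvd_of_dvd_pow h)
  subst this
  have : Fact p'.Prime := ⟨hp⟩
  exact ⟨CharP.cast_eq_zero K p', iterateFrobenius K p' k, fun t => by simp [iterateFrobenius_def]⟩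

namespace TwF4

variable {K : Type v} [Field K] [Fintype K] {m : ℕ}
  (hK : Fintype.card K = 2 ^ (2 * m + 1))

/-- The orbit family. -/
abbrev O : Fin spec.length → Orb chevF4 := mkOrbs chevF4 spec

/-- The field endomorphism and the endomorphism of the group. -/
structure Ctx (K : Type v) [Field K] [Fintype K] (m : ℕ) : Type v where
  f : K →+* K
  σ : ↥(chevF4.group K) →* GL chevF4.Idx K
  hf : ∀ t, f t = t ^ 2 ^ m
  two_eq_zero : (2 : K) = 0
  sig : Sig chevF4 DataF4.co parF4 f σ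
  card : Fintype.card K = 2 ^ (2 * m + 1)

include hK in
theorem nonempty_ctx : Nonempty (Ctx K m) := by
  obtain ⟨h0, f, hf⟩ := exists_frobPow (p := 2) Nat.prime_two (by omega) hK m
  have h2 : (2 : K) = 0 := by exact_mod_cast h0
  have hp : (parF4.p : K) = 0 := by
    rw [show parF4.p = 2 from rfl]; exact h0
  obtain ⟨⟨co, hF⟩, hC⟩ := good_F4.{v}
  have hN : HasNbr chevF4 := hasNbr_of_mem (by simp)
  have hinj : Function.Injective fun t : K => t ^ 2 := fun a b e => by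
    have h : (a - b) ^ 2 = 0 := by
      rw [show (a - b) ^ 2 = a ^ 2 - b ^ 2 + 2 * (b * b - a * b) by ring, h2, zero_mul, add_zero,
        sub_eq_zero]
      exact e
    exact sub_eq_zero.1 (pow_eq_zero_iff two_ne_zero |>.1 h)
  have hs : ∀ r < chevF4.nroots, Function.Surjective (parF4.coef f r) := fun r hr => by
    refine Finite.surjective_of_injective fun a b e => ?_
    have hl : parF4.lam r = 1 ∨ parF4.lam r = 2 := (parF4_ok.lam_ok r hr).imp_right fun h => h.1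
    have he : (parF4.eps r : K) ≠ 0 := by
      rcases parF4_ok.eps_pm r hr with h | h <;> simp [h]
    have e' := mul_left_cancel₀ he e
    rcases hl with h | h <;> rw [h] at e'
    · rw [pow_one, pow_one] at e'; exact f.injective e'
    · exact f.injective (hinj e')
  obtain ⟨σ, hσ⟩ := DataF4.facts.exists_sigma hC hN parF4_ok f hp hs
  exact ⟨⟨f, σ, hf, h2, ⟨DataF4.facts, hC, parF4_ok, hp, hσ⟩, hK⟩⟩

theorem pair_tables :
    ∀ rs ∈ [(f4p1, f4p4), (f4m1, f4m4)],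
      rs.1 < chevF4.nroots ∧ rs.2 < chevF4.nroots ∧ parF4.rho rs.1 = rs.2 ∧
      parF4.rho rs.2 = rs.1 ∧ parF4.eps rs.1 = 1 ∧ parF4.eps rs.2 = 1 ∧
      parF4.lam rs.1 = 2 ∧ parF4.lam rs.2 = 1 ∧ parF4.commB chevF4 rs.1 rs.2 = true := by
  decide +kernel

/-- The two classes of type B₂. -/
def classes : List (ℕ × ℕ × ℕ × ℕ) :=
  [(f4a, f4b, f4ab, f4aab), (f4ma, f4mb, f4mab, f4maab)]

theorem class_tables :
    ∀ c ∈ classes,
      (c.1 < chevF4.nroots ∧ c.2.1 < chevF4.nroots ∧ c.2.2.1 < chevF4.nroots ∧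
        c.2.2.2 < chevF4.nroots) ∧
      (parF4.rho c.1 = c.2.1 ∧ parF4.rho c.2.1 = c.1 ∧ parF4.rho c.2.2.1 = c.2.2.2 ∧
        parF4.rho c.2.2.2 = c.2.2.1) ∧
      (parF4.eps c.1 = 1 ∧ parF4.eps c.2.1 = 1 ∧ parF4.eps c.2.2.1 = 1 ∧ parF4.eps c.2.2.2 = 1) ∧
      (parF4.lam c.1 = 2 ∧ parF4.lam c.2.1 = 1 ∧ parF4.lam c.2.2.1 = 2 ∧ parF4.lam c.2.2.2 = 1) ∧
      (parF4.commB chevF4 c.1 c.2.2.1 = true ∧ parF4.commB chevF4 c.1 c.2.2.2 = true ∧
        parF4.commB chevF4 c.2.1 c.2.2.1 = true ∧ parF4.commB chevF4 c.2.1 c.2.2.2 = true ∧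
        parF4.commB chevF4 c.2.2.1 c.2.2.2 = true) ∧
      (c.2.1 ≠ c.1 ∧ c.2.1 ≠ chevF4.neg c.1) ∧
      (chevF4.commTerms c.1 c.2.1).map (fun x => (x.1, x.2.1 % 2, x.2.2)) =
        [(c.2.2.1, 1, (1, 1)), (c.2.2.2, 1, (2, 1))] := by
  decide +kernel

theorem coords : coordB chevF4 [f4p1, f4p4] = true ∧
    coordB chevF4 [f4a, f4b, f4ab, f4aab] = true := by
  decide +kernel

theorem pos_lists : chkPosList DataF4.tab [0, 3] [f4p1, f4p4] = true ∧
    chkPosList DataF4.tab [1, 2] [f4a, f4b, f4ab, f4aab] = true := by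
  decide +kernel

theorem neg_lists : chkNegList DataF4.tab [0, 3] [f4m1, f4m4] = true ∧
    chkNegList DataF4.tab [1, 2] [f4ma, f4mb, f4mab, f4maab] = true := by
  decide +kernel

theorem fin_cases_spec {p : Fin spec.length → Prop} (h0 : p ⟨0, by decide⟩)
    (h1 : p ⟨1, by decide⟩) : ∀ o, p o := by
  rintro ⟨o, ho⟩
  have : o < 2 := ho
  interval_cases o
  exacts [h0, h1]

theorem flips : ∀ o : Fin spec.length,
    Table.flipW DataF4.tab ((O o).word.map Fin.val) = if o.val < 1 then 2 else 4 := by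
  decide +kernel

variable (C : Ctx K m)
include C

theorem Ctx.theta (t : K) : C.f (C.f t) ^ 2 = t := by
  rw [C.hf, C.hf, ← pow_mul, ← pow_mul, show 2 ^ m * (2 ^ m * 2) = 2 ^ (2 * m + 1) by ring, ← C.card]
  exact FiniteField.pow_card t

theorem Ctx.theta' (t : K) : C.f (C.f t ^ 2) = t := by
  rw [map_pow, C.theta]

theorem Ctx.add_self (t : K) : t + t = 0 := by
  rw [← two_mul, C.two_eq_zero, zero_mul]

theorem Ctx.neg_eq (t : K) : -t = t := neg_eq_of_add_eq_zero_right (C.add_self t)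

theorem Ctx.intCast_odd {z : ℤ} (h : z % 2 = 1) : (z : K) = 1 := by
  rw [← Int.emod_add_ediv_mul z 2, h]
  push_cast
  rw [C.two_eq_zero, mul_zero, add_zero]

/-- The image of a pair word. -/
theorem Ctx.img_pair {rs : ℕ × ℕ} (h : rs ∈ [(f4p1, f4p4), (f4m1, f4m4)]) (x y : K) :
    Img C.σ (wU chevF4 [(rs.1, x), (rs.2, y)]) (wU chevF4 [(rs.1, C.f y), (rs.2, C.f x ^ 2)]) := by
  obtain ⟨hr, hs, p1, p2, e1, e2, l1, l2, hc⟩ := pair_tables rs h
  have hi := (C.sig.img_xU hr x).mul (C.sig.img_xU hs y)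
  rw [p1, p2, show parF4.coef C.f rs.1 x = C.f x ^ 2 by simp [TwPar.coef, e1, l1],
    show parF4.coef C.f rs.2 y = C.f y by simp [TwPar.coef, e2, l2],
    ← (C.sig.commute_xU hr hs hc (C.f y) (C.f x ^ 2)).eq] at hi
  simpa [wU] using hi

/-- The two bottom elements of a class, in the opposite order. -/
theorem Ctx.swap_ab {c : ℕ × ℕ × ℕ × ℕ} (hc : c ∈ classes) (A B : K) :
    xU chevF4 c.2.1 B * xU chevF4 c.1 A = xU chevF4 c.1 A * xU chevF4 c.2.1 B *
      (xU chevF4 c.2.2.1 (A * B) * xU chevF4 c.2.2.2 (A ^ 2 * B)) := by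
  obtain ⟨⟨ha, hb, -⟩, -, -, -, -, ⟨hne, hneg⟩, hT⟩ := class_tables c hc
  rw [DataF4.facts.xU_comm C.sig.hC ha hb hne hneg A B]
  congr 1
  simp only [cwR]
  generalize chevF4.commTerms c.1 c.2.1 = L at hT ⊢
  rcases L with - | ⟨⟨k1, z1, i1, j1⟩, - | ⟨⟨k2, z2, i2, j2⟩, - | ⟨_, _⟩⟩⟩ <;> simp at hT
  obtain ⟨⟨rfl, h1, rfl, rfl⟩, rfl, h2, rfl, rfl⟩ := hT
  simp [wU, C.intCast_odd h1, C.intCast_odd h2, C.neg_eq]

/-- The image of a class word. -/
theorem Ctx.img_class {c : ℕ × ℕ × ℕ × ℕ} (hc : c ∈ classes) (x y v w : K) :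
    Img C.σ (wU chevF4 [(c.1, x), (c.2.1, y), (c.2.2.1, v), (c.2.2.2, w)])
      (wU chevF4 [(c.1, C.f y), (c.2.1, C.f x ^ 2), (c.2.2.1, C.f y * C.f x ^ 2 + C.f w),
        (c.2.2.2, C.f y ^ 2 * C.f x ^ 2 + C.f v ^ 2)]) := by
  obtain ⟨⟨ha, hb, hab, haab⟩, ⟨r1, r2, r3, r4⟩, ⟨e1, e2, e3, e4⟩, ⟨l1, l2, l3, l4⟩,
    ⟨-, -, -, -, k34⟩, -, -⟩ := class_tables c hc
  have hi := ((C.sig.img_xU ha x).mul (C.sig.img_xU hb y)).mul
    ((C.sig.img_xU hab v).mul (C.sig.img_xU haab w))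
  rw [r1, r2, r3, r4, show parF4.coef C.f c.1 x = C.f x ^ 2 by simp [TwPar.coef, e1, l1],
    show parF4.coef C.f c.2.1 y = C.f y by simp [TwPar.coef, e2, l2],
    show parF4.coef C.f c.2.2.1 v = C.f v ^ 2 by simp [TwPar.coef, e3, l3],
    show parF4.coef C.f c.2.2.2 w = C.f w by simp [TwPar.coef, e4, l4],
    C.swap_ab hc] at hi
  have hcm : ∀ s t : K, Commute (xU chevF4 c.2.2.2 s) (xU chevF4 c.2.2.1 t) := fun s t =>
    (C.sig.commute_xU hab haab k34 t s).symm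
  rw [(hcm (C.f v ^ 2) (C.f w)).eq, mul_assoc (xU chevF4 c.1 _ * _),
    (hcm (C.f y ^ 2 * C.f x ^ 2) (C.f w)).mul_mul_mul_comm,
    DataF4.facts.xU_add hab, DataF4.facts.xU_add haab] at hi
  simpa [wU, mul_assoc] using hi

theorem Ctx.pair_fixed {rs : ℕ × ℕ} (h : rs ∈ [(f4p1, f4p4), (f4m1, f4m4)]) (t : K) :
    wU chevF4 [(rs.1, t ^ 2 ^ m), (rs.2, t)] ∈ fixS C.σ := by
  have hi := C.img_pair h (C.f t) t
  rw [C.theta, C.hf] at hi
  exact mem_fixS.2 hi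

theorem Ctx.class_fixed {c : ℕ × ℕ × ℕ × ℕ} (hc : c ∈ classes) (t u : K) :
    wU chevF4 (b2ClassWord (2 ^ m) c.1 c.2.1 c.2.2.1 c.2.2.2 t u) ∈ fixS C.σ := by
  have hi := C.img_class hc (C.f t) t (C.f t * t + u) (C.f u ^ 2)
  rw [C.theta, C.theta', map_add, map_mul,
    show ∀ a b : K, C.f t ^ 2 * t + (a * b + C.f u) ^ 2 = (C.f t ^ 2 * t + a ^ 2 * b ^ 2) + C.f u ^ 2 from
      fun a b => by linear_combination a * b * C.f u * C.two_eq_zero,
    C.theta, mul_comm t (C.f t ^ 2), C.add_self, zero_add] at hi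
  rw [mem_fixS]
  convert hi using 3 <;> simp [b2ClassWord, pow_succ, C.hf, pow_mul, mul_comm 2]

theorem Ctx.fix_pair {g : GL chevF4.Idx K} (hg : g ∈ fixS C.σ)
    (h : g ∈ rootClosure chevF4 K (· ∈ [f4p1, f4p4])) :
    ∃ t : K, g = wU chevF4 [(f4p1, t ^ 2 ^ m), (f4p4, t)] := by
  obtain ⟨ts, hts, rfl⟩ := DataF4.facts.exists_coords C.sig.hC coords.1 g h
  obtain ⟨x, y, rfl⟩ := List.length_eq_two.1 hts
  have e := (C.img_pair (rs := (f4p1, f4p4)) (by simp) x y).unique (mem_fixS.1 hg)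
  have := DataF4.facts.coords_unique C.sig.hC coords.1 (ts := [C.f y, C.f x ^ 2]) (ts' := [x, y])
    rfl rfl e
  simp only [List.cons.injEq, and_true] at this
  exact ⟨y, by rw [← C.hf, this.1]; rfl⟩

theorem Ctx.fix_class {g : GL chevF4.Idx K} (hg : g ∈ fixS C.σ)
    (h : g ∈ rootClosure chevF4 K (· ∈ [f4a, f4b, f4ab, f4aab])) :
    ∃ t u : K, g = wU chevF4 (b2ClassWord (2 ^ m) f4a f4b f4ab f4aab t u) := by
  obtain ⟨ts, hts, rfl⟩ := DataF4.facts.exists_coords C.sig.hC coords.2 g h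
  rcases ts with - | ⟨x, - | ⟨y, - | ⟨v, - | ⟨w, - | ⟨_, _⟩⟩⟩⟩⟩ <;> simp at hts
  have e := (C.img_class (c := (f4a, f4b, f4ab, f4aab)) (by simp [classes]) x y v w).unique
    (mem_fixS.1 hg)
  have := DataF4.facts.coords_unique C.sig.hC coords.2
    (ts := [C.f y, C.f x ^ 2, C.f y * C.f x ^ 2 + C.f w, C.f y ^ 2 * C.f x ^ 2 + C.f v ^ 2])
    (ts' := [x, y, v, w]) rfl rfl e
  simp only [List.cons.injEq, and_true] at this
  obtain ⟨hx, hy, hv, -⟩ := this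
  refine ⟨y, C.f w, ?_⟩
  rw [hy] at hv
  have e2 : y ^ (2 ^ m + 1) + C.f w = v := by rw [pow_succ, ← C.hf]; exact hv
  have e3 : C.f w ^ (2 * 2 ^ m) = w := by rw [mul_comm, pow_mul, ← C.hf, C.theta]
  simp only [b2ClassWord, e2, e3, ← C.hf y, hx]
  rfl

theorem Ctx.gen_fixed : ∀ w ∈ f4Words K (2 ^ m), wU chevF4 w ∈ fixS C.σ ∧
    (∀ p ∈ w, p.1 < chevF4.nroots) := by
  rintro w (⟨t, rfl | rfl⟩ | ⟨t, u, rfl | rfl⟩)
  · exact ⟨C.pair_fixed (rs := (f4p1, f4p4)) (by simp) t, by simp [f4PairWord]; decide⟩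
  · exact ⟨C.pair_fixed (rs := (f4m1, f4m4)) (by simp) t, by simp [f4PairWord]; decide⟩
  · exact ⟨C.class_fixed (c := (f4a, f4b, f4ab, f4aab)) (by simp [classes]) t u,
      by simp [b2ClassWord]; decide⟩
  · exact ⟨C.class_fixed (c := (f4ma, f4mb, f4mab, f4maab)) (by simp [classes]) t u,
      by simp [b2ClassWord]; decide⟩

theorem Ctx.mem_gen {w : List (ℕ × K)} (hw : w ∈ f4Words K (2 ^ m)) :
    wU chevF4 w ∈ twistedF4 K (2 ^ m) :=
  Subgroup.subset_closure ⟨w, hw, DataF4.facts.wU_val (C.gen_fixed w hw).2⟩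

theorem Ctx.gen_eq : twistedF4 K (2 ^ m) =
    Subgroup.closure {g | ∃ w ∈ f4Words K (2 ^ m), g = wU chevF4 w} := by
  refine congrArg Subgroup.closure (Set.ext fun g => ?_)
  refine exists_congr fun w => and_congr_right fun hw => ?_
  rw [← DataF4.facts.wU_val (C.gen_fixed w hw).2, Units.val_inj]

/-- The twisted group satisfies the standing hypotheses. -/
theorem Ctx.sys : TwSys chevF4 DataF4.co parF4 C.f C.σ O (twistedF4 K (2 ^ m)) where
  sig := C.sig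
  orb := orb_ok
  le_fix := by
    rw [C.gen_eq, Subgroup.closure_le]
    rintro g ⟨w, hw, rfl⟩
    exact (C.gen_fixed w hw).1
  posO_le := by
    refine fin_cases_spec ?_ ?_
    · rintro g ⟨hg, h⟩
      obtain ⟨t, rfl⟩ := C.fix_pair hg
        (rootClosure_mono (fun r hr => (posO_iff_list DataF4.chk_arrays pos_lists.1 r hr).1) h)
      exact C.mem_gen (Or.inl ⟨t, Or.inl rfl⟩)
    · rintro g ⟨hg, h⟩
      obtain ⟨t, u, rfl⟩ := C.fix_class hg
        (rootClosure_mono (fun r hr => (posO_iff_list DataF4.chk_arrays pos_lists.2 r hr).1) h)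
      exact C.mem_gen (Or.inr ⟨t, u, Or.inl rfl⟩)
  neg_ex := by
    refine fin_cases_spec ?_ ?_
    · refine ⟨wU chevF4 (f4PairWord (2 ^ m) f4m1 f4m4 1),
        C.mem_gen (Or.inl ⟨1, Or.inr rfl⟩), ?_, ?_⟩
      · exact rootClosure_mono
          (fun r hr h => (negO_iff_list DataF4.chk_arrays neg_lists.1 r hr).2 h)
          (Facts.wU_mem_closure (L := [f4m1, f4m4]) (ts := [(1 : K) ^ 2 ^ m, 1]) (by decide +kernel))
      · exact DataF4.facts.word_ne_one' C.sig.hC [⟨0, by decide⟩, ⟨3, by decide⟩]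
          [⟨f4m1, by decide⟩, ⟨f4m4, by decide⟩]
          (by decide +kernel) (ts := [(1 : K)]) rfl (pow_ne_zero _ one_ne_zero)
    · refine ⟨wU chevF4 (b2ClassWord (2 ^ m) f4ma f4mb f4mab f4maab 1 0),
        C.mem_gen (Or.inr ⟨1, 0, Or.inr rfl⟩), ?_, ?_⟩
      · exact rootClosure_mono
          (fun r hr h => (negO_iff_list DataF4.chk_arrays neg_lists.2 r hr).2 h)
          (Facts.wU_mem_closure (L := [f4ma, f4mb, f4mab, f4maab])
            (ts := [(1 : K) ^ 2 ^ m, 1, 1 ^ (2 ^ m + 1) + 0, 0 ^ (2 * 2 ^ m)]) (by decide +kernel))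
      · exact DataF4.facts.word_ne_one' C.sig.hC
          [⟨1, by decide⟩, ⟨2, by decide⟩, ⟨1, by decide⟩, ⟨2, by decide⟩]
          [⟨f4ma, by decide⟩, ⟨f4mb, by decide⟩, ⟨f4mab, by decide⟩, ⟨f4maab, by decide⟩]
          (by decide +kernel) (ts := [(1 : K), 1 ^ (2 ^ m + 1) + 0, 0 ^ (2 * 2 ^ m)]) rfl
          (pow_ne_zero _ one_ne_zero)

theorem Ctx.card_orbit :
    ∀ o, Nat.card ↥(C.sys.fixU (O o).wO) ^ 2 = (2 ^ (2 * m + 1)) ^ flipNum (O o).wO := by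
  intro o
  have hfl : flipNum (O o).wO = if o.val < 1 then 2 else 4 := by
    rw [Orb.wO, flipW_eq DataF4.chk_arrays DataF4.chk_chain DataF4.facts]
    exact flips o
  rw [C.sys.fixU_wO, hfl]
  revert o
  refine fin_cases_spec (fun _ => ?_) (fun _ => ?_) <;>
    simp only [Nat.reduceLT, if_true, if_false]
  · congr 1
    rw [show rootClosure chevF4 K ((O ⟨0, by decide⟩).posO DataF4.co) =
      rootClosure chevF4 K (· ∈ [f4p1, f4p4]) from
        rootClosure_congr (posO_iff_list DataF4.chk_arrays (p := ([0, 3], [0, 3])) pos_lists.1),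
      ← C.card, ← Nat.card_eq_fintype_card]
    refine (Nat.card_eq_of_bijective (fun t : K =>
      (⟨wU chevF4 [(f4p1, t ^ 2 ^ m), (f4p4, t)], C.pair_fixed (rs := (f4p1, f4p4)) (by simp) t,
        Facts.wU_mem_closure (L := [f4p1, f4p4]) (ts := [t ^ 2 ^ m, t]) (by decide +kernel)⟩ :
        ↥(fixS C.σ ⊓ rootClosure chevF4 K (· ∈ [f4p1, f4p4]) : Subgroup (GL chevF4.Idx K))))
      ⟨?_, ?_⟩).symm
    · intro a b e
      have := DataF4.facts.coords_unique C.sig.hC coords.1 (ts := [a ^ 2 ^ m, a])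
        (ts' := [b ^ 2 ^ m, b]) rfl rfl (congrArg Subtype.val e)
      simp only [List.cons.injEq, and_true] at this
      exact this.2
    · rintro ⟨g, hg, h⟩
      obtain ⟨t, rfl⟩ := C.fix_pair hg h
      exact ⟨t, rfl⟩
  · rw [show (2 ^ (2 * m + 1)) ^ 4 = ((2 ^ (2 * m + 1)) ^ 2) ^ 2 by ring]
    congr 1
    rw [show rootClosure chevF4 K ((O ⟨1, by decide⟩).posO DataF4.co) =
      rootClosure chevF4 K (· ∈ [f4a, f4b, f4ab, f4aab]) from
        rootClosure_congr (posO_iff_list DataF4.chk_arrays (p := ([1, 2], [1, 2, 1, 2])) pos_lists.2),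
      sq (2 ^ (2 * m + 1)), ← C.card, ← Nat.card_eq_fintype_card, ← Nat.card_prod]
    refine (Nat.card_eq_of_bijective (fun p : K × K =>
      (⟨wU chevF4 (b2ClassWord (2 ^ m) f4a f4b f4ab f4aab p.1 p.2),
        C.class_fixed (c := (f4a, f4b, f4ab, f4aab)) (by simp [classes]) p.1 p.2,
        Facts.wU_mem_closure (L := [f4a, f4b, f4ab, f4aab])
          (ts := [p.1 ^ 2 ^ m, p.1, p.1 ^ (2 ^ m + 1) + p.2, p.2 ^ (2 * 2 ^ m)])
          (by decide +kernel)⟩ :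
        ↥(fixS C.σ ⊓ rootClosure chevF4 K (· ∈ [f4a, f4b, f4ab, f4aab]) :
          Subgroup (GL chevF4.Idx K))))
      ⟨?_, ?_⟩).symm
    · intro a b e
      have := DataF4.facts.coords_unique C.sig.hC coords.2
        (ts := [a.1 ^ 2 ^ m, a.1, a.1 ^ (2 ^ m + 1) + a.2, a.2 ^ (2 * 2 ^ m)])
        (ts' := [b.1 ^ 2 ^ m, b.1, b.1 ^ (2 ^ m + 1) + b.2, b.2 ^ (2 * 2 ^ m)]) rfl rfl
        (congrArg Subtype.val e)
      simp only [List.cons.injEq, and_true] at this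
      obtain ⟨-, h1, h2, -⟩ := this
      refine Prod.ext h1 ?_
      rw [h1] at h2
      exact add_left_cancel h2
    · rintro ⟨g, hg, h⟩
      obtain ⟨t, u, rfl⟩ := C.fix_class hg h
      exact ⟨(t, u), rfl⟩

theorem Ctx.sep {h : GL chevF4.Idx K} (hh : h ∈ chevF4.diagonalSubgroup K)
    (hc : ∀ g, g ∈ twistedF4 K (2 ^ m) → g ∈ rootClosure chevF4 K (chevF4.nroots / 2 ≤ ·) →
      h * g = g * h) : h = 1 := by
  obtain ⟨c, rfl⟩ := DataF4.facts.mem_diagonal_iff.1 hh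
  refine DataF4.facts.hT_eq_one_of_simple c fun i hi => ?_
  have key : ∀ (L : List ℕ) (ts : List K), coordB chevF4 L = true → ts.length = L.length →
      L.zip ts ∈ f4Words K (2 ^ m) → ∀ p ∈ L.zip ts, p.2 ≠ 0 →
      ((∏ i ∈ Finset.range chevF4.rank, c i ^ chevF4.cartan i p.1 : Kˣ) : K) = 1 :=
    fun L ts hL hts hw p hp hne => DataF4.facts.char_eq_one C.sig.hC hL hts c
      (hc _ (C.mem_gen hw) (rootClosure_mono (fun r _ h => (Facts.coord_lt hL r h).2)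
        (Facts.wU_mem_closure fun r hr => (Facts.coord_lt hL r hr).1))) p hp hne
  have hP := key [f4p1, f4p4] [1 ^ 2 ^ m, 1] coords.1 rfl (Or.inl ⟨1, Or.inl rfl⟩)
  have hB := key [f4a, f4b, f4ab, f4aab] [1 ^ 2 ^ m, 1, 1 ^ (2 ^ m + 1) + 0, 0 ^ (2 * 2 ^ m)]
    coords.2 rfl (Or.inr ⟨1, 0, Or.inl rfl⟩)
  have : i < 4 := hi
  interval_cases i
  · exact hP (f4p1, 1 ^ 2 ^ m) (by simp) (by simp)
  · exact hB (f4a, 1 ^ 2 ^ m) (by simp) (by simp)
  · exact hB (f4b, 1) (by simp) one_ne_zero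
  · exact hP (f4p4, 1) (by simp) one_ne_zero

end TwF4

end CfsgLib.Chev
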