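/-
The torus, order, simplicity and Weyl group of the groups of type ²F₄.
-/
import Mathlib
import Cfsg.Agent.Lib.Chev.Twist.F4
import Cfsg.Agent.Lib.Chev.Twist.E6Torus
import Cfsg.Agent.Lib.Chev.Twist.Cox
import Cfsg.Agent.Lib.Chev.Twist.Hist

set_option autoImplicit false
set_option maxRecDepth 20000
set_option Elab.async false

namespace CfsgLib.Chev

open Cfsg.Lie

universe v

/-- A group generated by two involutions is dihedral. -/
theorem exists_dihedral_equiv {W : Type*} [Group W] {s t : W} {n : ℕ} (hn : 3 ≤ n)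
    (hs : s * s = 1) (ht : t * t = 1) (ho : orderOf (s * t) = n)
    (hgen : Subgroup.closure ({s, t} : Set W) = ⊤) : Nonempty (DihedralGroup n ≃* W) := by
  have : NeZero n := ⟨by omega⟩
  set a := s * t with ha
  let p : ZMod n → W := fun i => a ^ i.val
  have hmod : ∀ k : ℕ, p (k : ZMod n) = a ^ k := fun k => by
    simp only [p, ZMod.val_natCast, ← ho]
    exact pow_mod_orderOf a k
  have padd : ∀ i j, p (i + j) = p i * p j := fun i j => by
    rw [← ZMod.natCast_zmod_val i, ← ZMod.natCast_zmod_val j, ← Nat.cast_add, hmod, hmod, hmod,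
      pow_add]
  have hp0 : p 0 = 1 := by rw [← Nat.cast_zero, hmod, pow_zero]
  have pneg : ∀ i, p (-i) = (p i)⁻¹ := fun i => by
    refine eq_inv_of_mul_eq_one_left ?_
    rw [← padd, neg_add_cancel, hp0]
  have hsinv : s⁻¹ = s := inv_eq_of_mul_eq_one_right hs
  have hflip : ∀ i, s * p i * s = (p i)⁻¹ := by
    intro i
    have h1 : s * a * s⁻¹ = a⁻¹ := by
      rw [hsinv, ha, mul_inv_rev, hsinv, inv_eq_of_mul_eq_one_right ht, ← mul_assoc s, hs, one_mul]
    have h2 : s * p i * s⁻¹ = (s * a * s⁻¹) ^ i.val := (conj_pow).symm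
    rw [hsinv] at h2
    rw [h2, ← hsinv, hsinv]
    rw [hsinv] at h1
    rw [h1, inv_pow]
  have hswap : ∀ i, p i * s = s * p (-i) := fun i => by
    rw [pneg, ← hflip, ← mul_assoc, ← mul_assoc, hs, one_mul]
  let ψ : DihedralGroup n →* W := MonoidHom.mk'
    (fun g => match g with
      | DihedralGroup.r i => p i
      | DihedralGroup.sr i => s * p i)
    (by
      rintro (i | i) (j | j)
      · show p (i + j) = p i * p j
        exact padd i j
      · show s * p (j - i) = p i * (s * p j)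
        rw [← mul_assoc, hswap, mul_assoc, ← padd, neg_add_eq_sub]
      · show s * p (i + j) = s * p i * p j
        rw [padd, mul_assoc]
      · show p (j - i) = s * p i * (s * p j)
        rw [mul_assoc, ← mul_assoc (p i), hswap, ← mul_assoc, ← mul_assoc, hs, one_mul, ← padd,
          neg_add_eq_sub])
  refine ⟨MulEquiv.ofBijective ψ ⟨?_, ?_⟩⟩
  · rw [injective_iff_map_eq_one]
    rintro (i | i) h
    · have h' : a ^ i.val = 1 := h
      have := orderOf_dvd_of_pow_eq_one h'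
      rw [ho] at this
      have h0 : i.val = 0 := Nat.eq_zero_of_dvd_of_lt this (ZMod.val_lt i)
      rw [show i = 0 from (ZMod.val_eq_zero i).1 h0]
      rfl
    · exfalso
      have h' : s * p i = 1 := h
      have e : s = (p i)⁻¹ := eq_inv_of_mul_eq_one_left h'
      have hc : Commute s a := by
        rw [e]
        exact ((Commute.refl a).pow_left i.val).inv_left
      have h2 : a * a = 1 := by
        calc a * a = a * s * t := by rw [mul_assoc a s t, ← ha]
          _ = s * a * t := by rw [hc.eq]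
          _ = 1 := by rw [ha, ← mul_assoc, hs, one_mul, ht]
      have := orderOf_dvd_of_pow_eq_one (show a ^ 2 = 1 by rw [sq, h2])
      rw [ho] at this
      have := Nat.le_of_dvd two_pos this
      omega
  · rw [← MonoidHom.range_eq_top, eq_top_iff, ← hgen, Subgroup.closure_le]
    rintro x (rfl | rfl)
    · exact ⟨DihedralGroup.sr 0, show x * p 0 = x by rw [hp0, mul_one]⟩
    · refine ⟨DihedralGroup.sr ((1 : ℕ) : ZMod n), show s * p _ = x from ?_⟩
      rw [hmod, pow_one, ha, ← mul_assoc, hs, one_mul]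

namespace TwF4

theorem torus_tables : chevF4.simple 0 = f4p1 ∧ chevF4.simple 1 = f4a ∧
    chevF4.simple 2 = f4b ∧ chevF4.simple 3 = f4p4 ∧ parF4.pi 0 = 3 ∧ parF4.pi 1 = 2 ∧
    parF4.pi 2 = 1 ∧ parF4.pi 3 = 0 ∧ chevF4.rank = 4 ∧ parF4.lam f4p1 = 2 ∧ parF4.lam f4a = 2 ∧
    parF4.lam f4b = 1 ∧ parF4.lam f4p4 = 1 := by
  decide +kernel

/-- The Cartan matrix of type F₄. -/
def cart : List (List ℤ) := [[2, -1, 0, 0], [-1, 2, -1, 0], [0, -2, 2, -1], [0, 0, -1, 2]]

theorem cart_eq : ∀ i < 4, ∀ j < 4,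
    chevF4.cartan j (chevF4.simple i) = (cart.getD i []).getD j 0 := by
  decide +kernel

theorem cart_high : ∀ j < 4, chevF4.cartan j f4ab = chevF4.cartan j f4a + chevF4.cartan j f4b ∧
    chevF4.cartan j f4aab = 2 * chevF4.cartan j f4a + chevF4.cartan j f4b := by
  decide +kernel

theorem pair_cross :
    parF4.commB chevF4 f4p4 f4p1 = true ∧ parF4.commB chevF4 f4p4 f4m1 = true ∧
    parF4.commB chevF4 f4m4 f4p1 = true ∧ parF4.commB chevF4 f4m4 f4m1 = true ∧
    chevF4.neg f4p1 = f4m1 ∧ chevF4.neg f4p4 = f4m4 := by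
  decide +kernel

theorem class_word : (O ⟨1, by decide⟩).word =
    [⟨1, by decide⟩, ⟨2, by decide⟩, ⟨1, by decide⟩, ⟨2, by decide⟩] := by
  decide +kernel

theorem orders : ∀ o o' : Fin spec.length,
    Table.chkOrder DataF4.tab (((O o).word ++ (O o').word).map Fin.val)
      (if o = o' then 1 else 8) = true := by
  decide +kernel

theorem lens_even : Table.allBelow enum.size (fun a => enum.len.get a % 2 == 0) = true := by
  decide +kernel

theorem hist_chk : Table.allBelow enum.size (fun a => Nat.blt (enum.len.get a / 2) 13) = true := by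
  decide +kernel

theorem hist_vals : (List.range 13).map
      (fun d => Table.countBelow enum.size fun a => enum.len.get a / 2 == d) =
    [1, 1, 1, 2, 1, 1, 2, 1, 1, 2, 1, 1, 1] := by
  decide +kernel

variable {K : Type v} [Field K] [Fintype K] {m : ℕ} (C : Ctx K m)

/-- Four values as a sequence. -/
def four (a b c d : Kˣ) : ℕ → Kˣ
  | 0 => a
  | 1 => b
  | 2 => c
  | 3 => d
  | _ => 1

omit [Fintype K] in
theorem char_four (a b c d : Kˣ) :
    (∏ j ∈ Finset.range chevF4.rank, four a b c d j ^ chevF4.cartan j (chevF4.simple 0) =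
      a * a / b) ∧
    (∏ j ∈ Finset.range chevF4.rank, four a b c d j ^ chevF4.cartan j (chevF4.simple 1) =
      b * b / (a * c)) ∧
    (∏ j ∈ Finset.range chevF4.rank, four a b c d j ^ chevF4.cartan j (chevF4.simple 2) =
      c * c / (b * b * d)) ∧
    (∏ j ∈ Finset.range chevF4.rank, four a b c d j ^ chevF4.cartan j (chevF4.simple 3) =
      d * d / c) := by
  rw [show chevF4.rank = 4 from torus_tables.2.2.2.2.2.2.2.2.1]
  refine ⟨?_, ?_, ?_, ?_⟩ <;>
    simp (config := { decide := true }) [Finset.prod_range_succ, cart_eq, cart, four, sq,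
      div_eq_mul_inv, mul_comm, mul_left_comm, mul_assoc]

omit [Fintype K] in
theorem four_eta (c : ℕ → Kˣ) : hT chevF4 c = hT chevF4 (four (c 0) (c 1) (c 2) (c 3)) :=
  DataF4.facts.hT_congr fun i hi => by
    have : i < 4 := hi
    interval_cases i <;> rfl

omit [Fintype K] in
theorem four_inj {a b c d a' b' c' d' : Kˣ}
    (h : hT chevF4 (four a b c d) = hT chevF4 (four a' b' c' d')) :
    a = a' ∧ b = b' ∧ c = c' ∧ d = d' := by
  have hF := DataF4.facts
  have h4 : chevF4.rank = 4 := torus_tables.2.2.2.2.2.2.2.2.1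
  obtain ⟨e0, e1, e2, e3⟩ := char_four (a / a') (b / b') (c / c') (d / d')
  have key : ∀ i < 4, ∏ j ∈ Finset.range chevF4.rank,
      four (a / a') (b / b') (c / c') (d / d') j ^ chevF4.cartan j (chevF4.simple i) = 1 := by
    intro i hi
    rw [← (hF.hT_eq_iff _ _).1 h i (by omega)]
    refine Finset.prod_congr rfl fun j hj => ?_
    have hj4 : j < 4 := by rw [Finset.mem_range] at hj; omega
    interval_cases j <;> rfl
  have h0 := key 0 (by norm_num)
  have h1 := key 1 (by norm_num)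
  have h2 := key 2 (by norm_num)
  have h3 := key 3 (by norm_num)
  rw [e0, div_eq_one] at h0
  rw [e1, div_eq_one] at h1
  rw [e2, div_eq_one] at h2
  rw [e3, div_eq_one] at h3
  set A := a / a' with hA
  set B := b / b' with hB
  set E := c / c' with hE
  set G := d / d' with hG
  rw [← h0] at h1 h2
  rw [← h3] at h1 h2
  have hGA : G * G = A * A * A := mul_left_cancel (a := A) (by rw [← h1]; simp [mul_assoc])
  have hG3 : G * G * G = A * A * (A * A) := mul_right_cancel (b := G) (by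
    rw [← h2]; simp [mul_assoc])
  have hAG : A = G := mul_left_cancel (a := A * A * A) (by
    rw [show A * A * A * A = A * A * (A * A) by simp [mul_assoc], ← hG3, hGA])
  have hA1 : A = 1 := by
    rw [← hAG] at hGA
    exact (mul_left_cancel (a := A * A) (by rw [mul_one, ← hGA])).trans rfl
  have hG1 : G = 1 := hAG ▸ hA1
  rw [hA1, one_mul] at h0
  rw [hG1, one_mul] at h3
  exact ⟨div_eq_one.1 hA1, div_eq_one.1 h0.symm, div_eq_one.1 h3.symm, div_eq_one.1 hG1⟩

include C

/-- The image of a unit. -/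
abbrev Ctx.fu : Kˣ →* Kˣ := Units.map (C.f : K →* K)

theorem Ctx.fu_theta (a : Kˣ) : C.fu (C.fu a) * C.fu (C.fu a) = a :=
  Units.ext (by rw [Units.val_mul, ← sq]; exact C.theta _)

/-- A unit fixed by the squared twisted map. -/
theorem Ctx.eq_one_of_inv {X : Kˣ} (h : C.fu X = X⁻¹) : X = 1 := by
  have h2 : C.fu (C.fu X) = X := by rw [h, map_inv, h, inv_inv]
  have h3 := C.fu_theta X
  rw [h2] at h3
  exact mul_eq_left.1 h3

theorem Ctx.eq_one_of_fix {X : Kˣ} (h : C.fu X = X) : X = 1 := by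
  have h3 := C.fu_theta X
  rw [h, h] at h3
  exact mul_eq_left.1 h3

theorem Ctx.sq_eq_one {X : Kˣ} (h : X * X = 1) : X = 1 := by
  refine Units.ext ?_
  have h' := congrArg Units.val h
  rw [Units.val_mul, Units.val_one, mul_self_eq_one_iff, C.neg_eq, or_self] at h'
  exact h'

/-- The parametrisation of the torus. -/
noncomputable def Ctx.par : Kˣ × Kˣ →* GL chevF4.Idx K :=
  MonoidHom.mk' (fun p => hT chevF4 (four (C.fu p.1) (C.fu p.2) p.2 p.1)) fun x y => by
    rw [← DataF4.facts.hT_mul]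
    refine DataF4.facts.hT_congr fun i hi => ?_
    have : i < 4 := hi
    interval_cases i <;> simp [four]

theorem Ctx.img_four (c : ℕ → Kˣ) : Img C.σ (hT chevF4 c)
    (hT chevF4 (four (C.fu (c 3)) (C.fu (c 2)) (C.fu (c 1) ^ 2) (C.fu (c 0) ^ 2))) := by
  obtain ⟨s0, s1, s2, s3, p0, p1, p2, p3, h4, l0, l1, l2, l3⟩ := torus_tables
  refine (congrArg (Img C.σ (hT chevF4 c)) (DataF4.facts.hT_congr fun i hi => ?_)).mp
    (C.sig.img_hT c)
  have : i < 4 := hi
  interval_cases i <;>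
    simp [h4, Finset.prod_range_succ, p0, p1, p2, p3, s0, s1, s2, s3, l0, l1, l2, l3, four]

theorem Ctx.mem_range_of_fix {h : GL chevF4.Idx K} (hh : h ∈ chevF4.diagonalSubgroup K)
    (hf : h ∈ fixS C.σ) : h ∈ C.par.range := by
  obtain ⟨c, rfl⟩ := DataF4.facts.mem_diagonal_iff.1 hh
  have e := (C.img_four c).unique hf
  rw [four_eta c] at e
  obtain ⟨e0, e1, -, -⟩ := four_inj e
  refine ⟨(c 3, c 2), ?_⟩
  show hT chevF4 (four (C.fu (c 3)) (C.fu (c 2)) (c 2) (c 3)) = _
  rw [e0, e1, ← four_eta c]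

theorem Ctx.par_injective : Function.Injective C.par := by
  intro x y e
  obtain ⟨-, -, h2, h3⟩ := four_inj e
  exact Prod.ext h3 h2

theorem Ctx.commute_pair :
    (∀ x y : K, Commute (xU chevF4 f4p4 x) (xU chevF4 f4p1 y)) ∧
    (∀ x y : K, Commute (xU chevF4 f4p4 x) (xU chevF4 f4m1 y)) ∧
    (∀ x y : K, Commute (xU chevF4 f4m4 x) (xU chevF4 f4p1 y)) ∧
    ∀ x y : K, Commute (nU chevF4 f4p4 x) (nU chevF4 f4p1 y) := by
  obtain ⟨h1, h2, h3, h4, n1, n4⟩ := pair_cross
  have A : ∀ x y : K, Commute (xU chevF4 f4p4 x) (xU chevF4 f4p1 y) :=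
    C.sig.commute_xU (by decide) (by decide) h1
  have B : ∀ x y : K, Commute (xU chevF4 f4p4 x) (xU chevF4 f4m1 y) :=
    C.sig.commute_xU (by decide) (by decide) h2
  have A' : ∀ x y : K, Commute (xU chevF4 f4m4 x) (xU chevF4 f4p1 y) :=
    C.sig.commute_xU (by decide) (by decide) h3
  have B' : ∀ x y : K, Commute (xU chevF4 f4m4 x) (xU chevF4 f4m1 y) :=
    C.sig.commute_xU (by decide) (by decide) h4
  refine ⟨A, B, A', fun x y => ?_⟩
  simp only [nU, n1, n4]
  have e1 := ((A x y).mul_right (B x (-y⁻¹))).mul_right (A x y)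
  have e2 := ((A' (-x⁻¹) y).mul_right (B' (-x⁻¹) (-y⁻¹))).mul_right (A' (-x⁻¹) y)
  exact (e1.mul_left e2).mul_left e1

theorem Ctx.nU_pair (u : K) :
    nU chevF4 f4p1 (C.f u) * nU chevF4 f4p4 u ∈ twistedF4 K (2 ^ m) := by
  obtain ⟨A, B, A', -⟩ := C.commute_pair
  obtain ⟨-, -, -, -, n1, n4⟩ := pair_cross
  have hP := C.mem_gen (Or.inl ⟨u, Or.inl rfl⟩)
  have hM := C.mem_gen (Or.inl ⟨-u⁻¹, Or.inr rfl⟩)
  simp only [f4PairWord, wU, List.map_cons, List.map_nil, List.prod_cons, List.prod_nil,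
    mul_one, ← C.hf, map_neg, map_inv₀] at hP hM
  have := Subgroup.mul_mem _ (Subgroup.mul_mem _ hP hM) hP
  simp only [nU, n1, n4]
  rwa [sandwich (A _ _) (B _ _) (A' _ _)] at this

theorem Ctx.pair_torus (a : Kˣ) :
    hT chevF4 (four (C.fu a) 1 1 a) ∈ twistedF4 K (2 ^ m) := by
  have hF := DataF4.facts
  obtain ⟨s0, -, -, s3, -, -, -, -, h4, -⟩ := torus_tables
  have h1 := Subgroup.mul_mem _ (C.nU_pair (a : K)) (C.nU_pair (-1))
  rw [map_neg, map_one, (C.commute_pair.2.2.2 _ _).mul_mul_mul_comm] at h1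
  have e : hT chevF4 (four (C.fu a) 1 1 a) =
      hU chevF4 f4p1 (C.f (a : K)) * hU chevF4 f4p4 (a : K) := by
    rw [show C.f (a : K) = ((C.fu a : Kˣ) : K) from rfl, ← s0, ← s3, hF.hU_single (by omega),
      hF.hU_single (by omega), ← hF.hT_mul]
    refine hF.hT_congr fun i hi => ?_
    have : i < 4 := hi
    interval_cases i <;> simp [four]
  rw [e]
  exact h1

set_option linter.unusedSectionVars false in
theorem Ctx.conj_step (i : Fin chevF4.rank) (a b c d : Kˣ) :
    nS chevF4 K i * hT chevF4 (four a b c d) * (nS chevF4 K i)⁻¹ =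
      hT chevF4 (four (if i.val = 0 then b / a else a) (if i.val = 1 then a * c / b else b)
        (if i.val = 2 then b * b * d / c else c) (if i.val = 3 then c / d else d)) := by
  obtain ⟨e0, e1, e2, e3⟩ := char_four a b c d
  rw [DataF4.facts.nS_conj_hT_eq]
  refine DataF4.facts.hT_congr fun j hj => ?_
  have hj4 : j < 4 := hj
  obtain ⟨i, hi⟩ := i
  have hi4 : i < 4 := hi
  interval_cases i <;> simp only [e0, e1, e2, e3] <;> interval_cases j <;>
    simp only [four, Nat.reduceEqDiff, if_false, if_true, inv_div, mul_div_assoc',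
      div_eq_div_iff_mul_eq_mul] <;>
    simp [mul_comm, mul_left_comm]

theorem Ctx.class_conj (a : Kˣ) :
    hT chevF4 (four (C.fu a) (C.fu a * C.fu a * a) (C.fu a * C.fu a * (a * a)) a) ∈
      twistedF4 K (2 ^ m) := by
  have hF := DataF4.facts
  set o : Fin spec.length := ⟨1, by decide⟩
  have hn := C.sys.nO_mem o
  have hw : PermAct (nW chevF4 K (O o).word) (O o).wO := hF.permAct_nW _
  have hd := hF.same_perm (hF.nW_mem (O o).word) (C.sys.nO_monomial o) hw (C.sys.nO_perm o)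
  have h1 := Subgroup.mul_mem _ (Subgroup.mul_mem _ hn (C.pair_torus a)) (Subgroup.inv_mem _ hn)
  obtain ⟨k, hk⟩ := hF.mem_diagonal_iff.1 hd
  rw [show C.sys.nO o = nW chevF4 K (O o).word * hT chevF4 k by
    rw [← hk, mul_inv_cancel_left]] at h1
  rw [show ∀ n k h : GL chevF4.Idx K, n * k * h * (n * k)⁻¹ = n * (k * h * k⁻¹) * n⁻¹ from
    fun n k h => by group, ← hF.hT_mul, ← hF.hT_inv, ← hF.hT_mul] at h1
  simp only [mul_inv_cancel_comm] at h1
  rw [class_word, nW_cons, nW_cons, nW_cons, nW_cons, nW_nil, mul_one,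
    show ∀ w x y z h : GL chevF4.Idx K, w * (x * (y * z)) * h * (w * (x * (y * z)))⁻¹ =
      w * (x * (y * (z * h * z⁻¹) * y⁻¹) * x⁻¹) * w⁻¹ from fun w x y z h => by group,
    C.conj_step, C.conj_step, C.conj_step, C.conj_step] at h1
  simp only [Nat.reduceEqDiff, if_false, if_true, one_mul, mul_one, div_one] at h1
  convert h1 using 4 <;>
    simp [div_eq_mul_inv, mul_comm, mul_left_comm, mul_assoc]

theorem Ctx.range_le : C.par.range ≤ chevF4.diagonalSubgroup K ⊓ twistedF4 K (2 ^ m) := by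
  rintro _ ⟨⟨a, b⟩, rfl⟩
  refine ⟨DataF4.facts.mem_diagonal_iff.2 ⟨_, rfl⟩, ?_⟩
  have surj : Function.Surjective fun x : Kˣ => C.fu x * C.fu x * (x * x) := by
    refine Finite.surjective_of_injective fun x y e => ?_
    have h : C.fu (x / y) * C.fu (x / y) * ((x / y) * (x / y)) = 1 := by
      simp only [map_div]
      rw [div_mul_div_comm, div_mul_div_comm, div_mul_div_comm, div_eq_one]
      exact e
    rw [mul_mul_mul_comm] at h
    have h' := C.sq_eq_one h
    exact div_eq_one.1 (C.eq_one_of_inv (eq_inv_of_mul_eq_one_left h'))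
  obtain ⟨x, hx⟩ := surj b
  have h1 := Subgroup.mul_mem _ (C.class_conj x) (C.pair_torus (a / x))
  rw [← DataF4.facts.hT_mul] at h1
  show hT chevF4 (four (C.fu a) (C.fu b) b a) ∈ _
  refine (congrArg (· ∈ twistedF4 K (2 ^ m)) (DataF4.facts.hT_congr fun i hi => ?_)).mpr h1
  have : i < 4 := hi
  interval_cases i
  · simp [four]
  · show C.fu b = C.fu x * C.fu x * x * 1
    rw [mul_one, ← hx, map_mul, map_mul, map_mul]
    rw [show C.fu (C.fu x) * C.fu (C.fu x) * (C.fu x * C.fu x) = x * (C.fu x * C.fu x) by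
      rw [C.fu_theta], mul_comm]
  · simp [four, hx.symm]
  · simp [four]

theorem Ctx.diag_eq : chevF4.diagonalSubgroup K ⊓ twistedF4 K (2 ^ m) = C.par.range :=
  le_antisymm (fun _ hg => C.mem_range_of_fix hg.1 (C.sys.le_fix hg.2)) C.range_le

theorem Ctx.card_torus :
    Nat.card ↥(chevF4.diagonalSubgroup K ⊓ twistedF4 K (2 ^ m) : Subgroup (GL chevF4.Idx K)) =
      (2 ^ (2 * m + 1) - 1) ^ 2 := by
  rw [C.diag_eq, Nat.card_congr (MonoidHom.ofInjective C.par_injective).toEquiv.symm, Nat.card_prod,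
    Nat.card_units, Nat.card_eq_fintype_card, C.card, sq]

theorem Ctx.card_posU :
    Nat.card ↥(chevF4.posUnipotent K ⊓ twistedF4 K (2 ^ m) : Subgroup (GL chevF4.Idx K)) =
      (2 ^ (2 * m + 1)) ^ 12 := by
  have h := C.sys.card_posU (e := 2) (q := 2 ^ (2 * m + 1)) C.card_orbit
  rw [show chevF4.nroots / 2 = 12 * 2 by decide +kernel, pow_mul] at h
  rw [← Nat.pow_left_injective two_ne_zero h, DataF4.facts.posUnipotent_eq]
  refine Nat.card_congr (Equiv.setCongr (Set.ext fun g => ?_))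
  rw [show chevF4.nroots / 2 = 12 * 2 by decide +kernel]
  exact ⟨fun hg => ⟨C.sys.le_fix hg.2, hg.1⟩, fun hg => ⟨hg.2, C.sys.posU_le (by
    rwa [show chevF4.nroots / 2 = 12 * 2 by decide +kernel])⟩⟩

theorem Ctx.card_twisted : Nat.card ↥(twistedF4 K (2 ^ m)) =
    (2 ^ (2 * m + 1)) ^ 12 * (2 ^ (2 * m + 1) - 1) * ((2 ^ (2 * m + 1)) ^ 3 + 1) *
      ((2 ^ (2 * m + 1)) ^ 4 - 1) * ((2 ^ (2 * m + 1)) ^ 6 + 1) := by
  obtain ⟨W, hW, hwf, hlen⟩ := enum_sound DataF4.chk_arrays DataF4.chk_chain DataF4.facts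
    C.sys orbs_chk enum_chk
  set q := 2 ^ (2 * m + 1) with hq
  have h2 : ∀ a ∈ Finset.range enum.size,
      Nat.card ↥(C.sys.fixU (W a)) = q ^ (enum.len.get a / 2) := by
    intro a ha
    have hmem : W a ∈ C.sys.wFix := hwf ▸ Finset.mem_image_of_mem W ha
    obtain ⟨⟨l, hl⟩, hwf'⟩ := C.sys.mem_wFix.1 hmem
    have h := C.sys.card_fixU (e := 2) C.card_orbit hl hwf'
    have he := Table.allBelow_spec lens_even a (Finset.mem_range.1 ha)
    rw [beq_iff_eq] at he
    rw [hlen a (Finset.mem_range.1 ha),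
      show enum.len.get a = enum.len.get a / 2 * 2 by omega, pow_mul] at h
    exact Nat.pow_left_injective two_ne_zero h
  rw [C.sys.card_group, hwf, Finset.sum_image hW, Finset.sum_congr rfl h2, C.sys.card_B]
  have hU := C.sys.card_posU (e := 2) (q := q) C.card_orbit
  rw [show chevF4.nroots / 2 = 12 * 2 by decide +kernel, pow_mul] at hU
  have hU' := Nat.pow_left_injective two_ne_zero hU
  rw [show chevF4.nroots / 2 = 12 * 2 by decide +kernel, hU', inf_comm, C.card_torus,
    sum_pow_eq_hist _ _ _ hist_chk]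
  rw [← hq]
  have hs : ∑ d ∈ Finset.range 13,
      Table.countBelow enum.size (fun a => enum.len.get a / 2 == d) * q ^ d =
      (((List.range 13).map fun d => Table.countBelow enum.size fun a => enum.len.get a / 2 == d).zip
        (List.range 13) |>.map fun p => p.1 * q ^ p.2).sum := by
    rw [List.zip_map_left, List.map_map, List.zip_eq_zipWith, List.zipWith_self, List.map_map,
      ← List.sum_toFinset _ List.nodup_range, List.toFinset_range]
    rfl
  rw [hs, hist_vals]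
  obtain ⟨k, hk⟩ : ∃ k, q = k + 1 := ⟨q - 1, by have := Nat.two_pow_pos (2 * m + 1); omega⟩
  rw [hk]
  have a4 : (k + 1) ^ 4 = k * ((k + 1) ^ 3 + (k + 1) ^ 2 + (k + 1) + 1) + 1 := by ring
  conv_rhs => rw [a4]
  simp only [Nat.add_sub_cancel, List.map_cons, List.map_nil, List.sum_cons, List.sum_nil,
    List.range_succ, List.range_zero, List.nil_append, List.cons_append, List.zip_cons_cons,
    List.zip_nil_left]
  ring

set_option linter.unusedSectionVars false in
theorem Ctx.order_eq (o o' : Fin spec.length) :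
    orderOf ((O o).wO * (O o').wO) = if o = o' then 1 else 8 := by
  rw [Orb.wO, Orb.wO, ← sW_append]
  exact Table.orderOf_sW DataF4.chk_arrays DataF4.chk_chain DataF4.facts (orders o o')

theorem Ctx.irr : C.sys.bnPair.Irreducible := by
  refine TwSys.irreducible C.sys fun o o' h e => ?_
  have h2 : ((O o).wO * (O o').wO) ^ 2 = 1 := by
    rw [sq]
    nth_rewrite 2 [e]
    rw [mul_assoc, ← mul_assoc (O o').wO, C.sys.orb.sq o', one_mul, C.sys.orb.sq o]
  have h3 := orderOf_dvd_of_pow_eq_one h2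
  rw [C.order_eq, if_neg fun he => by rw [he] at h; omega] at h3
  norm_num at h3

theorem Ctx.dihedral :
    ∃ φ : ↥(chevF4.monomialSubgroup K ⊓ twistedF4 K (2 ^ m)) →* DihedralGroup 8,
      Function.Surjective φ ∧ φ.ker = (chevF4.diagonalSubgroup K ⊓ twistedF4 K (2 ^ m)).subgroupOf
        (chevF4.monomialSubgroup K ⊓ twistedF4 K (2 ^ m)) := by
  have hF := DataF4.facts
  set o0 : Fin spec.length := ⟨0, by decide⟩
  set o1 : Fin spec.length := ⟨1, by decide⟩
  have hsq : ∀ o, TwSys.orbGen O o * TwSys.orbGen O o = 1 := fun o => Subtype.ext (C.sys.orb.sq o)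
  have hgen : Subgroup.closure ({TwSys.orbGen O o0, TwSys.orbGen O o1} :
      Set ↥(TwSys.orbGroup O)) = ⊤ := by
    apply Subgroup.map_injective (Subgroup.subtype_injective (TwSys.orbGroup O))
    rw [MonoidHom.map_closure, ← MonoidHom.range_eq_map, Subgroup.range_subtype]
    refine congrArg Subgroup.closure (Set.ext fun x => ?_)
    simp only [Set.image_insert_eq, Set.image_singleton, Set.mem_insert_iff, Set.mem_singleton_iff,
      Set.mem_range]
    refine ⟨fun h => h.elim (fun e => ⟨o0, e.symm⟩) fun e => ⟨o1, e.symm⟩, ?_⟩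
    rintro ⟨o, rfl⟩
    revert o
    exact fin_cases_spec (Or.inl rfl) (Or.inr rfl)
  have ho : orderOf (TwSys.orbGen O o0 * TwSys.orbGen O o1) = 8 := by
    rw [← Subgroup.orderOf_coe]
    exact (C.order_eq o0 o1).trans (if_neg (by decide))
  obtain ⟨e⟩ := exists_dihedral_equiv (by norm_num) (hsq o0) (hsq o1) ho hgen
  refine ⟨e.symm.toMonoidHom.comp (C.sys.permHom.codRestrict (TwSys.orbGroup O) C.sys.permHom_mem),
    ?_, ?_⟩
  · refine e.symm.surjective.comp fun w => ?_
    have hw : w ∈ Subgroup.closure ({TwSys.orbGen O o0, TwSys.orbGen O o1} :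
        Set ↥(TwSys.orbGroup O)) := hgen ▸ Subgroup.mem_top w
    induction hw using Subgroup.closure_induction with
    | mem x hx =>
      rcases hx with rfl | rfl
      · exact ⟨⟨C.sys.nO o0, C.sys.nO_monomial o0, C.sys.nO_mem o0⟩,
          Subtype.ext (C.sys.permHom_eq (C.sys.nO_perm o0))⟩
      · exact ⟨⟨C.sys.nO o1, C.sys.nO_monomial o1, C.sys.nO_mem o1⟩,
          Subtype.ext (C.sys.permHom_eq (C.sys.nO_perm o1))⟩
    | one => exact ⟨1, map_one _⟩
    | mul x y _ _ hx hy =>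
      obtain ⟨a, rfl⟩ := hx
      obtain ⟨b, rfl⟩ := hy
      exact ⟨a * b, map_mul _ a b⟩
    | inv x _ hx =>
      obtain ⟨a, rfl⟩ := hx
      exact ⟨a⁻¹, map_inv _ a⟩
  · ext g
    rw [MonoidHom.mem_ker, Subgroup.mem_subgroupOf, MonoidHom.comp_apply,
      MulEquiv.coe_toMonoidHom, EmbeddingLike.map_eq_one_iff, Subtype.ext_iff]
    show C.sys.permHom g = 1 ↔ _
    constructor
    · intro h
      obtain ⟨w, hw⟩ := hF.exists_permAct g.2.1
      rw [C.sys.permHom_eq hw] at h
      subst h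
      exact ⟨hF.mem_diagonal_of_permAct g.2.1 hw, g.2.2⟩
    · exact fun h => C.sys.permHom_eq (hF.permAct_diagonal h.1)

theorem Ctx.exists_ne_one (hm : 1 ≤ m) : ∃ a : Kˣ, a ≠ 1 := by
  by_contra h
  push Not at h
  classical
  have hsub : (Finset.univ : Finset K) ⊆ {0, 1} := fun x _ => by
    by_cases hx : x = 0
    · simp [hx]
    · have := congrArg Units.val (h (Units.mk0 x hx))
      rw [Units.val_mk0, Units.val_one] at this
      simp [this]
  have hc := (Finset.card_le_card hsub).trans Finset.card_le_two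
  rw [Finset.card_univ, C.card] at hc
  have : 2 ^ 3 ≤ 2 ^ (2 * m + 1) := Nat.pow_le_pow_right two_pos (by omega)
  omega

theorem Ctx.inDer_pair (hm : 1 ≤ m) (t : K) :
    C.sys.InDer (wU chevF4 [(f4p1, t ^ 2 ^ m), (f4p4, t)]) := by
  have hF := DataF4.facts
  obtain ⟨s0, -, -, s3, -⟩ := torus_tables
  obtain ⟨A, -, -, -⟩ := C.commute_pair
  obtain ⟨a, ha⟩ := C.exists_ne_one hm
  have ha2 : a * a ≠ 1 := fun e => ha (C.sq_eq_one e)
  set h := hT chevF4 (four (C.fu a) 1 1 a) with hdef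
  set χ : K := ((a * a : Kˣ) : K) with hχ
  have h1 : ∀ u, h * xU chevF4 f4p1 u * h⁻¹ = xU chevF4 f4p1 (C.f χ * u) := fun u => by
    rw [hdef, hF.hT_conj_xU _ (by decide), ← s0, (char_four _ _ _ _).1, hχ]
    simp
  have h4 : ∀ u, h * xU chevF4 f4p4 u * h⁻¹ = xU chevF4 f4p4 (χ * u) := fun u => by
    rw [hdef, hF.hT_conj_xU _ (by decide), ← s3, (char_four _ _ _ _).2.2.2, hχ]
    simp
  have hne : χ - 1 ≠ 0 := sub_ne_zero.2 fun e => ha2 (Units.ext (e.trans rfl))
  set s : K := t / (χ - 1) with hsd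
  have hw : ∀ x : K, wU chevF4 [(f4p1, x ^ 2 ^ m), (f4p4, x)] =
      xU chevF4 f4p1 (C.f x) * xU chevF4 f4p4 x := fun x => by simp [wU, C.hf]
  have key := C.sys.inDer_commutator (C.pair_torus a)
    (C.mem_gen (Or.inl ⟨s, Or.inl rfl⟩) : wU chevF4 (f4PairWord (2 ^ m) f4p1 f4p4 s) ∈ _)
  rw [f4PairWord, hw, ← hdef] at key
  have e1 : h * (xU chevF4 f4p1 (C.f s) * xU chevF4 f4p4 s) * h⁻¹ =
      xU chevF4 f4p1 (C.f (χ * s)) * xU chevF4 f4p4 (χ * s) := by
    rw [show ∀ x y : GL chevF4.Idx K, h * (x * y) * h⁻¹ = h * x * h⁻¹ * (h * y * h⁻¹) from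
      fun x y => by group, h1, h4, map_mul]
  have e2 : (xU chevF4 f4p1 (C.f s) * xU chevF4 f4p4 s)⁻¹ =
      xU chevF4 f4p1 (C.f (-s)) * xU chevF4 f4p4 (-s) := by
    rw [mul_inv_rev, hF.xU_inv (by decide), hF.xU_inv (by decide), map_neg]
    exact A _ _
  rw [e1, e2, (A (χ * s) (C.f (-s))).mul_mul_mul_comm, hF.xU_add (by decide),
    hF.xU_add (by decide), ← map_add,
    show χ * s + -s = t by rw [hsd]; field_simp; ring] at key
  rw [hw]
  exact key

/-- The classes commuting with the class of type B₂. -/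
theorem Ctx.class_commute :
    (∀ x y : K, Commute (xU chevF4 f4ab x) (xU chevF4 f4aab y)) ∧
    (∀ x y : K, Commute (xU chevF4 f4ab x) (xU chevF4 f4a y)) ∧
    (∀ x y : K, Commute (xU chevF4 f4ab x) (xU chevF4 f4b y)) ∧
    (∀ x y : K, Commute (xU chevF4 f4aab x) (xU chevF4 f4a y)) ∧
    ∀ x y : K, Commute (xU chevF4 f4aab x) (xU chevF4 f4b y) := by
  obtain ⟨⟨ha, hb, hab, haab⟩, -, -, -, ⟨k1, k2, k3, k4, k5⟩, -, -⟩ :=
    class_tables (f4a, f4b, f4ab, f4aab) (by simp [classes])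
  exact ⟨C.sig.commute_xU hab haab k5, fun x y => (C.sig.commute_xU ha hab k1 y x).symm,
    fun x y => (C.sig.commute_xU hb hab k3 y x).symm,
    fun x y => (C.sig.commute_xU ha haab k2 y x).symm,
    fun x y => (C.sig.commute_xU hb haab k4 y x).symm⟩

/-- A class element. -/
noncomputable def Ctx.cl (t u : K) : GL chevF4.Idx K :=
  xU chevF4 f4a (C.f t) * xU chevF4 f4b t *
    (xU chevF4 f4ab (C.f t * t + u) * xU chevF4 f4aab (C.f u ^ 2))

theorem Ctx.cl_eq (t u : K) :
    wU chevF4 (b2ClassWord (2 ^ m) f4a f4b f4ab f4aab t u) = C.cl t u := by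
  simp [wU, b2ClassWord, Ctx.cl, C.hf, pow_succ, pow_mul, mul_comm 2, mul_assoc]

theorem Ctx.cl_mem (t u : K) :
    C.cl t u ∈ twistedF4 K (2 ^ m) ∧
      C.cl t u ∈ rootClosure chevF4 K (· ∈ [f4a, f4b, f4ab, f4aab]) := by
  refine ⟨C.cl_eq t u ▸ C.mem_gen (Or.inr ⟨t, u, Or.inl rfl⟩), ?_⟩
  refine Subgroup.mul_mem _ (Subgroup.mul_mem _ ?_ ?_) (Subgroup.mul_mem _ ?_ ?_) <;>
    exact xU_mem_rootClosure (by decide) (by simp) _

theorem Ctx.cl_mul_center (t u v : K) : C.cl t u * C.cl 0 v = C.cl t (u + v) := by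
  have hF := DataF4.facts
  obtain ⟨k5, -⟩ := C.class_commute
  simp only [Ctx.cl, map_zero, hF.xU_zero (show f4a < chevF4.nroots by decide),
    hF.xU_zero (show f4b < chevF4.nroots by decide), mul_zero, zero_add, one_mul]
  rw [mul_assoc (xU chevF4 f4a _ * _), (k5 v _).symm.mul_mul_mul_comm, hF.xU_add (by decide),
    hF.xU_add (by decide), map_add, add_assoc]
  congr 3
  linear_combination -(C.f u * C.f v) * C.two_eq_zero

theorem Ctx.cl_mul_zero (t u s : K) : ∃ v, C.cl t u * C.cl s 0 = C.cl (t + s) v := by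
  have hF := DataF4.facts
  obtain ⟨k5, ka, kb, la, lb⟩ := C.class_commute
  obtain ⟨h1, h2⟩ := C.cl_mem t u
  obtain ⟨h3, h4⟩ := C.cl_mem s 0
  obtain ⟨t', v, e⟩ := C.fix_class (C.sys.le_fix (Subgroup.mul_mem _ h1 h3))
    (Subgroup.mul_mem _ h2 h4)
  rw [C.cl_eq] at e
  refine ⟨v, ?_⟩
  rw [e]
  congr 1
  -- compare the coefficients at `b`
  set P := xU chevF4 f4ab (C.f t * t + u) * xU chevF4 f4aab (C.f u ^ 2) with hP
  set Q := xU chevF4 f4ab (C.f s * s + 0) * xU chevF4 f4aab (C.f 0 ^ 2) with hQ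
  have cP : Commute P (xU chevF4 f4a (C.f s) * xU chevF4 f4b s) :=
    ((ka _ _).mul_right (kb _ _)).mul_left ((la _ _).mul_right (lb _ _))
  have e' : C.cl t u * C.cl s 0 =
      xU chevF4 f4a (C.f t + C.f s) * xU chevF4 f4b (t + s) *
        (xU chevF4 f4ab (C.f s * t) * xU chevF4 f4aab (C.f s ^ 2 * t) * (P * Q)) := by
    show xU chevF4 f4a (C.f t) * xU chevF4 f4b t * P *
      (xU chevF4 f4a (C.f s) * xU chevF4 f4b s * Q) = _
    rw [cP.mul_mul_mul_comm, ← mul_assoc (xU chevF4 f4a (C.f t) * xU chevF4 f4b t),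
      mul_assoc (xU chevF4 f4a (C.f t)) (xU chevF4 f4b t) (xU chevF4 f4a (C.f s)),
      C.swap_ab (c := (f4a, f4b, f4ab, f4aab)) (by simp [classes]) (C.f s) t]
    have cs : Commute (xU chevF4 f4ab (C.f s * t) * xU chevF4 f4aab (C.f s ^ 2 * t))
        (xU chevF4 f4b s) := (kb _ _).mul_left (lb _ _)
    simp only [← mul_assoc, hF.xU_add (show f4a < chevF4.nroots by decide)]
    simp only [mul_assoc]
    rw [← mul_assoc (xU chevF4 f4ab (C.f s * t)), ← mul_assoc (_ * _) (xU chevF4 f4b s), cs.eq]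
    simp only [← mul_assoc]
    rw [mul_assoc _ (xU chevF4 f4b t) (xU chevF4 f4b s), hF.xU_add (by decide)]
  rw [e', hP, hQ] at e
  simp only [Ctx.cl, mul_assoc] at e
  rw [← mul_assoc (xU chevF4 f4aab _), (k5 _ _).symm.eq, mul_assoc, ← mul_assoc (xU chevF4 f4aab _)
    (xU chevF4 f4aab _), hF.xU_add (by decide), ← mul_assoc (xU chevF4 f4aab _) (xU chevF4 f4ab _),
    (k5 _ _).symm.eq, mul_assoc, hF.xU_add (by decide), ← mul_assoc (xU chevF4 f4ab _)
    (xU chevF4 f4ab _), hF.xU_add (by decide), ← mul_assoc (xU chevF4 f4ab _)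
    (xU chevF4 f4ab _), hF.xU_add (by decide)] at e
  have e2 := hF.coords_unique C.sig.hC coords.2
    (ts := [C.f t + C.f s, t + s, C.f s * t + (C.f t * t + u) + (C.f s * s + 0),
      C.f s ^ 2 * t + C.f u ^ 2 + C.f 0 ^ 2])
    (ts' := [C.f t', t', C.f t' * t' + v, C.f v ^ 2]) rfl rfl (by simpa [wU, mul_assoc] using e)
  simp only [List.cons.injEq, and_true] at e2
  exact e2.2.1.symm

theorem Ctx.inDer_class (hm : 1 ≤ m) (T U : K) : C.sys.InDer (C.cl T U) := by
  have hF := DataF4.facts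
  obtain ⟨s0, s1, s2, s3, -, -, -, -, h4, -⟩ := torus_tables
  obtain ⟨b, hb⟩ := C.exists_ne_one hm
  set X : Kˣ := b * b / (C.fu b * C.fu b) with hX
  have hX1 : X ≠ 1 := fun e => hb (C.eq_one_of_fix (by
    rw [hX, div_eq_one] at e
    exact (div_eq_one.1 (C.sq_eq_one (X := b / C.fu b) (by
      rw [div_mul_div_comm, e, div_self']))).symm))
  have hY1 : C.fu X * X ≠ 1 := fun e => hX1 (C.eq_one_of_inv (eq_inv_of_mul_eq_one_left e))
  set h := hT chevF4 (four 1 (C.fu b) b 1) with hdef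
  have hG : h ∈ twistedF4 K (2 ^ m) := by
    have := (C.range_le ⟨(1, b), rfl⟩).2
    simpa [Ctx.par, hdef] using this
  have cb : ∏ j ∈ Finset.range chevF4.rank, four 1 (C.fu b) b 1 j ^ chevF4.cartan j f4b = X := by
    rw [← s2, (char_four _ _ _ _).2.2.1, mul_one, hX]
  have ca : ∏ j ∈ Finset.range chevF4.rank, four 1 (C.fu b) b 1 j ^ chevF4.cartan j f4a =
      C.fu X := by
    rw [← s1, (char_four _ _ _ _).2.1, one_mul, hX, map_div, map_mul, map_mul, C.fu_theta]
  have cab : ∏ j ∈ Finset.range chevF4.rank, four 1 (C.fu b) b 1 j ^ chevF4.cartan j f4ab =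
      C.fu X * X := by
    rw [← ca, ← cb, ← Finset.prod_mul_distrib]
    refine Finset.prod_congr rfl fun j hj => ?_
    rw [(cart_high j (by rw [Finset.mem_range] at hj; omega)).1, zpow_add]
  have caab : ∏ j ∈ Finset.range chevF4.rank, four 1 (C.fu b) b 1 j ^ chevF4.cartan j f4aab =
      C.fu X * C.fu X * X := by
    rw [← ca, ← cb, ← Finset.prod_mul_distrib, ← Finset.prod_mul_distrib]
    refine Finset.prod_congr rfl fun j hj => ?_
    rw [(cart_high j (by rw [Finset.mem_range] at hj; omega)).2, zpow_add, two_mul, zpow_add]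
  set Y : K := ((C.fu X * X : Kˣ) : K) with hY
  have hconj : ∀ t u : K, h * C.cl t u * h⁻¹ = C.cl ((X : K) * t) (Y * u) := by
    intro t u
    simp only [Ctx.cl]
    rw [show ∀ a b c d : GL chevF4.Idx K, h * (a * b * (c * d)) * h⁻¹ =
        h * a * h⁻¹ * (h * b * h⁻¹) * (h * c * h⁻¹ * (h * d * h⁻¹)) from fun a b c d => by group,
      hdef, hF.hT_conj_xU _ (by decide), hF.hT_conj_xU _ (by decide), hF.hT_conj_xU _ (by decide),
      hF.hT_conj_xU _ (by decide), ca, cb, cab, caab]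
    congr 2
    · rw [map_mul]; rfl
    · rw [map_mul, hY, Units.val_mul]
      congr 1
      show _ = C.f (X : K) * C.f t * ((X : K) * t) + _
      rw [show ((C.fu X : Kˣ) : K) = C.f (X : K) from rfl]
      ring
    · congr 1
      simp only [hY, Units.val_mul, show ((C.fu X : Kˣ) : K) = C.f (X : K) from rfl, map_mul,
        mul_pow, C.theta]
      ring
  have hcenter : ∀ V : K, C.sys.InDer (C.cl 0 V) := by
    intro V
    have hne : Y - 1 ≠ 0 := sub_ne_zero.2 fun e => hY1 (Units.ext (e.trans rfl))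
    have key := C.sys.inDer_commutator hG (C.cl_mem 0 (V / (Y - 1))).1
    have e2 : (C.cl 0 (V / (Y - 1)))⁻¹ = C.cl 0 (-(V / (Y - 1))) := by
      refine inv_eq_of_mul_eq_one_right ?_
      rw [C.cl_mul_center, add_neg_cancel]
      simp [Ctx.cl, hF.xU_zero (show f4a < chevF4.nroots by decide),
        hF.xU_zero (show f4b < chevF4.nroots by decide),
        hF.xU_zero (show f4ab < chevF4.nroots by decide),
        hF.xU_zero (show f4aab < chevF4.nroots by decide)]
    rwa [hconj, e2, mul_zero, C.cl_mul_center,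
      show Y * (V / (Y - 1)) + -(V / (Y - 1)) = V by field_simp; ring] at key
  have hne : (X : K) - 1 ≠ 0 := sub_ne_zero.2 fun e => hX1 (Units.ext e)
  set t := T / ((X : K) - 1) with ht
  have key := C.sys.inDer_commutator hG (C.cl_mem t 0).1
  rw [hconj, mul_zero] at key
  obtain ⟨T', U', e⟩ := C.fix_class (C.sys.le_fix key.1)
    (Subgroup.mul_mem _ (C.cl_mem _ _).2 (Subgroup.inv_mem _ (C.cl_mem _ _).2))
  rw [C.cl_eq] at e
  obtain ⟨v, hv⟩ := C.cl_mul_zero T' U' t
  rw [← e, inv_mul_cancel_right] at hv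
  have e2 := hF.coords_unique C.sig.hC coords.2
    (ts := [C.f ((X : K) * t), (X : K) * t, C.f ((X : K) * t) * ((X : K) * t) + 0, C.f 0 ^ 2])
    (ts' := [C.f (T' + t), T' + t, C.f (T' + t) * (T' + t) + v, C.f v ^ 2]) rfl rfl
    (by simpa [wU, Ctx.cl, mul_assoc] using hv)
  simp only [List.cons.injEq, and_true] at e2
  have hT : T' = T := by
    have h5 : T = (X : K) * t - t := by rw [ht]; field_simp
    rw [h5, e2.2.1, add_sub_cancel_right]
  subst hT
  rw [e] at key
  have := C.sys.inDer_mul key (hcenter (U' + U))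
  rwa [C.cl_mul_center, ← add_assoc, C.add_self, zero_add] at this

theorem Ctx.gen_orbit {g : GL chevF4.Idx K}
    (hg : g ∈ {g | ∃ w ∈ f4Words K (2 ^ m), g = wU chevF4 w}) :
    g ∈ twistedF4 K (2 ^ m) ∧ ∃ o, g ∈ rootClosure chevF4 K ((O o).posO DataF4.co) ∨
      g ∈ rootClosure chevF4 K ((O o).negO DataF4.co) := by
  obtain ⟨w, hw, rfl⟩ := hg
  refine ⟨C.mem_gen hw, ?_⟩
  rcases hw with ⟨t, rfl | rfl⟩ | ⟨t, u, rfl | rfl⟩
  · exact ⟨⟨0, by decide⟩, Or.inl (rootClosure_mono
      (fun r hr h => (posO_iff_list DataF4.chk_arrays pos_lists.1 r hr).2 h)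
      (Facts.wU_mem_closure (L := [f4p1, f4p4]) (ts := [t ^ 2 ^ m, t]) (by decide +kernel)))⟩
  · exact ⟨⟨0, by decide⟩, Or.inr (rootClosure_mono
      (fun r hr h => (negO_iff_list DataF4.chk_arrays neg_lists.1 r hr).2 h)
      (Facts.wU_mem_closure (L := [f4m1, f4m4]) (ts := [t ^ 2 ^ m, t]) (by decide +kernel)))⟩
  · exact ⟨⟨1, by decide⟩, Or.inl (rootClosure_mono
      (fun r hr h => (posO_iff_list DataF4.chk_arrays pos_lists.2 r hr).2 h)
      (Facts.wU_mem_closure (L := [f4a, f4b, f4ab, f4aab])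
        (ts := [t ^ 2 ^ m, t, t ^ (2 ^ m + 1) + u, u ^ (2 * 2 ^ m)]) (by decide +kernel)))⟩
  · exact ⟨⟨1, by decide⟩, Or.inr (rootClosure_mono
      (fun r hr h => (negO_iff_list DataF4.chk_arrays neg_lists.2 r hr).2 h)
      (Facts.wU_mem_closure (L := [f4ma, f4mb, f4mab, f4maab])
        (ts := [t ^ 2 ^ m, t, t ^ (2 ^ m + 1) + u, u ^ (2 * 2 ^ m)]) (by decide +kernel)))⟩

theorem Ctx.perfect_twisted (hm : 1 ≤ m) : commutator ↥(twistedF4 K (2 ^ m)) = ⊤ := by
  refine C.sys.perfect (S := {g | ∃ w ∈ f4Words K (2 ^ m), g = wU chevF4 w}) C.gen_eq.le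
    (fun g hg => C.gen_orbit hg) (fin_cases_spec ?_ ?_)
  · intro g hg h
    obtain ⟨t, rfl⟩ := C.fix_pair (C.sys.le_fix hg)
      (rootClosure_mono (fun r hr => (posO_iff_list DataF4.chk_arrays pos_lists.1 r hr).1) h)
    exact C.inDer_pair hm t
  · intro g hg h
    obtain ⟨t, u, rfl⟩ := C.fix_class (C.sys.le_fix hg)
      (rootClosure_mono (fun r hr => (posO_iff_list DataF4.chk_arrays pos_lists.2 r hr).1) h)
    rw [C.cl_eq]
    exact C.inDer_class hm t u

theorem Ctx.simple_twisted (hm : 1 ≤ m) :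
    IsSimpleGroup ↥(twistedF4 K (2 ^ m)) ∧ ¬ IsMulCommutative ↥(twistedF4 K (2 ^ m)) := by
  obtain ⟨v, hv, -, hv1⟩ := C.sys.neg_ex ⟨0, by decide⟩
  exact C.sys.simple (fun h hh hc => C.sep hh hc) C.irr (C.perfect_twisted hm) ⟨v, hv, hv1⟩

end TwF4

end CfsgLib.Chev
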