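/-
The orbits and the fixed Weyl group of type ²G₂, generated from the tables of `Cfsg.Lie.chevG2`,
with their verification.
-/
import Cfsg.Agent.Lib.Chev.Twist.Enum
import Cfsg.Agent.Lib.Chev.Twist.Par

set_option autoImplicit false
set_option maxRecDepth 20000
set_option linter.all false
set_option Elab.async false

namespace CfsgLib.Chev.TwG2

open Cfsg.Lie CfsgLib.Chev.Table

/-- The orbits on the nodes, with a word for each longest element. -/
def spec : List (List ℕ × List ℕ) := [([0, 1], [0, 1, 0, 1, 0, 1])]

/-- The fixed Weyl group. -/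
def enum : Enum where
  size := 2
  img := (.node 1
 (.leaf 393223)
 (.leaf 327684))
  nxt := (.node 1
 (.leaf 1)
 (.leaf 0))
  par := (.node 1
 (.leaf 0)
 (.leaf 0))
  len := (.node 1
 (.leaf 0)
 (.leaf 6))
  rk := (.node 1
 (.leaf 1)
 (.leaf 0))
  pos := (.node 1
 (.leaf 1)
 (.leaf 0))
  wit := (.node 1
 (.leaf 0)
 (.leaf 7))

theorem orbs_chk : chkOrbs DataG2.tab parG2 spec = true := by decide +kernel

theorem enum_chk : enum.check DataG2.tab spec = true := by decide +kernel

/-- The family of orbits is good. -/
theorem orb_ok : OrbOK DataG2.co parG2 (mkOrbs chevG2 spec) :=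
  orbOK_of_chk DataG2.chk_arrays DataG2.chk_chain DataG2.facts orbs_chk

end CfsgLib.Chev.TwG2
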