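/-
The twisted groups of type ²G₂.
-/
import Mathlib
import Cfsg.Prelude.Def_LieTwisted
import Cfsg.Agent.Lib.Chev.Twist.F4
import Cfsg.Agent.Lib.Chev.Twist.DataG2

set_option autoImplicit false
set_option maxRecDepth 20000

namespace CfsgLib.Chev

open Cfsg.Lie

universe v

namespace TwG2

variable {K : Type v} [Field K] [Fintype K] {m : ℕ}
  (hK : Fintype.card K = 3 ^ (2 * m + 1))

/-- The orbit family. -/
abbrev O : Fin spec.length → Orb chevG2 := mkOrbs chevG2 spec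

/-- The field endomorphism and the endomorphism of the group. -/
structure Ctx (K : Type v) [Field K] [Fintype K] (m : ℕ) : Type v where
  f : K →+* K
  σ : ↥(chevG2.group K) →* GL chevG2.Idx K
  hf : ∀ t, f t = t ^ 3 ^ m
  three_eq_zero : (3 : K) = 0
  sig : Sig chevG2 DataG2.co parG2 f σ
  card : Fintype.card K = 3 ^ (2 * m + 1)

include hK in
theorem nonempty_ctx : Nonempty (Ctx K m) := by
  obtain ⟨h0, f, hf⟩ := exists_frobPow (p := 3) Nat.prime_three (by omega) hK m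
  have h3 : (3 : K) = 0 := by exact_mod_cast h0
  have hp : (parG2.p : K) = 0 := by
    rw [show parG2.p = 3 from rfl]; exact h0
  have hN : HasNbr chevG2 := hasNbr_of_mem (by simp)
  have hinj : Function.Injective fun t : K => t ^ 3 := fun a b e => by
    have h : (a - b) ^ 3 = 0 := by
      linear_combination e + (a * b * (b - a)) * h3
    exact sub_eq_zero.1 (pow_eq_zero_iff (by norm_num) |>.1 h)
  have hs : ∀ r < chevG2.nroots, Function.Surjective (parG2.coef f r) := fun r hr => by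
    refine Finite.surjective_of_injective fun a b e => ?_
    have hl : parG2.lam r = 1 ∨ parG2.lam r = 3 := (parG2_ok.lam_ok r hr).imp_right fun h => h.1
    have he : (parG2.eps r : K) ≠ 0 := by
      rcases parG2_ok.eps_pm r hr with h | h <;> simp [h]
    have e' := mul_left_cancel₀ he e
    rcases hl with h | h <;> rw [h] at e'
    · rw [pow_one, pow_one] at e'; exact f.injective e'
    · exact f.injective (hinj e')
  obtain ⟨σ, hσ⟩ := DataG2.facts.exists_sigma DataG2.commF hN parG2_ok f hp hs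
  exact ⟨⟨f, σ, hf, h3, ⟨DataG2.facts, DataG2.commF, parG2_ok, hp, hσ⟩, hK⟩⟩

/-- A class of roots, with the sign of the parameters. -/
structure Cl : Type where
  a : ℕ
  b : ℕ
  c : ℕ
  e : ℕ
  g : ℕ
  h : ℕ
  z : ℤ

/-- The positive class. -/
def posC : Cl := ⟨g2a, g2b, g2ab, g2aab, g2aaab, g2aaabb, 1⟩

/-- The negative class. -/
def negC : Cl := ⟨g2ma, g2mb, g2mab, g2maab, g2maaab, g2maaabb, -1⟩

/-- The roots of a class. -/
def Cl.roots (k : Cl) : List ℕ := [k.a, k.b, k.c, k.e, k.g, k.h]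

theorem class_tables : ∀ k ∈ [posC, negC],
    (∀ r ∈ k.roots, r < chevG2.nroots) ∧
    (parG2.rho k.a = k.b ∧ parG2.rho k.b = k.a ∧ parG2.rho k.c = k.g ∧ parG2.rho k.g = k.c ∧
      parG2.rho k.e = k.h ∧ parG2.rho k.h = k.e) ∧
    (∀ r ∈ k.roots, parG2.eps r = 1) ∧
    (parG2.lam k.a = 3 ∧ parG2.lam k.b = 1 ∧ parG2.lam k.c = 3 ∧ parG2.lam k.g = 1 ∧
      parG2.lam k.e = 3 ∧ parG2.lam k.h = 1) ∧
    (parG2.commB chevG2 k.c k.e = true ∧ parG2.commB chevG2 k.c k.g = true ∧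
      parG2.commB chevG2 k.c k.h = true ∧ parG2.commB chevG2 k.e k.g = true ∧
      parG2.commB chevG2 k.e k.h = true ∧ parG2.commB chevG2 k.g k.h = true) ∧
    (k.b ≠ k.a ∧ k.b ≠ chevG2.neg k.a) ∧ (k.z = 1 ∨ k.z = -1) ∧
    chevG2.commTerms k.a k.b =
      [(k.c, -k.z, (1, 1)), (k.e, 1, (2, 1)), (k.g, k.z, (3, 1)), (k.h, 1, (3, 2))] := by
  intro k hk
  simp only [List.mem_cons, List.not_mem_nil, or_false] at hk
  rcases hk with rfl | rfl <;>
    refine ⟨?_, ?_, ?_, ?_, ?_, ?_, ?_, ?_⟩ <;> decide +kernel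

theorem coords : coordB chevG2 posC.roots = true := by decide +kernel

theorem pos_list : chkPosList DataG2.tab [0, 1] posC.roots = true := by decide +kernel

theorem neg_list : chkNegList DataG2.tab [0, 1] negC.roots = true := by decide +kernel

theorem neg_tables : chevG2.neg g2a = g2ma ∧ chevG2.neg g2b = g2mb ∧ chevG2.neg g2ab = g2mab ∧
    chevG2.neg g2aab = g2maab ∧ chevG2.neg g2aaab = g2maaab ∧
    chevG2.neg g2aaabb = g2maaabb := by
  decide +kernel

theorem fin_cases_spec {p : Fin spec.length → Prop} (h0 : p ⟨0, by decide⟩) : ∀ o, p o := by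
  rintro ⟨o, ho⟩
  have : o < 1 := ho
  obtain rfl : o = 0 := by omega
  exact h0

theorem flips : Table.flipW DataG2.tab ((O ⟨0, by decide⟩).word.map Fin.val) = 6 := by
  decide +kernel

/-- The word of a class. -/
def clWord {R : Type*} [CommRing R] (k : Cl) (A B C E F G : R) : List (ℕ × R) :=
  [(k.a, (k.z : R) * A), (k.b, (k.z : R) * B), (k.c, (k.z : R) * C), (k.e, (k.z : R) * E),
    (k.g, (k.z : R) * F), (k.h, (k.z : R) * G)]

omit [Fintype K] in
theorem reeWordU_eq (e : ℕ) (t u v : K) : reeWordU e t u v =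
    clWord posC (t ^ e) t (t ^ (e + 1) + u ^ e) (t ^ (2 * e + 1) + v ^ e) u v := by
  simp [reeWordU, clWord, posC]

omit [Fintype K] in
theorem reeWordV_eq (e : ℕ) (t u v : K) : reeWordV e t u v =
    clWord negC (t ^ e) t (t ^ (e + 1) + u ^ e) (t ^ (2 * e + 1) + v ^ e) u v := by
  simp [reeWordV, reeWordU, ChevalleyDatum.negWord, clWord, negC, add_comm]
  decide +kernel

omit [Fintype K] in
theorem clWord_lt {k : Cl} (hk : k ∈ [posC, negC]) (A B C E F G : K) :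
    ∀ p ∈ clWord k A B C E F G, p.1 < chevG2.nroots := by
  have := (class_tables k hk).1
  simp only [Cl.roots, List.mem_cons, List.not_mem_nil, or_false, forall_eq_or_imp,
    forall_eq] at this
  simp only [clWord, List.mem_cons, List.not_mem_nil, or_false, forall_eq_or_imp, forall_eq]
  exact this

variable (C : Ctx K m)
include C

theorem Ctx.theta (t : K) : C.f (C.f t) ^ 3 = t := by
  rw [C.hf, C.hf, ← pow_mul, ← pow_mul,
    show 3 ^ m * (3 ^ m * 3) = 3 ^ (2 * m + 1) by ring, ← C.card]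
  exact FiniteField.pow_card t

theorem Ctx.theta' (t : K) : C.f (C.f t ^ 3) = t := by
  rw [map_pow, C.theta]

theorem Ctx.cube_add (s t : K) : (s + t) ^ 3 = s ^ 3 + t ^ 3 := by
  linear_combination (s * t * (s + t)) * C.three_eq_zero

/-- The two bottom elements of a class, in the opposite order. -/
theorem Ctx.swap_ab {k : Cl} (hk : k ∈ [posC, negC]) (A B : K) :
    xU chevG2 k.b ((k.z : K) * B) * xU chevG2 k.a ((k.z : K) * A) =
      xU chevG2 k.a ((k.z : K) * A) * xU chevG2 k.b ((k.z : K) * B) *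
        (xU chevG2 k.c ((k.z : K) * (A * B)) * xU chevG2 k.e ((k.z : K) * (A ^ 2 * B)) *
          (xU chevG2 k.g ((k.z : K) * -(A ^ 3 * B)) *
            xU chevG2 k.h ((k.z : K) * -(A ^ 3 * B ^ 2)))) := by
  obtain ⟨hr, -, -, -, -, ⟨hne, hneg⟩, hz, hT⟩ := class_tables k hk
  rw [DataG2.facts.xU_comm C.sig.hC (hr k.a (by simp [Cl.roots])) (hr k.b (by simp [Cl.roots]))
    hne hneg]
  congr 1
  simp only [cwR, hT, List.map_cons, List.map_nil, wU, List.prod_cons, List.prod_nil, mul_one]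
  rw [← mul_assoc (xU chevG2 k.c _) (xU chevG2 k.e _)]
  congr 3 <;> rcases hz with h | h <;> rw [h] <;> push_cast <;> ring

/-- The image of a class word. -/
theorem Ctx.img_class {k : Cl} (hk : k ∈ [posC, negC]) (A B X E F G : K) :
    Img C.σ (wU chevG2 (clWord k A B X E F G))
      (wU chevG2 (clWord k (C.f B) (C.f A ^ 3) (C.f B * C.f A ^ 3 + C.f F)
        (C.f B ^ 2 * C.f A ^ 3 + C.f G) (-(C.f B ^ 3 * C.f A ^ 3) + C.f X ^ 3)
        (-(C.f B ^ 3 * (C.f A ^ 3) ^ 2) + C.f E ^ 3))) := by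
  obtain ⟨hr, ⟨r1, r2, r3, r4, r5, r6⟩, he, ⟨l1, l2, l3, l4, l5, l6⟩,
    ⟨kce, kcg, kch, keg, keh, kgh⟩, -, hz, -⟩ := class_tables k hk
  simp only [Cl.roots, List.mem_cons, List.not_mem_nil, or_false, forall_eq_or_imp,
    forall_eq] at hr he
  obtain ⟨ha, hb, hc, hee, hg, hh⟩ := hr
  obtain ⟨e1, e2, e3, e4, e5, e6⟩ := he
  have hzK : (k.z : K) ^ 3 = k.z := by rcases hz with h | h <;> rw [h] <;> norm_num
  have hf3 : ∀ x : K, ((k.z : K) * x) ^ 3 = (k.z : K) * x ^ 3 := fun x => by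
    rw [mul_pow, hzK]
  have hf1 : ∀ x : K, C.f ((k.z : K) * x) = (k.z : K) * C.f x := fun x => by
    rw [map_mul, map_intCast]
  have hi := ((C.sig.img_xU ha ((k.z : K) * A)).mul (C.sig.img_xU hb ((k.z : K) * B))).mul
    (((C.sig.img_xU hc ((k.z : K) * X)).mul (C.sig.img_xU hee ((k.z : K) * E))).mul
      ((C.sig.img_xU hg ((k.z : K) * F)).mul (C.sig.img_xU hh ((k.z : K) * G))))
  simp only [TwPar.coef, r1, r2, r3, r4, r5, r6, e1, e2, e3, e4, e5, e6, l1, l2, l3, l4, l5, l6,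
    Int.cast_one, one_mul, pow_one, hf1, hf3] at hi
  rw [C.swap_ab hk] at hi
  have cce := C.sig.commute_xU hc hee kce
  have ccg := C.sig.commute_xU hc hg kcg
  have cch := C.sig.commute_xU hc hh kch
  have ceg := C.sig.commute_xU hee hg keg
  have ceh := C.sig.commute_xU hee hh keh
  have cgh := C.sig.commute_xU hg hh kgh
  have hsw : ∀ s t p q : K, Commute (xU chevG2 k.g s * xU chevG2 k.h t)
      (xU chevG2 k.c p * xU chevG2 k.e q) := fun s t p q =>
    (((ccg p s).symm.mul_right (ceg q s).symm).mul_left ((cch p t).symm.mul_right (ceh q t).symm))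
  rw [mul_assoc (xU chevG2 k.a _ * _), (hsw _ _ _ _).eq, (hsw _ _ _ _).mul_mul_mul_comm,
    (cce _ _).symm.mul_mul_mul_comm, (cgh _ _).symm.mul_mul_mul_comm,
    DataG2.facts.xU_add hc, DataG2.facts.xU_add hee, DataG2.facts.xU_add hg,
    DataG2.facts.xU_add hh, ← mul_add, ← mul_add, ← mul_add, ← mul_add] at hi
  simpa [wU, clWord, mul_assoc] using hi

theorem Ctx.class_fixed {k : Cl} (hk : k ∈ [posC, negC]) (t u v : K) :
    wU chevG2 (clWord k (t ^ 3 ^ m) t (t ^ (3 ^ m + 1) + u ^ 3 ^ m)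
      (t ^ (2 * 3 ^ m + 1) + v ^ 3 ^ m) u v) ∈ fixS C.σ := by
  have e1 : t ^ (3 ^ m + 1) + u ^ 3 ^ m = C.f t * t + C.f u := by rw [pow_succ, C.hf, C.hf]
  have e2 : t ^ (2 * 3 ^ m + 1) + v ^ 3 ^ m = C.f t ^ 2 * t + C.f v := by
    rw [pow_succ, C.hf, C.hf, mul_comm 2, pow_mul]
  rw [e1, e2, ← C.hf t]
  have hi := C.img_class hk (C.f t) t (C.f t * t + C.f u) (C.f t ^ 2 * t + C.f v) u v
  rw [C.theta] at hi
  have d1 : -(C.f t ^ 3 * t) + C.f (C.f t * t + C.f u) ^ 3 = u := by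
    rw [map_add, map_mul, C.cube_add, mul_pow, C.theta, C.theta]
    ring
  have d2 : -(C.f t ^ 3 * t ^ 2) + C.f (C.f t ^ 2 * t + C.f v) ^ 3 = v := by
    rw [map_add, map_mul, map_pow, C.cube_add, mul_pow, C.theta, ← pow_mul,
      show (2 * 3 = 3 * 2) from rfl, pow_mul, C.theta]
    ring
  rw [d1, d2] at hi
  exact mem_fixS.2 hi

theorem Ctx.fix_class {g : GL chevG2.Idx K} (hg : g ∈ fixS C.σ)
    (h : g ∈ rootClosure chevG2 K (· ∈ posC.roots)) :
    ∃ t u v : K, g = wU chevG2 (reeWordU (3 ^ m) t u v) := by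
  obtain ⟨ts, hts, rfl⟩ := DataG2.facts.exists_coords C.sig.hC coords g h
  rcases ts with - | ⟨A, - | ⟨B, - | ⟨X, - | ⟨E, - | ⟨F, - | ⟨G, - | ⟨_, _⟩⟩⟩⟩⟩⟩⟩ <;>
    simp [Cl.roots] at hts
  have hp : posC.roots.zip [A, B, X, E, F, G] = clWord posC A B X E F G := by
    simp [Cl.roots, clWord, posC]
  rw [hp] at hg ⊢
  have e := (C.img_class (k := posC) (by simp) A B X E F G).unique (mem_fixS.1 hg)
  have := DataG2.facts.coords_unique C.sig.hC coords
    (ts := [C.f B, C.f A ^ 3, C.f B * C.f A ^ 3 + C.f F,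
      C.f B ^ 2 * C.f A ^ 3 + C.f G, -(C.f B ^ 3 * C.f A ^ 3) + C.f X ^ 3,
        -(C.f B ^ 3 * (C.f A ^ 3) ^ 2) + C.f E ^ 3])
    (ts' := [A, B, X, E, F, G]) rfl rfl
    (by simpa [Cl.roots, clWord, posC] using e)
  simp only [List.cons.injEq, and_true] at this
  obtain ⟨hA, hB, hX, hE, -, -⟩ := this
  refine ⟨B, F, G, ?_⟩
  rw [hB] at hX hE
  rw [reeWordU_eq, ← C.hf, ← C.hf, ← C.hf, pow_succ, pow_succ, mul_comm 2, pow_mul, ← C.hf, hX, hE,
    hA]

theorem Ctx.word_fixed {w : List (ℕ × K)} (hw : w ∈ g2Words K (3 ^ m)) :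
    wU chevG2 w ∈ fixS C.σ ∧ (∀ p ∈ w, p.1 < chevG2.nroots) := by
  obtain ⟨t, u, v, rfl | rfl⟩ := hw
  · rw [reeWordU_eq]
    exact ⟨C.class_fixed (by simp) t u v, clWord_lt (by simp) _ _ _ _ _ _⟩
  · rw [reeWordV_eq]
    exact ⟨C.class_fixed (by simp) t u v, clWord_lt (by simp) _ _ _ _ _ _⟩

theorem Ctx.mem_gen {w : List (ℕ × K)} (hw : w ∈ g2Words K (3 ^ m)) :
    wU chevG2 w ∈ twistedG2 K (3 ^ m) :=
  Subgroup.subset_closure ⟨w, hw, DataG2.facts.wU_val (C.word_fixed hw).2⟩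

theorem Ctx.gen_eq : twistedG2 K (3 ^ m) =
    Subgroup.closure {g | ∃ w ∈ g2Words K (3 ^ m), g = wU chevG2 w} := by
  refine congrArg Subgroup.closure (Set.ext fun g => ?_)
  refine exists_congr fun w => and_congr_right fun hw => ?_
  rw [← DataG2.facts.wU_val (C.word_fixed hw).2, Units.val_inj]

omit C [Fintype K] in
theorem reeWordU_zip (e : ℕ) (t u v : K) : reeWordU e t u v = posC.roots.zip
    [t ^ e, t, t ^ (e + 1) + u ^ e, t ^ (2 * e + 1) + v ^ e, u, v] := by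
  simp [Cl.roots, reeWordU, posC]

omit C in
theorem mem_pos (t u v : K) :
    wU chevG2 (reeWordU (3 ^ m) t u v) ∈ rootClosure chevG2 K (· ∈ posC.roots) := by
  rw [reeWordU_zip]
  exact Facts.wU_mem_closure (fun r hr => (class_tables posC (by simp)).1 r hr)

theorem Ctx.mem_neg (t u v : K) :
    wU chevG2 (reeWordV (3 ^ m) t u v) ∈ rootClosure chevG2 K (· ∈ negC.roots) := by
  rw [reeWordV_eq, show ∀ A B X E F G : K, clWord negC A B X E F G = negC.roots.zip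
    [(negC.z : K) * A, (negC.z : K) * B, (negC.z : K) * X, (negC.z : K) * E, (negC.z : K) * F,
      (negC.z : K) * G] from fun _ _ _ _ _ _ => by simp [Cl.roots, clWord, negC]]
  exact Facts.wU_mem_closure (fun r hr => (class_tables negC (by simp)).1 r hr)

theorem Ctx.sys : TwSys chevG2 DataG2.co parG2 C.f C.σ O (twistedG2 K (3 ^ m)) where
  sig := C.sig
  orb := orb_ok
  le_fix := by
    rw [C.gen_eq, Subgroup.closure_le]
    rintro g ⟨w, hw, rfl⟩
    exact (C.word_fixed hw).1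
  posO_le := by
    refine fin_cases_spec ?_
    rintro g ⟨hg, h⟩
    obtain ⟨t, u, v, rfl⟩ := C.fix_class hg
      (rootClosure_mono (fun r hr => (posO_iff_list DataG2.chk_arrays pos_list r hr).1) h)
    exact C.mem_gen ⟨t, u, v, Or.inl rfl⟩
  neg_ex := by
    refine fin_cases_spec ⟨wU chevG2 (reeWordV (3 ^ m) 1 0 0), C.mem_gen ⟨1, 0, 0, Or.inr rfl⟩,
      rootClosure_mono (fun r hr h => (negO_iff_list DataG2.chk_arrays neg_list r hr).2 h)
        (C.mem_neg 1 0 0), ?_⟩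
    have := DataG2.facts.word_ne_one' C.sig.hC
      [⟨0, by decide⟩, ⟨1, by decide⟩, ⟨0, by decide⟩, ⟨1, by decide⟩, ⟨0, by decide⟩,
        ⟨1, by decide⟩]
      [⟨g2ma, by decide⟩, ⟨g2mb, by decide⟩, ⟨g2mab, by decide⟩, ⟨g2maab, by decide⟩,
        ⟨g2maaab, by decide⟩, ⟨g2maaabb, by decide⟩]
      (by decide +kernel)
      (t := ((-1 : ℤ) : K) * (1 : K) ^ 3 ^ m)
      (ts := [((-1 : ℤ) : K) * 1, ((-1 : ℤ) : K) * ((1 : K) ^ (3 ^ m + 1) + (0 : K) ^ 3 ^ m),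
        ((-1 : ℤ) : K) * ((1 : K) ^ (2 * 3 ^ m + 1) + (0 : K) ^ 3 ^ m), ((-1 : ℤ) : K) * 0,
        ((-1 : ℤ) : K) * 0]) rfl (by simp)
    rwa [reeWordV_eq]

theorem Ctx.card_orbit :
    ∀ o, Nat.card ↥(C.sys.fixU (O o).wO) ^ 2 = (3 ^ (2 * m + 1)) ^ flipNum (O o).wO := by
  refine fin_cases_spec ?_
  have hfl : flipNum (O ⟨0, by decide⟩).wO = 6 := by
    rw [Orb.wO, flipW_eq DataG2.chk_arrays DataG2.chk_chain DataG2.facts]
    exact flips
  rw [C.sys.fixU_wO, hfl,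
    show (3 ^ (2 * m + 1)) ^ 6 = ((3 ^ (2 * m + 1)) ^ 3) ^ 2 by ring]
  congr 1
  rw [show rootClosure chevG2 K ((O ⟨0, by decide⟩).posO DataG2.co) =
    rootClosure chevG2 K (· ∈ posC.roots) from
      rootClosure_congr (posO_iff_list DataG2.chk_arrays (p := ([0, 1], [0, 1, 0, 1, 0, 1]))
        pos_list),
    show (3 ^ (2 * m + 1)) ^ 3 = 3 ^ (2 * m + 1) * (3 ^ (2 * m + 1) * 3 ^ (2 * m + 1)) by ring,
    ← C.card, ← Nat.card_eq_fintype_card, ← Nat.card_prod, ← Nat.card_prod]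
  refine (Nat.card_eq_of_bijective (fun p : K × K × K =>
    (⟨wU chevG2 (reeWordU (3 ^ m) p.1 p.2.1 p.2.2),
      (C.word_fixed ⟨p.1, p.2.1, p.2.2, Or.inl rfl⟩).1, mem_pos p.1 p.2.1 p.2.2⟩ :
      ↥(fixS C.σ ⊓ rootClosure chevG2 K (· ∈ posC.roots) : Subgroup (GL chevG2.Idx K))))
    ⟨?_, ?_⟩).symm
  · intro a b e
    have := DataG2.facts.coords_unique C.sig.hC coords
      (ts := [a.1 ^ 3 ^ m, a.1, a.1 ^ (3 ^ m + 1) + a.2.1 ^ 3 ^ m,
        a.1 ^ (2 * 3 ^ m + 1) + a.2.2 ^ 3 ^ m, a.2.1, a.2.2])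
      (ts' := [b.1 ^ 3 ^ m, b.1, b.1 ^ (3 ^ m + 1) + b.2.1 ^ 3 ^ m,
        b.1 ^ (2 * 3 ^ m + 1) + b.2.2 ^ 3 ^ m, b.2.1, b.2.2]) rfl rfl
      (congrArg Subtype.val e)
    simp only [List.cons.injEq, and_true] at this
    exact Prod.ext this.2.1 (Prod.ext this.2.2.2.2.1 this.2.2.2.2.2)
  · rintro ⟨g, hg, h⟩
    obtain ⟨t, u, v, rfl⟩ := C.fix_class hg h
    exact ⟨(t, u, v), rfl⟩

theorem Ctx.sep {h : GL chevG2.Idx K} (hh : h ∈ chevG2.diagonalSubgroup K)
    (hc : ∀ g, g ∈ twistedG2 K (3 ^ m) → g ∈ rootClosure chevG2 K (chevG2.nroots / 2 ≤ ·) →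
      h * g = g * h) : h = 1 := by
  obtain ⟨c, rfl⟩ := DataG2.facts.mem_diagonal_iff.1 hh
  refine DataG2.facts.hT_eq_one_of_simple c fun i hi => ?_
  have key : ∀ p ∈ posC.roots.zip
      [(1 : K) ^ 3 ^ m, 1, 1 ^ (3 ^ m + 1) + 0 ^ 3 ^ m, 1 ^ (2 * 3 ^ m + 1) + 0 ^ 3 ^ m, 0, 0],
      p.2 ≠ 0 →
      ((∏ i ∈ Finset.range chevG2.rank, c i ^ chevG2.cartan i p.1 : Kˣ) : K) = 1 :=
    fun p hp hne => DataG2.facts.char_eq_one C.sig.hC coords rfl c
      (by
        rw [← reeWordU_zip]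
        exact hc _ (C.mem_gen ⟨1, 0, 0, Or.inl rfl⟩)
          (rootClosure_mono (fun r _ h => (Facts.coord_lt coords r h).2) (mem_pos 1 0 0))) p hp hne
  have : i < 2 := hi
  interval_cases i
  · exact key (g2a, 1 ^ 3 ^ m) (by simp [Cl.roots, posC]) (by simp)
  · exact key (g2b, 1) (by simp [Cl.roots, posC]) one_ne_zero

end TwG2

end CfsgLib.Chev
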