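/-
A relation in ²G₂(3): the element of order two of the torus as a product of the generators.
-/
import Mathlib
import Cfsg.Agent.Lib.Chev.Twist.G2
import Cfsg.Agent.Lib.Chev.CommG2

set_option autoImplicit false
set_option maxRecDepth 20000
set_option Elab.async false

namespace CfsgLib.Chev

open Cfsg.Lie CfsgLib.Chev.PolyCheck CfsgLib.Chev.Table
open scoped Matrix

universe v

namespace TwG2

/-- The total coefficient at a coordinate. -/
def total (L : List Mon) (a : ℕ) : ℤ := ((L.filter fun p => Nat.beq p.1.1 a).map Prod.snd).sum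

/-- Collect modulo three. -/
def red3 (L : List Mon) : List Mon :=
  (List.range 14).map fun a => ((a, 0, 0), total L a % 3)

/-- A column of a word with integer parameters, modulo three. -/
def colR (W : List (ℕ × ℤ)) (b : ℕ) : List Mon :=
  W.foldr (fun w L => red3 (act DataG2.tab (w.1, w.2, 0, 0) L)) [((b, 0, 0), 1)]

/-- The word of `reeWordU` with integer parameters. -/
def intU (t u v : ℤ) : List (ℕ × ℤ) :=
  [(g2a, t), (g2b, t), (g2ab, t * t + u), (g2aab, t * t * t + v), (g2aaab, u), (g2aaabb, v)]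

/-- The word of `reeWordV` with integer parameters. -/
def intV (t u v : ℤ) : List (ℕ × ℤ) :=
  [(g2ma, -t), (g2mb, -t), (g2mab, -(t * t + u)), (g2maab, -(t * t * t + v)), (g2maaab, -u),
    (g2maaabb, -v)]

/-- The relation. -/
def relW : List (ℕ × ℤ) :=
  intU 0 (-1) 0 ++ intV 0 (-1) 0 ++ intU 0 (-1) 0 ++ intU 1 (-1) 0 ++ intV (-1) (-1) 0 ++
    intU 1 (-1) 0

/-- The diagonal of the element of order two of the torus. -/
def sgn (b : ℕ) : ℤ :=
  if b < 2 then 1
  else if (chevG2.cartan 0 (b - 2) + chevG2.cartan 1 (b - 2)) % 2 = 0 then 1 else -1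

theorem rel_chk : (Table.allBelow 14 fun b => Table.allBelow 14 fun a =>
    (total (colR relW b) a - (if a = b then sgn b else 0)) % 3 == 0) = true := by
  decide +kernel

theorem relW_lt : ∀ p ∈ relW, p.1 < chevG2.nroots := by decide +kernel

theorem two_rank : chevG2.rank = 2 ∧ chevG2.nroots = 12 := by decide +kernel

variable {K : Type v} [Field K] [Fintype K] {m : ℕ}

omit [Fintype K] in
theorem evalM_one (L : List Mon) (x : chevG2.Idx) :
    evalM chevG2 (1 : K) 1 L x = ((total L (enc chevG2 x) : ℤ) : K) := by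
  induction L with
  | nil => simp [evalM, total]
  | cons p L ih =>
    rw [evalM_cons, Pi.add_apply, ih]
    simp only [evalM, total, List.map_cons, List.map_nil, List.sum_cons, List.sum_nil, add_zero,
      one_pow, mul_one, List.filter_cons]
    by_cases h : p.1.1 = enc chevG2 x
    · simp [h]
    · simp [h]

variable (C : Ctx K m)
include C

theorem Ctx.evalM_red3 (L : List Mon) : evalM chevG2 (1 : K) 1 (red3 L) = evalM chevG2 1 1 L := by
  funext x
  rw [evalM_one L]
  have hlt : enc chevG2 x < 14 := by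
    have := enc_lt (D := chevG2) x
    rw [two_rank.1, two_rank.2] at this
    exact this
  have hmod : ((total L (enc chevG2 x) % 3 : ℤ) : K) = (total L (enc chevG2 x) : ℤ) := by
    conv_rhs => rw [← Int.emod_add_ediv_mul (total L (enc chevG2 x)) 3]
    push_cast
    rw [C.three_eq_zero, mul_zero, add_zero]
  rw [← hmod]
  simp only [evalM, red3, List.map_map, Function.comp_def, one_pow, mul_one]
  rw [← List.sum_toFinset _ List.nodup_range, List.toFinset_range, Finset.sum_ite_eq',
    if_pos (Finset.mem_range.2 hlt)]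

theorem Ctx.evalM_colR (W : List (ℕ × ℤ)) (hW : ∀ w ∈ W, w.1 < chevG2.nroots)
    (y : chevG2.Idx) :
    evalM chevG2 (1 : K) 1 (colR W (enc chevG2 y)) =
        wR chevG2 (W.map fun w => (w.1, (w.2 : K))) *ᵥ Pi.single y 1 ∧
      ∀ p ∈ colR W (enc chevG2 y), p.1.1 < chevG2.rank + chevG2.nroots := by
  induction W with
  | nil =>
    refine ⟨?_, fun p hp => ?_⟩
    · funext x
      rw [evalM_one]
      simp only [colR, List.foldr_nil, total, List.filter_cons, List.filter_nil, List.map_nil,
        wR_nil, Matrix.one_mulVec, Pi.single_apply]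
      by_cases h : x = y
      · subst h; simp
      · have h' : ¬ enc chevG2 y = enc chevG2 x := fun e => h (enc_injective e).symm
        simp [h, h']
    · simp only [colR, List.foldr_nil, List.mem_singleton] at hp
      subst hp
      exact enc_lt y
  | cons w W ih =>
    obtain ⟨h1, h2⟩ := ih fun v hv => hW v (List.mem_cons_of_mem _ hv)
    obtain ⟨h3, -⟩ := evalM_act DataG2.chk_arrays DataG2.chk_chain DataG2.chk_pairs (1 : K) 1
      (w.1, w.2, 0, 0) (hW w (by simp)) _ h2
    refine ⟨?_, fun p hp => ?_⟩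
    · rw [show colR (w :: W) (enc chevG2 y) =
          red3 (act DataG2.tab (w.1, w.2, 0, 0) (colR W (enc chevG2 y))) from rfl,
        C.evalM_red3, h3, h1, List.map_cons, wR_cons, Matrix.mulVec_mulVec]
      simp [par]
    · rw [show colR (w :: W) (enc chevG2 y) =
          red3 (act DataG2.tab (w.1, w.2, 0, 0) (colR W (enc chevG2 y))) from rfl, red3,
        List.mem_map] at hp
      obtain ⟨a, ha, rfl⟩ := hp
      rw [two_rank.1, two_rank.2]
      exact List.mem_range.1 ha

omit [Fintype K] C in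
theorem char_neg_one (s : ℕ) :
    ((∏ i ∈ Finset.range chevG2.rank, (-1 : Kˣ) ^ chevG2.cartan i s : Kˣ) : K) =
      ((sgn (2 + s) : ℤ) : K) := by
  rw [← zpow_sum' , two_rank.1, Finset.sum_range_succ, Finset.sum_range_one, sgn,
    if_neg (by omega), Nat.add_sub_cancel_left]
  rcases Int.even_or_odd (chevG2.cartan 0 s + chevG2.cartan 1 s) with h | h
  · rw [h.neg_one_zpow, if_pos (Int.even_iff.1 h)]
    simp
  · rw [h.neg_one_zpow, if_neg (by rw [Int.odd_iff.1 h]; decide)]
    simp

theorem Ctx.int_word (t u v : ℤ) :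
    reeWordU (3 ^ m) (t : K) u v = (intU t u v).map (fun p => (p.1, (p.2 : K))) ∧
      reeWordV (3 ^ m) (t : K) u v = (intV t u v).map (fun p => (p.1, (p.2 : K))) := by
  have hc : ∀ z : ℤ, (z : K) ^ 3 ^ m = z := fun z => by rw [← C.hf, map_intCast]
  have h1 : (t : K) ^ (3 ^ m + 1) = t * t := by rw [pow_succ, hc]
  have h2 : (t : K) ^ (2 * 3 ^ m + 1) = t * t * t := by
    rw [pow_succ, mul_comm 2, pow_mul, hc, sq]
  constructor
  · simp [reeWordU, intU, hc, h1, h2]
  · rw [reeWordV_eq, hc, hc, hc, h1, h2]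
    simp [clWord, negC, intV, add_comm]

theorem Ctx.neg_one_mem : hT chevG2 (fun _ => (-1 : Kˣ)) ∈ twistedG2 K (3 ^ m) := by
  have hF := DataG2.facts
  have hU : ∀ t u v : ℤ,
      wU chevG2 ((intU t u v).map fun p => (p.1, (p.2 : K))) ∈ twistedG2 K (3 ^ m) ∧
      wU chevG2 ((intV t u v).map fun p => (p.1, (p.2 : K))) ∈ twistedG2 K (3 ^ m) := fun t u v => by
    rw [← (C.int_word t u v).1, ← (C.int_word t u v).2]
    exact ⟨C.mem_gen ⟨t, u, v, Or.inl rfl⟩, C.mem_gen ⟨t, u, v, Or.inr rfl⟩⟩
  have hmem : wU chevG2 (relW.map fun p => (p.1, (p.2 : K))) ∈ twistedG2 K (3 ^ m) := by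
    simp only [relW, List.map_append, wU_append]
    exact Subgroup.mul_mem _ (Subgroup.mul_mem _ (Subgroup.mul_mem _ (Subgroup.mul_mem _
      (Subgroup.mul_mem _ (hU 0 (-1) 0).1 (hU 0 (-1) 0).2) (hU 0 (-1) 0).1) (hU 1 (-1) 0).1)
      (hU (-1) (-1) 0).2) (hU 1 (-1) 0).1
  suffices e : hT chevG2 (fun _ => (-1 : Kˣ)) = wU chevG2 (relW.map fun p => (p.1, (p.2 : K))) by
    rwa [e]
  have hlt : ∀ p ∈ relW.map (fun p => (p.1, (p.2 : K))), p.1 < chevG2.nroots := by
    intro p hp
    obtain ⟨q, hq, rfl⟩ := List.mem_map.1 hp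
    exact relW_lt q hq
  refine Units.ext ?_
  rw [hT, dU_val, hF.wU_val hlt]
  have hw : chevG2.wordMat K (relW.map fun p => (p.1, (p.2 : K))) =
      wR chevG2 (relW.map fun p => (p.1, (p.2 : K))) := by
    rw [wR, ChevalleyDatum.wordMat]
    exact congrArg List.prod (List.map_congr_left fun p hp => hF.x_eq (hlt p hp) p.2)
  rw [hw]
  refine Matrix.ext_of_mulVec_single fun y => ?_
  rw [← (C.evalM_colR relW relW_lt y).1]
  funext x
  have hx := enc_lt (D := chevG2) x
  have hy := enc_lt (D := chevG2) y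
  rw [two_rank.1, two_rank.2] at hx hy
  have h := Table.allBelow_spec (Table.allBelow_spec rel_chk _ hy) _ hx
  rw [beq_iff_eq] at h
  have h' : ((total (colR relW (enc chevG2 y)) (enc chevG2 x) : ℤ) : K) =
      ((if enc chevG2 x = enc chevG2 y then sgn (enc chevG2 y) else 0 : ℤ) : K) := by
    rw [← sub_eq_zero, ← Int.cast_sub,
      ← Int.emod_add_ediv_mul (_ - _ : ℤ) 3, h]
    push_cast
    rw [C.three_eq_zero, mul_zero, add_zero]
  rw [evalM_one, h', Matrix.mulVec_single_one, diagC, Matrix.col_apply, Matrix.diagonal_apply]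
  by_cases hxy : x = y
  · subst hxy
    rw [if_pos rfl, if_pos rfl]
    rcases x with j | s
    · have : (j : ℕ) < 2 := lt_of_lt_of_eq j.isLt two_rank.1
      simp [sgn, enc, this]
    · rw [Sum.elim_inr, char_neg_one, enc_inr, two_rank.1]
  · rw [if_neg hxy, if_neg (fun e => hxy (enc_injective e)), Int.cast_zero]

end TwG2

end CfsgLib.Chev
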