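/-
The torus, order, simplicity and Weyl group of the groups of type ²G₂.
-/
import Mathlib
import Cfsg.Agent.Lib.Chev.Twist.G2
import Cfsg.Agent.Lib.Chev.Twist.G2Cert
import Cfsg.Agent.Lib.Chev.Twist.Torus
import Cfsg.Agent.Lib.Chev.Twist.Cox

set_option autoImplicit false
set_option maxRecDepth 20000
set_option Elab.async false

namespace CfsgLib.Chev

open Cfsg.Lie

universe v

namespace TwG2

theorem torus_tables : chevG2.simple 0 = g2a ∧ chevG2.simple 1 = g2b ∧ parG2.pi 0 = 1 ∧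
    parG2.pi 1 = 0 ∧ chevG2.rank = 2 ∧ parG2.lam g2a = 3 ∧ parG2.lam g2b = 1 := by
  decide +kernel

theorem cor_tables : cor chevG2 g2ab 0 = 1 ∧ cor chevG2 g2ab 1 = 3 ∧
    cor chevG2 g2aaab 0 = 1 ∧ cor chevG2 g2aaab 1 = 1 := by
  decide +kernel

/-- The Cartan matrix of type G₂. -/
def cart : List (List ℤ) := [[2, -1], [-3, 2]]

theorem cart_eq : ∀ i < 2, ∀ j < 2,
    chevG2.cartan j (chevG2.simple i) = (cart.getD i []).getD j 0 := by
  decide +kernel

theorem cart_high : ∀ j < 2,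
    chevG2.cartan j g2ab = chevG2.cartan j g2a + chevG2.cartan j g2b ∧
    chevG2.cartan j g2aab = 2 * chevG2.cartan j g2a + chevG2.cartan j g2b ∧
    chevG2.cartan j g2aaab = 3 * chevG2.cartan j g2a + chevG2.cartan j g2b ∧
    chevG2.cartan j g2aaabb = 3 * chevG2.cartan j g2a + 2 * chevG2.cartan j g2b := by
  decide +kernel

theorem pair_cross :
    parG2.commB chevG2 g2aaab g2ab = true ∧ parG2.commB chevG2 g2aaab g2mab = true ∧
    parG2.commB chevG2 g2maaab g2ab = true ∧ parG2.commB chevG2 g2maaab g2mab = true ∧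
    chevG2.neg g2ab = g2mab ∧ chevG2.neg g2aaab = g2maaab := by
  decide +kernel

theorem high_tables : coordB chevG2 [g2ab, g2aab, g2aaab, g2aaabb] = true ∧
    ∀ r < chevG2.nroots, (8 ≤ r ↔ r ∈ [g2ab, g2aab, g2aaab, g2aaabb]) := by
  decide +kernel

theorem order_chk :
    Table.chkOrder DataG2.tab ((O ⟨0, by decide⟩).word.map Fin.val) 2 = true := by
  decide +kernel

theorem len_vals : enum.size = 2 ∧ enum.len.get 0 = 0 ∧ enum.len.get 1 = 6 := by decide +kernel

variable {K : Type v} [Field K] [Fintype K] {m : ℕ} (C : Ctx K m)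

/-- Two values as a sequence. -/
def two (a b : Kˣ) : ℕ → Kˣ
  | 0 => a
  | 1 => b
  | _ => 1

omit [Fintype K] in
theorem char_two (a b : Kˣ) :
    (∏ j ∈ Finset.range chevG2.rank, two a b j ^ chevG2.cartan j g2a = a * a / b) ∧
    (∏ j ∈ Finset.range chevG2.rank, two a b j ^ chevG2.cartan j g2b = b * b / (a * a * a)) := by
  rw [show chevG2.rank = 2 from torus_tables.2.2.2.2.1, ← torus_tables.1, ← torus_tables.2.1]
  refine ⟨?_, ?_⟩ <;>
    simp (config := { decide := true }) [Finset.prod_range_succ, cart_eq, cart, two, zpow_ofNat,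
      pow_succ, div_eq_mul_inv, mul_comm, mul_left_comm, mul_assoc]

omit [Fintype K] in
theorem char_high (a b : Kˣ) (χa χb : Kˣ) (ha : χa = a * a / b) (hb : χb = b * b / (a * a * a)) :
    (∏ j ∈ Finset.range chevG2.rank, two a b j ^ chevG2.cartan j g2ab = χa * χb) ∧
    (∏ j ∈ Finset.range chevG2.rank, two a b j ^ chevG2.cartan j g2aab = χa ^ 2 * χb) ∧
    (∏ j ∈ Finset.range chevG2.rank, two a b j ^ chevG2.cartan j g2aaab = χa ^ 3 * χb) ∧
    (∏ j ∈ Finset.range chevG2.rank, two a b j ^ chevG2.cartan j g2aaabb = χa ^ 3 * χb ^ 2) := by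
  subst ha hb
  obtain ⟨h0, h1⟩ := char_two a b
  have h2 : ∀ j ∈ Finset.range chevG2.rank, j < 2 := fun j hj => by
    rw [Finset.mem_range, torus_tables.2.2.2.2.1] at hj; exact hj
  rw [← h0, ← h1]
  simp only [← Finset.prod_pow, ← Finset.prod_mul_distrib]
  refine ⟨?_, ?_, ?_, ?_⟩ <;> refine Finset.prod_congr rfl fun j hj => ?_ <;>
    obtain ⟨e1, e2, e3, e4⟩ := cart_high j (h2 j hj)
  · rw [e1, zpow_add]
  · rw [e2, zpow_add, mul_comm (2 : ℤ), zpow_mul]; norm_cast
  · rw [e3, zpow_add, mul_comm (3 : ℤ), zpow_mul]; norm_cast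
  · rw [e4, zpow_add, mul_comm (3 : ℤ), zpow_mul, mul_comm (2 : ℤ), zpow_mul]; norm_cast

omit [Fintype K] in
theorem two_eta (c : ℕ → Kˣ) : hT chevG2 c = hT chevG2 (two (c 0) (c 1)) :=
  DataG2.facts.hT_congr fun i hi => by
    have : i < 2 := hi
    interval_cases i <;> rfl

omit [Fintype K] in
theorem two_inj {a b a' b' : Kˣ} (h : hT chevG2 (two a b) = hT chevG2 (two a' b')) :
    a = a' ∧ b = b' := by
  have hF := DataG2.facts
  obtain ⟨s0, s1, -, -, h2, -⟩ := torus_tables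
  obtain ⟨e0, e1⟩ := char_two (a / a') (b / b')
  have key : ∀ i < 2, ∏ j ∈ Finset.range chevG2.rank,
      two (a / a') (b / b') j ^ chevG2.cartan j (chevG2.simple i) = 1 := by
    intro i hi
    rw [← (hF.hT_eq_iff _ _).1 h i (by omega)]
    refine Finset.prod_congr rfl fun j hj => ?_
    have : j < 2 := by rw [Finset.mem_range] at hj; omega
    interval_cases j <;> rfl
  have h0 := key 0 (by norm_num)
  have h1 := key 1 (by norm_num)
  rw [s0, e0, div_eq_one] at h0
  rw [s1, e1, div_eq_one] at h1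
  set A := a / a' with hA
  set B := b / b' with hB
  rw [← h0] at h1
  have hA1 : A = 1 := mul_left_cancel (a := A * A * A) (by rw [mul_one, ← mul_assoc] at *; exact h1)
  rw [hA1, one_mul] at h0
  exact ⟨div_eq_one.1 hA1, div_eq_one.1 h0.symm⟩

include C

/-- The image of a unit. -/
abbrev Ctx.fu : Kˣ →* Kˣ := Units.map (C.f : K →* K)

theorem Ctx.fu_theta (a : Kˣ) : C.fu (C.fu a) ^ 3 = a :=
  Units.ext (by rw [Units.val_pow_eq_pow_val]; exact C.theta _)

theorem Ctx.neg_one_ne : (-1 : Kˣ) ≠ 1 := fun e => by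
  have h : (-1 : K) = 1 := congrArg Units.val e
  exact one_ne_zero (α := K) (by linear_combination C.three_eq_zero + h)

theorem Ctx.fu_neg_one : C.fu (-1) = -1 := Units.ext (by simp)

theorem Ctx.eq_of_sq {X : Kˣ} (h : X * X = 1) : X = 1 ∨ X = -1 := by
  have h' := congrArg Units.val h
  rw [Units.val_mul, Units.val_one, mul_self_eq_one_iff] at h'
  exact h'.imp (fun e => Units.ext e) (fun e => Units.ext e)

/-- The parametrisation of the torus. -/
noncomputable def Ctx.par : Kˣ →* GL chevG2.Idx K :=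
  MonoidHom.mk' (fun b => hT chevG2 (two (C.fu b) b)) fun x y => by
    rw [← DataG2.facts.hT_mul]
    refine DataG2.facts.hT_congr fun i hi => ?_
    have : i < 2 := hi
    interval_cases i <;> simp [two]

theorem Ctx.img_two (c : ℕ → Kˣ) : Img C.σ (hT chevG2 c)
    (hT chevG2 (two (C.fu (c 1)) (C.fu (c 0) ^ 3))) := by
  obtain ⟨s0, s1, p0, p1, h2, l0, l1⟩ := torus_tables
  refine (congrArg (Img C.σ (hT chevG2 c)) (DataG2.facts.hT_congr fun i hi => ?_)).mp
    (C.sig.img_hT c)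
  have : i < 2 := hi
  interval_cases i <;>
    simp [h2, Finset.prod_range_succ, p0, p1, s0, s1, l0, l1, two]

theorem Ctx.mem_range_of_fix {h : GL chevG2.Idx K} (hh : h ∈ chevG2.diagonalSubgroup K)
    (hf : h ∈ fixS C.σ) : h ∈ C.par.range := by
  obtain ⟨c, rfl⟩ := DataG2.facts.mem_diagonal_iff.1 hh
  have e := (C.img_two c).unique hf
  rw [two_eta c] at e
  obtain ⟨e0, -⟩ := two_inj e
  refine ⟨c 1, ?_⟩
  show hT chevG2 (two (C.fu (c 1)) (c 1)) = _
  rw [e0, ← two_eta c]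

theorem Ctx.par_injective : Function.Injective C.par := fun _ _ e => (two_inj e).2

theorem Ctx.commute_pair :
    (∀ x y : K, Commute (xU chevG2 g2aaab x) (xU chevG2 g2ab y)) ∧
    (∀ x y : K, Commute (xU chevG2 g2aaab x) (xU chevG2 g2mab y)) ∧
    (∀ x y : K, Commute (xU chevG2 g2maaab x) (xU chevG2 g2ab y)) ∧
    ∀ x y : K, Commute (nU chevG2 g2aaab x) (nU chevG2 g2ab y) := by
  obtain ⟨h1, h2, h3, h4, n1, n4⟩ := pair_cross
  have A : ∀ x y : K, Commute (xU chevG2 g2aaab x) (xU chevG2 g2ab y) :=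
    C.sig.commute_xU (by decide) (by decide) h1
  have B : ∀ x y : K, Commute (xU chevG2 g2aaab x) (xU chevG2 g2mab y) :=
    C.sig.commute_xU (by decide) (by decide) h2
  have A' : ∀ x y : K, Commute (xU chevG2 g2maaab x) (xU chevG2 g2ab y) :=
    C.sig.commute_xU (by decide) (by decide) h3
  have B' : ∀ x y : K, Commute (xU chevG2 g2maaab x) (xU chevG2 g2mab y) :=
    C.sig.commute_xU (by decide) (by decide) h4
  refine ⟨A, B, A', fun x y => ?_⟩
  simp only [nU, n1, n4]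
  have e1 := ((A x y).mul_right (B x (-y⁻¹))).mul_right (A x y)
  have e2 := ((A' (-x⁻¹) y).mul_right (B' (-x⁻¹) (-y⁻¹))).mul_right (A' (-x⁻¹) y)
  exact (e1.mul_left e2).mul_left e1

theorem Ctx.pair_eq (w : K) :
    wU chevG2 (reeWordU (3 ^ m) 0 w 0) = xU chevG2 g2ab (C.f w) * xU chevG2 g2aaab w ∧
    wU chevG2 (reeWordV (3 ^ m) 0 w 0) =
      xU chevG2 g2mab (C.f (-w)) * xU chevG2 g2maaab (-w) := by
  have hF := DataG2.facts
  have z : ∀ r < chevG2.nroots, xU chevG2 r (0 : K) = 1 := fun r hr => hF.xU_zero hr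
  have h0 : (0 : K) ^ 3 ^ m = 0 := zero_pow (by positivity)
  obtain ⟨hz, -⟩ := class_tables posC (by simp)
  obtain ⟨hz', -⟩ := class_tables negC (by simp)
  simp only [Cl.roots, posC, negC, List.mem_cons, List.not_mem_nil, or_false, forall_eq_or_imp,
    forall_eq] at hz hz'
  obtain ⟨a1, a2, a3, a4, a5, a6⟩ := hz
  obtain ⟨b1, b2, b3, b4, b5, b6⟩ := hz'
  constructor
  · simp [reeWordU_eq, clWord, posC, wU, h0, C.hf, z g2a a1, z g2b a2, z g2aab a4,
      z g2aaabb a6]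
  · simp [reeWordV_eq, clWord, negC, wU, h0, C.hf, z g2ma b1, z g2mb b2, z g2maab b4,
      z g2maaabb b6, (show Odd (3 ^ m) from Odd.pow (by decide)).neg_pow]

theorem Ctx.nU_pair (w : K) :
    nU chevG2 g2ab (C.f w) * nU chevG2 g2aaab w ∈ twistedG2 K (3 ^ m) := by
  obtain ⟨A, B, A', -⟩ := C.commute_pair
  obtain ⟨-, -, -, -, n1, n4⟩ := pair_cross
  have hP := C.mem_gen ⟨0, w, 0, Or.inl rfl⟩
  have hM := C.mem_gen ⟨0, w⁻¹, 0, Or.inr rfl⟩
  rw [(C.pair_eq _).1] at hP
  rw [(C.pair_eq _).2, map_neg, map_inv₀] at hM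
  have := Subgroup.mul_mem _ (Subgroup.mul_mem _ hP hM) hP
  simp only [nU, n1, n4]
  rwa [sandwich (A _ _) (B _ _) (A' _ _)] at this

/-- The map onto the squares. -/
noncomputable def Ctx.phi : Kˣ →* Kˣ :=
  MonoidHom.mk' (fun w => C.fu w ^ 3 * w) fun x y => by
    rw [map_mul, mul_pow, mul_mul_mul_comm]

theorem Ctx.phi_torus (w : Kˣ) : C.par (C.phi w) ∈ twistedG2 K (3 ^ m) := by
  have hF := DataG2.facts
  obtain ⟨c1, c2, c3, c4⟩ := cor_tables
  have h1 := Subgroup.mul_mem _ (C.nU_pair (w : K)) (C.nU_pair (-1))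
  rw [map_neg, map_one, (C.commute_pair.2.2.2 _ _).mul_mul_mul_comm] at h1
  have e : C.par (C.phi w) =
      hU chevG2 g2ab (C.f (w : K)) * hU chevG2 g2aaab (w : K) := by
    rw [show C.f (w : K) = ((C.fu w : Kˣ) : K) from rfl, hF.hU_eq_hT (by decide),
      hF.hU_eq_hT (by decide), ← hF.hT_mul]
    refine hF.hT_congr fun i hi => ?_
    have : i < 2 := hi
    interval_cases i
    · show C.fu (C.fu w ^ 3 * w) = C.fu w ^ cor chevG2 g2ab 0 * w ^ cor chevG2 g2aaab 0
      rw [c1, c3, zpow_one, zpow_one, map_mul, map_pow, C.fu_theta, mul_comm]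
    · show C.fu w ^ 3 * w = C.fu w ^ cor chevG2 g2ab 1 * w ^ cor chevG2 g2aaab 1
      rw [c2, c4, zpow_one]
      rfl
  rw [e]
  exact h1

theorem Ctx.phi_fix {w : Kˣ} (h : C.phi w * C.phi w = 1) : w = 1 ∨ w = -1 := by
  have h' : C.fu w ^ 3 * w = 1 ∨ C.fu w ^ 3 * w = -1 := C.eq_of_sq h
  have key : w ^ 3 = w := by
    have e : C.fu w ^ 3 = w⁻¹ ∨ C.fu w ^ 3 = -w⁻¹ := h'.imp eq_inv_of_mul_eq_one_left fun e => by
      rw [← neg_one_mul w⁻¹, ← e, mul_inv_cancel_right]
    have e2 : C.fu (C.fu w ^ 3) ^ 3 = w ^ 3 := by rw [map_pow, C.fu_theta]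
    rcases e with e | e
    · rw [e, map_inv, inv_pow, e, inv_inv] at e2
      exact e2.symm
    · rw [e, ← neg_one_mul w⁻¹, map_mul, map_inv, C.fu_neg_one, mul_pow, inv_pow, e] at e2
      rw [← e2]
      simp [pow_succ]
  refine C.eq_of_sq (mul_left_cancel (a := w) ?_)
  rw [mul_one, ← mul_assoc]
  simpa [pow_succ] using key

theorem Ctx.range_le : C.par.range ≤ chevG2.diagonalSubgroup K ⊓ twistedG2 K (3 ^ m) := by
  rintro _ ⟨b, rfl⟩
  refine ⟨DataG2.facts.mem_diagonal_iff.2 ⟨_, rfl⟩, ?_⟩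
  have hneg : C.par (-1) ∈ twistedG2 K (3 ^ m) := by
    refine (congrArg (· ∈ twistedG2 K (3 ^ m)) (DataG2.facts.hT_congr fun i hi => ?_)).mpr
      C.neg_one_mem
    have : i < 2 := hi
    interval_cases i
    · exact C.fu_neg_one
    · rfl
  by_cases hb : b ∈ C.phi.range
  · obtain ⟨w, rfl⟩ := hb
    exact C.phi_torus w
  have hn : (-1 : Kˣ) ∉ C.phi.range := by
    rintro ⟨w, hw⟩
    rcases C.phi_fix (w := w) (by rw [hw, neg_mul_neg, one_mul]) with rfl | rfl
    · rw [map_one] at hw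
      exact C.neg_one_ne hw.symm
    · refine C.neg_one_ne (hw.symm.trans ?_)
      show C.fu (-1) ^ 3 * -1 = 1
      rw [C.fu_neg_one]
      simp [pow_succ]
  have hker : Nat.card C.phi.ker ≤ 2 := by
    classical
    rw [Nat.card_eq_fintype_card, Fintype.card_subtype]
    refine (Finset.card_le_card (t := {1, -1}) fun w hw => ?_).trans Finset.card_le_two
    have h1 : C.phi w = 1 := MonoidHom.mem_ker.1 (Finset.mem_filter.1 hw).2
    rcases C.phi_fix (w := w) (by rw [h1, one_mul]) with rfl | rfl <;> simp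
  have hidx : C.phi.range.index = 2 := by
    have h1 := Subgroup.card_mul_index C.phi.range
    have h2 := Subgroup.card_mul_index C.phi.ker
    rw [Subgroup.index_ker] at h2
    have hpos : 0 < Nat.card C.phi.range := Nat.card_pos
    have hne : C.phi.range.index ≠ 1 := fun e => by
      rw [Subgroup.index_eq_one] at e
      exact hn (e ▸ Subgroup.mem_top _)
    have h3 : C.phi.range.index = Nat.card C.phi.ker :=
      Nat.eq_of_mul_eq_mul_left hpos (h1.trans (h2.symm.trans (mul_comm _ _)))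
    have h4 : C.phi.range.index ≠ 0 := Subgroup.index_ne_zero_of_finite
    omega
  obtain ⟨w, hw⟩ := (Subgroup.mul_mem_iff_of_index_two hidx (a := b) (b := -1)).2
    (iff_of_false hb hn)
  have := Subgroup.mul_mem _ (C.phi_torus w) hneg
  rw [hw, ← map_mul, mul_assoc, neg_mul_neg, one_mul, mul_one] at this
  exact this

theorem Ctx.diag_eq : chevG2.diagonalSubgroup K ⊓ twistedG2 K (3 ^ m) = C.par.range :=
  le_antisymm (fun _ hg => C.mem_range_of_fix hg.1 (C.sys.le_fix hg.2)) C.range_le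

theorem Ctx.card_torus :
    Nat.card ↥(chevG2.diagonalSubgroup K ⊓ twistedG2 K (3 ^ m) : Subgroup (GL chevG2.Idx K)) =
      3 ^ (2 * m + 1) - 1 := by
  rw [C.diag_eq, Nat.card_congr (MonoidHom.ofInjective C.par_injective).toEquiv.symm,
    Nat.card_units, Nat.card_eq_fintype_card, C.card]

theorem Ctx.card_posU :
    Nat.card ↥(chevG2.posUnipotent K ⊓ twistedG2 K (3 ^ m) : Subgroup (GL chevG2.Idx K)) =
      (3 ^ (2 * m + 1)) ^ 3 := by
  have h := C.sys.card_posU (e := 2) (q := 3 ^ (2 * m + 1)) C.card_orbit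
  rw [show chevG2.nroots / 2 = 3 * 2 by decide +kernel, pow_mul] at h
  rw [← Nat.pow_left_injective two_ne_zero h, DataG2.facts.posUnipotent_eq]
  refine Nat.card_congr (Equiv.setCongr (Set.ext fun g => ?_))
  rw [show chevG2.nroots / 2 = 3 * 2 by decide +kernel]
  exact ⟨fun hg => ⟨C.sys.le_fix hg.2, hg.1⟩, fun hg => ⟨hg.2, C.sys.posU_le (by
    rwa [show chevG2.nroots / 2 = 3 * 2 by decide +kernel])⟩⟩

theorem Ctx.card_twisted : Nat.card ↥(twistedG2 K (3 ^ m)) =
    (3 ^ (2 * m + 1)) ^ 3 * (3 ^ (2 * m + 1) - 1) * ((3 ^ (2 * m + 1)) ^ 3 + 1) := by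
  obtain ⟨W, hW, hwf, hlen⟩ := enum_sound DataG2.chk_arrays DataG2.chk_chain DataG2.facts
    C.sys orbs_chk enum_chk
  obtain ⟨hs, l0, l1⟩ := len_vals
  set q := 3 ^ (2 * m + 1) with hq
  have h2 : ∀ a ∈ Finset.range enum.size,
      Nat.card ↥(C.sys.fixU (W a)) = q ^ (enum.len.get a / 2) := by
    intro a ha
    have hmem : W a ∈ C.sys.wFix := hwf ▸ Finset.mem_image_of_mem W ha
    obtain ⟨⟨l, hl⟩, hwf'⟩ := C.sys.mem_wFix.1 hmem
    have h := C.sys.card_fixU (e := 2) C.card_orbit hl hwf'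
    have he : enum.len.get a % 2 = 0 := by
      rw [Finset.mem_range, hs] at ha
      interval_cases a <;> simp [l0, l1]
    rw [hlen a (Finset.mem_range.1 ha),
      show enum.len.get a = enum.len.get a / 2 * 2 by omega, pow_mul] at h
    exact Nat.pow_left_injective two_ne_zero h
  rw [C.sys.card_group, hwf, Finset.sum_image hW, Finset.sum_congr rfl h2, C.sys.card_B]
  have hU := C.sys.card_posU (e := 2) (q := q) C.card_orbit
  rw [show chevG2.nroots / 2 = 3 * 2 by decide +kernel, pow_mul] at hU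
  have hU' := Nat.pow_left_injective two_ne_zero hU
  rw [show chevG2.nroots / 2 = 3 * 2 by decide +kernel, hU', inf_comm, C.card_torus, hs,
    Finset.sum_range_succ, Finset.sum_range_one, l0, l1, ← hq]
  rw [show 0 / 2 = 0 from rfl, show 6 / 2 = 3 from rfl, pow_zero]
  ring

theorem Ctx.irr : C.sys.bnPair.Irreducible := by
  refine TwSys.irreducible C.sys fun o o' h => ?_
  have h1 : o'.val < 1 := o'.isLt
  omega

theorem Ctx.weyl :
    ∃ φ : ↥(chevG2.monomialSubgroup K ⊓ twistedG2 K (3 ^ m)) →* Multiplicative (ZMod 2),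
      Function.Surjective φ ∧ φ.ker = (chevG2.diagonalSubgroup K ⊓ twistedG2 K (3 ^ m)).subgroupOf
        (chevG2.monomialSubgroup K ⊓ twistedG2 K (3 ^ m)) := by
  have hF := DataG2.facts
  set o : Fin spec.length := ⟨0, by decide⟩
  have hgen : ∀ w : ↥(TwSys.orbGroup O), w ∈ Subgroup.zpowers (TwSys.orbGen O o) := fun w => by
    obtain ⟨w, hw⟩ := w
    induction hw using Subgroup.closure_induction with
    | mem x hx =>
      obtain ⟨o', rfl⟩ := hx
      revert o'
      exact fin_cases_spec (Subgroup.mem_zpowers _)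
    | one => exact Subgroup.one_mem _
    | mul x y _ _ hx hy => exact Subgroup.mul_mem _ hx hy
    | inv x _ hx => exact Subgroup.inv_mem _ hx
  have hcard : Nat.card ↥(TwSys.orbGroup O) = 2 := by
    rw [← orderOf_eq_card_of_forall_mem_zpowers hgen,
      ← Subgroup.orderOf_coe]
    exact Table.orderOf_sW DataG2.chk_arrays DataG2.chk_chain DataG2.facts order_chk
  have : IsCyclic ↥(TwSys.orbGroup O) := ⟨⟨_, hgen⟩⟩
  let e := (zmodCyclicMulEquiv (G := ↥(TwSys.orbGroup O)) inferInstance)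
  rw [hcard] at e
  refine ⟨e.symm.toMonoidHom.comp (C.sys.permHom.codRestrict (TwSys.orbGroup O) C.sys.permHom_mem),
    ?_, ?_⟩
  · refine e.symm.surjective.comp fun w => ?_
    obtain ⟨k, rfl⟩ := Subgroup.mem_zpowers_iff.1 (hgen w)
    exact ⟨⟨C.sys.nO o, C.sys.nO_monomial o, C.sys.nO_mem o⟩ ^ k, by
      rw [map_zpow]
      exact congrArg (· ^ k) (Subtype.ext (C.sys.permHom_eq (C.sys.nO_perm o)))⟩
  · ext g
    rw [MonoidHom.mem_ker, Subgroup.mem_subgroupOf, MonoidHom.comp_apply,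
      MulEquiv.coe_toMonoidHom, EmbeddingLike.map_eq_one_iff, Subtype.ext_iff]
    show C.sys.permHom g = 1 ↔ _
    constructor
    · intro h
      obtain ⟨w, hw⟩ := hF.exists_permAct g.2.1
      rw [C.sys.permHom_eq hw] at h
      subst h
      exact ⟨hF.mem_diagonal_of_permAct g.2.1 hw, g.2.2⟩
    · exact fun h => C.sys.permHom_eq (hF.permAct_diagonal h.1)

theorem Ctx.exists_pow_ten (hm : 1 ≤ m) : ∃ b : Kˣ, b ^ 10 ≠ 1 := by
  by_contra h
  push Not at h
  obtain ⟨g, hg⟩ := IsCyclic.exists_generator (α := Kˣ)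
  have ho := orderOf_eq_card_of_forall_mem_zpowers hg
  have hd := orderOf_dvd_of_pow_eq_one (h g)
  rw [ho, Nat.card_units, Nat.card_eq_fintype_card, C.card] at hd
  have h1 := Nat.le_of_dvd (by norm_num) hd
  have h2 : 3 ^ 3 ≤ 3 ^ (2 * m + 1) := Nat.pow_le_pow_right (by norm_num) (by omega)
  omega

/-- A class element. -/
noncomputable def Ctx.cl (_C : Ctx K m) (t u v : K) : GL chevG2.Idx K :=
  wU chevG2 (reeWordU (3 ^ m) t u v)

theorem Ctx.cl_val (t u v : K) : C.cl t u v =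
    xU chevG2 g2a (C.f t) * xU chevG2 g2b t *
      (xU chevG2 g2ab (C.f t * t + C.f u) * xU chevG2 g2aab (C.f t ^ 2 * t + C.f v) *
        (xU chevG2 g2aaab u * xU chevG2 g2aaabb v)) := by
  have e1 : t ^ (3 ^ m + 1) + u ^ 3 ^ m = C.f t * t + C.f u := by rw [pow_succ, C.hf, C.hf]
  have e2 : t ^ (2 * 3 ^ m + 1) + v ^ 3 ^ m = C.f t ^ 2 * t + C.f v := by
    rw [pow_succ, C.hf, C.hf, mul_comm 2, pow_mul]
  rw [Ctx.cl, reeWordU_eq, e1, e2, ← C.hf t]
  simp [wU, clWord, posC, mul_assoc]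

theorem Ctx.cl_mem (t u v : K) :
    C.cl t u v ∈ twistedG2 K (3 ^ m) ∧ C.cl t u v ∈ rootClosure chevG2 K (· ∈ posC.roots) :=
  ⟨C.mem_gen ⟨t, u, v, Or.inl rfl⟩, mem_pos t u v⟩

theorem Ctx.cl_mul_center (t u v u' v' : K) :
    C.cl t u v * C.cl 0 u' v' = C.cl t (u + u') (v + v') := by
  have hF := DataG2.facts
  obtain ⟨hr, -, -, -, ⟨kce, kcg, kch, keg, keh, kgh⟩, -, -, -⟩ := class_tables posC (by simp)
  have cce := C.sig.commute_xU (hr _ (by simp [Cl.roots])) (hr _ (by simp [Cl.roots])) kce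
  have ccg := C.sig.commute_xU (hr _ (by simp [Cl.roots])) (hr _ (by simp [Cl.roots])) kcg
  have cch := C.sig.commute_xU (hr _ (by simp [Cl.roots])) (hr _ (by simp [Cl.roots])) kch
  have ceg := C.sig.commute_xU (hr _ (by simp [Cl.roots])) (hr _ (by simp [Cl.roots])) keg
  have ceh := C.sig.commute_xU (hr _ (by simp [Cl.roots])) (hr _ (by simp [Cl.roots])) keh
  have cgh := C.sig.commute_xU (hr _ (by simp [Cl.roots])) (hr _ (by simp [Cl.roots])) kgh
  simp only [posC] at cce ccg cch ceg ceh cgh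
  have hsw : ∀ a b p q : K, Commute (xU chevG2 g2aaab a * xU chevG2 g2aaabb b)
      (xU chevG2 g2ab p * xU chevG2 g2aab q) := fun a b p q =>
    (((ccg p a).symm.mul_right (ceg q a).symm).mul_left ((cch p b).symm.mul_right (ceh q b).symm))
  rw [C.cl_val, C.cl_val, C.cl_val, map_zero, hF.xU_zero (by decide), hF.xU_zero (by decide),
    one_mul, one_mul, mul_assoc (xU chevG2 g2a _ * _), (hsw _ _ _ _).mul_mul_mul_comm,
    (cce _ _).symm.mul_mul_mul_comm, (cgh _ _).symm.mul_mul_mul_comm, hF.xU_add (by decide),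
    hF.xU_add (by decide), hF.xU_add (by decide), hF.xU_add (by decide), map_add, map_add]
  simp [add_assoc]

/-- The coordinate at the second simple root of a product. -/
theorem Ctx.cl_mul_fst {a b c : K} {u v u' v' x y : K}
    (h : C.cl a u v * C.cl b u' v' = C.cl c x y) : c = a + b := by
  have hF := DataG2.facts
  set N := rootClosure chevG2 K (8 ≤ ·) with hN
  have hn : ∀ p q r s : K, xU chevG2 g2ab p * xU chevG2 g2aab q *
      (xU chevG2 g2aaab r * xU chevG2 g2aaabb s) ∈ N := fun p q r s => by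
    refine Subgroup.mul_mem _ (Subgroup.mul_mem _ ?_ ?_) (Subgroup.mul_mem _ ?_ ?_) <;>
      exact xU_mem_rootClosure (by decide) (by decide) _
  have hnorm : ∀ {z : GL chevG2.Idx K}, z ∈ rootClosure chevG2 K (chevG2.nroots / 2 ≤ ·) →
      ∀ n ∈ N, z⁻¹ * n * z ∈ N := fun hz n h' => by
    have h6 : chevG2.nroots / 2 ≤ 8 := by decide
    simpa using (Subgroup.mem_normalizer_iff.1
      (hF.pos_le_normalizer_above C.sig.hC h6 (Subgroup.inv_mem _ hz)) n).1 h'
  have hb : ∀ z : K, xU chevG2 g2b z ∈ rootClosure chevG2 K (chevG2.nroots / 2 ≤ ·) :=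
    xU_mem_rootClosure (by decide) (by decide)
  have ha : ∀ z : K, xU chevG2 g2a z ∈ rootClosure chevG2 K (chevG2.nroots / 2 ≤ ·) :=
    xU_mem_rootClosure (by decide) (by decide)
  rw [C.cl_val, C.cl_val, C.cl_val] at h
  set P := xU chevG2 g2ab (C.f a * a + C.f u) * xU chevG2 g2aab (C.f a ^ 2 * a + C.f v) *
      (xU chevG2 g2aaab u * xU chevG2 g2aaabb v) with hP
  set Q := xU chevG2 g2ab (C.f b * b + C.f u') * xU chevG2 g2aab (C.f b ^ 2 * b + C.f v') *
      (xU chevG2 g2aaab u' * xU chevG2 g2aaabb v') with hQ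
  set a2 := xU chevG2 g2a (C.f b) * xU chevG2 g2b b with ha2
  obtain ⟨R₀, hR₀, e0⟩ : ∃ R ∈ N, xU chevG2 g2b a * xU chevG2 g2a (C.f b) =
      xU chevG2 g2a (C.f b) * xU chevG2 g2b a * R := by
    have := C.swap_ab (k := posC) (by simp) (C.f b) a
    simp only [posC, Int.cast_one, one_mul] at this
    exact ⟨_, hn _ _ _ _, this⟩
  set R := (xU chevG2 g2b b)⁻¹ * R₀ * xU chevG2 g2b b * (a2⁻¹ * P * a2 * Q) with hR
  have hRN : R ∈ N := Subgroup.mul_mem _ (hnorm (hb _) _ hR₀)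
    (Subgroup.mul_mem _ (hnorm (Subgroup.mul_mem _ (ha _) (hb _)) _ (hn _ _ _ _)) (hn _ _ _ _))
  have key : xU chevG2 g2a (C.f a) * xU chevG2 g2b a * P * (a2 * Q) =
      xU chevG2 g2a (C.f a + C.f b) * xU chevG2 g2b (a + b) * R := by
    calc xU chevG2 g2a (C.f a) * xU chevG2 g2b a * P * (a2 * Q)
        = xU chevG2 g2a (C.f a) * (xU chevG2 g2b a * xU chevG2 g2a (C.f b)) * xU chevG2 g2b b *
            (a2⁻¹ * P * a2 * Q) := by rw [ha2]; group
      _ = xU chevG2 g2a (C.f a) * xU chevG2 g2a (C.f b) *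
            (xU chevG2 g2b a * xU chevG2 g2b b) * R := by rw [e0, hR]; group
      _ = _ := by rw [hF.xU_add (by decide), hF.xU_add (by decide)]
  rw [key] at h
  obtain ⟨ts, hts, hR'⟩ := hF.exists_coords C.sig.hC high_tables.1 R
    (rootClosure_mono (fun r hr h' => (high_tables.2 r hr).1 h') hRN)
  rcases ts with - | ⟨p, - | ⟨q, - | ⟨r, - | ⟨s, - | ⟨_, _⟩⟩⟩⟩⟩ <;> simp at hts
  rw [hR'] at h
  have := hF.coords_unique C.sig.hC coords
    (ts := [C.f a + C.f b, a + b, p, q, r, s])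
    (ts' := [C.f c, c, C.f c * c + C.f x, C.f c ^ 2 * c + C.f y, x, y]) rfl rfl
    (by simpa [wU, Cl.roots, posC, mul_assoc] using h)
  simp only [List.cons.injEq, and_true] at this
  exact this.2.1.symm

theorem Ctx.inDer_class (hm : 1 ≤ m) (T U V : K) : C.sys.InDer (C.cl T U V) := by
  have hF := DataG2.facts
  obtain ⟨b, hb⟩ := C.exists_pow_ten hm
  set X : Kˣ := b * b / (C.fu b * C.fu b * C.fu b) with hX
  have hX2 : X * X ≠ 1 := fun e => by
    refine hb ?_
    have e1 : (b * b) * (b * b) = (C.fu b * C.fu b * C.fu b) * (C.fu b * C.fu b * C.fu b) := by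
      rw [hX, div_mul_div_comm, div_eq_one] at e
      exact e
    have e1' : C.fu b ^ 6 = b ^ 4 := by
      simpa [pow_succ, mul_assoc] using e1.symm
    have e2 : C.fu b ^ 12 = b ^ 18 := by
      have := congrArg (fun z : Kˣ => C.fu z ^ 3) e1'
      simp only [map_pow, ← pow_mul] at this
      rw [show 6 * 3 = 3 * 6 from rfl, pow_mul, C.fu_theta] at this
      rw [show 4 * 3 = 12 from rfl] at this
      calc C.fu b ^ 12 = b ^ 6 := this.symm
        _ = b ^ 18 := ?_
      have h4 : C.fu b ^ 12 = b ^ 8 := by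
        rw [show 12 = 6 * 2 from rfl, pow_mul, e1', ← pow_mul]
      have h2 : b ^ 2 = 1 := mul_left_cancel (a := b ^ 6) (by rw [mul_one, ← pow_add, ← h4, this])
      rw [show 18 = 6 + 2 * 6 from rfl, pow_add, pow_mul, h2, one_pow, mul_one]
    have h4 : C.fu b ^ 12 = b ^ 8 := by
      rw [show 12 = 6 * 2 from rfl, pow_mul, e1', ← pow_mul]
    exact mul_left_cancel (a := b ^ 8) (by rw [mul_one, ← pow_add, ← h4, e2])
  have hX1 : X ≠ 1 := fun e => hX2 (by rw [e, one_mul])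
  have hY : C.fu X ^ 3 * X ≠ 1 := fun e => hX2 (by
    rcases C.phi_fix (w := X) (by show C.fu X ^ 3 * X * (C.fu X ^ 3 * X) = 1; rw [e, one_mul])
      with h | h <;> rw [h] <;> simp)
  have hZ : C.fu X ^ 3 * X ^ 2 ≠ 1 := fun e => hX1 (by
    have e2 : C.fu (C.fu X ^ 3) ^ 3 = X ^ 3 := by rw [map_pow, C.fu_theta]
    rw [eq_inv_of_mul_eq_one_left e, map_inv, map_pow, inv_pow, ← pow_mul,
      show 2 * 3 = 3 * 2 from rfl, pow_mul, eq_inv_of_mul_eq_one_left e, inv_pow, inv_inv,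
      ← pow_mul, show 2 * 2 = 3 + 1 from rfl, pow_succ] at e2
    exact mul_eq_left.1 e2)
  set h := C.par b with hdef
  have hG : h ∈ twistedG2 K (3 ^ m) := (C.range_le ⟨b, rfl⟩).2
  have hpar : h = hT chevG2 (two (C.fu b) b) := rfl
  obtain ⟨ca, cb⟩ := char_two (C.fu b) b
  have hfX : C.fu b * C.fu b / b = C.fu X := by
    rw [hX, map_div, map_mul, map_mul, map_mul,
      show C.fu (C.fu b) * C.fu (C.fu b) * C.fu (C.fu b) = b by
        rw [← pow_two, ← pow_succ]; exact C.fu_theta b]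
  obtain ⟨cab, caab, caaab, caaabb⟩ := char_high (C.fu b) b (C.fu X) X hfX.symm hX
  rw [hfX] at ca
  rw [← hX] at cb
  set Y : K := ((C.fu X ^ 3 * X : Kˣ) : K) with hYd
  set Z : K := ((C.fu X ^ 3 * X ^ 2 : Kˣ) : K) with hZd
  have hval : ((C.fu X : Kˣ) : K) = C.f (X : K) := rfl
  have hconj : ∀ t u v : K, h * C.cl t u v * h⁻¹ = C.cl ((X : K) * t) (Y * u) (Z * v) := by
    intro t u v
    rw [C.cl_val, C.cl_val,
      show ∀ a b c d e g : GL chevG2.Idx K, h * (a * b * (c * d * (e * g))) * h⁻¹ =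
        h * a * h⁻¹ * (h * b * h⁻¹) * (h * c * h⁻¹ * (h * d * h⁻¹) *
          (h * e * h⁻¹ * (h * g * h⁻¹))) from fun a b c d e g => by group,
      hpar, hF.hT_conj_xU _ (by decide), hF.hT_conj_xU _ (by decide), hF.hT_conj_xU _ (by decide),
      hF.hT_conj_xU _ (by decide), hF.hT_conj_xU _ (by decide), hF.hT_conj_xU _ (by decide),
      ca, cb, cab, caab, caaab, caaabb]
    simp only [hYd, hZd, Units.val_mul, Units.val_pow_eq_pow_val, hval, map_mul, map_pow, C.theta]
    congr 3 <;> congr 1 <;> ring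
  have hinv : ∀ u v : K, (C.cl 0 u v)⁻¹ = C.cl 0 (-u) (-v) := fun u v => by
    refine inv_eq_of_mul_eq_one_right ?_
    rw [C.cl_mul_center, add_neg_cancel, add_neg_cancel, C.cl_val]
    simp [hF.xU_zero (show g2a < chevG2.nroots by decide),
      hF.xU_zero (show g2b < chevG2.nroots by decide),
      hF.xU_zero (show g2ab < chevG2.nroots by decide),
      hF.xU_zero (show g2aab < chevG2.nroots by decide),
      hF.xU_zero (show g2aaab < chevG2.nroots by decide),
      hF.xU_zero (show g2aaabb < chevG2.nroots by decide)]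
  have hcenter : ∀ u v : K, C.sys.InDer (C.cl 0 u v) := by
    intro u v
    have h1 : Y - 1 ≠ 0 := sub_ne_zero.2 fun e => hY (Units.ext e)
    have h2 : Z - 1 ≠ 0 := sub_ne_zero.2 fun e => hZ (Units.ext e)
    have key := C.sys.inDer_commutator hG (C.cl_mem 0 (u / (Y - 1)) (v / (Z - 1))).1
    rwa [hconj, hinv, mul_zero, C.cl_mul_center,
      show Y * (u / (Y - 1)) + -(u / (Y - 1)) = u by field_simp; ring,
      show Z * (v / (Z - 1)) + -(v / (Z - 1)) = v by field_simp; ring] at key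
  have hne : (X : K) - 1 ≠ 0 := sub_ne_zero.2 fun e => hX1 (Units.ext e)
  set t := T / ((X : K) - 1) with ht
  have key := C.sys.inDer_commutator hG (C.cl_mem t 0 0).1
  rw [hconj, mul_zero, mul_zero] at key
  obtain ⟨T', U', V', e⟩ := C.fix_class (C.sys.le_fix key.1)
    (Subgroup.mul_mem _ (C.cl_mem _ _ _).2 (Subgroup.inv_mem _ (C.cl_mem _ _ _).2))
  change _ = C.cl T' U' V' at e
  have e3 : C.cl T' U' V' * C.cl t 0 0 = C.cl ((X : K) * t) 0 0 := by
    rw [← e, inv_mul_cancel_right]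
  have hT : T' = T := by
    have h5 : T = (X : K) * t - t := by rw [ht]; field_simp
    rw [h5, C.cl_mul_fst e3, add_sub_cancel_right]
  subst hT
  rw [e] at key
  have := C.sys.inDer_mul key (hcenter (U - U') (V - V'))
  rwa [C.cl_mul_center, add_sub_cancel, add_sub_cancel] at this

theorem Ctx.gen_orbit {g : GL chevG2.Idx K}
    (hg : g ∈ {g | ∃ w ∈ g2Words K (3 ^ m), g = wU chevG2 w}) :
    g ∈ twistedG2 K (3 ^ m) ∧ ∃ o, g ∈ rootClosure chevG2 K ((O o).posO DataG2.co) ∨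
      g ∈ rootClosure chevG2 K ((O o).negO DataG2.co) := by
  obtain ⟨w, hw, rfl⟩ := hg
  refine ⟨C.mem_gen hw, ⟨0, by decide⟩, ?_⟩
  obtain ⟨t, u, v, rfl | rfl⟩ := hw
  · exact Or.inl (rootClosure_mono
      (fun r hr h => (posO_iff_list DataG2.chk_arrays pos_list r hr).2 h) (mem_pos t u v))
  · exact Or.inr (rootClosure_mono
      (fun r hr h => (negO_iff_list DataG2.chk_arrays neg_list r hr).2 h) (C.mem_neg t u v))

theorem Ctx.perfect_twisted (hm : 1 ≤ m) : commutator ↥(twistedG2 K (3 ^ m)) = ⊤ := by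
  refine C.sys.perfect (S := {g | ∃ w ∈ g2Words K (3 ^ m), g = wU chevG2 w}) C.gen_eq.le
    (fun g hg => C.gen_orbit hg) (fin_cases_spec ?_)
  intro g hg h
  obtain ⟨t, u, v, rfl⟩ := C.fix_class (C.sys.le_fix hg)
    (rootClosure_mono (fun r hr => (posO_iff_list DataG2.chk_arrays pos_list r hr).1) h)
  exact C.inDer_class hm t u v

theorem Ctx.simple_twisted (hm : 1 ≤ m) :
    IsSimpleGroup ↥(twistedG2 K (3 ^ m)) ∧ ¬ IsMulCommutative ↥(twistedG2 K (3 ^ m)) := by
  obtain ⟨v, hv, -, hv1⟩ := C.sys.neg_ex ⟨0, by decide⟩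
  exact C.sys.simple (fun h hh hc => C.sep hh hc) C.irr (C.perfect_twisted hm) ⟨v, hv, hv1⟩

end TwG2

end CfsgLib.Chev
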