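/-
Certificates for the group of type ²F₄ over the field with two elements.
-/
import Mathlib
import Cfsg.Agent.Lib.Chev.Twist.Bin

set_option autoImplicit false
set_option maxRecDepth 20000

namespace CfsgLib.Chev.TwF4.Tits

open Cfsg.Lie Bin

/-- The roots of the six generators. -/
def genR (k : Fin 6) : List ℕ :=
  [[33, 24], [14, 23], [27, 25, 28], [28, 30], [20, 22, 19], [19, 17]].getD k.val []

/-- The roots of a word in the generators. -/
def wordR (w : List (Fin 6)) : List ℕ := w.flatMap genR

/-- The first reflection. -/
def n0 : List (Fin 6) := [0, 1, 0]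

/-- The second reflection. -/
def n1 : List (Fin 6) := [2, 3, 4, 3]

/-- The twelve positive elements: a conjugating word, a generator, and the roots of the element. -/
def pos : List (List (Fin 6) × Fin 6 × List ℕ) :=
  [([], 0, [24, 33]), ([], 2, [25, 27, 30]), ([], 3, [28, 30]), (n0, 2, [26, 34, 42]),
   (n0, 3, [36, 42]), (n1, 0, [37, 32]), (n0 ++ n1, 0, [38, 43]), (n1 ++ n0, 2, [35, 31, 40]),
   (n1 ++ n0, 3, [40, 46]), (n0 ++ n1 ++ n0, 2, [29, 41, 44]), (n0 ++ n1 ++ n0, 3, [44, 47]),
   (n1 ++ n0 ++ n1, 0, [39, 45])]

/-- The roots of a positive element. -/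
def posR (a : ℕ) : List ℕ := (pos.getD a ([], 0, [])).2.2

theorem pos_ok : pos.all (fun x =>
    x.2.2.all (fun r => xroots.contains r && decide (chevF4.nroots / 2 ≤ r)) &&
    rootsC (x.2.2 ++ wordR x.1) == rootsC (wordR x.1 ++ genR x.2.1)) = true := by
  decide +kernel

theorem gen_ok : (List.finRange 6).all (fun k => (genR k).all fun r => xroots.contains r) = true := by
  decide +kernel

theorem rel_c : rootsC (wordR [2, 2]) = rootsC (wordR [3]) := by decide +kernel
theorem rel_m : rootsC (wordR (n0 ++ [0] ++ n0)) = rootsC (wordR [1]) := by decide +kernel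
theorem rel_d01 : rootsC (wordR (n1 ++ [3] ++ n1)) = rootsC (wordR [5]) := by decide +kernel
theorem rel_d10 : rootsC (wordR (n1 ++ [2] ++ n1)) = rootsC (wordR [4]) := by decide +kernel
theorem rel_n0 : rootsC (wordR (n0 ++ n0)) = rootsC [] := by decide +kernel
theorem rel_n1 : rootsC (wordR (n1 ++ n1)) = rootsC [] := by decide +kernel
theorem rel_p : rootsC (posR 7 ++ posR 1 ++ posR 5) = rootsC (posR 1 ++ posR 7) := by decide +kernel
theorem rel_c01 : rootsC (posR 9 ++ posR 0 ++ posR 4) = rootsC (posR 0 ++ posR 9) := by decide +kernel

/-- The positive elements in the order of the normal form, with the separating bit. -/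
def order : List (ℕ × ℕ) :=
  [(2, 7), (7, 11), (5, 10), (11, 14), (1, 6), (6, 21), (9, 19), (3, 31), (0, 37), (8, 0), (10, 23),
   (4, 33)]

/-- The test vector. -/
def key : ℕ := 262176

/-- The images of the test vector under the products, with the exponents. -/
def level : List (ℕ × ℕ) → List (List Bool × ℕ)
  | [] => [([], key)]
  | x :: L =>
    (level L).map (fun p => (false :: p.1, p.2)) ++
      (level L).map (fun p => (true :: p.1, ap (rootsC (posR x.1)) p.2))

/-- Each step is detected by its bit. -/
def sepB : List (ℕ × ℕ) → Bool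
  | [] => true
  | x :: L =>
    (level L).all (fun p => !p.2.testBit x.2 && (ap (rootsC (posR x.1)) p.2).testBit x.2) && sepB L

/-- The parity of the exponents of the elements outside the derived subgroup. -/
def parity : List (ℕ × ℕ) → List Bool → Bool
  | x :: L, b :: e => (b && decide (x.1 ∈ [1, 3, 7, 9])) ^^ parity L e
  | _, _ => false

/-- Apply a product to a vector. -/
def apW : List (ℕ × ℕ) → List Bool → ℕ → ℕ
  | x :: L, b :: e, y => if b then ap (rootsC (posR x.1)) (apW L e y) else apW L e y
  | _, _, y => y

/-- No product of odd parity is an involution. -/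
def involB : Bool :=
  (level order).all fun p => !parity order p.1 || apW order p.1 p.2 % 2 ^ 52 != key

theorem order_ok : order.all (fun x => decide (x.1 < 12) && decide (x.2 < 52)) = true := by decide +kernel
theorem sep_ok : sepB order = true := by decide +kernel
theorem invol_ok : involB = true := by decide +kernel

end CfsgLib.Chev.TwF4.Tits
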