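/-
Involutions of the group of type ²F₄ over the field with two elements.
-/
import Mathlib
import Cfsg.Agent.Lib.Chev.Twist.F4Main
import Cfsg.Agent.Lib.Chev.Twist.TitsCert

set_option autoImplicit false

namespace CfsgLib.Chev.TwF4.Tits

open Cfsg.Lie Bin Matrix

/-- The group. -/
abbrev G : Subgroup (GL chevF4.Idx (ZMod 2)) := twistedF4 (ZMod 2) 1

theorem exists_ctx : Nonempty (Ctx (ZMod 2) 0) := nonempty_ctx (by simp)

theorem rootsU_append (a b : List ℕ) : rootsU (a ++ b) = rootsU a * rootsU b := by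
  simp [rootsU, wU]

theorem rootsU_eq {a b : List ℕ} (ha : ∀ r ∈ a, r ∈ xroots) (hb : ∀ r ∈ b, r ∈ xroots)
    (h : rootsC a = rootsC b) : rootsU a = rootsU b :=
  Units.ext (enc_inj (rootsU_enc a ha) (h ▸ rootsU_enc b hb))

theorem genR_mem (k : Fin 6) : rootsU (genR k) ∈ G := by
  obtain ⟨C⟩ := exists_ctx
  have hF := DataF4.facts
  have key : ∀ w ∈ f4Words (ZMod 2) (2 ^ 0), wU chevF4 w ∈ G := fun w hw => by
    simpa using C.mem_gen hw
  have z : ∀ r < chevF4.nroots, xU chevF4 r (0 : ZMod 2) = 1 := fun r hr => hF.xU_zero hr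
  fin_cases k
  · simpa [rootsU, genR, f4PairWord, f4p1, f4p4] using key _ (Or.inl ⟨1, Or.inl rfl⟩)
  · simpa [rootsU, genR, f4PairWord, f4m1, f4m4] using key _ (Or.inl ⟨1, Or.inr rfl⟩)
  · simpa [rootsU, genR, wU, b2ClassWord, f4a, f4b, f4ab, f4aab, z 30 (by decide)] using
      key _ (Or.inr ⟨1, 0, Or.inl rfl⟩)
  · simpa [rootsU, genR, wU, b2ClassWord, f4a, f4b, f4ab, f4aab, z 27 (by decide), z 25 (by decide)] using
      key _ (Or.inr ⟨0, 1, Or.inl rfl⟩)
  · simpa [rootsU, genR, wU, b2ClassWord, f4ma, f4mb, f4mab, f4maab, z 17 (by decide)] using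
      key _ (Or.inr ⟨1, 0, Or.inr rfl⟩)
  · simpa [rootsU, genR, wU, b2ClassWord, f4ma, f4mb, f4mab, f4maab, z 20 (by decide), z 22 (by decide)] using
      key _ (Or.inr ⟨0, 1, Or.inr rfl⟩)

/-- A generator. -/
noncomputable def gk (k : Fin 6) : ↥G := ⟨rootsU (genR k), genR_mem k⟩

/-- The value of a word. -/
noncomputable def gw (w : List (Fin 6)) : ↥G := (w.map gk).prod

theorem gw_val (w : List (Fin 6)) : (gw w : GL chevF4.Idx (ZMod 2)) = rootsU (wordR w) := by
  induction w with
  | nil => simp [gw, wordR, rootsU, wU]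
  | cons k w ih =>
    rw [gw, List.map_cons, List.prod_cons, Subgroup.coe_mul, ← gw, ih]
    show rootsU (genR k) * _ = _
    rw [← rootsU_append]
    rfl

theorem genR_ok (k : Fin 6) : ∀ r ∈ genR k, r ∈ xroots := by
  have h := List.all_eq_true.1 gen_ok k (List.mem_finRange k)
  simpa using h

theorem wordR_ok (w : List (Fin 6)) : ∀ r ∈ wordR w, r ∈ xroots := by
  intro r hr
  obtain ⟨k, -, hk⟩ := List.mem_flatMap.1 hr
  exact genR_ok k r hk

theorem gw_eq {a b : List (Fin 6)} (h : rootsC (wordR a) = rootsC (wordR b)) : gw a = gw b :=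
  Subtype.ext (by rw [gw_val, gw_val, rootsU_eq (wordR_ok a) (wordR_ok b) h])

theorem gw_append (a b : List (Fin 6)) : gw (a ++ b) = gw a * gw b := by
  simp [gw]

theorem pos_spec (a : ℕ) (ha : a < 12) :
    (∀ r ∈ posR a, r ∈ xroots ∧ chevF4.nroots / 2 ≤ r) ∧ rootsU (posR a) ∈ G ∧
      ∀ h, (⟨rootsU (posR a), h⟩ : ↥G) =
        gw (pos.getD a ([], 0, [])).1 * gk (pos.getD a ([], 0, [])).2.1 *
          (gw (pos.getD a ([], 0, [])).1)⁻¹ := by
  have hlen : a < pos.length := by simpa [pos] using ha
  have h := List.all_eq_true.1 pos_ok _ (List.getElem_mem hlen)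
  rw [show posR a = (pos[a]).2.2 by rw [posR, List.getD_eq_getElem _ _ hlen],
    List.getD_eq_getElem _ _ hlen]
  generalize pos[a] = x at h ⊢
  simp only [Bool.and_eq_true, List.all_eq_true, List.contains_eq_mem, decide_eq_true_eq, beq_iff_eq] at h
  obtain ⟨h1, h2⟩ := h
  have hok : ∀ r ∈ x.2.2, r ∈ xroots := fun r hr => (h1 r hr).1
  have e := rootsU_eq (a := x.2.2 ++ wordR x.1) (b := wordR x.1 ++ genR x.2.1)
    (fun r hr => (List.mem_append.1 hr).elim (hok r) (wordR_ok _ r))
    (fun r hr => (List.mem_append.1 hr).elim (wordR_ok _ r) (genR_ok _ r)) h2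
  rw [rootsU_append, rootsU_append] at e
  have hmem : rootsU x.2.2 ∈ G := by
    have e' : rootsU x.2.2 = ((gw x.1 * gk x.2.1 * (gw x.1)⁻¹ : ↥G) : GL chevF4.Idx (ZMod 2)) := by
      simp only [Subgroup.coe_mul, Subgroup.coe_inv, gw_val, gk]
      exact eq_mul_inv_of_mul_eq e
    exact e' ▸ (gw x.1 * gk x.2.1 * (gw x.1)⁻¹).2
  refine ⟨h1, hmem, fun hm => eq_mul_inv_of_mul_eq (Subtype.ext ?_)⟩
  simp only [Subgroup.coe_mul, gw_val, gk]
  exact e

/-- A positive element. -/
noncomputable def gp (a : ℕ) : ↥G :=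
  haveI := _root_.Classical.propDecidable (rootsU (posR a) ∈ G)
  if h : rootsU (posR a) ∈ G then ⟨rootsU (posR a), h⟩ else 1

theorem gp_val {a : ℕ} (ha : a < 12) : (gp a : GL chevF4.Idx (ZMod 2)) = rootsU (posR a) := by
  rw [gp, dif_pos (pos_spec a ha).2.1]

/-- The abelianised group. -/
abbrev q : ↥G →* Abelianization ↥G := Abelianization.of

theorem q_word : ∀ w : List (Fin 6),
    q (gw w) = (q (gk 2)) ^ (w.countP fun k => decide (k = 2 ∨ k = 4)) ∧ q (gk 2) * q (gk 2) = 1 := by
  have one : ∀ k, q (gw [k]) = q (gk k) := fun k => by simp [gw]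
  have conj : ∀ (a : List (Fin 6)) (k l : Fin 6), rootsC (wordR (a ++ a)) = rootsC [] →
      rootsC (wordR (a ++ [k] ++ a)) = rootsC (wordR [l]) → q (gk k) = q (gk l) := by
    intro a k l h1 h2
    have e1 : gw a * gw a = 1 := by
      rw [← gw_append, gw_eq (b := []) (by rw [h1]; rfl)]; simp [gw]
    have e2 := congrArg q (gw_eq h2)
    rw [gw_append, gw_append, map_mul, map_mul, one, one, mul_comm (q (gw a)), mul_assoc, ← map_mul, e1,
      map_one, mul_one] at e2
    exact e2
  have comm : ∀ a b c : ℕ, a < 12 → b < 12 → c < 12 →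
      rootsC (posR b ++ posR a ++ posR c) = rootsC (posR a ++ posR b) → q (gp c) = 1 := by
    intro a b c ha hb hc h
    have hok : ∀ i, i < 12 → ∀ r ∈ posR i, r ∈ xroots := fun i hi r hr => ((pos_spec i hi).1 r hr).1
    have e : gp b * gp a * gp c = gp a * gp b := Subtype.ext (by
      simp only [Subgroup.coe_mul, gp_val ha, gp_val hb, gp_val hc, ← rootsU_append]
      refine rootsU_eq ?_ ?_ h <;> simp only [List.mem_append] <;>
        rintro r hr <;> aesop)
    have e2 := congrArg q e
    rwa [map_mul, map_mul, map_mul, mul_comm (q (gp a)), mul_eq_left] at e2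
  have gq : ∀ a, a < 12 → q (gp a) = q (gk (pos.getD a ([], 0, [])).2.1) := by
    intro a ha
    obtain ⟨-, hm, he⟩ := pos_spec a ha
    rw [show gp a = ⟨rootsU (posR a), hm⟩ from Subtype.ext (gp_val ha), he hm, map_mul, map_mul, map_inv,
      mul_comm, ← mul_assoc, inv_mul_cancel, one_mul]
  have p0 : q (gk 0) = 1 := by
    have := comm 1 7 5 (by omega) (by omega) (by omega) rel_p
    rwa [gq 5 (by omega)] at this
  have p3 : q (gk 3) = 1 := by
    have := comm 0 9 4 (by omega) (by omega) (by omega) rel_c01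
    rwa [gq 4 (by omega)] at this
  have p1 : q (gk 1) = 1 := by rw [← conj n0 0 1 rel_n0 rel_m, p0]
  have p5 : q (gk 5) = 1 := by rw [← conj n1 3 5 rel_n1 rel_d01, p3]
  have p4 : q (gk 4) = q (gk 2) := (conj n1 2 4 rel_n1 rel_d10).symm
  have h2 : q (gk 2) * q (gk 2) = 1 := by
    have e := congrArg q (gw_eq rel_c)
    simpa [gw, p3] using e
  intro w
  refine ⟨?_, h2⟩
  induction w with
  | nil => simp [gw]
  | cons k w ih =>
    rw [gw, List.map_cons, List.prod_cons, map_mul, ← gw, ih, List.countP_cons]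
    fin_cases k <;> simp [p0, p1, p3, p4, p5, pow_succ']

theorem q_pos {a : ℕ} (ha : a < 12) :
    q (gp a) = if a ∈ [1, 3, 7, 9] then q (gk 2) else 1 := by
  obtain ⟨-, hm, he⟩ := pos_spec a ha
  rw [show gp a = ⟨rootsU (posR a), hm⟩ from Subtype.ext (gp_val ha), he hm, map_mul, map_mul, map_inv,
    mul_comm, ← mul_assoc, inv_mul_cancel, one_mul]
  have one : ∀ k, q (gk k) = q (gk 2) ^ ([k].countP fun j => decide (j = 2 ∨ j = 4)) := fun k => by
    rw [← (q_word [k]).1]; simp [gw]
  rw [one]
  interval_cases a <;> simp [pos]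

/-- The product with given exponents. -/
noncomputable def gprod : List (ℕ × ℕ) → List Bool → ↥G
  | x :: L, b :: e => (if b then gp x.1 else 1) * gprod L e
  | _, _ => 1

theorem gprod_apply : ∀ (L : List (ℕ × ℕ)) (e : List Bool) (y : ℕ), (∀ x ∈ L, x.1 < 12) →
    ((gprod L e : GL chevF4.Idx (ZMod 2)) : Matrix chevF4.Idx chevF4.Idx (ZMod 2)) *ᵥ vz y = vz (apW L e y) := by
  intro L
  induction L with
  | nil => intro e y _; simp [gprod, apW]
  | cons x L ih =>
    intro e y hL
    cases e with
    | nil => simp [gprod, apW]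
    | cons b e =>
      have h := ih e y fun z hz => hL z (List.mem_cons_of_mem _ hz)
      cases b
      · simpa [gprod, apW] using h
      · simp only [gprod, apW, if_true, Subgroup.coe_mul, Units.val_mul, ← Matrix.mulVec_mulVec, h]
        rw [gp_val (hL x List.mem_cons_self)]
        exact enc_mulVec (rootsU_enc _ fun r hr => ((pos_spec x.1 (hL x List.mem_cons_self)).1 r hr).1) _

theorem mem_level : ∀ (L : List (ℕ × ℕ)) (e : List Bool), e.length = L.length →
    (e, apW L e key) ∈ level L := by
  intro L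
  induction L with
  | nil => intro e he; simp [level, apW, List.length_eq_zero_iff.1 he]
  | cons x L ih =>
    intro e he
    cases e with
    | nil => simp at he
    | cons b e =>
      have := ih e (by simpa using he)
      cases b <;> simp only [level, apW, List.mem_append, List.mem_map]
      · exact Or.inl ⟨_, this, rfl⟩
      · exact Or.inr ⟨_, this, rfl⟩

theorem gprod_inj : ∀ (L : List (ℕ × ℕ)), (∀ x ∈ L, x.1 < 12 ∧ x.2 < 52) → sepB L = true →
    ∀ e e' : List Bool, e.length = L.length → e'.length = L.length → gprod L e = gprod L e' → e = e' := by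
  intro L
  induction L with
  | nil => intro _ _ e e' he he' _; rw [List.length_eq_zero_iff.1 he, List.length_eq_zero_iff.1 he']
  | cons x L ih =>
    intro hL hs e e' he he' h
    cases e with
    | nil => simp at he
    | cons b e =>
    cases e' with
    | nil => simp at he'
    | cons b' e' =>
    rw [sepB, Bool.and_eq_true, List.all_eq_true] at hs
    obtain ⟨hs1, hs2⟩ := hs
    have hlt : ∀ z ∈ x :: L, z.1 < 12 := fun z hz => (hL z hz).1
    have bit : ∀ (c : Bool) (f : List Bool), f.length = L.length →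
        (apW (x :: L) (c :: f) key).testBit x.2 = c := by
      intro c f hf
      have := hs1 _ (mem_level L f hf)
      simp only [Bool.and_eq_true, Bool.not_eq_true'] at this
      cases c <;> simp [apW, this.1, this.2]
    have hv := congrArg (fun g : ↥G => ((g : GL chevF4.Idx (ZMod 2)) : Matrix chevF4.Idx chevF4.Idx (ZMod 2)) *ᵥ vz key) h
    simp only [gprod_apply _ _ _ hlt] at hv
    have hb := congrFun hv (eB ⟨x.2, (hL x List.mem_cons_self).2⟩)
    simp only [vz, Equiv.symm_apply_apply, bit b e (by simpa using he), bit b' e' (by simpa using he')] at hb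
    have : b = b' := by cases b <;> cases b' <;> first | rfl | (simp [bz] at hb)
    subst this
    simp only [gprod, mul_right_inj] at h
    rw [ih (fun z hz => hL z (List.mem_cons_of_mem _ hz)) hs2 e e' (by simpa using he) (by simpa using he') h]

theorem q_gprod : ∀ (L : List (ℕ × ℕ)), (∀ x ∈ L, x.1 < 12) → ∀ e : List Bool,
    q (gprod L e) = if parity L e then q (gk 2) else 1 := by
  intro L
  induction L with
  | nil => intro _ e; simp [gprod, parity]
  | cons x L ih =>
    intro hL e
    cases e with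
    | nil => simp [gprod, parity]
    | cons b e =>
      have h2 := (q_word []).2
      simp only [gprod, parity, map_mul, ih (fun z hz => hL z (List.mem_cons_of_mem _ hz)) e]
      cases b
      · simp
      · rw [if_pos rfl, q_pos (hL x List.mem_cons_self)]
        by_cases hx : x.1 ∈ [1, 3, 7, 9] <;>
          rcases Bool.eq_false_or_eq_true (parity L e) with hp | hp <;> simp [hx, hp, h2]

/-- The positive unipotent part. -/
abbrev Upos : Subgroup ↥G := (chevF4.posUnipotent (ZMod 2)).subgroupOf G

theorem card_Upos : Nat.card Upos = 4096 := by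
  obtain ⟨C⟩ := exists_ctx
  rw [Upos, ← Subgroup.inf_subgroupOf_right,
    Nat.card_congr (Subgroup.subgroupOfEquivOfLe (inf_le_right : chevF4.posUnipotent (ZMod 2) ⊓ G ≤ G)).toEquiv]
  have h := C.card_posU
  simpa using h

theorem card_G : Nat.card ↥G = 4096 * 8775 := by
  obtain ⟨C⟩ := exists_ctx
  have h := C.card_twisted
  simpa using h

theorem gp_mem {a : ℕ} (ha : a < 12) : gp a ∈ Upos := by
  rw [Subgroup.mem_subgroupOf, gp_val ha, DataF4.facts.posUnipotent_eq]
  refine wU_mem fun p hp => ?_
  obtain ⟨r, hr, rfl⟩ := List.mem_map.1 hp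
  obtain ⟨h1, h2⟩ := (pos_spec a ha).1 r hr
  exact xU_mem_rootClosure (xroots_lt r h1) h2 _

theorem gprod_mem : ∀ (L : List (ℕ × ℕ)), (∀ x ∈ L, x.1 < 12) → ∀ e, gprod L e ∈ Upos := by
  intro L
  induction L with
  | nil => intro _ e; simp [gprod]
  | cons x L ih =>
    intro hL e
    cases e with
    | nil => simp [gprod]
    | cons b e =>
      refine mul_mem ?_ (ih (fun z hz => hL z (List.mem_cons_of_mem _ hz)) e)
      cases b
      · exact one_mem _
      · exact gp_mem (hL x List.mem_cons_self)

theorem exists_gprod {u : ↥G} (hu : u ∈ Upos) :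
    ∃ e : List Bool, e.length = order.length ∧ u = gprod order e := by
  have hok : ∀ x ∈ order, x.1 < 12 ∧ x.2 < 52 := fun x hx => by
    simpa using List.all_eq_true.1 order_ok x hx
  let f : List.Vector Bool order.length → Upos := fun e => ⟨gprod order e.1, gprod_mem _ (fun x hx => (hok x hx).1) _⟩
  have hinj : Function.Injective f := fun a b h =>
    Subtype.ext (gprod_inj order hok sep_ok a.1 b.1 a.2 b.2 (congrArg Subtype.val h))
  have hcard : Nat.card (List.Vector Bool order.length) = Nat.card Upos := by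
    rw [card_Upos, Nat.card_eq_fintype_card, card_vector, Fintype.card_bool]
    rfl
  obtain ⟨e, he⟩ := ((Nat.bijective_iff_injective_and_card f).2 ⟨hinj, hcard⟩).2 ⟨u, hu⟩
  exact ⟨e.1, e.2, (congrArg Subtype.val he).symm⟩

/-- Every involution lies in the derived subgroup. -/
theorem involution_mem (g : ↥G) (hg : orderOf g = 2) : g ∈ commutator ↥G := by
  haveI : Fact (Nat.Prime 2) := ⟨Nat.prime_two⟩
  have hidx : ¬ 2 ∣ Upos.index := fun h => by
    have e := Upos.card_mul_index
    rw [card_Upos, card_G] at e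
    rw [Nat.eq_of_mul_eq_mul_left (by norm_num) e] at h
    norm_num at h
  let P : Sylow 2 ↥G :=
    (IsPGroup.of_card (p := 2) (n := 12) (by rw [card_Upos]; norm_num) : IsPGroup 2 Upos).toSylow hidx
  obtain ⟨Q, hQ⟩ := (IsPGroup.of_card (p := 2) (n := 1) (G := Subgroup.zpowers g)
    (by rw [Nat.card_zpowers, hg, pow_one])).exists_le_sylow
  obtain ⟨h, rfl⟩ := MulAction.exists_smul_eq ↥G P Q
  have hu := hQ (Subgroup.mem_zpowers g)
  rw [Sylow.coe_subgroup_smul, Subgroup.mem_pointwise_smul_iff_inv_smul_mem, MulAut.smul_def,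
    ← map_inv, MulAut.conj_apply, inv_inv] at hu
  obtain ⟨e, he, hue⟩ := exists_gprod (u := h⁻¹ * g * h) hu
  have hok : ∀ x ∈ order, x.1 < 12 := fun x hx => by
    have := List.all_eq_true.1 order_ok x hx
    simp only [Bool.and_eq_true, decide_eq_true_eq] at this
    exact this.1
  have h2 : gprod order e * gprod order e = 1 := by
    have hg2 : g * g = 1 := by
      have := pow_orderOf_eq_one g
      rwa [hg, pow_two] at this
    rw [← hue, show h⁻¹ * g * h * (h⁻¹ * g * h) = h⁻¹ * (g * g) * h by group, hg2,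
      mul_one, inv_mul_cancel]
  have hp : parity order e = false := by
    by_contra hp
    have := List.all_eq_true.1 invol_ok _ (mem_level order e he)
    rw [Bool.not_eq_false] at hp
    simp only [hp, Bool.not_true, Bool.false_or, bne_iff_ne, ne_eq] at this
    refine this (Nat.eq_of_testBit_eq fun i => ?_)
    rw [Nat.testBit_mod_two_pow]
    by_cases hi : i < 52
    · have hv : vz (apW order e (apW order e key)) = vz key := by
        rw [← gprod_apply _ _ _ hok, ← gprod_apply _ _ _ hok, Matrix.mulVec_mulVec, ← Units.val_mul,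
          ← Subgroup.coe_mul, h2]
        simp
      have := congrFun hv (eB ⟨i, hi⟩)
      simp only [vz, Equiv.symm_apply_apply] at this
      simp only [hi, decide_true, Bool.true_and]
      revert this
      cases (apW order e (apW order e key)).testBit i <;> cases key.testBit i <;> simp [bz]
    · have : key < 2 ^ i := lt_of_lt_of_le (show key < 2 ^ 52 by norm_num [key])
        (Nat.pow_le_pow_right (by norm_num) (not_lt.1 hi))
      simp [hi, Nat.testBit_lt_two_pow this]
  have hq : q g = 1 := by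
    have := q_gprod order hok e
    rw [hp, ← hue, map_mul, map_mul, map_inv, mul_comm (q h)⁻¹, mul_assoc, inv_mul_cancel, mul_one] at this
    simpa using this
  exact (QuotientGroup.eq_one_iff g).1 hq

end CfsgLib.Chev.TwF4.Tits
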