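/-
Fusion in a perfect group with a self-centralising elementary abelian Sylow 2-subgroup of order
eight, normalised by an element of order three fixing one of its involutions.
-/
import Mathlib

set_option autoImplicit false

namespace CfsgLib.Chev

open scoped Pointwise

/-- An elementary abelian Sylow 2-subgroup of order eight with a marked basis and an element
permuting the involutions of a complement of the first basis element. -/
structure FourFrame {G : Type*} [Group G] (E : Sylow 2 G) where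
  a : G
  z : G
  w : G
  u : G
  card8 : Nat.card ↥(E : Subgroup G) = 8
  sq : ∀ x ∈ E, x * x = 1
  ha : a ∈ E
  hz : z ∈ E
  hw : w ∈ E
  nodup : [1, a, z, w, z * w, a * z, a * w, a * (z * w)].Nodup
  cent : ∀ x : G, (∀ y ∈ E, x * y = y * x) → x ∈ E
  hua : u * a * u⁻¹ = a
  huz : u * z * u⁻¹ = w
  huw : u * w * u⁻¹ = z * w
  perfect : commutator G = ⊤

namespace FourFrame

variable {G : Type*} [Group G] [Finite G] {E : Sylow 2 G} (F : FourFrame E)
include F

omit [Finite G] in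
theorem comm {x y : G} (hx : x ∈ E) (hy : y ∈ E) : x * y = y * x := by
  have h1 := F.sq _ (mul_mem hx hy)
  have ex : x⁻¹ = x := inv_eq_of_mul_eq_one_right (F.sq _ hx)
  have ey : y⁻¹ = y := inv_eq_of_mul_eq_one_right (F.sq _ hy)
  have := inv_eq_of_mul_eq_one_right h1
  rw [mul_inv_rev, ex, ey] at this
  exact this.symm

theorem mem_iff {x : G} :
    x ∈ E ↔ x ∈ [1, F.a, F.z, F.w, F.z * F.w, F.a * F.z, F.a * F.w, F.a * (F.z * F.w)] := by
  classical
  have : Fintype G := Fintype.ofFinite G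
  set L := [1, F.a, F.z, F.w, F.z * F.w, F.a * F.z, F.a * F.w, F.a * (F.z * F.w)] with hL
  have hsub : ∀ y ∈ L, y ∈ E := by
    intro y hy
    simp only [hL, List.mem_cons, List.not_mem_nil, or_false] at hy
    rcases hy with rfl | rfl | rfl | rfl | rfl | rfl | rfl | rfl
    exacts [one_mem _, F.ha, F.hz, F.hw, mul_mem F.hz F.hw, mul_mem F.ha F.hz, mul_mem F.ha F.hw,
      mul_mem F.ha (mul_mem F.hz F.hw)]
  refine ⟨fun hx => ?_, hsub x⟩
  have he : L.toFinset = Finset.univ.filter (· ∈ E) := by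
    refine Finset.eq_of_subset_of_card_le (fun y hy => Finset.mem_filter.2
      ⟨Finset.mem_univ _, hsub y (List.mem_toFinset.1 hy)⟩) ?_
    rw [List.toFinset_card_of_nodup F.nodup]
    have h8 := F.card8
    rw [Nat.card_eq_fintype_card, Fintype.card_subtype] at h8
    exact h8.le
  have : x ∈ L.toFinset := he ▸ Finset.mem_filter.2 ⟨Finset.mem_univ _, hx⟩
  exact List.mem_toFinset.1 this

/-- A two-element of the normaliser lies in the Sylow subgroup; in particular an element of the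
normaliser whose square fixes an element of the subgroup fixes it. -/
theorem fix_of_sq {n x : G} (hn : n ∈ Subgroup.normalizer (E : Set G)) (hx : x ∈ E)
    (h2 : n * (n * x * n⁻¹) * n⁻¹ = x) : n * x * n⁻¹ = x := by
  obtain ⟨e, k, hk, ho⟩ := Nat.exists_eq_pow_mul_and_not_dvd (orderOf_pos n).ne' 2 (by norm_num)
  have hp : IsPGroup 2 ↥(Subgroup.zpowers (n ^ k)) :=
    IsPGroup.of_card (n := e) (by
      have hk0 : k ≠ 0 := fun h => hk (by rw [h]; exact dvd_zero 2)
      rw [Nat.card_zpowers, orderOf_pow' n hk0, ho,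
        Nat.gcd_eq_right (dvd_mul_left k _), Nat.mul_div_cancel _ (Nat.pos_of_ne_zero hk0)])
  have hmem : n ^ k ∈ E := by
    have := hp.inf_normalizer_sylow E
    have h1 : n ^ k ∈ Subgroup.zpowers (n ^ k) ⊓ Subgroup.normalizer (E : Set G) :=
      ⟨Subgroup.mem_zpowers _, Subgroup.pow_mem _ hn k⟩
    rw [this] at h1
    exact h1.2
  have hc : n ^ k * x * (n ^ k)⁻¹ = x := by
    rw [F.comm hmem hx, mul_inv_cancel_right]
  have h2' : ∀ j, n ^ (2 * j) * x * (n ^ (2 * j))⁻¹ = x := by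
    intro j
    induction j with
    | zero => simp
    | succ j ih =>
      rw [show 2 * (j + 1) = 2 + 2 * j by ring, pow_add,
        show n ^ 2 * n ^ (2 * j) * x * (n ^ 2 * n ^ (2 * j))⁻¹ =
          n ^ 2 * (n ^ (2 * j) * x * (n ^ (2 * j))⁻¹) * (n ^ 2)⁻¹ by group, ih, pow_two,
        show n * n * x * (n * n)⁻¹ = n * (n * x * n⁻¹) * n⁻¹ by group, h2]
  obtain ⟨j, rfl⟩ : Odd k := Nat.odd_iff.2 (by omega)
  rw [show 2 * j + 1 = 1 + 2 * j by ring, pow_add, pow_one,
    show n * n ^ (2 * j) * x * (n * n ^ (2 * j))⁻¹ =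
      n * (n ^ (2 * j) * x * (n ^ (2 * j))⁻¹) * n⁻¹ by group, h2'] at hc
  exact hc

theorem u_mem : F.u ∈ Subgroup.normalizer (E : Set G) := by
  have hmap : ∀ x ∈ E, F.u * x * F.u⁻¹ ∈ E := by
    intro x hx
    have e : ∀ p q : G, F.u * (p * q) * F.u⁻¹ = (F.u * p * F.u⁻¹) * (F.u * q * F.u⁻¹) := fun p q => by
      group
    have hzw : F.u * (F.z * F.w) * F.u⁻¹ = F.w * (F.z * F.w) := by rw [e, F.huz, F.huw]
    have := F.mem_iff.1 hx
    simp only [List.mem_cons, List.not_mem_nil, or_false] at this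
    rcases this with rfl | rfl | rfl | rfl | rfl | rfl | rfl | rfl <;>
      simp only [mul_one, mul_inv_cancel, e F.a, F.hua, F.huz, F.huw, hzw]
    exacts [one_mem _, F.ha, F.hw, mul_mem F.hz F.hw, mul_mem F.hw (mul_mem F.hz F.hw),
      mul_mem F.ha F.hw, mul_mem F.ha (mul_mem F.hz F.hw),
      mul_mem F.ha (mul_mem F.hw (mul_mem F.hz F.hw))]
  refine Subgroup.mem_normalizer_iff.2 fun x => ⟨hmap x, fun h => ?_⟩
  have : Finite ↥(E : Subgroup G) := inferInstance
  let f : ↥(E : Subgroup G) → ↥(E : Subgroup G) := fun y => ⟨F.u * y * F.u⁻¹, hmap y y.2⟩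
  obtain ⟨⟨y, hy⟩, e⟩ := (Finite.injective_iff_surjective (f := f)).1
    (fun p q e => by
      have := congrArg Subtype.val e
      exact Subtype.ext (mul_left_cancel (mul_right_cancel this))) ⟨_, h⟩
  have := congrArg Subtype.val e
  rw [← mul_left_cancel (mul_right_cancel this)]
  exact hy

/-- The orbit of an element under a subgroup of the normaliser has odd size. -/
theorem orbit_odd (H : Subgroup G) (hEH : (E : Subgroup G) ≤ H) {x : G} (hx : x ∈ E) :
    ¬ 2 ∣ Set.ncard {y | ∃ n ∈ H, n * x * n⁻¹ = y} := by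
  let H' : Subgroup (ConjAct G) := H.map (ConjAct.toConjAct (G := G)).toMonoidHom
  have e : {y | ∃ n ∈ H, n * x * n⁻¹ = y} = MulAction.orbit H' x := by
    ext y
    constructor
    · rintro ⟨n, hn, rfl⟩
      exact ⟨⟨ConjAct.toConjAct n, ⟨n, hn, rfl⟩⟩, rfl⟩
    · rintro ⟨⟨_, n, hn, rfl⟩, rfl⟩
      exact ⟨n, hn, rfl⟩
  rw [e, ← MulAction.index_stabilizer]
  let E' : Subgroup (ConjAct G) := (E : Subgroup G).map (ConjAct.toConjAct (G := G)).toMonoidHom
  have hE' : E'.subgroupOf H' ≤ MulAction.stabilizer H' x := by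
    rintro ⟨_, hm⟩ ⟨n, hn, rfl⟩
    show n * x * n⁻¹ = x
    rw [F.comm hn hx, mul_inv_cancel_right]
  refine fun h => E.not_dvd_index' ?_ ((h.trans (Subgroup.index_dvd_of_le hE')).trans ?_)
  · exact Subgroup.index_ne_zero_of_finite
  · show E'.relIndex H' ∣ _
    rw [← Subgroup.relIndex_top_right, Subgroup.relIndex_map_map_of_injective _ _
      (MulEquiv.injective _)]
    exact Dvd.intro (H.relIndex ⊤) (Subgroup.relIndex_mul_relIndex _ _ _ hEH le_top)

theorem exists_conj_ne : ∃ g : G, g⁻¹ * F.a * g ∈ E ∧ g⁻¹ * F.a * g ≠ F.a := by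
  by_contra h
  push Not at h
  letI : CommGroup ↥(E : Subgroup G) :=
    { (inferInstance : Group ↥(E : Subgroup G)) with
      mul_comm := fun x y => Subtype.ext (F.comm x.2 y.2) }
  let T : G →* ↥(E : Subgroup G) :=
    MonoidHom.transfer (MonoidHom.id ↥(E : Subgroup G))
  have hpow : ∀ k, F.a ^ k = 1 ∨ F.a ^ k = F.a := fun k => by
    induction k with
    | zero => exact Or.inl (pow_zero _)
    | succ k ih =>
      rw [pow_succ]
      rcases ih with e | e <;> rw [e]
      · exact Or.inr (one_mul _)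
      · exact Or.inl (F.sq _ F.ha)
  have key : ∀ (k : ℕ) (g₀ : G), g₀⁻¹ * F.a ^ k * g₀ ∈ (E : Subgroup G) →
      g₀⁻¹ * F.a ^ k * g₀ = F.a ^ k := fun k g₀ hm => by
    rcases hpow k with e | e <;> rw [e] at hm ⊢
    · group
    · exact h g₀ hm
  have hT := MonoidHom.transfer_eq_pow (MonoidHom.id ↥(E : Subgroup G)) F.a key
  have h1 : T F.a = 1 :=
    MonoidHom.mem_ker.1 (Abelianization.commutator_subset_ker T (F.perfect ▸ Subgroup.mem_top _))
  rw [show T F.a = _ from hT] at h1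
  have h2 : F.a ^ (E : Subgroup G).index = 1 := congrArg Subtype.val h1
  obtain ⟨j, hj⟩ : Odd (E : Subgroup G).index := by
    rw [Nat.odd_iff]
    have := E.not_dvd_index' Subgroup.index_ne_zero_of_finite
    omega
  rw [hj, pow_succ, pow_mul, pow_two, F.sq _ F.ha, one_pow, one_mul] at h2
  have := F.nodup
  simp [h2] at this

theorem card_two_triples (p q : G → Prop) (S : Set G)
    (hS : ∀ y, y ∈ S ↔ p y ∨ q y) (hd : ∀ y, p y → ¬ q y) {n k : ℕ}
    (hp : Set.ncard {y | p y} = n) (hq : Set.ncard {y | q y} = k) : S.ncard = n + k := by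
  have _ := F
  rw [← hp, ← hq, ← Set.ncard_union_eq (s := {y | p y}) (t := {y | q y})
    (Set.disjoint_left.2 fun y h h' => hd y h h')]
  congr 1
  ext y
  exact hS y

theorem triples : Set.ncard ({F.z, F.w, F.z * F.w} : Set G) = 3 ∧
    Set.ncard ({F.a * F.z, F.a * F.w, F.a * (F.z * F.w)} : Set G) = 3 := by
  have h := F.nodup
  simp only [List.nodup_cons, List.mem_cons, List.not_mem_nil, or_false, not_or,
    List.nodup_nil, and_true] at h
  constructor <;> rw [Set.ncard_eq_three] <;>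
    exact ⟨_, _, _, by tauto, by tauto, by tauto, rfl⟩

/-- An orbit containing one member of a triple contains all of it. -/
theorem triple_closed {O : Set G} (hu : ∀ y ∈ O, F.u * y * F.u⁻¹ ∈ O) :
    ((F.z ∈ O ∨ F.w ∈ O ∨ F.z * F.w ∈ O) → F.z ∈ O ∧ F.w ∈ O ∧ F.z * F.w ∈ O) ∧
    ((F.a * F.z ∈ O ∨ F.a * F.w ∈ O ∨ F.a * (F.z * F.w) ∈ O) →
      F.a * F.z ∈ O ∧ F.a * F.w ∈ O ∧ F.a * (F.z * F.w) ∈ O) := by
  have e : ∀ p q : G, F.u * (p * q) * F.u⁻¹ = (F.u * p * F.u⁻¹) * (F.u * q * F.u⁻¹) := fun p q => by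
    group
  have hzw : F.u * (F.z * F.w) * F.u⁻¹ = F.z := by
    rw [e, F.huz, F.huw, ← mul_assoc, F.comm F.hw F.hz, mul_assoc, F.sq _ F.hw, mul_one]
  have h1 : F.z ∈ O → F.w ∈ O := fun h => F.huz ▸ hu _ h
  have h2 : F.w ∈ O → F.z * F.w ∈ O := fun h => F.huw ▸ hu _ h
  have h3 : F.z * F.w ∈ O → F.z ∈ O := fun h => hzw ▸ hu _ h
  have k1 : F.a * F.z ∈ O → F.a * F.w ∈ O := fun h => by
    have := hu _ h; rwa [e, F.hua, F.huz] at this
  have k2 : F.a * F.w ∈ O → F.a * (F.z * F.w) ∈ O := fun h => by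
    have := hu _ h; rwa [e, F.hua, F.huw] at this
  have k3 : F.a * (F.z * F.w) ∈ O → F.a * F.z ∈ O := fun h => by
    have := hu _ h; rwa [e, F.hua, hzw] at this
  constructor <;> rintro (h | h | h) <;> tauto

/-- All involutions of the Sylow subgroup are conjugate in its normaliser. -/
theorem fusion : ∀ y ∈ E, y ≠ 1 →
    ∃ n ∈ Subgroup.normalizer (E : Set G), n * F.a * n⁻¹ = y := by
  set N := Subgroup.normalizer (E : Set G) with hN
  set O := {y | ∃ n ∈ N, n * F.a * n⁻¹ = y} with hO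
  have hOE : ∀ y ∈ O, y ∈ E ∧ y ≠ 1 := by
    rintro y ⟨n, hn, rfl⟩
    refine ⟨(Subgroup.mem_normalizer_iff.1 hn _).1 F.ha, fun h => ?_⟩
    rw [mul_inv_eq_one, mul_eq_left] at h
    have := F.nodup
    simp [h] at this
  have haO : F.a ∈ O := ⟨1, one_mem _, by simp⟩
  have hu : ∀ y ∈ O, F.u * y * F.u⁻¹ ∈ O := by
    rintro y ⟨n, hn, rfl⟩
    exact ⟨F.u * n, mul_mem F.u_mem hn, by group⟩
  obtain ⟨hV, hA⟩ := F.triple_closed hu
  have hne : ∃ y ∈ O, y ≠ F.a := by
    obtain ⟨g, hg, hga⟩ := F.exists_conj_ne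
    have : Fact (Nat.Prime 2) := ⟨Nat.prime_two⟩
    haveI : IsMulCommutative ↥(E : Subgroup G) := ⟨⟨fun x y => Subtype.ext (F.comm x.2 y.2)⟩⟩
    obtain ⟨n, hn, e⟩ := E.conj_eq_normalizer_conj_of_mem F.a g F.ha hg
    exact ⟨_, ⟨n⁻¹, inv_mem hn, by rw [inv_inv]; exact e.symm⟩, hga⟩
  have hodd := F.orbit_odd N Subgroup.le_normalizer F.ha
  obtain ⟨t1, t2⟩ := F.triples
  have hcase : ∀ y ∈ O, y = F.a ∨ (F.z ∈ O ∧ F.w ∈ O ∧ F.z * F.w ∈ O ∧
      y ∈ ({F.z, F.w, F.z * F.w} : Set G)) ∨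
      (F.a * F.z ∈ O ∧ F.a * F.w ∈ O ∧ F.a * (F.z * F.w) ∈ O ∧
        y ∈ ({F.a * F.z, F.a * F.w, F.a * (F.z * F.w)} : Set G)) := by
    intro y hy
    obtain ⟨hyE, hy1⟩ := hOE y hy
    have := F.mem_iff.1 hyE
    simp only [List.mem_cons, List.not_mem_nil, or_false] at this
    simp only [Set.mem_insert_iff, Set.mem_singleton_iff]
    rcases this with rfl | rfl | rfl | rfl | rfl | rfl | rfl | rfl
    · exact absurd rfl hy1
    · exact Or.inl rfl
    all_goals tauto
  have hnd := F.nodup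
  simp only [List.nodup_cons, List.mem_cons, List.not_mem_nil, or_false, not_or,
    List.nodup_nil, and_true] at hnd
  have both : F.z ∈ O ∧ F.a * F.z ∈ O := by
    by_contra hnot
    rw [not_and_or] at hnot
    obtain ⟨y, hy, hya⟩ := hne
    refine hodd ?_
    rcases hnot with hz | haz
    · obtain ⟨h1, h2, h3, -⟩ := ((hcase y hy).resolve_left hya).resolve_left fun h => hz h.1
      show 2 ∣ O.ncard
      refine (?_ : 2 ∣ 1 + 3).trans (F.card_two_triples (fun v => v = F.a)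
        (fun v => v ∈ ({F.a * F.z, F.a * F.w, F.a * (F.z * F.w)} : Set G)) O
        (fun v => ⟨fun hv => ?_, ?_⟩) ?_
        (by rw [Set.setOf_eq_eq_singleton]; exact Set.ncard_singleton _) t2).symm.dvd
      · norm_num
      · rcases hcase v hv with h | h | h
        exacts [Or.inl h, absurd h.1 hz, Or.inr h.2.2.2]
      · rintro (rfl | rfl | rfl | rfl) <;> assumption
      · rintro v rfl hv
        simp only [Set.mem_insert_iff, Set.mem_singleton_iff] at hv
        tauto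
    · obtain ⟨h1, h2, h3, -⟩ := ((hcase y hy).resolve_left hya).resolve_right fun h => haz h.1
      show 2 ∣ O.ncard
      refine (?_ : 2 ∣ 1 + 3).trans (F.card_two_triples (fun v => v = F.a)
        (fun v => v ∈ ({F.z, F.w, F.z * F.w} : Set G)) O
        (fun v => ⟨fun hv => ?_, ?_⟩) ?_
        (by rw [Set.setOf_eq_eq_singleton]; exact Set.ncard_singleton _) t1).symm.dvd
      · norm_num
      · rcases hcase v hv with h | h | h
        exacts [Or.inl h, Or.inr h.2.2.2, absurd h.1 haz]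
      · rintro (rfl | rfl | rfl | rfl) <;> assumption
      · rintro v rfl hv
        simp only [Set.mem_insert_iff, Set.mem_singleton_iff] at hv
        tauto
  obtain ⟨z1, z2, z3⟩ := hV (Or.inl both.1)
  obtain ⟨a1, a2, a3⟩ := hA (Or.inl both.2)
  intro y hy hy1
  show y ∈ O
  have := F.mem_iff.1 hy
  simp only [List.mem_cons, List.not_mem_nil, or_false] at this
  rcases this with rfl | rfl | rfl | rfl | rfl | rfl | rfl | rfl
  exacts [absurd rfl hy1, haO, z1, z2, z3, a1, a2, a3]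

/-- All involutions are conjugate. -/
theorem involution_conj {t : G} (h1 : t ≠ 1) (h2 : t * t = 1) : ∃ g, g * F.a * g⁻¹ = t := by
  have : Fact (Nat.Prime 2) := ⟨Nat.prime_two⟩
  have hp : IsPGroup 2 ↥(Subgroup.zpowers t) :=
    IsPGroup.of_card (n := 1) (by rw [Nat.card_zpowers, pow_one]; exact orderOf_eq_prime (by rw [pow_two, h2]) h1)
  obtain ⟨Q, hQ⟩ := hp.exists_le_sylow
  obtain ⟨g, rfl⟩ := MulAction.exists_smul_eq G E Q
  have h : t ∈ MulAut.conj g • (E : Subgroup G) := hQ (Subgroup.mem_zpowers t)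
  rw [Subgroup.mem_pointwise_smul_iff_inv_smul_mem, MulAut.smul_def, ← map_inv, MulAut.conj_apply,
    inv_inv] at h
  obtain ⟨n, -, e⟩ := F.fusion _ h (fun e => h1 (by
    rw [mul_assoc, inv_mul_eq_one] at e; exact mul_eq_right.1 e.symm))
  exact ⟨g * n, by rw [show g * n * F.a * (g * n)⁻¹ = g * (n * F.a * n⁻¹) * g⁻¹ by group, e]; group⟩

theorem stab_orbit :
    {y | ∃ n ∈ Subgroup.normalizer (E : Set G) ⊓ Subgroup.centralizer {F.a}, n * F.z * n⁻¹ = y} =
      {F.z, F.w, F.z * F.w} := by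
  set H := Subgroup.normalizer (E : Set G) ⊓ Subgroup.centralizer {F.a} with hH
  set O := {y | ∃ n ∈ H, n * F.z * n⁻¹ = y} with hO
  have hEH : (E : Subgroup G) ≤ H := le_inf Subgroup.le_normalizer fun x hx =>
    Subgroup.mem_centralizer_iff.2 (by rintro _ rfl; exact F.comm F.ha hx)
  have huH : F.u ∈ H := ⟨F.u_mem, Subgroup.mem_centralizer_iff.2 (by
    rintro _ rfl; exact (mul_inv_eq_iff_eq_mul.1 F.hua).symm)⟩
  have hu : ∀ y ∈ O, F.u * y * F.u⁻¹ ∈ O := by
    rintro y ⟨n, hn, rfl⟩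
    exact ⟨F.u * n, mul_mem huH hn, by group⟩
  obtain ⟨hV, hA⟩ := F.triple_closed hu
  obtain ⟨z1, z2, z3⟩ := hV (Or.inl ⟨1, one_mem _, by simp⟩)
  have hodd := F.orbit_odd H hEH F.hz
  obtain ⟨t1, t2⟩ := F.triples
  have hnd := F.nodup
  simp only [List.nodup_cons, List.mem_cons, List.not_mem_nil, or_false, not_or,
    List.nodup_nil, and_true] at hnd
  have hcase : ∀ y ∈ O, y ∈ ({F.z, F.w, F.z * F.w} : Set G) ∨
      y ∈ ({F.a * F.z, F.a * F.w, F.a * (F.z * F.w)} : Set G) := by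
    rintro y ⟨n, hn, rfl⟩
    have hyE : n * F.z * n⁻¹ ∈ E := (Subgroup.mem_normalizer_iff.1 hn.1 _).1 F.hz
    have h1 : n * F.z * n⁻¹ ≠ 1 := fun h => hnd.1.2.1 (by
      rw [mul_inv_eq_one, mul_eq_left] at h; exact h.symm)
    have h2 : n * F.z * n⁻¹ ≠ F.a := fun h => hnd.2.1.1 (by
      rw [mul_inv_eq_iff_eq_mul] at h
      exact (mul_left_cancel (h.trans (Subgroup.mem_centralizer_iff.1 hn.2 F.a rfl))).symm)
    have := F.mem_iff.1 hyE
    simp only [List.mem_cons, List.not_mem_nil, or_false] at this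
    simp only [Set.mem_insert_iff, Set.mem_singleton_iff]
    tauto
  by_contra hne
  refine hodd ?_
  have hex : ∃ y ∈ O, y ∈ ({F.a * F.z, F.a * F.w, F.a * (F.z * F.w)} : Set G) := by
    by_contra h
    push Not at h
    refine hne (Set.Subset.antisymm (fun y hy => (hcase y hy).resolve_right (h y hy)) ?_)
    rintro y (rfl | rfl | rfl) <;> assumption
  obtain ⟨y, hy, hy'⟩ := hex
  obtain ⟨a1, a2, a3⟩ := hA (by rcases hy' with rfl | rfl | rfl <;> tauto)
  show 2 ∣ O.ncard
  refine (?_ : 2 ∣ 3 + 3).trans (F.card_two_triples (fun v => v ∈ ({F.z, F.w, F.z * F.w} : Set G))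
    (fun v => v ∈ ({F.a * F.z, F.a * F.w, F.a * (F.z * F.w)} : Set G)) O
    (fun v => ⟨hcase v, ?_⟩) ?_ t1 t2).symm.dvd
  · norm_num
  · rintro ((rfl | rfl | rfl) | (rfl | rfl | rfl)) <;> assumption
  · intro v hv hv'
    simp only [Set.mem_insert_iff, Set.mem_singleton_iff] at hv hv'
    rcases hv with rfl | rfl | rfl <;> tauto

/-- An element of the normaliser fixing `a` and `z` lies in the Sylow subgroup. -/
theorem fix_two {n : G} (hn : n ∈ Subgroup.normalizer (E : Set G)) (h1 : n * F.a * n⁻¹ = F.a)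
    (h2 : n * F.z * n⁻¹ = F.z) : n ∈ E := by
  have e : ∀ p q : G, n * (p * q) * n⁻¹ = (n * p * n⁻¹) * (n * q * n⁻¹) := fun p q => by group
  obtain ⟨c, hc, hcfix, hnw⟩ : ∃ c ∈ E, n * c * n⁻¹ = c ∧ n * F.w * n⁻¹ = c * F.w := by
    have hyE : n * F.w * n⁻¹ ∈ E := (Subgroup.mem_normalizer_iff.1 hn _).1 F.hw
    have hnd := F.nodup
    simp only [List.nodup_cons, List.mem_cons, List.not_mem_nil, or_false, not_or,
      List.nodup_nil, and_true] at hnd
    have := F.mem_iff.1 hyE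
    simp only [List.mem_cons, List.not_mem_nil, or_false] at this
    have inj : ∀ {p}, n * p * n⁻¹ = p → n * F.w * n⁻¹ = p → F.w = p := fun hp h =>
      mul_left_cancel (mul_right_cancel (h.trans hp.symm))
    rcases this with h | h | h | h | h | h | h | h
    · have := inj (by simp) h; tauto
    · have := inj h1 h; tauto
    · have := inj h2 h; tauto
    · exact ⟨1, one_mem _, by simp, by rw [one_mul, h]⟩
    · exact ⟨F.z, F.hz, h2, h⟩
    · have := inj (by rw [e, h1, h2]) h; tauto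
    · exact ⟨F.a, F.ha, h1, h⟩
    · exact ⟨F.a * F.z, mul_mem F.ha F.hz, by rw [e, h1, h2], by rw [h, mul_assoc]⟩
  have hw' := F.fix_of_sq hn F.hw (by
    rw [hnw, e, hcfix, hnw, ← mul_assoc, F.sq _ hc, one_mul])
  refine F.cent n fun y hy => mul_inv_eq_iff_eq_mul.1 ?_
  have := F.mem_iff.1 hy
  simp only [List.mem_cons, List.not_mem_nil, or_false] at this
  rcases this with rfl | rfl | rfl | rfl | rfl | rfl | rfl | rfl <;>
    simp [e, h1, h2, hw']

/-- The normaliser has order 168. -/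
theorem card_normalizer : Nat.card ↥(Subgroup.normalizer (E : Set G)) = 168 := by
  set N := Subgroup.normalizer (E : Set G) with hN
  set H := N ⊓ Subgroup.centralizer {F.a} with hH
  have key : ∀ (K : Subgroup G) (x : G),
      Nat.card ↥K = Set.ncard {y | ∃ n ∈ K, n * x * n⁻¹ = y} *
        Nat.card ↥(K ⊓ Subgroup.centralizer {x}) := by
    intro K x
    let K' : Subgroup (ConjAct G) := K.map (ConjAct.toConjAct (G := G)).toMonoidHom
    have e : {y | ∃ n ∈ K, n * x * n⁻¹ = y} = MulAction.orbit K' x := by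
      ext y
      constructor
      · rintro ⟨n, hn, rfl⟩
        exact ⟨⟨ConjAct.toConjAct n, ⟨n, hn, rfl⟩⟩, rfl⟩
      · rintro ⟨⟨_, n, hn, rfl⟩, rfl⟩
        exact ⟨n, hn, rfl⟩
    rw [e, ← MulAction.index_stabilizer]
    let f : ↥K ≃* ↥K' := K.equivMapOfInjective _ (MulEquiv.injective _)
    rw [Nat.card_congr f.toEquiv,
      ← Subgroup.index_mul_card (MulAction.stabilizer K' x)]
    congr 1
    refine (Nat.card_congr ?_).symm
    refine ((Subgroup.subgroupOfEquivOfLe inf_le_left).toEquiv.symm).trans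
      (Equiv.subtypeEquiv f.toEquiv fun k => ?_)
    show (k : G) ∈ K ⊓ Subgroup.centralizer {x} ↔ (k : G) * x * (k : G)⁻¹ = x
    rw [Subgroup.mem_inf, mul_inv_eq_iff_eq_mul, Subgroup.mem_centralizer_iff]
    simp only [Set.mem_singleton_iff, forall_eq, k.2, true_and]
    exact eq_comm
  have h1 : {y | ∃ n ∈ N, n * F.a * n⁻¹ = y} = (E : Set G) \ {1} := by
    ext y
    constructor
    · rintro ⟨n, hn, rfl⟩
      refine ⟨(Subgroup.mem_normalizer_iff.1 hn _).1 F.ha, fun h => ?_⟩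
      rw [Set.mem_singleton_iff, mul_inv_eq_one, mul_eq_left] at h
      have := F.nodup
      simp [h] at this
    · rintro ⟨hy, hy1⟩
      exact F.fusion y hy hy1
  have h3 : H ⊓ Subgroup.centralizer {F.z} = E := by
    refine le_antisymm ?_ (le_inf (le_inf Subgroup.le_normalizer ?_) ?_)
    · rintro n ⟨⟨hn, ha⟩, hz⟩
      exact F.fix_two hn (mul_inv_eq_iff_eq_mul.2 (Subgroup.mem_centralizer_iff.1 ha _ rfl).symm)
        (mul_inv_eq_iff_eq_mul.2 (Subgroup.mem_centralizer_iff.1 hz _ rfl).symm)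
    all_goals exact fun x hx => Subgroup.mem_centralizer_iff.2 (by
      rintro _ rfl; exact F.comm (by first | exact F.ha | exact F.hz) hx)
  have h7 : ((E : Set G) \ {1}).ncard = 7 := by
    rw [Set.ncard_sdiff_singleton_of_mem (one_mem _), ← Nat.card_coe_set_eq]
    show Nat.card ↥(E : Subgroup G) - 1 = 7
    rw [F.card8]
  rw [key N F.a, h1, h7, ← hH, key H F.z, F.stab_orbit, F.triples.1, h3, F.card8]

/-- An element of the normaliser cycling `a, z, a * z`. -/
theorem exists_cycle : ∃ h ∈ Subgroup.normalizer (E : Set G),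
    h * F.a * h⁻¹ = F.z ∧ h * F.z * h⁻¹ = F.a * F.z := by
  set N := Subgroup.normalizer (E : Set G) with hN
  have hnd := F.nodup
  simp only [List.nodup_cons, List.mem_cons, List.not_mem_nil, or_false, not_or,
    List.nodup_nil, and_true] at hnd
  obtain ⟨g, hg, hga⟩ := F.fusion F.z F.hz (fun h => hnd.1.2.1 h.symm)
  -- move a preimage of `a` to `z` by a power of `u`
  have hpre : g⁻¹ * F.a * g ∈ E := by
    have := (Subgroup.mem_normalizer_iff.1 (inv_mem hg) F.a).1 F.ha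
    rwa [inv_inv] at this
  have he : ∀ p q r : G, p * (q * r) * p⁻¹ = (p * q * p⁻¹) * (p * r * p⁻¹) := fun p q r => by group
  have hback : g * (g⁻¹ * F.a * g) * g⁻¹ = F.a := by group
  have huu : ∀ i : ℕ, F.u ^ i * F.a * (F.u ^ i)⁻¹ = F.a := by
    intro i
    induction i with
    | zero => simp
    | succ i ih =>
      rw [pow_succ, show F.u ^ i * F.u * F.a * (F.u ^ i * F.u)⁻¹ =
        F.u ^ i * (F.u * F.a * F.u⁻¹) * (F.u ^ i)⁻¹ by group, F.hua, ih]
  obtain ⟨i, hi⟩ : ∃ i : ℕ, g⁻¹ * F.a * g = F.u ^ i * F.z * (F.u ^ i)⁻¹ ∨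
      g⁻¹ * F.a * g = F.a * (F.u ^ i * F.z * (F.u ^ i)⁻¹) := by
    have hw2 : F.u ^ 2 * F.z * (F.u ^ 2)⁻¹ = F.z * F.w := by
      rw [pow_two, show F.u * F.u * F.z * (F.u * F.u)⁻¹ =
        F.u * (F.u * F.z * F.u⁻¹) * F.u⁻¹ by group, F.huz, F.huw]
    have := F.mem_iff.1 hpre
    simp only [List.mem_cons, List.not_mem_nil, or_false] at this
    rcases this with h | h | h | h | h | h | h | h
    · refine absurd ?_ hnd.1.1
      rw [mul_assoc, inv_mul_eq_one] at h
      exact (mul_eq_right.1 h.symm).symm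
    · refine absurd ?_ hnd.2.1.1
      rw [h, hga] at hback
      exact hback.symm
    · exact ⟨0, Or.inl (by simpa using h)⟩
    · exact ⟨1, Or.inl (by rw [pow_one, F.huz]; exact h)⟩
    · exact ⟨2, Or.inl (by rw [hw2]; exact h)⟩
    · exact ⟨0, Or.inr (by simpa using h)⟩
    · exact ⟨1, Or.inr (by rw [pow_one, F.huz]; exact h)⟩
    · exact ⟨2, Or.inr (by rw [hw2]; exact h)⟩
  set h := g * F.u ^ i with hh
  have hmem : h ∈ N := mul_mem hg (pow_mem F.u_mem i)
  have e1 : h * F.a * h⁻¹ = F.z := by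
    rw [hh, show g * F.u ^ i * F.a * (g * F.u ^ i)⁻¹ =
      g * (F.u ^ i * F.a * (F.u ^ i)⁻¹) * g⁻¹ by group, huu, hga]
  have e2 : h * F.z * h⁻¹ = g * (F.u ^ i * F.z * (F.u ^ i)⁻¹) * g⁻¹ := by rw [hh]; group
  refine ⟨h, hmem, e1, ?_⟩
  rcases hi with hi | hi
  · -- the swap is impossible
    rw [← hi, hback] at e2
    have h3 := F.fix_of_sq hmem F.ha (by rw [e1, e2])
    exact absurd (e1.symm.trans h3) (fun e => hnd.2.1.1 e.symm)
  · have e3 : g * (F.u ^ i * F.z * (F.u ^ i)⁻¹) * g⁻¹ = F.z * F.a := by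
      have h4 : g * (F.a * (F.u ^ i * F.z * (F.u ^ i)⁻¹)) * g⁻¹ = F.a := by rw [← hi, hback]
      rw [he, hga] at h4
      rw [← inv_mul_cancel_left F.z (g * (F.u ^ i * F.z * (F.u ^ i)⁻¹) * g⁻¹), h4,
        inv_eq_of_mul_eq_one_right (F.sq _ F.hz)]
    rw [e2, e3, F.comm F.hz F.ha]

end FourFrame

end CfsgLib.Chev
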