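/-
The action of the torus on the unipotent group of a group of type ²G₂, its elements of order
three, and the double coset of the Weyl element.
-/
import Mathlib
import Cfsg.Agent.Lib.Chev.Twist.G2Main

set_option autoImplicit false
set_option maxRecDepth 20000
set_option Elab.async false

namespace CfsgLib.Chev

open Cfsg.Lie

universe v

namespace TwG2

theorem pos_iff : ∀ r < chevG2.nroots, (chevG2.nroots / 2 ≤ r ↔ r ∈ posC.roots) := by
  decide +kernel

theorem low_tables : parG2.commB chevG2 g2a g2aab = true ∧ parG2.commB chevG2 g2a g2aaab = true ∧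
    parG2.commB chevG2 g2a g2aaabb = true ∧ parG2.commB chevG2 g2b g2ab = true ∧
    parG2.commB chevG2 g2b g2aab = true ∧ parG2.commB chevG2 g2b g2aaabb = true ∧
    (g2ab ≠ g2a ∧ g2ab ≠ chevG2.neg g2a) ∧ (g2aaab ≠ g2b ∧ g2aaab ≠ chevG2.neg g2b) ∧
    chevG2.commTerms g2a g2ab = [(g2aab, -2, (1, 1)), (g2aaab, -3, (2, 1)), (g2aaabb, 3, (1, 2))] ∧
    chevG2.commTerms g2b g2aaab = [(g2aaabb, 1, (1, 1))] := by
  decide +kernel

variable {K : Type v} [Field K] [Fintype K] {m : ℕ} (C : Ctx K m)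
include C

theorem Ctx.cl_inj {t u v t' u' v' : K} (h : C.cl t u v = C.cl t' u' v') :
    t = t' ∧ u = u' ∧ v = v' := by
  have := DataG2.facts.coords_unique C.sig.hC coords
    (ts := [t ^ 3 ^ m, t, t ^ (3 ^ m + 1) + u ^ 3 ^ m, t ^ (2 * 3 ^ m + 1) + v ^ 3 ^ m, u, v])
    (ts' := [t' ^ 3 ^ m, t', t' ^ (3 ^ m + 1) + u' ^ 3 ^ m,
      t' ^ (2 * 3 ^ m + 1) + v' ^ 3 ^ m, u', v']) rfl rfl
    (by rw [← reeWordU_zip, ← reeWordU_zip]; exact h)
  simp only [List.cons.injEq, and_true] at this
  exact ⟨this.2.1, this.2.2.2.2.1, this.2.2.2.2.2⟩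

theorem Ctx.cl_zero : C.cl 0 0 0 = 1 := by
  have hF := DataG2.facts
  rw [C.cl_val]
  simp [hF.xU_zero (show g2a < chevG2.nroots by decide),
    hF.xU_zero (show g2b < chevG2.nroots by decide),
    hF.xU_zero (show g2ab < chevG2.nroots by decide),
    hF.xU_zero (show g2aab < chevG2.nroots by decide),
    hF.xU_zero (show g2aaab < chevG2.nroots by decide),
    hF.xU_zero (show g2aaabb < chevG2.nroots by decide)]

theorem Ctx.mem_posU_iff {g : GL chevG2.Idx K} :
    g ∈ chevG2.posUnipotent K ⊓ twistedG2 K (3 ^ m) ↔ ∃ t u v, g = C.cl t u v := by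
  rw [Subgroup.mem_inf, DataG2.facts.posUnipotent_eq]
  constructor
  · rintro ⟨h, hg⟩
    exact C.fix_class (C.sys.le_fix hg)
      (rootClosure_mono (fun r hr h' => (pos_iff r hr).1 h') h)
  · rintro ⟨t, u, v, rfl⟩
    exact ⟨rootClosure_mono (fun r hr h' => (pos_iff r hr).2 h') (C.cl_mem t u v).2,
      (C.cl_mem t u v).1⟩

/-- The character of the torus on the first coordinate. -/
def Ctx.chi (b : Kˣ) : Kˣ := b * b / (C.fu b * C.fu b * C.fu b)

theorem Ctx.fu_chi (b : Kˣ) : C.fu (C.chi b) = C.fu b * C.fu b / b := by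
  rw [Ctx.chi, map_div, map_mul, map_mul, map_mul,
    show C.fu (C.fu b) * C.fu (C.fu b) * C.fu (C.fu b) = b by
      rw [← pow_two, ← pow_succ]; exact C.fu_theta b]

theorem Ctx.conj_cl (b : Kˣ) (t u v : K) : C.par b * C.cl t u v * (C.par b)⁻¹ =
    C.cl ((C.chi b : K) * t) ((C.phi (C.chi b) : K) * u)
      (((C.fu (C.chi b) ^ 3 * C.chi b ^ 2 : Kˣ) : K) * v) := by
  have hF := DataG2.facts
  set h := C.par b with hdef
  have hpar : h = hT chevG2 (two (C.fu b) b) := rfl
  set X := C.chi b with hX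
  obtain ⟨ca, cb⟩ := char_two (C.fu b) b
  obtain ⟨cab, caab, caaab, caaabb⟩ := char_high (C.fu b) b (C.fu X) X (C.fu_chi b) rfl
  rw [← C.fu_chi b] at ca
  change _ = X at cb
  have hval : ((C.fu X : Kˣ) : K) = C.f (X : K) := rfl
  have hphi : ((C.phi X : Kˣ) : K) = ((C.fu X ^ 3 * X : Kˣ) : K) := rfl
  rw [C.cl_val, C.cl_val,
    show ∀ a b c d e g : GL chevG2.Idx K, h * (a * b * (c * d * (e * g))) * h⁻¹ =
      h * a * h⁻¹ * (h * b * h⁻¹) * (h * c * h⁻¹ * (h * d * h⁻¹) *
        (h * e * h⁻¹ * (h * g * h⁻¹))) from fun a b c d e g => by group,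
    hpar, hF.hT_conj_xU _ (by decide), hF.hT_conj_xU _ (by decide), hF.hT_conj_xU _ (by decide),
    hF.hT_conj_xU _ (by decide), hF.hT_conj_xU _ (by decide), hF.hT_conj_xU _ (by decide),
    ca, cb, cab, caab, caaab, caaabb]
  simp only [hphi, Units.val_mul, Units.val_pow_eq_pow_val, hval, map_mul, map_pow, C.theta]
  congr 3 <;> congr 1 <;> ring

theorem Ctx.psi_fix {X : Kˣ} (e : C.fu X ^ 3 * X ^ 2 = 1) : X = 1 := by
  have e2 : C.fu (C.fu X ^ 3) ^ 3 = X ^ 3 := by rw [map_pow, C.fu_theta]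
  rw [eq_inv_of_mul_eq_one_left e, map_inv, map_pow, inv_pow, ← pow_mul,
    show 2 * 3 = 3 * 2 from rfl, pow_mul, eq_inv_of_mul_eq_one_left e, inv_pow, inv_inv,
    ← pow_mul, show 2 * 2 = 3 + 1 from rfl, pow_succ] at e2
  exact mul_eq_left.1 e2

theorem Ctx.chi_eq_iff {b : Kˣ} {s : Kˣ} (hs : s = 1 ∨ s = -1) (h : C.chi b = s) : b = s := by
  have hfs : C.fu s = s := by rcases hs with rfl | rfl <;> simp [C.fu_neg_one]
  have h2 : b * b = s * (C.fu b) ^ 3 := by
    rw [← div_eq_iff_eq_mul, ← h, Ctx.chi, pow_succ, pow_two]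
  have e : C.fu (b * b) ^ 3 = C.fu (s * C.fu b ^ 3) ^ 3 := by rw [h2]
  simp only [map_mul, map_pow, mul_pow, C.fu_theta, hfs] at e
  have h4 : C.fu b ^ 3 = s * (b * b) := by
    rw [h2, ← mul_assoc]
    rcases hs with rfl | rfl <;> simp
  rw [h4] at e
  rcases hs with rfl | rfl
  · simp only [one_mul, one_pow] at e
    refine mul_left_cancel (a := b * b * b) ?_
    rw [mul_one]
    calc b * b * b * b = b * b * (b * b) := by rw [mul_assoc]
      _ = b ^ 3 := e
      _ = b * b * b := by rw [pow_succ, pow_two]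
  · simp only [neg_one_mul, neg_mul_neg, Odd.neg_one_pow (by decide : Odd 3)] at e
    refine mul_left_cancel (a := b * b * b) ?_
    rw [mul_neg_one]
    calc b * b * b * b = b * b * (b * b) := by rw [mul_assoc]
      _ = -b ^ 3 := e
      _ = -(b * b * b) := by rw [pow_succ, pow_two]

theorem Ctx.chi_neg_one : C.chi (-1) = -1 := by
  rw [Ctx.chi, C.fu_neg_one]
  simp

/-- A torus element other than the involution moves every non-trivial unipotent element. -/
theorem Ctx.fix_point_free {b : Kˣ} (h1 : b ≠ 1) (h2 : b ≠ -1) {t u v : K}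
    (h : C.par b * C.cl t u v = C.cl t u v * C.par b) : C.cl t u v = 1 := by
  have e := C.conj_cl b t u v
  rw [h, mul_inv_cancel_right] at e
  obtain ⟨et, eu, ev⟩ := C.cl_inj e
  have hx : C.chi b ≠ 1 := fun e => h1 (C.chi_eq_iff (Or.inl rfl) e)
  have hx' : C.chi b ≠ -1 := fun e => h2 (C.chi_eq_iff (Or.inr rfl) e)
  have key : ∀ {a : Kˣ} {z : K}, a ≠ 1 → z = (a : K) * z → z = 0 := fun {a z} ha hz => by
    by_contra hz0
    exact ha (Units.ext ((mul_eq_right₀ hz0).1 hz.symm))
  have hy : C.phi (C.chi b) ≠ 1 := fun e => by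
    rcases C.phi_fix (w := C.chi b) (by rw [e, one_mul]) with h | h
    exacts [hx h, hx' h]
  rw [key hx et, key hy eu, key (fun e => hx (C.psi_fix e)) ev, C.cl_zero]

/-- The involution of the torus centralises a root subgroup. -/
theorem Ctx.neg_one_comm (u : K) : C.par (-1) * C.cl 0 u 0 = C.cl 0 u 0 * C.par (-1) := by
  have e := C.conj_cl (-1) 0 u 0
  rw [C.chi_neg_one, mul_zero, mul_zero] at e
  rw [show ((C.phi (-1) : Kˣ) : K) = 1 by
    show ((C.fu (-1) ^ 3 * -1 : Kˣ) : K) = 1
    rw [C.fu_neg_one]; simp [pow_succ], one_mul] at e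
  exact mul_inv_eq_iff_eq_mul.1 e

theorem Ctx.neg_one_fix {t u v : K}
    (h : C.par (-1) * C.cl t u v = C.cl t u v * C.par (-1)) : t = 0 ∧ v = 0 := by
  have e := C.conj_cl (-1) t u v
  rw [h, mul_inv_cancel_right, C.chi_neg_one] at e
  obtain ⟨et, -, ev⟩ := C.cl_inj e
  have key : ∀ {a : Kˣ} {z : K}, a ≠ 1 → z = (a : K) * z → z = 0 := fun {a z} ha hz => by
    by_contra hz0
    exact ha (Units.ext ((mul_eq_right₀ hz0).1 hz.symm))
  exact ⟨key C.neg_one_ne et, key (fun e => C.neg_one_ne (C.psi_fix e)) ev⟩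

/-- A normal form for the products of the root elements other than the first one. -/
noncomputable def Ctx.nf (_C : Ctx K m) (B X E F G : K) : GL chevG2.Idx K :=
  xU chevG2 g2b B * (xU chevG2 g2ab X * xU chevG2 g2aab E *
    (xU chevG2 g2aaab F * xU chevG2 g2aaabb G))

theorem Ctx.nf_high_mul (X E F G X' E' F' G' : K) :
    xU chevG2 g2ab X * xU chevG2 g2aab E * (xU chevG2 g2aaab F * xU chevG2 g2aaabb G) *
      (xU chevG2 g2ab X' * xU chevG2 g2aab E' *
        (xU chevG2 g2aaab F' * xU chevG2 g2aaabb G')) =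
    xU chevG2 g2ab (X + X') * xU chevG2 g2aab (E + E') *
      (xU chevG2 g2aaab (F + F') * xU chevG2 g2aaabb (G + G')) := by
  have hF := DataG2.facts
  obtain ⟨hr, -, -, -, ⟨kce, kcg, kch, keg, keh, kgh⟩, -, -, -⟩ := class_tables posC (by simp)
  have cce := C.sig.commute_xU (hr _ (by simp [Cl.roots])) (hr _ (by simp [Cl.roots])) kce
  have ccg := C.sig.commute_xU (hr _ (by simp [Cl.roots])) (hr _ (by simp [Cl.roots])) kcg
  have cch := C.sig.commute_xU (hr _ (by simp [Cl.roots])) (hr _ (by simp [Cl.roots])) kch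
  have ceg := C.sig.commute_xU (hr _ (by simp [Cl.roots])) (hr _ (by simp [Cl.roots])) keg
  have ceh := C.sig.commute_xU (hr _ (by simp [Cl.roots])) (hr _ (by simp [Cl.roots])) keh
  have cgh := C.sig.commute_xU (hr _ (by simp [Cl.roots])) (hr _ (by simp [Cl.roots])) kgh
  simp only [posC] at cce ccg cch ceg ceh cgh
  have hsw : ∀ a b p q : K, Commute (xU chevG2 g2aaab a * xU chevG2 g2aaabb b)
      (xU chevG2 g2ab p * xU chevG2 g2aab q) := fun a b p q =>
    (((ccg p a).symm.mul_right (ceg q a).symm).mul_left ((cch p b).symm.mul_right (ceh q b).symm))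
  rw [(hsw _ _ _ _).mul_mul_mul_comm, (cce _ _).symm.mul_mul_mul_comm,
    (cgh _ _).symm.mul_mul_mul_comm, hF.xU_add (by decide), hF.xU_add (by decide),
    hF.xU_add (by decide), hF.xU_add (by decide)]

theorem Ctx.nf_mul (B X E F G B' X' E' F' G' : K) : ∃ G'' : K,
    C.nf B X E F G * C.nf B' X' E' F' G' = C.nf (B + B') (X + X') (E + E') (F + F') G'' := by
  have hF := DataG2.facts
  obtain ⟨-, -, -, kbc, kbe, kbh, -, ⟨hne, hneg⟩, -, hT⟩ := low_tables
  have cbc := C.sig.commute_xU (a := g2b) (b := g2ab) (by decide) (by decide) kbc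
  have cbe := C.sig.commute_xU (a := g2b) (b := g2aab) (by decide) (by decide) kbe
  have cbh := C.sig.commute_xU (a := g2b) (b := g2aaabb) (by decide) (by decide) kbh
  have hsw : xU chevG2 g2aaab F * xU chevG2 g2b B' =
      xU chevG2 g2b B' * xU chevG2 g2aaab F * xU chevG2 g2aaabb (-B' * F) := by
    rw [hF.xU_comm C.sig.hC (by decide) (by decide) hne hneg]
    simp [cwR, hT, wU]
  have h1 : xU chevG2 g2ab X * xU chevG2 g2aab E * (xU chevG2 g2aaab F * xU chevG2 g2aaabb G) *
      xU chevG2 g2b B' = xU chevG2 g2b B' * (xU chevG2 g2ab X * xU chevG2 g2aab E *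
        (xU chevG2 g2aaab F * xU chevG2 g2aaabb (-B' * F + G))) := by
    rw [← hF.xU_add (by decide)]
    calc xU chevG2 g2ab X * xU chevG2 g2aab E * (xU chevG2 g2aaab F * xU chevG2 g2aaabb G) *
        xU chevG2 g2b B'
        = xU chevG2 g2ab X * xU chevG2 g2aab E *
            (xU chevG2 g2aaab F * xU chevG2 g2b B') * xU chevG2 g2aaabb G := by
          simp only [mul_assoc]; rw [(cbh B' G).symm.eq]
      _ = (xU chevG2 g2ab X * xU chevG2 g2aab E * xU chevG2 g2b B') *
            (xU chevG2 g2aaab F * xU chevG2 g2aaabb (-B' * F)) * xU chevG2 g2aaabb G := by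
          rw [hsw]; simp only [mul_assoc]
      _ = _ := by
          rw [((cbc B' X).mul_right (cbe B' E)).symm.eq]
          simp only [mul_assoc]
  refine ⟨-B' * F + G + G', ?_⟩
  simp only [Ctx.nf]
  rw [← C.nf_high_mul, ← hF.xU_add (show g2b < chevG2.nroots by decide)]
  calc xU chevG2 g2b B * (xU chevG2 g2ab X * xU chevG2 g2aab E *
        (xU chevG2 g2aaab F * xU chevG2 g2aaabb G)) *
      (xU chevG2 g2b B' * (xU chevG2 g2ab X' * xU chevG2 g2aab E' *
        (xU chevG2 g2aaab F' * xU chevG2 g2aaabb G')))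
      = xU chevG2 g2b B * (xU chevG2 g2ab X * xU chevG2 g2aab E *
          (xU chevG2 g2aaab F * xU chevG2 g2aaabb G) * xU chevG2 g2b B') *
          (xU chevG2 g2ab X' * xU chevG2 g2aab E' *
            (xU chevG2 g2aaab F' * xU chevG2 g2aaabb G')) := by simp only [mul_assoc]
    _ = _ := by rw [h1]; simp only [mul_assoc]

theorem Ctx.nf_swap (A B X E F G : K) : ∃ F' G' : K,
    C.nf B X E F G * xU chevG2 g2a A =
      xU chevG2 g2a A * C.nf B (A * B + X) (A ^ 2 * B - A * X + E) F' G' := by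
  have hF := DataG2.facts
  obtain ⟨kae, kag, kah, -, -, -, ⟨hne, hneg⟩, -, hT, -⟩ := low_tables
  have cae := C.sig.commute_xU (a := g2a) (b := g2aab) (by decide) (by decide) kae A E
  have cag := C.sig.commute_xU (a := g2a) (b := g2aaab) (by decide) (by decide) kag A F
  have cah := C.sig.commute_xU (a := g2a) (b := g2aaabb) (by decide) (by decide) kah A G
  have hc : xU chevG2 g2ab X * xU chevG2 g2a A = xU chevG2 g2a A *
      (xU chevG2 g2ab X * xU chevG2 g2aab (-(A * X))) := by
    rw [hF.xU_comm C.sig.hC (by decide) (by decide) hne hneg, mul_assoc]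
    congr 2
    simp only [cwR, hT, List.map_cons, List.map_nil, wU, List.prod_cons, List.prod_nil, mul_one]
    rw [show ((-2 : ℤ) : K) * (-A) ^ 1 * X ^ 1 = -(A * X) by
        push_cast; linear_combination (A * X) * C.three_eq_zero,
      show ((-3 : ℤ) : K) = 0 by push_cast; rw [C.three_eq_zero, neg_zero],
      show ((3 : ℤ) : K) = 0 by exact_mod_cast C.three_eq_zero]
    simp [hF.xU_zero (show g2aaab < chevG2.nroots by decide),
      hF.xU_zero (show g2aaabb < chevG2.nroots by decide)]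
  have hb := C.swap_ab (k := posC) (by simp) A B
  simp only [posC, Int.cast_one, one_mul] at hb
  have hw : xU chevG2 g2aab E * (xU chevG2 g2aaab F * xU chevG2 g2aaabb G) * xU chevG2 g2a A =
      xU chevG2 g2a A * (xU chevG2 g2aab E * (xU chevG2 g2aaab F * xU chevG2 g2aaabb G)) :=
    ((cae.mul_right (cag.mul_right cah)).symm).eq
  refine ⟨-(A ^ 3 * B) + (0 + F), -(A ^ 3 * B ^ 2) + (0 + G), ?_⟩
  simp only [Ctx.nf]
  rw [show A ^ 2 * B - A * X + E = A ^ 2 * B + (-(A * X) + E) by ring,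
    show A * B + X = A * B + (X + 0) by ring, ← C.nf_high_mul, ← C.nf_high_mul X (-(A * X)) 0 0]
  calc xU chevG2 g2b B * (xU chevG2 g2ab X * xU chevG2 g2aab E *
        (xU chevG2 g2aaab F * xU chevG2 g2aaabb G)) * xU chevG2 g2a A
      = xU chevG2 g2b B * (xU chevG2 g2ab X * xU chevG2 g2a A) *
          (xU chevG2 g2aab E * (xU chevG2 g2aaab F * xU chevG2 g2aaabb G)) := by
        simp only [mul_assoc] at hw ⊢; rw [hw]
    _ = (xU chevG2 g2b B * xU chevG2 g2a A) * (xU chevG2 g2ab X * xU chevG2 g2aab (-(A * X)) *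
          (xU chevG2 g2aab E * (xU chevG2 g2aaab F * xU chevG2 g2aaabb G))) := by
        rw [hc]; simp only [mul_assoc]
    _ = _ := by
        rw [hb]
        simp [hF.xU_zero (show g2aaab < chevG2.nroots by decide),
          hF.xU_zero (show g2aaabb < chevG2.nroots by decide),
          hF.xU_zero (show g2ab < chevG2.nroots by decide), mul_assoc]

/-- The cube of an element outside the root subgroups of the long class is not trivial. -/
theorem Ctx.cube_ne_one {t : K} (ht : t ≠ 0) (u v : K) : C.cl t u v ^ 3 ≠ 1 := by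
  have hF := DataG2.facts
  set A := C.f t with hA
  set X := C.f t * t + C.f u
  set E := C.f t ^ 2 * t + C.f v
  have hg : C.cl t u v = xU chevG2 g2a A * C.nf t X E u v := by
    rw [C.cl_val, Ctx.nf, mul_assoc]
  obtain ⟨F₁, G₁, e1⟩ := C.nf_swap A t X E u v
  obtain ⟨G₂, e2⟩ := C.nf_mul t (A * t + X) (A ^ 2 * t - A * X + E) F₁ G₁ t X E u v
  obtain ⟨F₃, G₃, e3⟩ := C.nf_swap A (t + t) (A * t + X + X) (A ^ 2 * t - A * X + E + E) (F₁ + u) G₂
  obtain ⟨G₄, e4⟩ := C.nf_mul (t + t) (A * (t + t) + (A * t + X + X))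
    (A ^ 2 * (t + t) - A * (A * t + X + X) + (A ^ 2 * t - A * X + E + E)) F₃ G₃ t X E u v
  have h3 : C.cl t u v ^ 3 = C.nf 0 0 (2 * (A ^ 2 * t)) (F₃ + u) G₄ := by
    calc C.cl t u v ^ 3
        = xU chevG2 g2a A * (C.nf t X E u v * xU chevG2 g2a A) * C.nf t X E u v *
            xU chevG2 g2a A * C.nf t X E u v := by
          rw [hg, pow_succ, pow_two]; simp only [mul_assoc]
      _ = xU chevG2 g2a A * xU chevG2 g2a A *
            (C.nf (t + t) (A * t + X + X) (A ^ 2 * t - A * X + E + E) (F₁ + u) G₂ *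
              xU chevG2 g2a A) * C.nf t X E u v := by
          rw [e1, ← e2]; simp only [mul_assoc]
      _ = xU chevG2 g2a A * xU chevG2 g2a A * xU chevG2 g2a A *
            (C.nf (t + t) (A * (t + t) + (A * t + X + X))
              (A ^ 2 * (t + t) - A * (A * t + X + X) + (A ^ 2 * t - A * X + E + E)) F₃ G₃ *
              C.nf t X E u v) := by rw [e3]; simp only [mul_assoc]
      _ = _ := by
          rw [e4, hF.xU_add (by decide), hF.xU_add (by decide),
            show A + A + A = 0 by linear_combination A * C.three_eq_zero,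
            hF.xU_zero (by decide), one_mul]
          congr 1
          · linear_combination t * C.three_eq_zero
          · linear_combination (A * t + X) * C.three_eq_zero
          · linear_combination (E - A * X) * C.three_eq_zero
  intro h
  rw [h3] at h
  have := hF.coords_unique C.sig.hC coords
    (ts := [0, 0, 0, 2 * (A ^ 2 * t), F₃ + u, G₄]) (ts' := [0, 0, 0, 0, 0, 0]) rfl rfl
    (by simpa [Ctx.nf, wU, Cl.roots, posC, mul_assoc,
        hF.xU_zero (show g2a < chevG2.nroots by decide),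
        hF.xU_zero (show g2b < chevG2.nroots by decide),
        hF.xU_zero (show g2ab < chevG2.nroots by decide),
        hF.xU_zero (show g2aab < chevG2.nroots by decide),
        hF.xU_zero (show g2aaab < chevG2.nroots by decide),
        hF.xU_zero (show g2aaabb < chevG2.nroots by decide)] using h)
  simp only [List.cons.injEq, and_true, true_and] at this
  have h2 : (2 : K) ≠ 0 := fun e => one_ne_zero (α := K) (by linear_combination C.three_eq_zero - e)
  have hA0 : A ≠ 0 := fun e => ht (C.f.injective (by rw [map_zero]; exact e))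
  exact mul_ne_zero h2 (mul_ne_zero (pow_ne_zero _ hA0) ht) this.1

theorem Ctx.cl_cube_center (u v : K) : C.cl 0 u v ^ 3 = 1 := by
  rw [pow_succ, pow_two, C.cl_mul_center, C.cl_mul_center,
    show u + u + u = 0 by linear_combination u * C.three_eq_zero,
    show v + v + v = 0 by linear_combination v * C.three_eq_zero, C.cl_zero]

theorem Ctx.mem_par_iff {h : GL chevG2.Idx K} :
    h ∈ chevG2.diagonalSubgroup K ⊓ twistedG2 K (3 ^ m) ↔ ∃ b, h = C.par b := by
  rw [C.diag_eq, MonoidHom.mem_range]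
  exact exists_congr fun b => eq_comm

end TwG2

end CfsgLib.Chev
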