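/-
The action of a group of type ²G₂ on the cosets of its Borel subgroup.
-/
import Mathlib
import Cfsg.Agent.Lib.Chev.Twist.G2Local

set_option autoImplicit false
set_option maxRecDepth 20000

namespace CfsgLib.Chev

open Cfsg.Lie
open scoped Pointwise

universe v

namespace TwG2

/-- Equality of cosets of the trace of a subgroup. -/
theorem mk_eq_mk_iff {G : Type*} [Group G] (S B : Subgroup G) (a b : ↥S) :
    (QuotientGroup.mk a : ↥S ⧸ (B ⊓ S).subgroupOf S) = QuotientGroup.mk b ↔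
      (a : G)⁻¹ * (b : G) ∈ B := by
  rw [QuotientGroup.eq, Subgroup.mem_subgroupOf, Subgroup.mem_inf]
  exact ⟨fun h => h.1, fun h => ⟨h, (a⁻¹ * b).2⟩⟩

theorem smul_mk_eq_iff {G : Type*} [Group G] (S B : Subgroup G) (g g' a : ↥S) :
    g • (QuotientGroup.mk a : ↥S ⧸ (B ⊓ S).subgroupOf S) = g' • QuotientGroup.mk a ↔
      (a : G)⁻¹ * ((g : G)⁻¹ * (g' : G)) * (a : G) ∈ B := by
  rw [MulAction.Quotient.smul_mk, MulAction.Quotient.smul_mk, mk_eq_mk_iff]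
  simp only [smul_eq_mul, Subgroup.coe_mul, mul_inv_rev, mul_assoc]

variable {K : Type v} [Field K] [Fintype K] {m : ℕ} (C : Ctx K m)
include C

/-- The representative of the Weyl element. -/
noncomputable def Ctx.wel : GL chevG2.Idx K := C.sys.nO ⟨0, by decide⟩

theorem Ctx.wel_mem : C.wel ∈ twistedG2 K (3 ^ m) := C.sys.nO_mem _

theorem Ctx.wel_monomial : C.wel ∈ chevG2.monomialSubgroup K := C.sys.nO_monomial _

theorem Ctx.posO_of_pos {r : ℕ} (hr : r < chevG2.nroots) (h : chevG2.nroots / 2 ≤ r) :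
    (O ⟨0, by decide⟩).posO DataG2.co r :=
  (posO_iff_list DataG2.chk_arrays pos_list r hr).2 ((pos_iff r hr).1 h)

theorem Ctx.conj_neg {u : GL chevG2.Idx K} (hu : u ∈ chevG2.posUnipotent K) :
    C.wel * u * C.wel⁻¹ ∈ chevG2.negUnipotent K ∧ C.wel⁻¹ * u * C.wel ∈ chevG2.negUnipotent K := by
  have hF := DataG2.facts
  rw [hF.posUnipotent_eq] at hu
  have hu' : u ∈ rootClosure chevG2 K ((O ⟨0, by decide⟩).posO DataG2.co) :=
    rootClosure_mono (fun r hr h => C.posO_of_pos hr h) hu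
  rw [hF.negUnipotent_eq]
  refine ⟨rootClosure_mono (fun r _ h => h.1) (C.sys.neg_of_conj _ hu'), ?_⟩
  have h2 := hF.permAct_inv C.wel_monomial (C.sys.nO_perm ⟨0, by decide⟩)
  rw [C.sys.wO_inv] at h2
  have := hF.conj_rootClosure h2 (Q := (· < chevG2.nroots / 2))
    (fun s hs => (C.sys.wO_inO _ hs.1 hs.2).1) hu'
  rwa [inv_inv] at this

theorem Ctx.borel_inf_conj {u : GL chevG2.Idx K} (hu : u ∈ chevG2.posUnipotent K)
    (h : C.wel⁻¹ * u * C.wel ∈ chevG2.borelSubgroup K) : u = 1 := by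
  have h2 : C.wel⁻¹ * u * C.wel ∈ chevG2.borelSubgroup K ⊓ chevG2.negUnipotent K :=
    ⟨h, (C.conj_neg hu).2⟩
  rw [DataG2.facts.borel_inf_neg, Subgroup.mem_bot, mul_assoc, inv_mul_eq_one] at h2
  exact mul_eq_right.1 h2.symm

/-- Every element outside the Borel subgroup lies in the double coset of the Weyl element. -/
theorem Ctx.bruhat_two {g : GL chevG2.Idx K} (hg : g ∈ twistedG2 K (3 ^ m)) :
    g ∈ chevG2.borelSubgroup K ∨ ∃ u ∈ chevG2.posUnipotent K ⊓ twistedG2 K (3 ^ m),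
      ∃ b ∈ chevG2.borelSubgroup K ⊓ twistedG2 K (3 ^ m), g = u * C.wel * b := by
  have hF := DataG2.facts
  obtain ⟨b, hbG, hbB, n, hnG, hnN, w, hw, hwf, u, hu, e⟩ := C.sys.bruhat (Subgroup.inv_mem _ hg)
  obtain ⟨l, hl⟩ := C.sys.perm_word hnN hw
  have huG : u ∈ twistedG2 K (3 ^ m) := C.sys.fixU_le hl hwf hu
  have hup : u ∈ chevG2.posUnipotent K := by
    rw [hF.posUnipotent_eq]
    exact rootClosure_mono (fun r _ ⟨_, h, _⟩ => h) hu.2
  obtain ⟨φ, -, hker⟩ := C.weyl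
  have hsne : φ ⟨C.wel, C.wel_monomial, C.wel_mem⟩ ≠ 1 := by
    intro h
    rw [← MonoidHom.mem_ker, hker, Subgroup.mem_subgroupOf] at h
    have hu1 := (C.mem_posU_iff.2 ⟨0, 1, 0, rfl⟩).1
    have := C.borel_inf_conj hu1 (Subgroup.mul_mem _ (Subgroup.mul_mem _
      (Subgroup.inv_mem _ (hF.diagonal_le_borel h.1)) (hF.pos_le_borel
        (hF.posUnipotent_eq (F := K) ▸ hu1))) (hF.diagonal_le_borel h.1))
    rw [← C.cl_zero] at this
    exact one_ne_zero (C.cl_inj this).2.1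
  have two : ∀ a : Multiplicative (ZMod 2), a ≠ 1 → ∀ b, b = 1 ∨ b = a := by decide
  replace e : g = u⁻¹ * n⁻¹ * b⁻¹ := by rw [← inv_inv g, e]; group
  have hbi : b⁻¹ ∈ chevG2.borelSubgroup K ⊓ twistedG2 K (3 ^ m) :=
    Subgroup.inv_mem _ ⟨hbB, hbG⟩
  rcases two _ hsne (φ ⟨n, hnN, hnG⟩⁻¹) with h | h
  · left
    rw [← MonoidHom.mem_ker, hker, Subgroup.mem_subgroupOf] at h
    rw [e]
    exact Subgroup.mul_mem _ (Subgroup.mul_mem _ (Subgroup.inv_mem _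
      (hF.pos_le_borel (hF.posUnipotent_eq (F := K) ▸ hup))) (hF.diagonal_le_borel h.1)) hbi.1
  · right
    have h' : (⟨C.wel, C.wel_monomial, C.wel_mem⟩ :
        ↥(chevG2.monomialSubgroup K ⊓ twistedG2 K (3 ^ m)))⁻¹ * ⟨n, hnN, hnG⟩⁻¹ ∈ φ.ker := by
      rw [MonoidHom.mem_ker, map_mul, map_inv, h, inv_mul_cancel]
    rw [hker, Subgroup.mem_subgroupOf] at h'
    change C.wel⁻¹ * n⁻¹ ∈ _ at h'
    refine ⟨u⁻¹, Subgroup.inv_mem _ ⟨hup, huG⟩, C.wel⁻¹ * n⁻¹ * b⁻¹,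
      Subgroup.mul_mem _ ⟨hF.diagonal_le_borel h'.1, h'.2⟩ hbi, ?_⟩
    rw [e]; group

theorem Ctx.borel_decomp {g : GL chevG2.Idx K}
    (hg : g ∈ chevG2.borelSubgroup K ⊓ twistedG2 K (3 ^ m)) :
    ∃ u ∈ chevG2.posUnipotent K ⊓ twistedG2 K (3 ^ m),
      ∃ h ∈ chevG2.diagonalSubgroup K ⊓ twistedG2 K (3 ^ m), g = u * h := by
  obtain ⟨u, huG, hu, h, hhG, hh, rfl⟩ := C.sys.mem_B hg.2 hg.1
  exact ⟨u, ⟨DataG2.facts.posUnipotent_eq (F := K) ▸ hu, huG⟩, h, ⟨hh, hhG⟩, rfl⟩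

/-- The intersection of the stabilisers of the two standard cosets is the torus. -/
theorem Ctx.borel_inf_conj_borel {g : GL chevG2.Idx K}
    (hg : g ∈ chevG2.borelSubgroup K ⊓ twistedG2 K (3 ^ m))
    (h : C.wel⁻¹ * g * C.wel ∈ chevG2.borelSubgroup K) :
    g ∈ chevG2.diagonalSubgroup K ⊓ twistedG2 K (3 ^ m) := by
  have hF := DataG2.facts
  obtain ⟨u, hu, d, hd, rfl⟩ := C.borel_decomp hg
  have hd' : C.wel⁻¹ * d * C.wel ∈ chevG2.borelSubgroup K := by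
    have := hF.conj_diagonal (Subgroup.inv_mem _ C.wel_monomial) hd.1
    rw [inv_inv] at this
    exact hF.diagonal_le_borel this
  have : C.wel⁻¹ * u * C.wel ∈ chevG2.borelSubgroup K := by
    rw [show C.wel⁻¹ * u * C.wel = C.wel⁻¹ * (u * d) * C.wel * (C.wel⁻¹ * d * C.wel)⁻¹ by group]
    exact Subgroup.mul_mem _ h (Subgroup.inv_mem _ hd')
  rw [C.borel_inf_conj hu.1 this, one_mul]
  exact hd

theorem Ctx.diag_conj_posU {h u : GL chevG2.Idx K}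
    (hh : h ∈ chevG2.diagonalSubgroup K ⊓ twistedG2 K (3 ^ m))
    (hu : u ∈ chevG2.posUnipotent K ⊓ twistedG2 K (3 ^ m)) :
    h * u * h⁻¹ ∈ chevG2.posUnipotent K ⊓ twistedG2 K (3 ^ m) := by
  have hF := DataG2.facts
  refine ⟨?_, Subgroup.mul_mem _ (Subgroup.mul_mem _ hh.2 hu.2) (Subgroup.inv_mem _ hh.2)⟩
  have h1 := hu.1
  rw [hF.posUnipotent_eq] at h1 ⊢
  exact (Subgroup.mem_normalizer_iff.1 (hF.diagonal_le_normalizer _ hh.1) u).1 h1

/-- The point stabiliser. -/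
abbrev Ctx.bor (_C : Ctx K m) : Subgroup ↥(twistedG2 K (3 ^ m)) :=
  (chevG2.borelSubgroup K ⊓ twistedG2 K (3 ^ m)).subgroupOf (twistedG2 K (3 ^ m))

/-- The coset of the Weyl element. -/
noncomputable def Ctx.opp : ↥(twistedG2 K (3 ^ m)) ⧸ C.bor :=
  QuotientGroup.mk ⟨C.wel, C.wel_mem⟩

theorem Ctx.stab_base (g : ↥(twistedG2 K (3 ^ m))) :
    g • (QuotientGroup.mk 1 : _ ⧸ C.bor) = QuotientGroup.mk 1 ↔
      (g : GL chevG2.Idx K) ∈ chevG2.borelSubgroup K := by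
  conv_lhs => rhs; rw [← one_smul ↥(twistedG2 K (3 ^ m))
    (QuotientGroup.mk 1 : ↥(twistedG2 K (3 ^ m)) ⧸ C.bor)]
  rw [smul_mk_eq_iff, OneMemClass.coe_one, inv_one, one_mul, mul_one, mul_one]
  exact inv_mem_iff

theorem Ctx.smul_opp_eq (g g' : ↥(twistedG2 K (3 ^ m))) :
    g • C.opp = g' • C.opp ↔
      C.wel⁻¹ * ((g : GL chevG2.Idx K)⁻¹ * g') * C.wel ∈ chevG2.borelSubgroup K :=
  smul_mk_eq_iff _ _ g g' ⟨C.wel, C.wel_mem⟩

theorem Ctx.eq_smul_opp (x : ↥(twistedG2 K (3 ^ m)) ⧸ C.bor) :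
    x = QuotientGroup.mk 1 ∨ ∃ u : ↥(twistedG2 K (3 ^ m)),
      (u : GL chevG2.Idx K) ∈ chevG2.posUnipotent K ∧ x = u • C.opp := by
  obtain ⟨g, rfl⟩ := QuotientGroup.mk_surjective x
  rcases C.bruhat_two g.2 with h | ⟨u, hu, b, hb, e⟩
  · left
    rw [mk_eq_mk_iff, OneMemClass.coe_one, mul_one]
    exact Subgroup.inv_mem _ h
  · refine Or.inr ⟨⟨u, hu.2⟩, hu.1, ?_⟩
    rw [Ctx.opp, MulAction.Quotient.smul_mk, mk_eq_mk_iff, smul_eq_mul, Subgroup.coe_mul, e]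
    show (u * C.wel * b)⁻¹ * (u * C.wel) ∈ _
    rw [show (u * C.wel * b)⁻¹ * (u * C.wel) = b⁻¹ by group]
    exact Subgroup.inv_mem _ hb.1

theorem Ctx.stab_two {g : ↥(twistedG2 K (3 ^ m))}
    (h1 : g • (QuotientGroup.mk 1 : _ ⧸ C.bor) = QuotientGroup.mk 1) (h2 : g • C.opp = C.opp) :
    ∃ b, (g : GL chevG2.Idx K) = C.par b := by
  refine C.mem_par_iff.1 (C.borel_inf_conj_borel ⟨(C.stab_base g).1 h1, g.2⟩ ?_)
  have := (C.smul_opp_eq 1 g).1 (by rw [one_smul, h2])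
  simpa using this

theorem Ctx.par_mem_stab (b : Kˣ) :
    ((⟨C.par b, (C.range_le ⟨b, rfl⟩).2⟩ : ↥(twistedG2 K (3 ^ m))) •
      (QuotientGroup.mk 1 : _ ⧸ C.bor) = QuotientGroup.mk 1) ∧
    (⟨C.par b, (C.range_le ⟨b, rfl⟩).2⟩ : ↥(twistedG2 K (3 ^ m))) • C.opp = C.opp := by
  have hF := DataG2.facts
  refine ⟨(C.stab_base _).2 (hF.diagonal_le_borel (C.range_le ⟨b, rfl⟩).1), ?_⟩
  conv_rhs => rw [← one_smul ↥(twistedG2 K (3 ^ m)) C.opp]
  rw [C.smul_opp_eq]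
  have := hF.conj_diagonal (Subgroup.inv_mem _ C.wel_monomial)
    (Subgroup.inv_mem _ (C.range_le ⟨b, rfl⟩).1)
  rw [inv_inv] at this
  simpa using hF.diagonal_le_borel this

/-- A torus element fixes a point `u • opp` if and only if it commutes with `u`. -/
theorem Ctx.par_smul_iff (b : Kˣ) {u : ↥(twistedG2 K (3 ^ m))}
    (hu : (u : GL chevG2.Idx K) ∈ chevG2.posUnipotent K) :
    (⟨C.par b, (C.range_le ⟨b, rfl⟩).2⟩ : ↥(twistedG2 K (3 ^ m))) • (u • C.opp) = u • C.opp ↔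
      C.par b * (u : GL chevG2.Idx K) = (u : GL chevG2.Idx K) * C.par b := by
  set h : ↥(twistedG2 K (3 ^ m)) := ⟨C.par b, (C.range_le ⟨b, rfl⟩).2⟩
  have e : h • (u • C.opp) = (h * u * h⁻¹) • C.opp := by
    conv_rhs => rw [← (C.par_mem_stab b).2, smul_smul, inv_mul_cancel_right]
    rw [smul_smul]
  rw [e, C.smul_opp_eq]
  have hc := C.diag_conj_posU (C.range_le ⟨b, rfl⟩) ⟨hu, u.2⟩
  constructor
  · intro h1
    have := C.borel_inf_conj (Subgroup.mul_mem _ (Subgroup.inv_mem _ hc.1) hu) h1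
    exact mul_inv_eq_iff_eq_mul.1 (inv_mul_eq_one.1 this)
  · intro h1
    show C.wel⁻¹ * ((C.par b * (u : GL chevG2.Idx K) * (C.par b)⁻¹)⁻¹ * u) * C.wel ∈ _
    rw [h1, mul_inv_cancel_right, inv_mul_cancel, mul_one, inv_mul_cancel]
    exact Subgroup.one_mem _

/-- Distinct conjugates of the positive unipotent part meet trivially. -/
theorem Ctx.posU_inf_conj {g x : GL chevG2.Idx K} (hg : g ∈ twistedG2 K (3 ^ m))
    (hgB : g ∉ chevG2.borelSubgroup K)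
    (hx : x ∈ chevG2.posUnipotent K ⊓ twistedG2 K (3 ^ m))
    (hxg : g⁻¹ * x * g ∈ chevG2.posUnipotent K) : x = 1 := by
  have hF := DataG2.facts
  rcases C.bruhat_two hg with h | ⟨u, hu, b, hb, rfl⟩
  · exact absurd h hgB
  · have h1 : C.wel⁻¹ * (u⁻¹ * x * u) * C.wel ∈ chevG2.borelSubgroup K := by
      rw [show C.wel⁻¹ * (u⁻¹ * x * u) * C.wel =
        b * ((u * C.wel * b)⁻¹ * x * (u * C.wel * b)) * b⁻¹ by group]
      exact Subgroup.mul_mem _ (Subgroup.mul_mem _ hb.1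
        (hF.pos_le_borel (hF.posUnipotent_eq (F := K) ▸ hxg))) (Subgroup.inv_mem _ hb.1)
    have := C.borel_inf_conj (Subgroup.mul_mem _ (Subgroup.mul_mem _ (Subgroup.inv_mem _ hu.1) hx.1)
      hu.1) h1
    rw [mul_assoc, inv_mul_eq_one] at this
    exact mul_eq_right.1 this.symm

theorem Ctx.borel_normalizes {g x : GL chevG2.Idx K}
    (hg : g ∈ chevG2.borelSubgroup K ⊓ twistedG2 K (3 ^ m))
    (hx : x ∈ chevG2.posUnipotent K ⊓ twistedG2 K (3 ^ m)) :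
    g * x * g⁻¹ ∈ chevG2.posUnipotent K ⊓ twistedG2 K (3 ^ m) := by
  obtain ⟨u, hu, h, hh, rfl⟩ := C.borel_decomp hg
  rw [show u * h * x * (u * h)⁻¹ = u * (h * x * h⁻¹) * u⁻¹ by group]
  exact Subgroup.mul_mem _ (Subgroup.mul_mem _ hu (C.diag_conj_posU hh hx))
    (Subgroup.inv_mem _ hu)

end TwG2

end CfsgLib.Chev
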