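/-
The subgroup `PSL₂(q)` centralised by the involution of the torus in a group of type ²G₂.
-/
import Mathlib
import Cfsg.Agent.Lib.Chev.Twist.G2Points
import Cfsg.Agent.Lib.Chev.SL2

set_option autoImplicit false
set_option maxRecDepth 20000

namespace CfsgLib.Chev

open Cfsg.Lie
open scoped MatrixGroups

universe v

section Product

variable {F G : Type*} [Field F] [Group G] {x y x' y' : F → G} {h h' : Fˣ →* G} {n n' : G}

/-- The product of two commuting rank one systems, one of them twisted by an endomorphism of the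
field. -/
theorem RankOne.exists_prod (R : RankOne x y h n) (R' : RankOne x' y' h' n') (f : F →+* F)
    (cxx : ∀ s t, Commute (x s) (x' t)) (cxy : ∀ s t, Commute (x s) (y' t))
    (cyx : ∀ s t, Commute (y s) (x' t)) (cyy : ∀ s t, Commute (y s) (y' t)) :
    ∃ H : Fˣ →* G, RankOne (fun t => x (f t) * x' t) (fun t => y (f t) * y' t) H (n * n') ∧
      ∀ a, H a = h (Units.map (f : F →* F) a) * h' a := by
  have cn : ∀ {g : G}, (∀ t, Commute (x t) g) → (∀ t, Commute (y t) g) →
      ∀ a, Commute (h a * n) g := fun h1 h2 a => by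
    rw [← R.key a]; exact ((h1 _).mul_left (h2 _)).mul_left (h1 _)
  have cn' : ∀ {g : G}, (∀ t, Commute g (x' t)) → (∀ t, Commute g (y' t)) →
      ∀ a, Commute g (h' a * n') := fun h1 h2 a => by
    rw [← R'.key a]; exact ((h1 _).mul_right (h2 _)).mul_right (h1 _)
  have nx' : ∀ t, Commute n (x' t) := fun t => by
    simpa using cn (fun s => cxx s t) (fun s => cyx s t) 1
  have xn' : ∀ t, Commute (x t) n' := fun t => by
    simpa using cn' (fun s => cxx t s) (fun s => cxy t s) 1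
  have ny' : ∀ t, Commute n (y' t) := fun t => by
    simpa using cn (fun s => cxy s t) (fun s => cyy s t) 1
  have yn' : ∀ t, Commute (y t) n' := fun t => by
    simpa using cn' (fun s => cyx t s) (fun s => cyy t s) 1
  have nn' : Commute n n' := by simpa using cn' nx' ny' 1
  have hx' : ∀ a t, Commute (h a) (x' t) := fun a t => by
    simpa using (cn (fun s => cxx s t) (fun s => cyx s t) a).mul_left (nx' t).inv_left
  have hy' : ∀ a t, Commute (h a) (y' t) := fun a t => by
    simpa using (cn (fun s => cxy s t) (fun s => cyy s t) a).mul_left (ny' t).inv_left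
  have xh' : ∀ a t, Commute (x t) (h' a) := fun a t => by
    simpa using (cn' (fun s => cxx t s) (fun s => cxy t s) a).mul_right (xn' t).inv_right
  have hn' : ∀ a, Commute (h a) n' := fun a => by
    simpa using cn' (hx' a) (hy' a) 1
  have hh' : ∀ a b, Commute (h a) (h' b) := fun a b => by
    simpa using (cn' (hx' a) (hy' a) b).mul_right (hn' a).inv_right
  have nh' : ∀ a, Commute n (h' a) := fun a => by
    simpa using (cn' nx' ny' a).mul_right nn'.inv_right
  refine ⟨MonoidHom.mk' (fun a => h (Units.map (f : F →* F) a) * h' a) fun a b => by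
    rw [map_mul, map_mul, map_mul, (hh' _ _).symm.mul_mul_mul_comm], ⟨?_, ?_, ?_, ?_, ?_, ?_⟩,
    fun a => rfl⟩
  · intro s t
    simp only [map_add, R.x_add, R'.x_add]
    rw [(cxx _ _).symm.mul_mul_mul_comm]
  · intro s t
    simp only [map_add, R.y_add, R'.y_add]
    rw [(cyy _ _).symm.mul_mul_mul_comm]
  · intro a t
    simp only [MonoidHom.mk'_apply]
    rw [map_mul, map_pow, show f (a : F) = ((Units.map (f : F →* F) a : Fˣ) : F) from rfl,
      ← R.hx, ← R'.hx]
    set A := h (Units.map (f : F →* F) a)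
    calc A * h' a * (x (f t) * x' t) * (A * h' a)⁻¹
        = A * (h' a * x (f t)) * x' t * ((h' a)⁻¹ * A⁻¹) := by group
      _ = A * x (f t) * (h' a * x' t * (h' a)⁻¹) * A⁻¹ := by
          rw [((xh' a (f t)).symm).eq]; group
      _ = _ := by
          rw [mul_assoc _ _ A⁻¹, (((hh' _ a).mul_right (hx' _ t)).mul_right
            (hh' _ a).inv_right).inv_left.symm.eq]
          simp only [A]
          group
  · intro u
    simp only [MonoidHom.mk'_apply]
    rw [show -(u : F)⁻¹ = -((u⁻¹ : Fˣ) : F) by rw [Units.val_inv_eq_inv_val]]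
    have k1 := R.key (Units.map (f : F →* F) u)
    have k2 := R'.key u
    simp only [Units.coe_map, MonoidHom.coe_coe] at k1
    rw [Units.val_inv_eq_inv_val, map_neg, map_inv₀]
    calc x (f u) * x' u * (y (-(f u)⁻¹) * y' (-(u : F)⁻¹)) * (x (f u) * x' u)
        = x (f u) * (x' u * y (-(f u)⁻¹)) * (y' (-(u : F)⁻¹) * x (f u)) * x' u := by group
      _ = x (f u) * y (-(f u)⁻¹) * (x' u * x (f u)) * (y' (-(u : F)⁻¹) * x' u) := by
          rw [(cyx _ _).symm.eq, (cxy _ _).symm.eq]; group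
      _ = (x (f u) * y (-(f u)⁻¹) * x (f u)) * (x' u * y' (-(u : F)⁻¹) * x' u) := by
          rw [(cxx _ _).symm.eq]; group
      _ = _ := by rw [k1, k2, (nh' u).mul_mul_mul_comm]
  · intro t
    simp only [map_neg]
    rw [← R.nx, ← R'.nx]
    calc n * n' * (x (f t) * x' t) * (n * n')⁻¹
        = n * (n' * x (f t)) * (x' t * n'⁻¹) * n⁻¹ := by group
      _ = n * x (f t) * (n' * x' t * n'⁻¹) * n⁻¹ := by rw [(xn' _).symm.eq]; group
      _ = _ := by
          rw [mul_assoc _ _ n⁻¹, ((nn'.mul_right (nx' t)).mul_right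
            nn'.inv_right).inv_left.symm.eq]
          group
  · simp only [MonoidHom.mk'_apply]
    rw [nn'.symm.mul_mul_mul_comm, R.sq, R'.sq]
    congr 2
    ext
    simp

end Product

namespace TwG2

theorem neg_pair_tables : parG2.commB chevG2 g2maaab g2mab = true := by decide +kernel

variable {K : Type v} [Field K] [Fintype K] {m : ℕ} (C : Ctx K m)
include C

/-- The Weyl element of the pair of root subgroups. -/
noncomputable def Ctx.nw (_C : Ctx K m) : GL chevG2.Idx K := nU chevG2 g2ab (1 : K) * nU chevG2 g2aaab 1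

theorem Ctx.nw_mem : C.nw ∈ twistedG2 K (3 ^ m) ∧ C.nw ∈ chevG2.monomialSubgroup K := by
  refine ⟨?_, Subgroup.mul_mem _ (DataG2.facts.nU_mem_monomial (by decide))
    (DataG2.facts.nU_mem_monomial (by decide))⟩
  have := C.nU_pair 1
  rwa [map_one] at this

theorem Ctx.exists_pairHom : ∃ φ : SL(2, K) →* GL chevG2.Idx K,
    (∀ g, φ g ∈ twistedG2 K (3 ^ m)) ∧
    (∀ t, φ (upM t) = C.cl 0 t 0) ∧ φ wM = C.nw ∧
    (∀ (g : SL(2, K)) (t : K), (g : Matrix (Fin 2) (Fin 2) K) = !![1, 0; t, 1] →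
      φ g = xU chevG2 g2mab (C.f t) * xU chevG2 g2maaab t) ∧
    ∀ (g : SL(2, K)) (a : Kˣ), (g : Matrix (Fin 2) (Fin 2) K) = !![(a : K), 0; 0, (a : K)⁻¹] →
      φ g = C.par (C.phi a) := by
  have hF := DataG2.facts
  obtain ⟨A, B, A', -⟩ := C.commute_pair
  obtain ⟨-, -, -, -, n1, n4⟩ := pair_cross
  have hab : g2ab < chevG2.nroots := by decide
  have haaab : g2aaab < chevG2.nroots := by decide
  have cyy : ∀ s t : K, Commute (xU chevG2 g2mab s) (xU chevG2 g2maaab t) := fun s t =>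
    (C.sig.commute_xU (a := g2maaab) (b := g2mab) (by decide) (by decide) neg_pair_tables t s).symm
  obtain ⟨H, R, hH⟩ := (hF.rankOne (F := K) hab).exists_prod (hF.rankOne (F := K) haaab) C.f
    (fun s t => (A t s).symm) (fun s t => by rw [n4]; exact (A' t s).symm)
    (fun s t => by rw [n1]; exact (B t s).symm) (fun s t => by rw [n1, n4]; exact cyy s t)
  obtain ⟨φ, hmem, hval⟩ := R.exists_hom
  have hx : ∀ t, xU chevG2 g2ab (C.f t) * xU chevG2 g2aaab t = C.cl 0 t 0 := fun t =>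
    ((C.pair_eq t).1).symm
  have hy : ∀ t, xU chevG2 g2mab (C.f t) * xU chevG2 g2maaab t ∈ twistedG2 K (3 ^ m) := fun t => by
    have := C.mem_gen ⟨0, -t, 0, Or.inr rfl⟩
    rwa [(C.pair_eq _).2, neg_neg] at this
  have hup : ∀ t, φ (upM t) = C.cl 0 t 0 := fun t => ((hval _ t).1 rfl).trans (hx t)
  have hlow : ∀ (g : SL(2, K)) (t : K), (g : Matrix (Fin 2) (Fin 2) K) = !![1, 0; t, 1] →
      φ g = xU chevG2 g2mab (C.f t) * xU chevG2 g2maaab t := fun g t hg => by
    rw [(hval g t).2 hg, ← n1, ← n4]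
  have hnw : φ wM = C.nw := by
    let L : SL(2, K) := ⟨!![1, 0; -1, 1], by simp [Matrix.det_fin_two]⟩
    have e : (wM : SL(2, K)) = upM 1 * L * upM 1 := by
      apply Subtype.ext
      simp only [Matrix.SpecialLinearGroup.coe_mul]
      ext i j
      fin_cases i <;> fin_cases j <;> simp [upM, wM, L, Matrix.mul_apply, Fin.sum_univ_two]
    rw [e, map_mul, map_mul, (hval _ 1).1 rfl, (hval L (-1)).2 rfl]
    have := R.key 1
    simp only [Units.val_one, inv_one, map_one, one_mul] at this ⊢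
    exact this
  refine ⟨φ, fun g => (Subgroup.closure_le _).2 ?_ (hmem g), hup, hnw, hlow, ?_⟩
  · rintro _ (⟨t, rfl⟩ | ⟨t, rfl⟩)
    · show xU chevG2 g2ab (C.f t) * xU chevG2 g2aaab t ∈ twistedG2 K (3 ^ m)
      rw [hx]; exact (C.cl_mem 0 t 0).1
    · show xU chevG2 (chevG2.neg g2ab) (C.f t) * xU chevG2 (chevG2.neg g2aaab) t ∈
        twistedG2 K (3 ^ m)
      rw [n1, n4]; exact hy t
  intro g a hg
  let L : SL(2, K) := ⟨!![1, 0; -(a : K)⁻¹, 1], by simp [Matrix.det_fin_two]⟩
  have e : g * wM = upM (a : K) * L * upM (a : K) := by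
    apply Subtype.ext
    simp only [Matrix.SpecialLinearGroup.coe_mul, hg]
    ext i j
    fin_cases i <;> fin_cases j <;> simp [upM, wM, L, Matrix.mul_apply, Fin.sum_univ_two]
  have k := R.key a
  rw [← (hval (upM (a : K)) (a : K)).1 rfl, ← (hval L _).2 rfl, ← map_mul, ← map_mul, ← e, map_mul, hnw] at k
  rw [mul_right_cancel k, hH]
  obtain ⟨c1, c2, c3, c4⟩ := cor_tables
  show hU chevG2 g2ab (C.f (a : K)) * hU chevG2 g2aaab (a : K) = _
  rw [show C.f (a : K) = ((C.fu a : Kˣ) : K) from rfl, hF.hU_eq_hT (by decide),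
    hF.hU_eq_hT (by decide), ← hF.hT_mul]
  refine hF.hT_congr fun i hi => ?_
  have : i < 2 := hi
  interval_cases i
  · show C.fu a ^ cor chevG2 g2ab 0 * a ^ cor chevG2 g2aaab 0 = C.fu (C.fu a ^ 3 * a)
    rw [c1, c3, zpow_one, zpow_one, map_mul, map_pow, C.fu_theta, mul_comm]
  · show C.fu a ^ cor chevG2 g2ab 1 * a ^ cor chevG2 g2aaab 1 = C.fu a ^ 3 * a
    rw [c2, c4, zpow_one]
    rfl

theorem Ctx.nw_not_borel : C.nw ∉ chevG2.borelSubgroup K := by
  intro h
  have hF := DataG2.facts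
  have hd : C.nw ∈ chevG2.diagonalSubgroup K := by
    rw [← hF.borel_inf_monomial]; exact ⟨h, C.nw_mem.2⟩
  obtain ⟨φ, -, hup, hnw, hlow, -⟩ := C.exists_pairHom
  let L : SL(2, K) := ⟨!![1, 0; -1, 1], by simp [Matrix.det_fin_two]⟩
  have e : L * wM = wM * upM 1 := by
    apply Subtype.ext
    simp only [Matrix.SpecialLinearGroup.coe_mul]
    ext i j
    fin_cases i <;> fin_cases j <;> simp [upM, wM, L, Matrix.mul_apply, Fin.sum_univ_two]
  have e' : φ L = C.nw * C.cl 0 1 0 * C.nw⁻¹ := by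
    rw [← hup, ← hnw, ← map_mul, ← e, map_mul, mul_inv_cancel_right]
  have h1 : φ L ∈ chevG2.borelSubgroup K := by
    rw [e']
    refine hF.pos_le_borel (hF.posUnipotent_eq (F := K) ▸ ?_)
    exact (C.diag_conj_posU ⟨hd, C.nw_mem.1⟩ (C.mem_posU_iff.2 ⟨0, 1, 0, rfl⟩)).1
  have h2 : φ L ∈ chevG2.negUnipotent K := by
    rw [hlow L (-1) rfl, hF.negUnipotent_eq]
    exact Subgroup.mul_mem _ (xU_mem_rootClosure (by decide) (by decide) _)
      (xU_mem_rootClosure (by decide) (by decide) _)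
  have h3 : φ L ∈ chevG2.borelSubgroup K ⊓ chevG2.negUnipotent K := ⟨h1, h2⟩
  rw [hF.borel_inf_neg, Subgroup.mem_bot, e', mul_inv_eq_one, mul_eq_left, ← C.cl_zero] at h3
  exact one_ne_zero (C.cl_inj h3).2.1

omit [Field K] [Fintype K] C in
theorem scalar_two {R : Type*} [CommRing R] (r : R) : Matrix.scalar (Fin 2) r = !![r, 0; 0, r] := by
  ext i j; fin_cases i <;> fin_cases j <;> simp

omit C in
/-- The kernel of a homomorphism with the properties of the pair homomorphism is the centre. -/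
theorem Ctx.ker_pairHom (C : Ctx K m) {φ : SL(2, K) →* GL chevG2.Idx K}
    (hup : ∀ t, φ (upM t) = C.cl 0 t 0) (hnw : φ wM = C.nw)
    (hdiag : ∀ (g : SL(2, K)) (a : Kˣ), (g : Matrix (Fin 2) (Fin 2) K) = !![(a : K), 0; 0, (a : K)⁻¹] →
      φ g = C.par (C.phi a)) :
    φ.ker = Subgroup.center SL(2, K) ∧ ∀ g, φ g ≠ C.par (-1) := by
  have hF := DataG2.facts
  have hB : ∀ t, C.cl 0 t 0 ∈ chevG2.borelSubgroup K := fun t =>
    hF.pos_le_borel (hF.posUnipotent_eq (F := K) ▸ (C.mem_posU_iff.2 ⟨0, t, 0, rfl⟩).1)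
  have hH : ∀ b, C.par b ∈ chevG2.diagonalSubgroup K := fun b => (C.range_le ⟨b, rfl⟩).1
  -- a matrix mapping into the torus is diagonal
  have key : ∀ (g : SL(2, K)) (b : Kˣ), φ g = C.par b → ∃ a : Kˣ,
      (g : Matrix (Fin 2) (Fin 2) K) = !![(a : K), 0; 0, (a : K)⁻¹] ∧ C.phi a = b := by
    intro g b hg
    have hd := sl2_det g
    by_cases hc : g 1 0 = 0
    · have ha : g 0 0 ≠ 0 := by intro h0; rw [h0, hc] at hd; simp at hd
      set a : Kˣ := Units.mk0 _ ha with hadef
      have hdv : g 1 1 = (g 0 0)⁻¹ := eq_inv_of_mul_eq_one_right (by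
        rw [hc, mul_zero, sub_zero] at hd; exact hd)
      let D : SL(2, K) := ⟨!![(a : K), 0; 0, (a : K)⁻¹], by simp [Matrix.det_fin_two, ha]⟩
      have e : g = D * upM (g 0 1 / g 0 0) := by
        apply Subtype.ext
        simp only [Matrix.SpecialLinearGroup.coe_mul]
        ext i j
        fin_cases i <;> fin_cases j <;>
          simp [D, upM, hadef, Matrix.mul_apply, Fin.sum_univ_two, hc, hdv, mul_div_cancel₀, ha]
      rw [e, map_mul, hdiag D a rfl, hup] at hg
      have h1 : C.cl 0 (g 0 1 / g 0 0) 0 ∈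
          rootClosure chevG2 K (chevG2.nroots / 2 ≤ ·) ⊓ chevG2.diagonalSubgroup K := by
        refine ⟨hF.posUnipotent_eq (F := K) ▸ (C.mem_posU_iff.2 ⟨0, _, 0, rfl⟩).1, ?_⟩
        rw [eq_inv_mul_of_mul_eq hg]
        exact Subgroup.mul_mem _ (Subgroup.inv_mem _ (hH _)) (hH _)
      rw [hF.pos_inf_diagonal, Subgroup.mem_bot] at h1
      rw [h1, mul_one] at hg
      refine ⟨a, ?_, C.par_injective hg⟩
      rw [← C.cl_zero] at h1
      rw [e, (C.cl_inj h1).2.1, Matrix.SpecialLinearGroup.coe_mul]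
      simp [D, upM, ← Matrix.one_fin_two]
    · exfalso
      have hD : ∃ D : SL(2, K), (D : Matrix (Fin 2) (Fin 2) K) =
          !![-(g 1 0)⁻¹, 0; 0, (-(g 1 0)⁻¹)⁻¹] :=
        ⟨⟨!![-(g 1 0)⁻¹, 0; 0, (-(g 1 0)⁻¹)⁻¹], by simp [Matrix.det_fin_two, hc]⟩, rfl⟩
      obtain ⟨D, hD⟩ := hD
      have e : g = upM (g 0 0 / g 1 0) * D * wM * upM (g 1 1 / g 1 0) := by
        apply Subtype.ext
        simp only [Matrix.SpecialLinearGroup.coe_mul, hD]
        ext i j
        fin_cases i <;> fin_cases j <;>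
          simp [upM, wM, Matrix.mul_apply, Fin.sum_univ_two] <;> field_simp <;>
          first | linear_combination hd | linear_combination -hd | ring
      rw [e, map_mul, map_mul, map_mul, hup, hup, hnw,
        hdiag D (-(Units.mk0 _ hc)⁻¹) (by rw [hD]; simp)] at hg
      refine C.nw_not_borel ?_
      rw [show C.nw = (C.cl 0 (g 0 0 / g 1 0) 0 * C.par (C.phi (-(Units.mk0 _ hc)⁻¹)))⁻¹ *
        C.par b * (C.cl 0 (g 1 1 / g 1 0) 0)⁻¹ by rw [← hg]; group]
      exact Subgroup.mul_mem _ (Subgroup.mul_mem _ (Subgroup.inv_mem _ (Subgroup.mul_mem _ (hB _)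
        (hF.diagonal_le_borel (hH _)))) (hF.diagonal_le_borel (hH _)))
        (Subgroup.inv_mem _ (hB _))
  have hphi : ∀ a : Kˣ, C.phi a = 1 ∨ C.phi a = -1 → a = 1 ∨ a = -1 := fun a h => by
    refine C.phi_fix ?_
    rcases h with h | h <;> rw [h] <;> simp
  have hpm : ∀ a : Kˣ, a = 1 ∨ a = -1 → C.phi a = 1 := fun a h => by
    rcases h with rfl | rfl
    · exact map_one _
    · show C.fu (-1) ^ 3 * -1 = 1
      rw [C.fu_neg_one]; simp [pow_succ]
  refine ⟨le_antisymm ?_ ?_, ?_⟩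
  · intro g hg
    obtain ⟨a, ha, ha'⟩ := key g 1 (by rw [map_one]; exact hg)
    rw [Matrix.SpecialLinearGroup.mem_center_iff]
    rcases hphi a (Or.inl ha') with rfl | rfl
    · exact ⟨1, one_pow _, by rw [scalar_two, ha]; simp⟩
    · exact ⟨-1, by simp, by rw [scalar_two, ha]; simp⟩
  · intro g hg
    obtain ⟨r, hr, hrg⟩ := Matrix.SpecialLinearGroup.mem_center_iff.1 hg
    rw [Fintype.card_fin, pow_two, mul_self_eq_one_iff] at hr
    rw [scalar_two] at hrg
    rcases hr with rfl | rfl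
    · rw [MonoidHom.mem_ker, hdiag g 1 (by rw [← hrg]; simp), hpm 1 (Or.inl rfl), map_one]
    · rw [MonoidHom.mem_ker, hdiag g (-1) (by rw [← hrg]; simp), hpm (-1) (Or.inr rfl), map_one]
  · intro g hg
    obtain ⟨a, -, ha⟩ := key g (-1) hg
    rw [hpm a (hphi a (Or.inr ha))] at ha
    exact C.neg_one_ne ha.symm

end TwG2

end CfsgLib.Chev
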