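/-
The centraliser of the involution of the torus and the Sylow 2-subgroups in type ²G₂.
-/
import Mathlib
import Cfsg.Agent.Lib.Chev.Twist.G2Pair
import Cfsg.Agent.Lib.Classical.SL2Sylow

set_option autoImplicit false
set_option maxRecDepth 20000

namespace CfsgLib.Chev

open Cfsg.Lie
open scoped MatrixGroups

universe v

theorem sl2_decomp {F : Type*} [Field F] (g : SL(2, F)) :
    ∃ (D : SL(2, F)) (a : Fˣ), (D : Matrix (Fin 2) (Fin 2) F) = !![(a : F), 0; 0, (a : F)⁻¹] ∧
      ((∃ t, g = D * upM t) ∨ ∃ s t, g = upM s * D * wM * upM t) := by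
  have hd := sl2_det g
  by_cases hc : g 1 0 = 0
  · have ha : g 0 0 ≠ 0 := by intro h0; rw [h0, hc] at hd; simp at hd
    have hdv : g 1 1 = (g 0 0)⁻¹ := eq_inv_of_mul_eq_one_right (by
      rw [hc, mul_zero, sub_zero] at hd; exact hd)
    let D : SL(2, F) := ⟨!![g 0 0, 0; 0, (g 0 0)⁻¹], by simp [Matrix.det_fin_two, ha]⟩
    refine ⟨D, Units.mk0 _ ha, rfl, Or.inl ⟨g 0 1 / g 0 0, ?_⟩⟩
    apply Subtype.ext
    simp only [Matrix.SpecialLinearGroup.coe_mul]
    ext i j
    fin_cases i <;> fin_cases j <;>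
      simp [D, upM, Matrix.mul_apply, Fin.sum_univ_two, hc, hdv, mul_div_cancel₀, ha]
  · let D : SL(2, F) :=
      ⟨!![-(g 1 0)⁻¹, 0; 0, (-(g 1 0)⁻¹)⁻¹], by simp [Matrix.det_fin_two, hc]⟩
    refine ⟨D, -(Units.mk0 _ hc)⁻¹, by simp [D], Or.inr ⟨g 0 0 / g 1 0, g 1 1 / g 1 0, ?_⟩⟩
    apply Subtype.ext
    simp only [Matrix.SpecialLinearGroup.coe_mul]
    ext i j
    fin_cases i <;> fin_cases j <;>
      simp [D, upM, wM, Matrix.mul_apply, Fin.sum_univ_two] <;> field_simp <;>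
      first | linear_combination hd | linear_combination -hd | ring

/-- The product of a group of order two and a commuting, disjointly embedded group. -/
theorem exists_equiv_prod {G H : Type*} [Group G] [Group H] {a : G} (ha : orderOf a = 2)
    (ψ : H →* G) (hψ : Function.Injective ψ) (hc : ∀ h, Commute a (ψ h)) (hna : ∀ h, ψ h ≠ a)
    (hsurj : ∀ g, ∃ h, g = ψ h ∨ g = a * ψ h) :
    Nonempty (G ≃* Multiplicative (ZMod 2) × H) := by
  have hz : ∀ k : Subgroup.zpowers a, (k : G) = 1 ∨ (k : G) = a := by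
    rintro ⟨k, hk⟩
    obtain ⟨n, rfl⟩ := Subgroup.mem_zpowers_iff.1 hk
    show a ^ n = 1 ∨ a ^ n = a
    rw [← zpow_mod_orderOf, ha]
    rcases Int.emod_two_eq_zero_or_one n with h | h
    · exact Or.inl (by rw [show n % ((2 : ℕ) : ℤ) = 0 from h, zpow_zero])
    · exact Or.inr (by rw [show n % ((2 : ℕ) : ℤ) = 1 from h, zpow_one])
  have hcomm : ∀ (k : Subgroup.zpowers a) h, Commute (k : G) (ψ h) := fun k h => by
    rcases hz k with e | e <;> rw [e]
    exacts [Commute.one_left _, hc h]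
  let f : Subgroup.zpowers a × H →* G :=
    MonoidHom.mk' (fun p => (p.1 : G) * ψ p.2) fun p p' => by
      rw [Prod.fst_mul, Prod.snd_mul, Subgroup.coe_mul, map_mul,
        (hcomm p'.1 p.2).symm.mul_mul_mul_comm]
  have hinj : Function.Injective f := by
    rw [← MonoidHom.ker_eq_bot_iff, eq_bot_iff]
    rintro ⟨k, h⟩ hk
    have hk' : (k : G) * ψ h = 1 := MonoidHom.mem_ker.1 hk
    rcases hz k with e | e
    · rw [e, one_mul] at hk'
      exact Subgroup.mem_bot.2 (Prod.ext (Subtype.ext e) (hψ (hk'.trans (map_one ψ).symm)))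
    · refine absurd ?_ (hna h⁻¹)
      rw [map_inv, ← e, eq_comm]
      exact eq_inv_of_mul_eq_one_left hk'
  have hsur : Function.Surjective f := fun g => by
    obtain ⟨h, e | e⟩ := hsurj g
    · exact ⟨(1, h), by rw [e]; exact one_mul _⟩
    · exact ⟨(⟨a, Subgroup.mem_zpowers a⟩, h), e.symm⟩
  have : IsCyclic (Subgroup.zpowers a) := inferInstance
  have e2 : Subgroup.zpowers a ≃* Multiplicative (ZMod 2) :=
    (zmodCyclicMulEquiv this).symm.trans
      (AddEquiv.toMultiplicative (ZMod.ringEquivCongr (by rw [Nat.card_zpowers, ha])).toAddEquiv)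
  exact ⟨(MulEquiv.ofBijective f ⟨hinj, hsur⟩).symm.trans (e2.prodCongr (MulEquiv.refl H))⟩

/-- Three commuting involutions which generate a group of order eight. -/
theorem exists_elementary_eight {G : Type*} [Group G] {a b c : G} (ha : a * a = 1) (hb : b * b = 1)
    (hc : c * c = 1) (hab : Commute a b) (hac : Commute a c) (hbc : Commute b c)
    (h1 : b ≠ 1) (h2 : c ≠ 1) (h3 : b * c ≠ 1) (h4 : a ≠ 1) (h5 : a ≠ b) (h6 : a ≠ c)
    (h7 : a * (b * c) ≠ 1) :
    ∃ E : Subgroup G, Nat.card E = 8 ∧ (∀ x ∈ E, x * x = 1) ∧ a ∈ E ∧ b ∈ E ∧ c ∈ E := by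
  let i : Multiplicative (ZMod 2) → ∀ x : G, G := fun k x => if k = 1 then 1 else x
  have two : ∀ k : Multiplicative (ZMod 2), k = 1 ∨ k = Multiplicative.ofAdd 1 := by decide
  have hne : Multiplicative.ofAdd (1 : ZMod 2) ≠ 1 := by decide
  have hsq : Multiplicative.ofAdd (1 : ZMod 2) * Multiplicative.ofAdd 1 = 1 := by decide
  have mk : ∀ x : G, x * x = 1 → ∃ f : Multiplicative (ZMod 2) →* G,
      f (Multiplicative.ofAdd 1) = x ∧ ∀ k, f k = 1 ∨ f k = x := fun x hx => by
    refine ⟨MonoidHom.mk' (fun k => i k x) fun k l => ?_, by simp [i, hne], fun k => ?_⟩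
    · rcases two k with rfl | rfl <;> rcases two l with rfl | rfl <;> simp [i, hne, hsq, hx]
    · rcases two k with rfl | rfl <;> simp [i, hne]
  obtain ⟨fa, ea, va⟩ := mk a ha
  obtain ⟨fb, eb, vb⟩ := mk b hb
  obtain ⟨fc, ec, vc⟩ := mk c hc
  have cbc : ∀ l n, Commute (fb l) (fc n) := fun l n => by
    rcases vb l with e | e <;> rcases vc n with e' | e' <;> rw [e, e'] <;>
      first | exact hbc | exact Commute.one_left _ | exact Commute.one_right _
  have cabc : ∀ k (p : Multiplicative (ZMod 2) × Multiplicative (ZMod 2)),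
      Commute (fa k) (fb p.1 * fc p.2) := fun k p => by
    rcases va k with e | e <;> rw [e]
    · exact Commute.one_left _
    · refine Commute.mul_right ?_ ?_
      · rcases vb p.1 with e' | e' <;> rw [e']; exacts [Commute.one_right _, hab]
      · rcases vc p.2 with e' | e' <;> rw [e']; exacts [Commute.one_right _, hac]
  let F : Multiplicative (ZMod 2) × Multiplicative (ZMod 2) × Multiplicative (ZMod 2) →* G :=
    fa.noncommCoprod (fb.noncommCoprod fc cbc) fun k p => cabc k p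
  have hF : ∀ k l n, F (k, l, n) = fa k * (fb l * fc n) := fun _ _ _ => rfl
  refine ⟨F.range, ?_, ?_,
    ⟨(Multiplicative.ofAdd 1, 1, 1), by rw [hF]; simp only [map_one fa, map_one fb, map_one fc, one_mul, mul_one, ea]⟩,
    ⟨(1, Multiplicative.ofAdd 1, 1), by rw [hF]; simp only [map_one fa, map_one fb, map_one fc, one_mul, mul_one, eb]⟩,
    ⟨(1, 1, Multiplicative.ofAdd 1), by rw [hF]; simp only [map_one fa, map_one fb, map_one fc, one_mul, mul_one, ec]⟩⟩
  · have hinj : Function.Injective F := by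
      rw [← MonoidHom.ker_eq_bot_iff, eq_bot_iff]
      rintro ⟨k, l, n⟩ h
      rw [MonoidHom.mem_ker, hF] at h
      have hbi : b⁻¹ = b := inv_eq_of_mul_eq_one_right hb
      have hci : c⁻¹ = c := inv_eq_of_mul_eq_one_right hc
      rcases two k with rfl | rfl <;> rcases two l with rfl | rfl <;> rcases two n with rfl | rfl <;>
        simp only [map_one, ea, eb, ec, one_mul, mul_one] at h
      · exact Subgroup.one_mem _
      · exact absurd h h2
      · exact absurd h h1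
      · exact absurd h h3
      · exact absurd h h4
      · exact absurd (hci ▸ eq_inv_of_mul_eq_one_left h) h6
      · exact absurd (hbi ▸ eq_inv_of_mul_eq_one_left h) h5
      · exact absurd h h7
    rw [← Nat.card_congr (MonoidHom.ofInjective hinj).toEquiv]
    simp
  · rintro _ ⟨p, rfl⟩
    rw [← map_mul, show p * p = 1 by revert p; decide, map_one]

namespace TwG2

variable {K : Type v} [Field K] [Fintype K] {m : ℕ} (C : Ctx K m)
include C

theorem Ctx.diag_involution {g : GL chevG2.Idx K}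
    (hg : g ∈ chevG2.diagonalSubgroup K ⊓ twistedG2 K (3 ^ m)) (h1 : g ≠ 1) (h2 : g * g = 1) :
    g = C.par (-1) := by
  obtain ⟨b, rfl⟩ := C.mem_par_iff.1 hg
  rw [← map_mul, ← map_one C.par] at h2
  rcases C.eq_of_sq (C.par_injective h2) with rfl | rfl
  · exact absurd (map_one C.par) h1
  · rfl

theorem Ctx.nw_neg_one : C.nw * C.par (-1) = C.par (-1) * C.nw := by
  refine mul_inv_eq_iff_eq_mul.1 (C.diag_involution ⟨?_, ?_⟩ ?_ ?_)
  · exact DataG2.facts.conj_diagonal C.nw_mem.2 (C.range_le ⟨-1, rfl⟩).1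
  · exact Subgroup.mul_mem _ (Subgroup.mul_mem _ C.nw_mem.1 (C.range_le ⟨-1, rfl⟩).2)
      (Subgroup.inv_mem _ C.nw_mem.1)
  · intro h
    rw [mul_inv_eq_one, mul_eq_left, ← map_one C.par] at h
    exact C.neg_one_ne (C.par_injective h)
  · rw [show C.nw * C.par (-1) * C.nw⁻¹ * (C.nw * C.par (-1) * C.nw⁻¹) =
      C.nw * (C.par (-1) * C.par (-1)) * C.nw⁻¹ by group, ← map_mul, neg_mul_neg, one_mul, map_one,
      mul_one, mul_inv_cancel]

theorem Ctx.mem_phi_range (b : Kˣ) : ∃ w, b = C.phi w ∨ b = -1 * C.phi w := by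
  have hn : (-1 : Kˣ) ∉ C.phi.range := by
    rintro ⟨w, hw⟩
    rcases C.phi_fix (w := w) (by rw [hw, neg_mul_neg, one_mul]) with rfl | rfl
    · rw [map_one] at hw
      exact C.neg_one_ne hw.symm
    · refine C.neg_one_ne (hw.symm.trans ?_)
      show C.fu (-1) ^ 3 * -1 = 1
      rw [C.fu_neg_one]
      simp [pow_succ]
  have hker : Nat.card C.phi.ker ≤ 2 := by
    classical
    rw [Nat.card_eq_fintype_card, Fintype.card_subtype]
    refine (Finset.card_le_card (t := {1, -1}) fun w hw => ?_).trans Finset.card_le_two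
    have h1 : C.phi w = 1 := MonoidHom.mem_ker.1 (Finset.mem_filter.1 hw).2
    rcases C.phi_fix (w := w) (by rw [h1, one_mul]) with rfl | rfl <;> simp
  have hidx : C.phi.range.index = 2 := by
    have h1 := Subgroup.card_mul_index C.phi.range
    have h2 := Subgroup.card_mul_index C.phi.ker
    rw [Subgroup.index_ker] at h2
    have hpos : 0 < Nat.card C.phi.range := Nat.card_pos
    have hne : C.phi.range.index ≠ 1 := fun e => by
      rw [Subgroup.index_eq_one] at e
      exact hn (e ▸ Subgroup.mem_top _)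
    have h3 : C.phi.range.index = Nat.card C.phi.ker :=
      Nat.eq_of_mul_eq_mul_left hpos (h1.trans (h2.symm.trans (mul_comm _ _)))
    have h4 : C.phi.range.index ≠ 0 := Subgroup.index_ne_zero_of_finite
    omega
  by_cases hb : b ∈ C.phi.range
  · obtain ⟨w, hw⟩ := hb
    exact ⟨w, Or.inl hw.symm⟩
  · obtain ⟨w, hw⟩ := (Subgroup.mul_mem_iff_of_index_two hidx (a := -1) (b := b)).2
      (iff_of_false hn hb)
    exact ⟨w, Or.inr (by rw [hw, ← mul_assoc, neg_mul_neg, one_mul, one_mul])⟩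

variable {φ : SL(2, K) →* GL chevG2.Idx K} (hup : ∀ t, φ (upM t) = C.cl 0 t 0)
  (hnw : φ wM = C.nw)
  (hdiag : ∀ (g : SL(2, K)) (a : Kˣ),
    (g : Matrix (Fin 2) (Fin 2) K) = !![(a : K), 0; 0, (a : K)⁻¹] → φ g = C.par (C.phi a))

include hup hnw hdiag

theorem Ctx.pair_comm (g : SL(2, K)) : Commute (C.par (-1)) (φ g) := by
  have hx : ∀ t, Commute (C.par (-1)) (φ (upM t)) := fun t => by
    rw [hup]; exact C.neg_one_comm t
  have hn : Commute (C.par (-1)) (φ wM) := by rw [hnw]; exact C.nw_neg_one.symm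
  obtain ⟨D, a, hD, ⟨t, rfl⟩ | ⟨s, t, rfl⟩⟩ := sl2_decomp g
  all_goals
    have hd : Commute (C.par (-1)) (φ D) := by
      rw [hdiag D a hD, commute_iff_eq, ← map_mul, ← map_mul, mul_comm]
  · rw [map_mul]; exact hd.mul_right (hx t)
  · rw [map_mul, map_mul, map_mul]; exact (((hx s).mul_right hd).mul_right hn).mul_right (hx t)

theorem Ctx.centralizer_decomp {g : GL chevG2.Idx K} (hg : g ∈ twistedG2 K (3 ^ m))
    (hc : C.par (-1) * g = g * C.par (-1)) :
    ∃ s, g = φ s ∨ g = C.par (-1) * φ s := by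
  have hF := DataG2.facts
  set a := C.par (-1) with ha
  have haG : a ∈ chevG2.diagonalSubgroup K ⊓ twistedG2 K (3 ^ m) := C.range_le ⟨-1, rfl⟩
  have huni : ∀ u ∈ chevG2.posUnipotent K ⊓ twistedG2 K (3 ^ m), a * u = u * a →
      ∃ t, u = φ (upM t) := by
    intro u hu h
    obtain ⟨t, w, v, rfl⟩ := C.mem_posU_iff.1 hu
    obtain ⟨rfl, rfl⟩ := C.neg_one_fix h
    exact ⟨w, (hup w).symm⟩
  have htor : ∀ (x : SL(2, K)) h, h ∈ chevG2.diagonalSubgroup K ⊓ twistedG2 K (3 ^ m) →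
      ∃ s, φ x * h = φ s ∨ φ x * h = a * φ s := by
    intro x h hh
    obtain ⟨b, rfl⟩ := C.mem_par_iff.1 hh
    obtain ⟨w, hw⟩ := C.mem_phi_range b
    let D : SL(2, K) := ⟨!![(w : K), 0; 0, (w : K)⁻¹], by simp [Matrix.det_fin_two]⟩
    refine ⟨x * D, ?_⟩
    rw [map_mul, hdiag D w rfl]
    rcases hw with rfl | rfl
    · exact Or.inl rfl
    · refine Or.inr ?_
      rw [map_mul, ← mul_assoc, (C.pair_comm hup hnw hdiag x).symm.eq, mul_assoc]
  have hta : ∀ h ∈ chevG2.diagonalSubgroup K ⊓ twistedG2 K (3 ^ m), a * h = h * a := by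
    intro h hh
    obtain ⟨b, rfl⟩ := C.mem_par_iff.1 hh
    rw [ha, ← map_mul, ← map_mul, mul_comm]
  rcases C.bruhat_two hg with hB | ⟨u, hu, b, hb, rfl⟩
  · obtain ⟨u, hu, h, hh, rfl⟩ := C.borel_decomp ⟨hB, hg⟩
    have : a * u = u * a := by
      rw [← mul_assoc, mul_assoc u h a, ← hta h hh, ← mul_assoc] at hc
      exact mul_right_cancel hc
    obtain ⟨t, rfl⟩ := huni u hu this
    exact htor _ _ hh
  · -- replace the Weyl representative by the one in the image
    have hd : C.nw⁻¹ * C.wel ∈ chevG2.diagonalSubgroup K ⊓ twistedG2 K (3 ^ m) := by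
      obtain ⟨ψ, -, hker⟩ := C.weyl
      have hmem : ∀ n : ↥(chevG2.monomialSubgroup K ⊓ twistedG2 K (3 ^ m)),
          (n : GL chevG2.Idx K) ∈ chevG2.borelSubgroup K ∨ ψ n = Multiplicative.ofAdd 1 := by
        intro n
        rcases (show ∀ k : Multiplicative (ZMod 2), k = 1 ∨ k = Multiplicative.ofAdd 1 by decide)
          (ψ n) with h | h
        · left
          rw [← MonoidHom.mem_ker, hker, Subgroup.mem_subgroupOf] at h
          exact hF.diagonal_le_borel h.1
        · exact Or.inr h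
      have h1 := (hmem ⟨C.nw, C.nw_mem.2, C.nw_mem.1⟩).resolve_left C.nw_not_borel
      have h2 := (hmem ⟨C.wel, C.wel_monomial, C.wel_mem⟩).resolve_left fun h => by
        have hu1 := C.mem_posU_iff.2 ⟨0, 1, 0, rfl⟩
        have := C.borel_inf_conj hu1.1 (Subgroup.mul_mem _ (Subgroup.mul_mem _
          (Subgroup.inv_mem _ h) (hF.pos_le_borel (hF.posUnipotent_eq (F := K) ▸ hu1.1))) h)
        rw [← C.cl_zero] at this
        exact one_ne_zero (C.cl_inj this).2.1
      have h3 : (⟨C.nw, C.nw_mem.2, C.nw_mem.1⟩ :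
          ↥(chevG2.monomialSubgroup K ⊓ twistedG2 K (3 ^ m)))⁻¹ *
            ⟨C.wel, C.wel_monomial, C.wel_mem⟩ ∈ ψ.ker := by
        rw [MonoidHom.mem_ker, map_mul, map_inv, h1, h2, inv_mul_cancel]
      rw [hker, Subgroup.mem_subgroupOf] at h3
      exact h3
    obtain ⟨u', hu', h, hh, hb'⟩ := C.borel_decomp
      (Subgroup.mul_mem _ ⟨hF.diagonal_le_borel hd.1, hd.2⟩ hb)
    have e : u * C.wel * b = u * C.nw * u' * h := by
      rw [mul_assoc (u * C.nw) u' h, ← hb']; group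
    rw [e] at hc ⊢
    have hc' : (a * u * a⁻¹) * C.nw * (a * u' * a⁻¹) = u * C.nw * u' := by
      have h1 : a * (u * C.nw * u') = u * C.nw * u' * a := by
        refine mul_right_cancel (b := h) ?_
        rw [mul_assoc, hc, mul_assoc _ h a, ← hta h hh, ← mul_assoc]
      have h2 : C.nw = a * C.nw * a⁻¹ :=
        eq_mul_inv_of_mul_eq C.nw_neg_one
      calc (a * u * a⁻¹) * C.nw * (a * u' * a⁻¹)
          = (a * u * a⁻¹) * (a * C.nw * a⁻¹) * (a * u' * a⁻¹) := by rw [← h2]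
        _ = a * (u * C.nw * u') * a⁻¹ := by group
        _ = _ := by rw [h1, mul_inv_cancel_right]
    set u₀ := u⁻¹ * (a * u * a⁻¹) with hu₀
    have hu₀' : u₀ ∈ chevG2.posUnipotent K ⊓ twistedG2 K (3 ^ m) :=
      Subgroup.mul_mem _ (Subgroup.inv_mem _ hu) (C.diag_conj_posU haG hu)
    have hkey : C.nw⁻¹ * u₀ * C.nw = u' * (a * u' * a⁻¹)⁻¹ := by
      rw [hu₀, eq_mul_inv_iff_mul_eq,
        show C.nw⁻¹ * (u⁻¹ * (a * u * a⁻¹)) * C.nw * (a * u' * a⁻¹) =
          C.nw⁻¹ * u⁻¹ * ((a * u * a⁻¹) * C.nw * (a * u' * a⁻¹)) by group, hc']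
      group
    have hwn : C.wel⁻¹ * u₀ * C.wel = (C.nw⁻¹ * C.wel)⁻¹ * (C.nw⁻¹ * u₀ * C.nw) *
        (C.nw⁻¹ * C.wel) := by group
    have h0 : u₀ = 1 := C.borel_inf_conj hu₀'.1 (by
      rw [hwn, hkey]
      exact Subgroup.mul_mem _ (Subgroup.mul_mem _ (Subgroup.inv_mem _ (hF.diagonal_le_borel hd.1))
        (hF.pos_le_borel (hF.posUnipotent_eq (F := K) ▸ (Subgroup.mul_mem _ hu'
          (Subgroup.inv_mem _ (C.diag_conj_posU haG hu'))).1))) (hF.diagonal_le_borel hd.1))
    have hau : a * u = u * a := mul_inv_eq_iff_eq_mul.1 (inv_mul_eq_one.1 h0).symm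
    obtain ⟨t, rfl⟩ := huni u hu hau
    have hau' : a * u' = u' * a := by
      rw [h0, mul_one, inv_mul_cancel, eq_comm, mul_inv_eq_one] at hkey
      exact mul_inv_eq_iff_eq_mul.1 hkey.symm
    obtain ⟨t', rfl⟩ := huni u' hu' hau'
    rw [← hnw, ← map_mul, ← map_mul]
    exact htor _ _ hh

theorem Ctx.centralizer_equiv :
    (∀ g, φ g ∈ twistedG2 K (3 ^ m)) →
    Nonempty (↥(Subgroup.centralizer
        {(⟨C.par (-1), (C.range_le ⟨-1, rfl⟩).2⟩ : ↥(twistedG2 K (3 ^ m)))}) ≃*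
      Multiplicative (ZMod 2) × Matrix.ProjectiveSpecialLinearGroup (Fin 2) K) := by
  intro hmem
  obtain ⟨hker, hna⟩ := C.ker_pairHom hup hnw hdiag
  set A : ↥(twistedG2 K (3 ^ m)) := ⟨C.par (-1), (C.range_le ⟨-1, rfl⟩).2⟩ with hA
  have hcent : ∀ g, (φ.codRestrict _ hmem g) ∈ Subgroup.centralizer {A} := fun g => by
    rw [Subgroup.mem_centralizer_iff]
    rintro _ rfl
    exact Subtype.ext (C.pair_comm hup hnw hdiag g).eq
  let ψ₀ : SL(2, K) →* ↥(Subgroup.centralizer {A}) :=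
    (φ.codRestrict _ hmem).codRestrict _ hcent
  have hk0 : ψ₀.ker = Subgroup.center SL(2, K) := by
    rw [← hker]
    ext g
    simp only [MonoidHom.mem_ker, Subtype.ext_iff]
    rfl
  let ψ : Matrix.ProjectiveSpecialLinearGroup (Fin 2) K →* ↥(Subgroup.centralizer {A}) :=
    QuotientGroup.lift _ ψ₀ hk0.ge
  have hAc : A ∈ Subgroup.centralizer {A} := Subgroup.mem_centralizer_iff.2 (by rintro _ rfl; rfl)
  refine exists_equiv_prod (a := (⟨A, hAc⟩ : ↥(Subgroup.centralizer {A}))) ?_ ψ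
    (by rw [← MonoidHom.ker_eq_bot_iff, eq_bot_iff]
        intro x hx
        obtain ⟨g, rfl⟩ := QuotientGroup.mk_surjective x
        rw [MonoidHom.mem_ker] at hx
        change ψ₀ g = 1 at hx
        rw [Subgroup.mem_bot, QuotientGroup.eq_one_iff, ← hk0, MonoidHom.mem_ker]
        exact hx) ?_ ?_ ?_
  · rw [← Subgroup.orderOf_coe, ← Subgroup.orderOf_coe]
    refine orderOf_eq_prime ?_ ?_
    · show C.par (-1) ^ 2 = 1
      rw [pow_two, ← map_mul, neg_mul_neg, one_mul, map_one]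
    · show C.par (-1) ≠ 1
      rw [← map_one C.par]
      exact fun h => C.neg_one_ne (C.par_injective h)
  · intro x
    obtain ⟨g, rfl⟩ := QuotientGroup.mk_surjective x
    exact Subtype.ext (Subtype.ext (C.pair_comm hup hnw hdiag g).eq)
  · intro x
    obtain ⟨g, rfl⟩ := QuotientGroup.mk_surjective x
    exact fun h => hna g (congrArg (fun z : ↥(Subgroup.centralizer {A}) => z.1.1) h)
  · rintro ⟨⟨g, hg⟩, hgc⟩
    have := congrArg Subtype.val (Subgroup.mem_centralizer_iff.1 hgc A rfl)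
    obtain ⟨s, rfl | rfl⟩ := C.centralizer_decomp hup hnw hdiag hg this
    · exact ⟨QuotientGroup.mk s, Or.inl rfl⟩
    · exact ⟨QuotientGroup.mk s, Or.inr rfl⟩

omit hup hnw hdiag in
theorem Ctx.sylow_two (S : Sylow 2 ↥(twistedG2 K (3 ^ m))) :
    Nat.card S = 8 ∧ ∀ x ∈ S, x * x = 1 := by
  obtain ⟨φ, hmem, hup, hnw, -, hdiag⟩ := C.exists_pairHom
  obtain ⟨hker, hna⟩ := C.ker_pairHom hup hnw hdiag
  have : Fact (Nat.Prime 2) := ⟨Nat.prime_two⟩
  have h3 := C.three_eq_zero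
  let M : SL(2, K) := ⟨!![1, 1; 1, -1], by
    rw [Matrix.det_fin_two_of]; linear_combination -h3⟩
  let N : SL(2, K) := -1
  let Φ : SL(2, K) →* ↥(twistedG2 K (3 ^ m)) := φ.codRestrict _ hmem
  set A : ↥(twistedG2 K (3 ^ m)) := ⟨C.par (-1), (C.range_le ⟨-1, rfl⟩).2⟩ with hA
  have hN : Φ N = 1 := Subtype.ext (by
    show φ (-1) = 1
    rw [← MonoidHom.mem_ker, hker, Matrix.SpecialLinearGroup.mem_center_iff]
    exact ⟨-1, by simp, by rw [scalar_two]; simp [Matrix.one_fin_two]⟩)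
  have w2 : (wM : SL(2, K)) * wM = N := by
    apply Subtype.ext
    simp only [Matrix.SpecialLinearGroup.coe_mul]
    ext i j
    fin_cases i <;> fin_cases j <;> simp [N, wM, Matrix.mul_apply, Fin.sum_univ_two]
  have M2 : M * M = N := by
    apply Subtype.ext
    simp only [Matrix.SpecialLinearGroup.coe_mul]
    ext i j
    fin_cases i <;> fin_cases j <;> simp [N, M, Matrix.mul_apply, Fin.sum_univ_two] <;>
      linear_combination h3
  have wM' : (wM : SL(2, K)) * M = N * (M * wM) := by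
    apply Subtype.ext
    simp only [Matrix.SpecialLinearGroup.coe_mul]
    ext i j
    fin_cases i <;> fin_cases j <;> simp [N, M, wM, Matrix.mul_apply, Fin.sum_univ_two]
  have hne : ∀ g : SL(2, K), (g : Matrix (Fin 2) (Fin 2) K) 0 1 ≠ 0 → Φ g ≠ 1 := fun g hg h => by
    have hgk : g ∈ φ.ker := congrArg Subtype.val h
    rw [hker] at hgk
    obtain ⟨r, -, hr⟩ := Matrix.SpecialLinearGroup.mem_center_iff.1 hgk
    exact hg (by rw [← hr]; simp)
  have hcomm : ∀ g, Commute A (Φ g) := fun g => Subtype.ext (C.pair_comm hup hnw hdiag g).eq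
  have hA1 : A ≠ 1 := fun h => C.neg_one_ne (C.par_injective
    ((congrArg Subtype.val h).trans (map_one C.par).symm))
  have hAn : ∀ g, A ≠ Φ g := fun g h => hna g (congrArg Subtype.val h).symm
  obtain ⟨E, hE, hE2, -, -, -⟩ := exists_elementary_eight (a := A) (b := Φ wM) (c := Φ M)
    (Subtype.ext (by
      show C.par (-1) * C.par (-1) = 1
      rw [← map_mul, neg_mul_neg, one_mul, map_one]))
    (by rw [← map_mul, w2, hN]) (by rw [← map_mul, M2, hN]) (hcomm _) (hcomm _)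
    (by rw [commute_iff_eq, ← map_mul, ← map_mul, wM', map_mul Φ N, hN, one_mul])
    (hne _ (by simp [wM])) (hne _ (by simp [M]))
    (by rw [← map_mul]; exact hne _ (by
      rw [Matrix.SpecialLinearGroup.coe_mul]
      simp [M, wM, Matrix.mul_apply, Fin.sum_univ_two]))
    hA1 (hAn _) (hAn _)
    (fun h => hAn ((wM * M)⁻¹) (by
      rw [map_inv, map_mul]; exact eq_inv_of_mul_eq_one_left h))
  set q := 3 ^ (2 * m + 1) with hq
  have hf : (Nat.card ↥(twistedG2 K (3 ^ m))).factorization 2 = 3 := by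
    have h4 : q % 8 = 3 := by
      rw [hq, pow_succ, pow_mul, Nat.mul_mod, Nat.pow_mod]; norm_num
    clear_value q
    have h5 : (q ^ 3 + 1) % 8 = 4 := by rw [Nat.add_mod, Nat.pow_mod, h4]
    obtain ⟨x, hx⟩ : ∃ x, q - 1 = 2 * x ∧ ¬ 2 ∣ x := ⟨(q - 1) / 2, by omega⟩
    obtain ⟨y, hy⟩ : ∃ y, q ^ 3 + 1 = 2 ^ 2 * y ∧ ¬ 2 ∣ y := ⟨(q ^ 3 + 1) / 4, by omega⟩
    have hodd : ¬ 2 ∣ q ^ 3 := by
      have : (q ^ 3) % 2 = 1 := by rw [Nat.pow_mod, show q % 2 = 1 by omega]
      omega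
    rw [C.card_twisted, ← hq, hx.1, hy.1,
      Nat.factorization_mul (mul_ne_zero (pow_ne_zero _ (by omega)) (by omega)) (by omega),
      Nat.factorization_mul (pow_ne_zero _ (by omega)) (by omega),
      Nat.factorization_mul (by norm_num) (by omega),
      Nat.factorization_mul (by norm_num) (by omega)]
    simp only [Finsupp.add_apply, Nat.factorization_eq_zero_of_not_dvd hodd,
      Nat.factorization_eq_zero_of_not_dvd hx.2, Nat.factorization_eq_zero_of_not_dvd hy.2,
      Nat.prime_two.factorization_self, Nat.prime_two.factorization_pow, Finsupp.single_eq_same,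
      zero_add, add_zero]
  let S₀ : Sylow 2 ↥(twistedG2 K (3 ^ m)) := Sylow.ofCard E (by rw [hE, hf]; rfl)
  have hcard : Nat.card ↥(S₀ : Subgroup ↥(twistedG2 K (3 ^ m))) = 8 := hE
  refine ⟨(Nat.card_congr (Sylow.equiv S S₀).toEquiv).trans hcard, fun x hx => ?_⟩
  have h := hE2 _ ((Sylow.equiv S S₀) ⟨x, hx⟩).2
  exact congrArg Subtype.val ((Sylow.equiv S S₀).injective
    (a₁ := ⟨x, hx⟩ * ⟨x, hx⟩) (a₂ := 1) (by
      rw [map_mul, map_one]; exact Subtype.ext h))

end TwG2

end CfsgLib.Chev
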