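/-
The frame of a Sylow 2-subgroup of a group of type ²G₂.
-/
import Mathlib
import Cfsg.Agent.Lib.Chev.Twist.G2Cent
import Cfsg.Agent.Lib.Chev.Twist.FourFrame

set_option autoImplicit false
set_option maxRecDepth 20000

namespace CfsgLib.Chev

open Cfsg.Lie
open scoped MatrixGroups

universe v

namespace TwG2

variable {K : Type v} [Field K] [Fintype K] {m : ℕ} (C : Ctx K m)
include C

/-- The second generator of the quaternion group in `SL₂(K)`. -/
def Ctx.quat (C : Ctx K m) : SL(2, K) := ⟨!![1, 1; 1, -1], by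
  rw [Matrix.det_fin_two_of]; linear_combination -C.three_eq_zero⟩

theorem Ctx.quat_rel : (wM : SL(2, K)) * wM = -1 ∧ C.quat * C.quat = -1 ∧
    wM * C.quat = -(C.quat * wM) ∧ upM 1 * wM * upM (-1) = -C.quat ∧
    upM 1 * C.quat * upM (-1) = -(wM * C.quat) := by
  have h3 := C.three_eq_zero
  refine ⟨?_, ?_, ?_, ?_, ?_⟩ <;> apply Subtype.ext <;>
    simp only [Matrix.SpecialLinearGroup.coe_mul, Matrix.SpecialLinearGroup.coe_neg,
      Matrix.SpecialLinearGroup.coe_one] <;>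
    ext i j <;> fin_cases i <;> fin_cases j <;>
    simp [Ctx.quat, upM, wM, Matrix.mul_apply, Fin.sum_univ_two] <;>
    first | linear_combination h3 | linear_combination -h3

omit [Fintype K] C in
theorem commute_wM {s : SL(2, K)} (h : s * wM = wM * s) :
    s 1 0 = -(s 0 1) ∧ s 1 1 = s 0 0 := by
  have e := congrArg (fun x : SL(2, K) => (x : Matrix (Fin 2) (Fin 2) K)) h
  simp only [Matrix.SpecialLinearGroup.coe_mul] at e
  have e00 := congrFun (congrFun e 0) 0
  have e01 := congrFun (congrFun e 0) 1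
  simp [wM, Matrix.mul_apply, Fin.sum_univ_two] at e00 e01
  exact ⟨e00.symm, e01.symm⟩

/-- An element commuting with both generators of the quaternion group is central. -/
theorem Ctx.scalar_of_commute {s : SL(2, K)} (h1 : s * wM = wM * s)
    (h2 : s * C.quat = C.quat * s) : s = 1 ∨ s = -1 := by
  have h3 := C.three_eq_zero
  obtain ⟨e1, e2⟩ := commute_wM h1
  have e := congrArg (fun x : SL(2, K) => (x : Matrix (Fin 2) (Fin 2) K)) h2
  simp only [Matrix.SpecialLinearGroup.coe_mul] at e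
  have e00 := congrFun (congrFun e 0) 0
  simp [Ctx.quat, Matrix.mul_apply, Fin.sum_univ_two] at e00
  rw [e1] at e00
  have hy : s 0 1 = 0 := by linear_combination (s 0 1) * h3 - e00
  have hd := sl2_det s
  rw [e1, e2, hy] at hd
  have hx : s 0 0 = 1 ∨ s 0 0 = -1 := mul_self_eq_one_iff.1 (by linear_combination hd)
  rcases hx with hx | hx
  · left
    apply Subtype.ext
    ext i j
    fin_cases i <;> fin_cases j <;> simp [e1, e2, hy, hx]
  · right
    apply Subtype.ext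
    rw [Matrix.SpecialLinearGroup.coe_neg]
    ext i j
    fin_cases i <;> fin_cases j <;> simp [e1, e2, hy, hx]

variable {φ : SL(2, K) →* GL chevG2.Idx K} (hup : ∀ t, φ (upM t) = C.cl 0 t 0)
  (hnw : φ wM = C.nw)
  (hdiag : ∀ (g : SL(2, K)) (a : Kˣ),
    (g : Matrix (Fin 2) (Fin 2) K) = !![(a : K), 0; 0, (a : K)⁻¹] → φ g = C.par (C.phi a))
include hup hnw hdiag

theorem Ctx.phi_neg_one : φ (-1) = 1 := by
  rw [← MonoidHom.mem_ker, (C.ker_pairHom hup hnw hdiag).1,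
    Matrix.SpecialLinearGroup.mem_center_iff]
  exact ⟨-1, by simp, by rw [scalar_two]; simp [Matrix.one_fin_two]⟩

theorem Ctx.phi_neg (g : SL(2, K)) : φ (-g) = φ g := by
  rw [← neg_one_mul g, map_mul, C.phi_neg_one hup hnw hdiag, one_mul]

theorem Ctx.phi_eq_iff {x y : SL(2, K)} (h : φ x = φ y) : x = y ∨ x = -y := by
  have hk : x * y⁻¹ ∈ φ.ker := by rw [MonoidHom.mem_ker, map_mul, map_inv, h, mul_inv_cancel]
  rw [(C.ker_pairHom hup hnw hdiag).1] at hk
  obtain ⟨r, hr, hr'⟩ := Matrix.SpecialLinearGroup.mem_center_iff.1 hk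
  rw [Fintype.card_fin, pow_two, mul_self_eq_one_iff] at hr
  rcases hr with rfl | rfl
  · left
    refine mul_inv_eq_one.1 (Subtype.ext ?_)
    rw [← hr', map_one]; rfl
  · right
    have : x * y⁻¹ = -1 := by
      apply Subtype.ext
      rw [← hr', map_neg, map_one]; rfl
    rw [mul_inv_eq_iff_eq_mul] at this
    rw [this, neg_one_mul]

omit hup hnw hdiag in
/-- The frame. -/
theorem Ctx.exists_frame (hm : 1 ≤ m) :
    ∃ (φ : SL(2, K) →* GL chevG2.Idx K) (hmem : ∀ g, φ g ∈ twistedG2 K (3 ^ m))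
      (E : Sylow 2 ↥(twistedG2 K (3 ^ m))) (F : FourFrame E),
      (∀ t, φ (upM t) = C.cl 0 t 0) ∧ φ wM = C.nw ∧
      (∀ (g : SL(2, K)) (a : Kˣ),
        (g : Matrix (Fin 2) (Fin 2) K) = !![(a : K), 0; 0, (a : K)⁻¹] → φ g = C.par (C.phi a)) ∧
      (F.a : GL chevG2.Idx K) = C.par (-1) ∧ F.z = ⟨φ wM, hmem _⟩ ∧ F.w = ⟨φ C.quat, hmem _⟩ ∧
      F.u = ⟨φ (upM 1), hmem _⟩ := by
  obtain ⟨φ, hmem, hup, hnw, -, hdiag⟩ := C.exists_pairHom
  obtain ⟨hker, hna⟩ := C.ker_pairHom hup hnw hdiag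
  obtain ⟨w2, M2, wM', hu1, hu2⟩ := C.quat_rel
  let Φ : SL(2, K) →* ↥(twistedG2 K (3 ^ m)) := φ.codRestrict _ hmem
  set A : ↥(twistedG2 K (3 ^ m)) := ⟨C.par (-1), (C.range_le ⟨-1, rfl⟩).2⟩ with hA
  have hneg : ∀ g, Φ (-g) = Φ g := fun g => Subtype.ext (C.phi_neg hup hnw hdiag g)
  have hne : ∀ g : SL(2, K), (g : Matrix (Fin 2) (Fin 2) K) 0 1 ≠ 0 → Φ g ≠ 1 := fun g hg h => by
    have hgk : g ∈ φ.ker := congrArg Subtype.val h
    rw [hker] at hgk
    obtain ⟨r, -, hr⟩ := Matrix.SpecialLinearGroup.mem_center_iff.1 hgk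
    exact hg (by rw [← hr]; simp)
  have hcomm : ∀ g, Commute A (Φ g) := fun g => Subtype.ext (C.pair_comm hup hnw hdiag g).eq
  have hA1 : A ≠ 1 := fun h => C.neg_one_ne (C.par_injective
    ((congrArg Subtype.val h).trans (map_one C.par).symm))
  have hAn : ∀ g, A ≠ Φ g := fun g h => hna g (congrArg Subtype.val h).symm
  set Z := Φ wM with hZ
  set W := Φ C.quat with hW
  have hA2 : A * A = 1 := Subtype.ext (by
    show C.par (-1) * C.par (-1) = 1
    rw [← map_mul, neg_mul_neg, one_mul, map_one])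
  have hZ2 : Z * Z = 1 := by rw [hZ, ← map_mul, w2, hneg, map_one]
  have hW2 : W * W = 1 := by rw [hW, ← map_mul, M2, hneg, map_one]
  have hZW : Commute Z W := by rw [commute_iff_eq, hZ, hW, ← map_mul, ← map_mul, wM', hneg]
  have n1 : Z ≠ 1 := hne _ (by simp [wM])
  have n2 : W ≠ 1 := hne _ (by simp [Ctx.quat])
  have n3 : Z * W ≠ 1 := by
    rw [hZ, hW, ← map_mul]
    refine hne _ ?_
    rw [Matrix.SpecialLinearGroup.coe_mul]
    simp [Ctx.quat, wM, Matrix.mul_apply, Fin.sum_univ_two]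
  have n7 : A * (Z * W) ≠ 1 := fun h => hAn ((wM * C.quat)⁻¹) (by
    rw [map_inv, map_mul]; exact eq_inv_of_mul_eq_one_left h)
  obtain ⟨E₀, hE, hE2, haE, hzE, hwE⟩ := exists_elementary_eight hA2 hZ2 hW2 (hcomm _) (hcomm _)
    hZW n1 n2 n3 hA1 (hAn _) (hAn _) n7
  have : Fact (Nat.Prime 2) := ⟨Nat.prime_two⟩
  have hcard : Nat.card E₀ = 2 ^ (Nat.card ↥(twistedG2 K (3 ^ m))).factorization 2 := by
    have S : Sylow 2 ↥(twistedG2 K (3 ^ m)) := default
    rw [← S.card_eq_multiplicity, (C.sylow_two S).1, hE]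
  let E : Sylow 2 ↥(twistedG2 K (3 ^ m)) := Sylow.ofCard E₀ hcard
  have key : ∀ s : SL(2, K), Φ s * Z = Z * Φ s → Φ s * W = W * Φ s →
      Φ s = 1 ∨ Φ s = Z ∨ Φ s = W ∨ Φ s = Z * W := by
    intro s h1 h2
    have sign : ∀ x y : SL(2, K), Φ x * Φ y = Φ y * Φ x → x * y = y * x ∨ x * y = -(y * x) :=
      fun x y h => C.phi_eq_iff hup hnw hdiag (by
        rw [map_mul, map_mul]; exact congrArg Subtype.val h)
    obtain ⟨s₁, hs₁, hs₁'⟩ : ∃ s₁, s₁ * wM = wM * s₁ ∧ (Φ s = Φ s₁ ∨ Φ s = Φ s₁ * W) := by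
      rcases sign s wM h1 with h | h
      · exact ⟨s, h, Or.inl rfl⟩
      · refine ⟨s * C.quat, ?_, Or.inr ?_⟩
        · rw [mul_assoc, ← neg_eq_iff_eq_neg.2 wM', mul_neg, ← mul_assoc, h, neg_mul, neg_neg,
            mul_assoc]
        · rw [map_mul, mul_assoc, hW2, mul_one]
    have h2' : Φ s₁ * W = W * Φ s₁ := by
      rcases hs₁' with e | e <;> rw [e] at h2
      · exact h2
      · refine mul_right_cancel (b := W) ?_
        rw [h2, ← mul_assoc]
    obtain ⟨s₂, hs₂, hs₂w, hs₂'⟩ : ∃ s₂, s₂ * C.quat = C.quat * s₂ ∧ s₂ * wM = wM * s₂ ∧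
        (Φ s₁ = Φ s₂ ∨ Φ s₁ = Φ s₂ * Z) := by
      rcases sign s₁ C.quat h2' with h | h
      · exact ⟨s₁, h, hs₁, Or.inl rfl⟩
      · refine ⟨s₁ * wM, ?_, ?_, Or.inr ?_⟩
        · rw [mul_assoc, wM', mul_neg, ← mul_assoc, h, neg_mul, neg_neg, mul_assoc]
        · rw [mul_assoc, ← mul_assoc wM s₁, ← hs₁, mul_assoc]
        · rw [map_mul, mul_assoc, hZ2, mul_one]
    have h0 : Φ s₂ = 1 := by
      rcases C.scalar_of_commute hs₂w hs₂ with rfl | rfl
      · exact map_one _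
      · rw [hneg, map_one]
    rw [h0, one_mul] at hs₂'
    rcases hs₁' with e | e <;> rcases hs₂' with e' | e' <;> rw [e, e']
    · exact Or.inl rfl
    · exact Or.inr (Or.inl rfl)
    · exact Or.inr (Or.inr (Or.inl (one_mul _)))
    · exact Or.inr (Or.inr (Or.inr rfl))
  have conj : ∀ s r : SL(2, K), upM 1 * s * upM (-1) = -r →
      Φ (upM 1) * Φ s * (Φ (upM 1))⁻¹ = Φ r := by
    intro s r h
    have : (upM (-1) : SL(2, K)) = (upM 1)⁻¹ := by
      refine eq_inv_of_mul_eq_one_right (Subtype.ext ?_)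
      rw [Matrix.SpecialLinearGroup.coe_mul]
      simp [upM, Matrix.one_fin_two]
    rw [this] at h
    rw [← map_inv, ← map_mul, ← map_mul, h, hneg]
  refine ⟨φ, hmem, E,
    { a := A, z := Z, w := W, u := Φ (upM 1)
      card8 := hE
      sq := hE2
      ha := haE
      hz := hzE
      hw := hwE
      nodup := ?_
      cent := ?_
      hua := ?_
      huz := conj _ _ hu1
      huw := ?_
      perfect := C.perfect_twisted hm }, hup, hnw, hdiag, rfl, rfl, rfl, rfl⟩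
  · have e1 : ∀ g, A * Φ g ≠ 1 := fun g h => hAn g⁻¹ (by
      rw [map_inv]; exact eq_inv_of_mul_eq_one_left h)
    have e2 : ∀ g, A * Φ g ≠ A ↔ Φ g ≠ 1 := fun g => by simp
    have hA' : ∀ g g' : SL(2, K), Φ g ≠ A * Φ g' := fun g g' h => hAn (g * g'⁻¹) (by
      rw [map_mul, map_inv, h, mul_inv_cancel_right])
    simp only [List.nodup_cons, List.mem_cons, List.not_mem_nil, or_false, not_or,
      List.nodup_nil, and_true, not_false_eq_true, ← map_mul, hZ, hW]
    have z' : Φ wM ≠ Φ C.quat := fun h => n3 (by rw [hZ, hW, h]; exact hW2)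
    have zz : Φ wM ≠ Φ (wM * C.quat) := fun h => n2 (by
      rw [map_mul] at h; exact left_eq_mul.1 h)
    have ww : Φ C.quat ≠ Φ (wM * C.quat) := fun h => n1 (by
      rw [map_mul] at h; exact right_eq_mul.1 h)
    refine ⟨⟨hA1.symm, n1.symm, n2.symm, ?_, (e1 _).symm, (e1 _).symm, (e1 _).symm⟩,
      ⟨hAn _, hAn _, hAn _, ((e2 _).2 n1).symm, ((e2 _).2 n2).symm, ((e2 _).2 ?_).symm⟩,
      ⟨z', zz, hA' _ _, hA' _ _, hA' _ _⟩, ⟨ww, hA' _ _, hA' _ _, hA' _ _⟩,
      ⟨hA' _ _, hA' _ _, hA' _ _⟩, ⟨fun h => z' (mul_left_cancel h),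
        fun h => zz (mul_left_cancel h)⟩, fun h => ww (mul_left_cancel h)⟩
    · rw [map_mul]; exact n3.symm
    · rw [map_mul]; exact n3
  · intro x hx
    have h0 : C.par (-1) * (x : GL chevG2.Idx K) = (x : GL chevG2.Idx K) * C.par (-1) :=
      congrArg Subtype.val (hx A haE).symm
    obtain ⟨s, hs⟩ := C.centralizer_decomp hup hnw hdiag x.2 h0
    have hx' : x = Φ s ∨ x = A * Φ s := hs.imp (fun e => Subtype.ext e) (fun e => Subtype.ext e)
    have hAs : ∀ Y : ↥(twistedG2 K (3 ^ m)), Commute A Y → (x * Y = Y * x) →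
        Φ s * Y = Y * Φ s := by
      intro Y hY h
      rcases hx' with e | e <;> rw [e] at h
      · exact h
      · rw [mul_assoc, ← mul_assoc Y A, ← hY.eq, mul_assoc A Y] at h
        exact mul_left_cancel h
    have h4 := key s (hAs Z (hcomm _) (hx Z hzE)) (hAs W (hcomm _) (hx W hwE))
    have hs4 : Φ s ∈ E := by
      rcases h4 with h | h | h | h <;> rw [h]
      exacts [one_mem _, hzE, hwE, mul_mem hzE hwE]
    rcases hx' with e | e <;> rw [e]
    exacts [hs4, mul_mem haE hs4]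
  · rw [(hcomm _).symm.eq, mul_inv_cancel_right]
  · rw [hZ, hW, ← map_mul Φ wM]
    exact conj _ _ hu2

end TwG2

end CfsgLib.Chev
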