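/-
The seven-dimensional constituent of the adjoint module of G₂ in characteristic three.
-/
import Mathlib
import Cfsg.Agent.Lib.Chev.Twist.G2Local

set_option autoImplicit false
set_option maxRecDepth 20000
set_option Elab.async false

namespace CfsgLib.Chev

open Cfsg.Lie

universe v

namespace TwG2

/-- The short roots and the coroot of the short simple root. -/
def shortIdx : chevG2.Idx → Bool
  | Sum.inl j => j.val == 0
  | Sum.inr r => parG2.lam r.val == 3

/-- The index set of the constituent. -/
abbrev Sh : Type := {a : chevG2.Idx // shortIdx a = true}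

theorem short_invariant : ∀ r < chevG2.nroots, ∀ k < 4, ∀ a b : chevG2.Idx,
    shortIdx a = false → shortIdx b = true → divPow chevG2 r k a b % 3 = 0 := by
  decide +kernel

theorem card_short : Fintype.card Sh = 7 := by decide +kernel

theorem g2a_short : parG2.lam g2a = 3 := by decide +kernel

section Restrict

variable {R : Type*} [CommRing R] {n : Type*} [Fintype n] [DecidableEq n] (s : n → Bool)

/-- The invertible matrices preserving the span of a set of coordinates. -/
def coordStab : Submonoid (Matrix n n R) where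
  carrier := {M | ∀ a b, s a = false → s b = true → M a b = 0}
  one_mem' := fun a b ha hb => Matrix.one_apply_ne fun e => by simp [e, hb] at ha
  mul_mem' := fun {M N} hM hN a b ha hb => by
    rw [Matrix.mul_apply]
    refine Finset.sum_eq_zero fun c _ => ?_
    cases hc : s c with
    | true => rw [hM a c ha hc, zero_mul]
    | false => rw [hN c b hc hb, mul_zero]

/-- The restriction to the span of a set of coordinates. -/
def coordRestrict : coordStab (R := R) s →* Matrix {a // s a = true} {a // s a = true} R where
  toFun M := M.1.submatrix Subtype.val Subtype.val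
  map_one' := by
    show (1 : Matrix n n R).submatrix Subtype.val Subtype.val = 1
    exact Matrix.submatrix_one _ Subtype.val_injective
  map_mul' M N := by
    ext a b
    simp only [Submonoid.coe_mul, Matrix.submatrix_apply, Matrix.mul_apply]
    rw [← Finset.sum_filter_of_ne (p := fun c => s c = true) fun c _ hne => by
      cases hc : s c with
      | true => rfl
      | false => rw [N.2 c b hc b.2, mul_zero] at hne; exact absurd rfl hne]
    exact Finset.sum_subtype _ (fun c => by simp) fun c => M.1 a c * N.1 c b

/-- A subgroup preserving the span of a set of coordinates acts on it. -/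
def coordRep (H : Subgroup (GL n R))
    (h : ∀ g ∈ H, (g : Matrix n n R) ∈ coordStab s) : ↥H →* GL {a // s a = true} R :=
  ({ toFun := fun g : ↥H => coordRestrict s ⟨((g : GL n R) : Matrix n n R), h g g.2⟩
     map_one' := by
       rw [← map_one (coordRestrict (R := R) s)]
       rfl
     map_mul' := fun g g' => by
       rw [← map_mul]
       rfl } : ↥H →* Matrix {a // s a = true} {a // s a = true} R).toHomUnits

theorem coordRep_apply (H : Subgroup (GL n R))
    (h : ∀ g ∈ H, (g : Matrix n n R) ∈ coordStab s) (g : ↥H) (a b : {a // s a = true}) :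
    (coordRep s H h g : Matrix _ _ R) a b = ((g : GL n R) : Matrix n n R) a b := rfl

end Restrict

variable {K : Type v} [Field K] [Fintype K] {m : ℕ} (C : Ctx K m)
include C

theorem Ctx.xU_short {r : ℕ} (hr : r < chevG2.nroots) (t : K) :
    ((xU chevG2 r t : GL chevG2.Idx K) : Matrix chevG2.Idx chevG2.Idx K) ∈
      coordStab shortIdx := by
  intro a b ha hb
  rw [DataG2.facts.xU_val' hr, xR, Matrix.sum_apply]
  refine Finset.sum_eq_zero fun k hk => ?_
  rw [Matrix.smul_apply]
  have h3 := short_invariant r hr k (Finset.mem_range.1 hk) a b ha hb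
  obtain ⟨d, hd⟩ := Int.dvd_of_emod_eq_zero h3
  show t ^ k • ((divPow chevG2 r k a b : ℤ) : K) = 0
  rw [hd, Int.cast_mul, show ((3 : ℤ) : K) = 0 by exact_mod_cast C.three_eq_zero, zero_mul,
    smul_zero]

theorem Ctx.twisted_short : ∀ g ∈ twistedG2 K (3 ^ m),
    ((g : GL chevG2.Idx K) : Matrix chevG2.Idx chevG2.Idx K) ∈ coordStab shortIdx := by
  intro g hg
  rw [C.gen_eq] at hg
  refine Subgroup.closure_induction (p := fun g _ =>
    ((g : GL chevG2.Idx K) : Matrix chevG2.Idx chevG2.Idx K) ∈ coordStab shortIdx)
    ?_ (by rw [Units.val_one]; exact one_mem _)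
    (fun x y _ _ hx hy => by rw [Units.val_mul]; exact mul_mem hx hy) (fun x _ hx => ?_) hg
  · rintro _ ⟨w, hw, rfl⟩
    have hlt := (C.word_fixed hw).2
    clear hw hg
    induction w with
    | nil => show ((1 : GL chevG2.Idx K) : Matrix chevG2.Idx chevG2.Idx K) ∈ _; rw [Units.val_one]; exact one_mem _
    | cons p w ih =>
      rw [wU_cons, Units.val_mul]
      exact mul_mem (C.xU_short (hlt p (by simp)) p.2) (ih fun q hq => hlt q (by simp [hq]))
  · obtain ⟨k, hk⟩ := (isOfFinOrder_of_finite x).mem_powers_iff_mem_zpowers.2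
      (Subgroup.inv_mem _ (Subgroup.mem_zpowers x))
    change x ^ k = x⁻¹ at hk
    rw [← hk, Units.val_pow_eq_pow_val]
    exact pow_mem hx k

/-- The representation on the constituent. -/
noncomputable def Ctx.seven : ↥(twistedG2 K (3 ^ m)) →* GL Sh K :=
  coordRep shortIdx _ C.twisted_short

theorem Ctx.seven_injective (hm : 1 ≤ m) : Function.Injective C.seven := by
  have := (C.simple_twisted hm).1
  rw [← MonoidHom.ker_eq_bot_iff]
  refine (C.seven.normal_ker.eq_bot_or_eq_top).resolve_right fun h => ?_
  obtain ⟨b, hb⟩ := C.exists_pow_ten hm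
  have hmem : C.par b ∈ twistedG2 K (3 ^ m) := (C.range_le ⟨b, rfl⟩).2
  have h1 : C.seven ⟨C.par b, hmem⟩ = 1 := MonoidHom.mem_ker.1 (h ▸ Subgroup.mem_top _)
  have hi : shortIdx (Sum.inr ⟨g2a, by decide⟩) = true := by
    show (parG2.lam g2a == 3) = true
    rw [g2a_short]; rfl
  have h2 := congrArg (fun M : GL Sh K => (M : Matrix Sh Sh K) ⟨_, hi⟩ ⟨_, hi⟩) h1
  simp only [Units.val_one, Matrix.one_apply_eq] at h2
  change ((hT chevG2 (two (C.fu b) b) : GL chevG2.Idx K) : Matrix chevG2.Idx chevG2.Idx K)
    (Sum.inr ⟨g2a, by decide⟩) (Sum.inr ⟨g2a, by decide⟩) = 1 at h2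
  rw [hT, dU] at h2
  simp only [Units.val_mk, diagC, Matrix.diagonal_apply_eq, Sum.elim_inr] at h2
  rw [(char_two (C.fu b) b).1, ← C.fu_chi b] at h2
  have hX : C.chi b = 1 := Units.ext (C.f.injective (by rw [Units.val_one, map_one]; exact h2))
  exact hb (by rw [C.chi_eq_iff (Or.inl rfl) hX, one_pow])

end TwG2

end CfsgLib.Chev
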