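/-
Central extensions with kernel of order prime to the characteristic of a twisted group of rank two:
if the two rank one subgroups lift, the extension splits.
-/
import Mathlib
import Cfsg.Agent.Lib.Chev.Twist.BN
import Cfsg.Agent.Lib.Chev.Twist.Torus
import Cfsg.Agent.Lib.Schur.CoprimeLift

set_option autoImplicit false
set_option maxHeartbeats 1000000

namespace CfsgLib.Chev.TwSys

open Cfsg.Lie CfsgLib.Schur.CoprimeLift
open scoped commutatorElement

universe v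

variable {D : ChevalleyDatum} {co : ℕ → ℕ → ℤ} {K : Type v} [Field K] {P : TwPar}
  {f : K →+* K} {σ : ↥(D.group K) →* GL D.Idx K} {ι : Type} {O : ι → Orb D}
  {G : Subgroup (GL D.Idx K)} (T : TwSys D co P f σ O G)
include T

/-- The positive and negative parts of an orbit inside the group. -/
def orbSet (_T : TwSys D co P f σ O G) (o : ι) : Set ↥G :=
  {g | (g : GL D.Idx K) ∈ rootClosure D K ((O o).posO co) ∨
    (g : GL D.Idx K) ∈ rootClosure D K ((O o).negO co)}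

theorem pos_of_neg (o : ι) {n : GL D.Idx K} (hn : PermAct n (O o).wO) {v : GL D.Idx K}
    (hv : v ∈ rootClosure D K ((O o).negO co)) : n * v * n⁻¹ ∈ rootClosure D K ((O o).posO co) := by
  refine T.sig.hF.conj_rootClosure hn (P := (O o).negO co) (fun s hs => ?_) hv
  have hF := T.sig.hF
  obtain ⟨h1, h2⟩ := T.wO_inO o (r := hF.negFin s) ((hF.negFin_pos s).2 hs.1)
    (hF.inSub_neg s.isLt hs.2)
  have e : (O o).wO (hF.negFin s) = hF.negFin ((O o).wO s) := hF.sW_neg _ s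
  rw [e] at h1 h2
  refine ⟨not_lt.1 fun h => ?_, ?_⟩
  · exact absurd ((hF.negFin_pos _).2 h) (not_le.2 h1)
  · have h3 := hF.inSub_neg (hF.neg_lt ((O o).wO s).isLt) h2
    rwa [hF.neg_neg ((O o).wO s).isLt] at h3

/-- A perfect central extension of kernel prime to `p` of a rank two twisted group in which the rank
one subgroups lift is trivial. -/
theorem cover_trivial [Finite K] {Γ : Type*} [Group Γ] [Finite Γ] (π : Γ →* ↥G)
    (hsurj : Function.Surjective π) (hc : π.ker ≤ Subgroup.center Γ) (hperf : commutator Γ = ⊤)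
    {p : ℕ} [Fact p.Prime] (hcop : (Nat.card π.ker).Coprime p)
    (hU : IsPGroup p ((rootClosure D K (D.nroots / 2 ≤ ·)).subgroupOf G))
    (o₀ o₁ : ι) (hne : o₀ ≠ o₁) (hι : ∀ o, o = o₀ ∨ o = o₁)
    (hlift : ∀ o, ∀ y ∈ Subgroup.closure {y : Γ | IsPEl p y ∧ π y ∈ T.orbSet o}, π y = 1 → y = 1)
    (hind : ∀ g ∈ Subgroup.closure (T.orbSet o₀), g ∈ Subgroup.closure (T.orbSet o₁) →
      (g : GL D.Idx K) ∈ D.diagonalSubgroup K → g = 1)
    (hgen : Subgroup.closure (T.orbSet o₀ ∪ T.orbSet o₁) = ⊤)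
    (j : ℕ) (hord : orderOf ((O o₀).wO * (O o₁).wO) = 2 * (j + 1))
    (hnot : ∀ i : ℕ, ((O o₀).wO * (O o₁).wO) ^ i ≠ (O o₀).wO)
    (hpp : ∀ r : Fin D.nroots, (O o₁).posO co r →
      (O o₁).posO co ((((O o₀).wO * (O o₁).wO) ^ j * (O o₀).wO) r))
    (hnn : ∀ r : Fin D.nroots, (O o₁).negO co r →
      (O o₁).negO co ((((O o₀).wO * (O o₁).wO) ^ j * (O o₀).wO) r)) :
    ∀ z, π z = 1 → z = 1 := by
  classical
  have hF := T.sig.hF
  set UG := (rootClosure D K (D.nroots / 2 ≤ ·)).subgroupOf G with hUG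
  obtain ⟨Ut, hUt⟩ := exists_subgroup hsurj hc hcop hU
  -- lifting elements of the positive part
  have hUlift : ∀ g : ↥G, (g : GL D.Idx K) ∈ rootClosure D K (D.nroots / 2 ≤ ·) →
      ∃ y ∈ Ut, π y = g := fun g hg => by
    obtain ⟨k, hk⟩ := hU ⟨g, hg⟩
    obtain ⟨y, hy, e⟩ := exists_lift hsurj hcop (g := g) ⟨k, by simpa using congrArg Subtype.val hk⟩
    exact ⟨y, (hUt y).2 ⟨hy, by rw [e]; exact hg⟩, e⟩
  have hUconj : ∀ (g : Γ), ∀ y ∈ Ut,
      (π g : GL D.Idx K) * π y * (π g : GL D.Idx K)⁻¹ ∈ rootClosure D K (D.nroots / 2 ≤ ·) →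
        g * y * g⁻¹ ∈ Ut := fun g y hy h => by
    refine (hUt _).2 ⟨isPEl_conj ((hUt y).1 hy).1 g, ?_⟩
    show ((π (g * y * g⁻¹) : ↥G) : GL D.Idx K) ∈ rootClosure D K (D.nroots / 2 ≤ ·)
    simpa using h
  -- the rank one lifts
  let Lt : ι → Subgroup Γ := fun o => Subgroup.closure {y : Γ | IsPEl p y ∧ π y ∈ T.orbSet o}
  have hLtimg : ∀ o, ∀ y ∈ Lt o, π y ∈ Subgroup.closure (T.orbSet o) := fun o =>
    (Subgroup.closure_le ((Subgroup.closure (T.orbSet o)).comap π)).2 fun y hy =>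
      Subgroup.subset_closure hy.2
  have hposle : ∀ o {u : GL D.Idx K}, u ∈ rootClosure D K ((O o).posO co) →
      u ∈ rootClosure D K (D.nroots / 2 ≤ ·) := fun o u hu =>
    rootClosure_mono (fun r _ h => h.1) hu
  have hUinj : ∀ y ∈ Ut, π y = 1 → y = 1 := fun y hy e =>
    lift_unique hc hcop ((hUt y).1 hy).1 ⟨0, one_pow _⟩ (e.trans (map_one π).symm)
  have hUuniq : ∀ y ∈ Ut, ∀ y' ∈ Ut, π y = π y' → y = y' := fun y hy y' hy' e =>
    lift_unique hc hcop ((hUt y).1 hy).1 ((hUt y').1 hy').1 e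
  have hUtLt : ∀ o, ∀ y ∈ Ut, (π y : GL D.Idx K) ∈ rootClosure D K ((O o).posO co) → y ∈ Lt o :=
    fun o y hy h => Subgroup.subset_closure ⟨((hUt y).1 hy).1, Or.inl h⟩
  have hLtconj : ∀ o (g : Γ),
      (∀ x : GL D.Idx K, x ∈ rootClosure D K ((O o).posO co) →
        (π g : GL D.Idx K) * x * (π g : GL D.Idx K)⁻¹ ∈ rootClosure D K ((O o).posO co)) →
      (∀ x : GL D.Idx K, x ∈ rootClosure D K ((O o).negO co) →
        (π g : GL D.Idx K) * x * (π g : GL D.Idx K)⁻¹ ∈ rootClosure D K ((O o).negO co)) →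
      ∀ y ∈ Lt o, g * y * g⁻¹ ∈ Lt o := by
    intro o g h1 h2
    refine (Subgroup.closure_le ((Lt o).comap (MulAut.conj g).toMonoidHom)).2 ?_
    rintro y ⟨hy, hx⟩
    refine Subgroup.subset_closure ⟨isPEl_conj hy g, ?_⟩
    rcases hx with hx | hx
    · exact Or.inl (by simpa using h1 _ hx)
    · exact Or.inr (by simpa using h2 _ hx)
  -- the lifted Weyl elements
  have hn : ∀ o, ∃ n ∈ Lt o, (π n : GL D.Idx K) ∈ D.monomialSubgroup K ∧
      PermAct (π n : GL D.Idx K) (O o).wO := by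
    intro o
    obtain ⟨v, hv, hvn, hv1⟩ := T.neg_ex o
    obtain ⟨u₁, h1f, h1, m, hmG, hmN, hm, u, huf, hu, e⟩ := T.neg_decomp o hv hvn hv1
    have h1G : u₁ ∈ G := T.posO_le o ⟨h1f, h1⟩
    have huG : u ∈ G := T.posO_le o ⟨huf, hu⟩
    obtain ⟨a, ha, ea⟩ := hUlift ⟨u₁, h1G⟩ (hposle o h1)
    obtain ⟨b, hb, eb⟩ := hUlift ⟨u, huG⟩ (hposle o hu)
    obtain ⟨k, hk⟩ : IsPEl p (⟨v, hv⟩ : ↥G) := by
      obtain ⟨n₀, hn₀G, hn₀N, hn₀⟩ := T.exists_nO o
      set g : ↥G := ⟨n₀, hn₀G⟩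
      obtain ⟨k, hk⟩ := hU ⟨g * ⟨v, hv⟩ * g⁻¹, hposle o (T.pos_of_neg o hn₀ hvn)⟩
      exact ⟨k, by simpa [conj_pow, mul_inv_eq_one] using congrArg Subtype.val hk⟩
    obtain ⟨c, hcp, ec⟩ := exists_lift hsurj hcop (g := (⟨v, hv⟩ : ↥G)) ⟨k, hk⟩
    refine ⟨a⁻¹ * c * b⁻¹, mul_mem (mul_mem (inv_mem (hUtLt o a ha (by rw [ea]; exact h1)))
      (Subgroup.subset_closure ⟨hcp, by rw [ec]; exact Or.inr hvn⟩))
      (inv_mem (hUtLt o b hb (by rw [eb]; exact hu))), ?_⟩
    have e' : (π (a⁻¹ * c * b⁻¹) : GL D.Idx K) = m := by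
      simp only [map_mul, map_inv, ea, eb, ec, Subgroup.coe_mul, Subgroup.coe_inv]
      rw [e]; group
    rw [e']
    exact ⟨hmN, hm⟩
  choose nn hnLt hnN hnP using hn
  -- the lifted tori
  let Tt : ι → Subgroup Γ := fun o => Lt o ⊓ ((D.diagonalSubgroup K).subgroupOf G).comap π
  have hTconjLt : ∀ (t : Γ), (π t : GL D.Idx K) ∈ D.diagonalSubgroup K → ∀ o, ∀ y ∈ Lt o,
      t * y * t⁻¹ ∈ Lt o := fun t ht o => hLtconj o t
    (fun x hx => (Subgroup.mem_normalizer_iff.1 (hF.diagonal_le_normalizer _ ht) x).1 hx)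
    (fun x hx => (Subgroup.mem_normalizer_iff.1 (hF.diagonal_le_normalizer _ ht) x).1 hx)
  have hcommT : ∀ a ∈ Tt o₀, ∀ b ∈ Tt o₁, a * b = b * a := by
    rintro a ⟨-, ha'⟩ b ⟨hb, hb'⟩
    have h1 : a * b * a⁻¹ * b⁻¹ = 1 := by
      refine hlift o₁ _ (mul_mem (hTconjLt a ha' o₁ b hb) (inv_mem hb)) ?_
      obtain ⟨ca, hca⟩ := hF.mem_diagonal_iff.1 ha'
      obtain ⟨cb, hcb⟩ := hF.mem_diagonal_iff.1 hb'
      refine Subtype.ext ?_
      simp only [map_mul, map_inv, Subgroup.coe_mul, Subgroup.coe_inv, Subgroup.coe_one]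
      change (π a : GL D.Idx K) = _ at hca
      change (π b : GL D.Idx K) = _ at hcb
      rw [hca, hcb, mul_inv_eq_one, mul_inv_eq_iff_eq_mul, ← hF.hT_mul, ← hF.hT_mul]
      exact hF.hT_congr fun i _ => mul_comm _ _
    rwa [mul_inv_eq_one, mul_inv_eq_iff_eq_mul] at h1
  let T0 : Subgroup Γ :=
    { carrier := {y | ∃ a ∈ Tt o₀, ∃ b ∈ Tt o₁, y = a * b}
      one_mem' := ⟨1, one_mem _, 1, one_mem _, (one_mul 1).symm⟩
      mul_mem' := by
        rintro _ _ ⟨a, ha, b, hb, rfl⟩ ⟨a', ha', b', hb', rfl⟩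
        exact ⟨a * a', mul_mem ha ha', b * b', mul_mem hb hb', by
          rw [mul_assoc, ← mul_assoc b, ← hcommT a' ha' b hb]; group⟩
      inv_mem' := by
        rintro _ ⟨a, ha, b, hb, rfl⟩
        exact ⟨a⁻¹, inv_mem ha, b⁻¹, inv_mem hb, by
          rw [mul_inv_rev, hcommT a⁻¹ (inv_mem ha) b⁻¹ (inv_mem hb)]⟩ }
  have hTT0 : ∀ o, Tt o ≤ T0 := by
    intro o y hy
    rcases hι o with rfl | rfl
    · exact ⟨y, hy, 1, one_mem _, (mul_one y).symm⟩
    · exact ⟨1, one_mem _, y, hy, (one_mul y).symm⟩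
  have hT0d : ∀ y ∈ T0, (π y : GL D.Idx K) ∈ D.diagonalSubgroup K := by
    rintro _ ⟨a, ⟨-, ha⟩, b, ⟨-, hb⟩, rfl⟩
    rw [map_mul, Subgroup.coe_mul]
    exact mul_mem ha hb
  have hT0inj : ∀ y ∈ T0, π y = 1 → y = 1 := by
    rintro _ ⟨a, ⟨ha, ha'⟩, b, ⟨hb, -⟩, rfl⟩ e
    rw [map_mul, mul_eq_one_iff_eq_inv] at e
    have h1 : π a = 1 := hind _ (hLtimg _ a ha)
      (e ▸ inv_mem (hLtimg _ b hb)) ha'
    have h2 : π b = 1 := by rw [h1, eq_comm, inv_eq_one] at e; exact e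
    rw [hlift _ a ha h1, hlift _ b hb h2, one_mul]
  -- the Weyl elements normalise the torus
  have hnsq : ∀ o, nn o * nn o ∈ Tt o := fun o => by
    refine ⟨mul_mem (hnLt o) (hnLt o), ?_⟩
    show ((π (nn o * nn o) : ↥G) : GL D.Idx K) ∈ D.diagonalSubgroup K
    rw [map_mul, Subgroup.coe_mul]
    refine hF.mem_diagonal_of_permAct (mul_mem (hnN o) (hnN o)) ?_
    have := hF.permAct_mul (hnP o) (hnP o)
    rwa [T.orb.sq o] at this
  have hnT : ∀ o, ∀ y ∈ T0, nn o * y * (nn o)⁻¹ ∈ T0 := by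
    intro o y hy
    have hd : (π (nn o * y * (nn o)⁻¹) : GL D.Idx K) ∈ D.diagonalSubgroup K := by
      simp only [map_mul, map_inv, Subgroup.coe_mul, Subgroup.coe_inv]
      exact hF.conj_diagonal (hnN o) (hT0d y hy)
    have h1 : nn o * y * (nn o)⁻¹ * y⁻¹ ∈ Tt o := by
      refine ⟨?_, ?_⟩
      · rw [show nn o * y * (nn o)⁻¹ * y⁻¹ = nn o * (y * (nn o)⁻¹ * y⁻¹) by group]
        exact mul_mem (hnLt o) (hTconjLt y (hT0d y hy) o _ (inv_mem (hnLt o)))
      · show ((π (nn o * y * (nn o)⁻¹ * y⁻¹) : ↥G) : GL D.Idx K) ∈ D.diagonalSubgroup K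
        rw [map_mul, map_inv π y, Subgroup.coe_mul, Subgroup.coe_inv]
        exact mul_mem hd (inv_mem (hT0d y hy))
    simpa using mul_mem (hTT0 o h1) hy
  -- the lifted monomial group
  let a := nn o₀
  let b := nn o₁
  let N : Subgroup Γ := Subgroup.closure ((T0 : Set Γ) ∪ {a, b})
  have haN : ∀ o, nn o ∈ N := fun o => Subgroup.subset_closure (by
    rcases hι o with rfl | rfl <;> simp [a, b])
  have hT0N : T0 ≤ N := fun y hy => Subgroup.subset_closure (Or.inl hy)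
  have hnorm : N ≤ Subgroup.normalizer (T0 : Set Γ) := by
    refine (Subgroup.closure_le _).2 ?_
    rintro g (hg | hg)
    · exact Subgroup.le_normalizer hg
    · obtain ⟨o, rfl⟩ : ∃ o, g = nn o := by
        rcases hg with rfl | rfl
        exacts [⟨o₀, rfl⟩, ⟨o₁, rfl⟩]
      refine Subgroup.mem_normalizer_iff.2 fun y => ⟨hnT o y, fun hy => ?_⟩
      have h2 := hnT o _ hy
      have h3 : nn o * nn o ∈ T0 := hTT0 o (hnsq o)
      have h4 := mul_mem (mul_mem (inv_mem h3) h2) h3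
      rwa [show (nn o * nn o)⁻¹ * (nn o * (nn o * y * (nn o)⁻¹) * (nn o)⁻¹) * (nn o * nn o) = y by
        group] at h4
  have hTnormal : (T0.subgroupOf N).Normal :=
    ⟨fun y hy g => (Subgroup.mem_normalizer_iff.1 (hnorm g.2) y).1 hy⟩
  let qm := QuotientGroup.mk' (T0.subgroupOf N)
  have hq1 : ∀ y : ↥N, qm y = 1 ↔ (y : Γ) ∈ T0 := fun y => QuotientGroup.eq_one_iff y
  set α := qm ⟨a, haN o₀⟩ with hα
  set β := qm ⟨b, haN o₁⟩ with hβ
  have hαα : α * α = 1 := by rw [← map_mul, hq1]; exact hTT0 _ (hnsq o₀)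
  have hββ : β * β = 1 := by rw [← map_mul, hq1]; exact hTT0 _ (hnsq o₁)
  set c := α * β with hcdef
  set w := (O o₀).wO * (O o₁).wO with hw
  have hpermAB : ∀ i : ℕ, ((π ((a * b) ^ i) : ↥G) : GL D.Idx K) ∈ D.monomialSubgroup K ∧
      PermAct ((π ((a * b) ^ i) : ↥G) : GL D.Idx K) (w ^ i) := by
    intro i
    induction i with
    | zero =>
      rw [pow_zero, pow_zero, map_one, Subgroup.coe_one]
      exact ⟨one_mem _, hF.permAct_diagonal (one_mem _)⟩
    | succ i ih =>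
      rw [pow_succ, pow_succ, map_mul, map_mul, Subgroup.coe_mul, Subgroup.coe_mul]
      exact ⟨mul_mem ih.1 (mul_mem (hnN _) (hnN _)), hF.permAct_mul ih.2
        (hF.permAct_mul (hnP o₀) (hnP o₁))⟩
  -- the braid relation
  have hbraid : c ^ (j + 1) * c ^ (j + 1) = 1 := by
    set Pe := (a * b) ^ j * a with hPe
    have hPN : (π Pe : GL D.Idx K) ∈ D.monomialSubgroup K ∧
        PermAct (π Pe : GL D.Idx K) (w ^ j * (O o₀).wO) := by
      rw [hPe, map_mul, Subgroup.coe_mul]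
      exact ⟨mul_mem (hpermAB j).1 (hnN _), hF.permAct_mul (hpermAB j).2 (hnP o₀)⟩
    have hPLt : ∀ y ∈ Lt o₁, Pe * y * Pe⁻¹ ∈ Lt o₁ :=
      hLtconj o₁ Pe (fun x hx => hF.conj_rootClosure hPN.2 (fun s hs => hpp s hs) hx)
        (fun x hx => hF.conj_rootClosure hPN.2 (fun s hs => hnn s hs) hx)
    have hcommP : (w ^ j * (O o₀).wO) * (O o₁).wO * (w ^ j * (O o₀).wO)⁻¹ = (O o₁).wO := by
      have h0 := T.wO_inv o₀
      have h1 := T.wO_inv o₁
      have hwinv : w⁻¹ = (O o₁).wO * (O o₀).wO := by rw [hw, mul_inv_rev, h0, h1]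
      have hhalf : w ^ (j + 1) = (w ^ (j + 1))⁻¹ := by
        refine eq_inv_of_mul_eq_one_left ?_
        rw [← pow_add, ← two_mul, ← hord, pow_orderOf_eq_one]
      rw [mul_inv_eq_iff_eq_mul]
      calc w ^ j * (O o₀).wO * (O o₁).wO = w ^ (j + 1) := by rw [pow_succ, hw]; group
        _ = (w⁻¹) ^ (j + 1) := by rw [inv_pow]; exact hhalf
        _ = _ := by
          rw [hwinv]
          have : ∀ (i : ℕ) (x y : Equiv.Perm (Fin D.nroots)),
              (y * x) ^ (i + 1) = y * ((x * y) ^ i * x) := by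
            intro i x y
            clear * - i x y
            induction i with
            | zero => simp
            | succ i ih => rw [pow_succ, ih, pow_succ]; group
          exact this j _ _
    have hmem : Pe * b * Pe⁻¹ * b⁻¹ ∈ Tt o₁ := by
      refine Subgroup.mem_inf.2 ⟨mul_mem (hPLt b (hnLt o₁)) ((Lt o₁).inv_mem (hnLt o₁)), ?_⟩
      show ((π (Pe * b * Pe⁻¹ * b⁻¹) : ↥G) : GL D.Idx K) ∈ D.diagonalSubgroup K
      simp only [map_mul, map_inv, Subgroup.coe_mul, Subgroup.coe_inv]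
      refine hF.mem_diagonal_of_permAct (mul_mem (mul_mem (mul_mem hPN.1 (hnN _)) (inv_mem hPN.1))
        (inv_mem (hnN _))) ?_
      have := hF.permAct_mul (hF.permAct_mul (hF.permAct_mul hPN.2 (hnP o₁))
        (hF.permAct_inv hPN.1 hPN.2)) (hF.permAct_inv (hnN o₁) (hnP o₁))
      rwa [hcommP, mul_inv_cancel] at this
    have hPeN : Pe ∈ N := mul_mem (pow_mem (mul_mem (haN _) (haN _)) j) (haN _)
    have e := (hq1 (⟨Pe, hPeN⟩ * ⟨b, haN o₁⟩ * (⟨Pe, hPeN⟩ : ↥N)⁻¹ * (⟨b, haN o₁⟩ : ↥N)⁻¹)).2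
      (hTT0 _ hmem)
    have eP : qm ⟨Pe, hPeN⟩ = c ^ j * α := by
      rw [hcdef, hα, hβ, ← map_mul, ← map_pow, ← map_mul]; rfl
    rw [map_mul, map_mul, map_mul, map_inv, map_inv, eP, ← hβ, mul_inv_eq_one,
      mul_inv_eq_iff_eq_mul] at e
    have hβi : β⁻¹ = β := inv_eq_of_mul_eq_one_right hββ
    have hαi : α⁻¹ = α := inv_eq_of_mul_eq_one_right hαα
    have e2 : c ^ (j + 1) = (c ^ (j + 1))⁻¹ := by
      have h1 : c ^ (j + 1) = c ^ j * α * β := by rw [pow_succ, hcdef]; group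
      have h2 : (c ^ (j + 1))⁻¹ = β * (c ^ j * α) := by
        rw [← inv_pow, hcdef, mul_inv_rev, hαi, hβi]
        have : ∀ i : ℕ, (β * α) ^ (i + 1) = β * ((α * β) ^ i * α) := by
          intro i
          induction i with
          | zero => simp
          | succ i ih => rw [pow_succ, ih, pow_succ]; group
        exact this j
      exact (h1.trans e).trans h2.symm
    nth_rewrite 1 [e2]
    exact inv_mul_cancel _
  have hcord : c ^ (2 * (j + 1)) = 1 := by rw [two_mul, pow_add, hbraid]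
  have hNform : ∀ y (hy : y ∈ N), ∃ (i : ℕ) (e : Bool),
      qm ⟨y, hy⟩ = c ^ i * (if e then α else 1) := by
    have hαc : ∀ i : ℕ, α * c ^ i = c ^ ((2 * (j + 1) - 1) * i) * α := by
      intro i
      have hci : c⁻¹ = c ^ (2 * (j + 1) - 1) := by
        refine inv_eq_of_mul_eq_one_right ?_
        rw [← pow_succ', Nat.sub_add_cancel (by omega), hcord]
      rw [pow_mul, ← hci]
      have : α * c * α⁻¹ = c⁻¹ := by
        rw [hcdef, mul_inv_rev, inv_eq_of_mul_eq_one_right hαα, inv_eq_of_mul_eq_one_right hββ,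
          ← mul_assoc, hαα, one_mul]
      rw [← this, conj_pow]; group
    have stepα : ∀ z, (∃ (i : ℕ) (e : Bool), z = c ^ i * (if e then α else 1)) →
        ∃ (i : ℕ) (e : Bool), α * z = c ^ i * (if e then α else 1) := by
      rintro _ ⟨i, e, rfl⟩
      refine ⟨(2 * (j + 1) - 1) * i, !e, ?_⟩
      rw [← mul_assoc, hαc, mul_assoc]
      cases e <;> simp [hαα]
    have stepβ : ∀ z, (∃ (i : ℕ) (e : Bool), z = c ^ i * (if e then α else 1)) →
        ∃ (i : ℕ) (e : Bool), β * z = c ^ i * (if e then α else 1) := by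
      rintro _ ⟨i, e, rfl⟩
      have : β = α * c := by rw [hcdef, ← mul_assoc, hαα, one_mul]
      rw [this, mul_assoc, ← mul_assoc c, ← pow_succ']
      exact stepα _ ⟨i + 1, e, rfl⟩
    intro y hy
    have hT1 : ∀ x (hx : x ∈ T0), qm ⟨x, hT0N hx⟩ = 1 := fun x hx => (hq1 _).2 hx
    induction hy using Subgroup.closure_induction_left with
    | one => exact ⟨0, false, by rw [pow_zero, one_mul]; exact map_one qm⟩
    | mul_left x hx y hy ih =>
      rw [show (⟨x * y, _⟩ : ↥N) = ⟨x, Subgroup.subset_closure hx⟩ * ⟨y, hy⟩ from rfl, map_mul]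
      rcases hx with hx | rfl | rfl
      · rw [hT1 x hx, one_mul]; exact ih
      · exact stepα _ ih
      · exact stepβ _ ih
    | inv_mul_cancel x hx y hy ih =>
      rw [show (⟨x⁻¹ * y, _⟩ : ↥N) = (⟨x, Subgroup.subset_closure hx⟩ : ↥N)⁻¹ * ⟨y, hy⟩ from rfl,
        map_mul, map_inv]
      rcases hx with hx | rfl | rfl
      · rw [hT1 x hx, inv_one, one_mul]; exact ih
      · have e : (qm ⟨a, haN o₀⟩)⁻¹ = α := inv_eq_of_mul_eq_one_right hαα
        rw [e]
        exact stepα _ ih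
      · have e : (qm ⟨b, haN o₁⟩)⁻¹ = β := inv_eq_of_mul_eq_one_right hββ
        rw [e]
        exact stepβ _ ih
  have hNd : ∀ y ∈ N, (π y : GL D.Idx K) ∈ D.diagonalSubgroup K → y ∈ T0 := by
    intro y hy hd
    obtain ⟨i, e, he⟩ := hNform y hy
    set y' : Γ := (a * b) ^ i * (if e then a else 1) with hy'
    have hy'N : y' ∈ N := mul_mem (pow_mem (mul_mem (haN _) (haN _)) i)
      (by cases e <;> simp [one_mem, a, haN])
    have hqy' : qm ⟨y', hy'N⟩ = c ^ i * (if e then α else 1) := by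
      cases e
      · rw [hcdef, hα, hβ, ← map_mul, ← map_pow]
        simp only [Bool.false_eq_true, if_false, mul_one]
        exact congrArg qm (Subtype.ext (by simp [hy']))
      · rw [hcdef, hα, hβ, ← map_mul, ← map_pow]
        simp only [if_true, ← map_mul]
        exact congrArg qm (Subtype.ext (by simp [hy']))
    have hquot : y⁻¹ * y' ∈ T0 := by
      have : qm ((⟨y, hy⟩ : ↥N)⁻¹ * ⟨y', hy'N⟩) = 1 := by
        rw [map_mul, map_inv, he, hqy', inv_mul_cancel]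
      exact (hq1 _).1 this
    have hd' : (π y' : GL D.Idx K) ∈ D.diagonalSubgroup K := by
      have := mul_mem hd (hT0d _ hquot)
      rwa [← Subgroup.coe_mul, ← map_mul, mul_inv_cancel_left] at this
    have hperm : PermAct (π y' : GL D.Idx K) (w ^ i * (if e then (O o₀).wO else 1)) := by
      rw [hy', map_mul, Subgroup.coe_mul]
      refine hF.permAct_mul (hpermAB i).2 ?_
      cases e
      · simp only [Bool.false_eq_true, if_false, map_one, Subgroup.coe_one]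
        exact hF.permAct_diagonal (one_mem _)
      · exact hnP o₀
    have h1 := hF.permAct_unique hperm (hF.permAct_diagonal hd')
    have hy'T : y' ∈ T0 := by
      cases e
      · simp only [Bool.false_eq_true, if_false, mul_one] at h1
        have hdvd : 2 * (j + 1) ∣ i := hord ▸ orderOf_dvd_of_pow_eq_one h1
        obtain ⟨k, rfl⟩ := hdvd
        refine (hq1 ⟨y', hy'N⟩).1 ?_
        rw [hqy', pow_mul, hcord, one_pow]
        simp
      · simp only [if_true] at h1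
        refine absurd ?_ (hnot i)
        rw [mul_eq_one_iff_eq_inv, T.wO_inv] at h1
        exact h1
    have := mul_mem hy'T (inv_mem hquot)
    rwa [show y' * (y⁻¹ * y')⁻¹ = y by group] at this
  have hNinj : ∀ y ∈ N, π y = 1 → y = 1 := fun y hy e =>
    hT0inj y (hNd y hy (by rw [e, Subgroup.coe_one]; exact one_mem _)) e
  have hNmon : ∀ y ∈ N, (π y : GL D.Idx K) ∈ D.monomialSubgroup K := by
    refine (Subgroup.closure_le (((D.monomialSubgroup K).subgroupOf G).comap π)).2 ?_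
    rintro y (hy | rfl | rfl)
    exacts [hF.diag_le_monomial (hT0d y hy), hnN o₀, hnN o₁]
  -- the double cosets
  let E : Set Γ := {y | ∃ u ∈ Ut, ∃ n ∈ N, ∃ v ∈ Ut, y = u * n * v}
  have hTU : ∀ t ∈ T0, ∀ u ∈ Ut, t * u * t⁻¹ ∈ Ut := fun t ht u hu =>
    hUconj t u hu ((Subgroup.mem_normalizer_iff.1 (hF.diagonal_le_normalizer _ (hT0d t ht)) _).1
      ((hUt u).1 hu).2)
  have hEU : ∀ u ∈ Ut, ∀ y ∈ E, u * y ∈ E := by
    rintro u hu _ ⟨u', hu', n, hn, v, hv, rfl⟩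
    exact ⟨u * u', mul_mem hu hu', n, hn, v, hv, by group⟩
  have hET : ∀ t ∈ T0, ∀ y ∈ E, t * y ∈ E := by
    rintro t ht _ ⟨u, hu, n, hn, v, hv, rfl⟩
    exact ⟨t * u * t⁻¹, hTU t ht u hu, t * n, mul_mem (hT0N ht) hn, v, hv, by group⟩
  have hEn : ∀ o, ∀ y ∈ E, nn o * y ∈ E := by
    rintro o _ ⟨y, hy, n, hn, v, hv, rfl⟩
    set s : GL D.Idx K := (π (nn o) : GL D.Idx K) with hs
    set m : GL D.Idx K := (π n : GL D.Idx K) with hm
    have hmN : m ∈ D.monomialSubgroup K := hNmon n hn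
    obtain ⟨wn, hwn⟩ := hF.exists_permAct hmN
    obtain ⟨l, hl⟩ := T.perm_word hmN hwn
    have hwf := T.sig.wfix_of_fixed hmN hwn (T.le_fix (π n).2)
    have hminv := hF.permAct_inv hmN hwn
    have hl' : wn⁻¹ = sW D l.reverse := by rw [hF.sW_reverse, hl]
    obtain ⟨a₁, haf, ha₁, c₁, hcf, hc₁, ey⟩ := T.split_fix o (A := (D.nroots / 2 ≤ ·))
      (fun r _ h => h)
      (fun i hi hiO j hj hjp _ _ c hc =>
        le_of_lt (lt_of_le_of_lt hiO.1 (hF.commTerms_lt hi hj hiO.1 hjp hc).2.1))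
      (fun r hr h => T.sig.ok.rho_pos r hr h) ((hUt y).1 hy).2 (T.le_fix (π y).2)
    have hcG : c₁ ∈ G := T.posO_le o ⟨hcf, hc₁⟩
    have haG : a₁ ∈ G := T.posU_le ⟨haf, rootClosure_mono (fun r _ h => h.1) ha₁⟩
    obtain ⟨at₁, hat, eat⟩ := hUlift ⟨a₁, haG⟩ (rootClosure_mono (fun r _ h => h.1) ha₁)
    obtain ⟨ct, hct, ect⟩ := hUlift ⟨c₁, hcG⟩ (hposle o hc₁)
    obtain rfl : y = at₁ * ct := hUuniq y hy _ (mul_mem hat hct) (Subtype.ext (by
      rw [map_mul, Subgroup.coe_mul, eat, ect]; exact ey))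
    have ha' : nn o * at₁ * (nn o)⁻¹ ∈ Ut := hUconj _ _ hat (by
      rw [eat]
      exact hF.conj_rootClosure (hnP o) (fun r hr => (T.wO_posO o hr.1 hr.2).1) ha₁)
    rw [show nn o * (at₁ * ct * n * v) =
      (nn o * at₁ * (nn o)⁻¹) * (nn o * ct * n * v) by group]
    refine hEU _ ha' _ ?_
    rcases eq_or_ne c₁ 1 with hc1 | hc1
    · have : ct = 1 := hUinj ct hct (by rw [ect]; exact Subtype.ext hc1)
      exact ⟨1, one_mem _, nn o * n, mul_mem (haN o) hn, v, hv, by rw [this]; group⟩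
    rcases T.dichotomy (w := wn⁻¹) hl' (T.sig.wfix_of_fixed (inv_mem hmN) hminv
      (inv_mem (T.le_fix (π n).2))) o with hflip | hkeep
    · have hv' : s * c₁ * s⁻¹ ∈ G := mul_mem (mul_mem (π (nn o)).2 hcG) (inv_mem (π (nn o)).2)
      have hvneg : s * c₁ * s⁻¹ ∈ rootClosure D K ((O o).negO co) :=
        hF.conj_rootClosure (hnP o) (fun _ hs => T.wO_inO o hs.1 hs.2) hc₁
      obtain ⟨u₁, h1f, h1, m₁, hm₁G, hm₁N, hm₁, u₂, h2f, h2, e⟩ :=
        T.neg_decomp o hv' hvneg (fun h => hc1 (by rwa [mul_inv_eq_one, mul_eq_left] at h))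
      obtain ⟨u₁t, hu₁t, eu₁⟩ := hUlift ⟨u₁, T.posO_le o ⟨h1f, h1⟩⟩ (hposle o h1)
      obtain ⟨u₂t, hu₂t, eu₂⟩ := hUlift ⟨u₂, T.posO_le o ⟨h2f, h2⟩⟩ (hposle o h2)
      set mt := u₁t⁻¹ * (nn o * ct * (nn o)⁻¹) * u₂t⁻¹ with hmt
      have hmtLt : mt ∈ Lt o := mul_mem (mul_mem (inv_mem (hUtLt o _ hu₁t (by rw [eu₁]; exact h1)))
        (mul_mem (mul_mem (hnLt o) (hUtLt o _ hct (by rw [ect]; exact hc₁))) (inv_mem (hnLt o))))
        (inv_mem (hUtLt o _ hu₂t (by rw [eu₂]; exact h2)))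
      have hemt : (π mt : GL D.Idx K) = m₁ := by
        simp only [hmt, map_mul, map_inv, eu₁, eu₂, ect, Subgroup.coe_mul, Subgroup.coe_inv]
        rw [← hs, e]; group
      have hmtT : mt * nn o ∈ Tt o := by
        refine ⟨mul_mem hmtLt (hnLt o), ?_⟩
        show ((π (mt * nn o) : ↥G) : GL D.Idx K) ∈ D.diagonalSubgroup K
        rw [map_mul, Subgroup.coe_mul, hemt]
        refine hF.mem_diagonal_of_permAct (mul_mem hm₁N (hnN o)) ?_
        have := hF.permAct_mul hm₁ (hnP o)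
        rwa [T.orb.sq o] at this
      have hk : ∀ r : Fin D.nroots, D.nroots / 2 ≤ r.val → (O o).InO co r.val →
          D.nroots / 2 ≤ ((wn⁻¹ * (O o).wO) r).val := by
        intro r hp hr
        rw [Equiv.Perm.mul_apply]
        obtain ⟨h1, h2⟩ := T.wO_inO o hp hr
        have h3 := hflip (hF.negFin ((O o).wO r)) ((hF.negFin_pos _).2 h1)
          (hF.inSub_neg ((O o).wO r).isLt h2)
        rw [hl'] at h3 ⊢
        rw [hF.sW_neg] at h3
        by_contra h4
        exact absurd ((hF.negFin_pos _).2 (not_le.1 h4)) (not_le.2 h3)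
      have hconj : (nn o * n)⁻¹ * u₂t * (nn o * n) ∈ Ut := by
        have := hUconj (nn o * n)⁻¹ u₂t hu₂t ?_
        · rwa [inv_inv] at this
        rw [eu₂, map_inv, map_mul, Subgroup.coe_inv, Subgroup.coe_mul, ← hs, ← hm]
        have hp := hF.permAct_inv (mul_mem (hnN o) hmN) (hF.permAct_mul (hnP o) hwn)
        rw [mul_inv_rev ((O o).wO), T.wO_inv o] at hp
        exact hF.conj_rootClosure hp (fun r hr => hk r hr.1 hr.2) h2
      have hfin : nn o * ct * n * v =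
          u₁t * (mt * (nn o * n)) * (((nn o * n)⁻¹ * u₂t * (nn o * n)) * v) := by
        rw [hmt]; group
      exact ⟨u₁t, hu₁t, mt * (nn o * n), by
        rw [← mul_assoc]
        exact mul_mem (hT0N (hTT0 o hmtT)) hn, _, mul_mem hconj hv, hfin⟩
    · have hconj : n⁻¹ * ct * n ∈ Ut := by
        have := hUconj n⁻¹ ct hct ?_
        · rwa [inv_inv] at this
        rw [ect, map_inv, Subgroup.coe_inv]
        exact hF.conj_rootClosure hminv (fun r hr => hkeep r hr.1 hr.2) hc₁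
      exact ⟨1, one_mem _, nn o * n, mul_mem (haN o) hn, (n⁻¹ * ct * n) * v, mul_mem hconj hv,
        by group⟩
  have hEinj : ∀ y ∈ E, π y = 1 → y = 1 := by
    rintro _ ⟨u, hu, n, hn, v, hv, rfl⟩ e
    have h1 : π n = (π u)⁻¹ * (π v)⁻¹ := by
      rw [map_mul, map_mul] at e
      calc π n = (π u)⁻¹ * (π u * π n * π v) * (π v)⁻¹ := by group
        _ = _ := by rw [e, mul_one]
    have hn1 : π n = 1 := by
      refine Subtype.ext ?_
      have h2 : (π n : GL D.Idx K) ∈ rootClosure D K (D.nroots / 2 ≤ ·) := by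
        rw [h1]; exact mul_mem (inv_mem ((hUt u).1 hu).2) (inv_mem ((hUt v).1 hv).2)
      have h3 : (π n : GL D.Idx K) ∈
          rootClosure D K (D.nroots / 2 ≤ ·) ⊓ D.diagonalSubgroup K := ⟨h2, by
        rw [← hF.borel_inf_monomial]; exact ⟨hF.pos_le_borel h2, hNmon n hn⟩⟩
      rw [hF.pos_inf_diagonal, Subgroup.mem_bot] at h3
      exact h3
    obtain rfl := hNinj n hn hn1
    rw [mul_one] at e ⊢
    exact hUinj _ (mul_mem hu hv) e
  -- the complement
  let R : Subgroup Γ := Subgroup.closure ((Ut : Set Γ) ∪ {a, b})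
  have hnR : ∀ o, nn o ∈ R := fun o => Subgroup.subset_closure (by
    rcases hι o with rfl | rfl <;> simp [a, b])
  have hRE : ∀ y ∈ R, y ∈ E := by
    intro y hy
    induction hy using Subgroup.closure_induction_left with
    | one => exact ⟨1, one_mem _, 1, one_mem _, 1, one_mem _, by group⟩
    | mul_left x hx y hy ih =>
      rcases hx with hx | rfl | rfl
      exacts [hEU x hx y ih, hEn o₀ y ih, hEn o₁ y ih]
    | inv_mul_cancel x hx y hy ih =>
      have hinv : ∀ o, (nn o)⁻¹ * y ∈ E := fun o => by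
        rw [show (nn o)⁻¹ * y = (nn o * nn o)⁻¹ * (nn o * y) by group]
        exact hET _ (inv_mem (hTT0 o (hnsq o))) _ (hEn o y ih)
      rcases hx with hx | rfl | rfl
      exacts [hEU _ (inv_mem hx) y ih, hinv o₀, hinv o₁]
  have hRsurj : ∀ g : ↥G, g ∈ R.map π := by
    have hall : ∀ o, T.orbSet o ⊆ R.map π := by
      intro o g hg
      rcases hg with hg | hg
      · obtain ⟨y, hy, e⟩ := hUlift g (hposle o hg)
        exact ⟨y, Subgroup.subset_closure (Or.inl hy), e⟩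
      · obtain ⟨y, hy, e⟩ := hUlift (π (nn o) * g * (π (nn o))⁻¹)
          (hposle o (by
            rw [Subgroup.coe_mul, Subgroup.coe_mul, Subgroup.coe_inv]
            exact T.pos_of_neg o (hnP o) hg))
        refine ⟨(nn o)⁻¹ * y * nn o, mul_mem (mul_mem (inv_mem (hnR o))
          (Subgroup.subset_closure (Or.inl hy))) (hnR o), ?_⟩
        simp [e, mul_assoc]
    intro g
    have h1 : Subgroup.closure (T.orbSet o₀ ∪ T.orbSet o₁) ≤ R.map π :=
      (Subgroup.closure_le _).2 (Set.union_subset (hall o₀) (hall o₁))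
    exact h1 (hgen ▸ Subgroup.mem_top g)
  have hle : commutator Γ ≤ R := by
    rw [commutator_def, Subgroup.commutator_le]
    intro x _ y _
    obtain ⟨x', hx', ex⟩ := hRsurj (π x)
    obtain ⟨y', hy', ey⟩ := hRsurj (π y)
    have : ⁅x, y⁆ = ⁅x', y'⁆ := by
      rw [CfsgLib.Known.SL2Lift.comm_central_left hc ex.symm,
        CfsgLib.Known.SL2Lift.comm_central_right hc ey.symm]
    rw [this]
    exact mul_mem (mul_mem (mul_mem hx' hy') (inv_mem hx')) (inv_mem hy')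
  intro z hz
  exact hEinj z (hRE z (hle (hperf ▸ Subgroup.mem_top z))) hz

end CfsgLib.Chev.TwSys
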