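/-
Graph endomorphisms of the Chevalley groups and a criterion for their bijectivity.
-/
import Mathlib
import Cfsg.Agent.Lib.Chev.Twist.Sigma

set_option autoImplicit false

namespace CfsgLib.Chev

open Cfsg.Lie

universe v

variable {D : ChevalleyDatum} {co : ℕ → ℕ → ℤ} {K : Type v} [Field K] {P : TwPar}

/-- The root elements of the fundamental roots and their negatives generate the group. -/
theorem Facts.group_eq_gen (hF : Facts D co) : D.group K = rootClosure D K (IsGen D) := by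
  refine le_antisymm ?_ ((hF.group_eq (F := K)).symm ▸ rootClosure_mono fun _ _ _ => trivial)
  rw [hF.group_eq (F := K)]
  refine (Subgroup.closure_le _).2 ?_
  rintro x ⟨r, t, hr, -, rfl⟩
  have hn : ∀ i : Fin D.rank, nS D K i ∈ rootClosure D K (IsGen D) := fun i =>
    hF.nU_mem (fun t => xU_mem_rootClosure (P := IsGen D) (hF.simple_lt' i.isLt)
      ⟨i, i.isLt, Or.inl rfl⟩ t)
      (fun t => xU_mem_rootClosure (P := IsGen D) (hF.neg_lt (hF.simple_lt' i.isLt))
        ⟨i, i.isLt, Or.inr rfl⟩ t) 1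
  have key : r < D.nroots → ∀ t : K, xU D r t ∈ rootClosure D K (IsGen D) := by
    refine hF.root_induction (P := fun r => r < D.nroots → ∀ t : K,
      xU D r t ∈ rootClosure D K (IsGen D)) (fun i hi h t => ?_) (fun i hi s hs ih h t => ?_) hr
    · exact xU_mem_rootClosure (P := IsGen D) h ⟨i, hi, Or.inl rfl⟩ t
    · obtain ⟨c, hc, hconj, -⟩ := hF.permAct_nS (F := K) ⟨i, hi⟩ ⟨s, hs⟩
      have := hconj (c⁻¹ * t)
      rw [hF.sP_val, ← mul_assoc, mul_inv_cancel₀ hc, one_mul] at this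
      rw [← this]
      exact Subgroup.mul_mem _ (Subgroup.mul_mem _ (hn _) (ih hs _)) (Subgroup.inv_mem _ (hn _))
  exact key hr t

theorem Facts.hom_ext (hF : Facts D co) {M : Type*} [Monoid M] {α β : ↥(D.group K) →* M}
    (h : ∀ r, IsGen D r → ∀ (t : K) (hm : xU D r t ∈ D.group K),
      α ⟨xU D r t, hm⟩ = β ⟨xU D r t, hm⟩) : α = β := by
  refine MonoidHom.eq_of_eqOn_top fun x _ => ?_
  obtain ⟨x, hx⟩ := x
  have hx' : x ∈ rootClosure D K (IsGen D) := hF.group_eq_gen (K := K) ▸ hx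
  have e : ∀ (y : GL D.Idx K) (hy : y ∈ rootClosure D K (IsGen D)),
      α ⟨y, hF.group_eq_gen (K := K) ▸ hy⟩ = β ⟨y, hF.group_eq_gen (K := K) ▸ hy⟩ := by
    intro y hy
    induction hy using Subgroup.closure_induction with
    | mem z hz => obtain ⟨r, t, -, hg, rfl⟩ := hz; exact h r hg t _
    | one =>
      show α (1 : ↥(D.group K)) = β (1 : ↥(D.group K))
      rw [map_one, map_one]
    | mul a b ha hb iha ihb =>
      show α (⟨a, hF.group_eq_gen (K := K) ▸ ha⟩ * ⟨b, hF.group_eq_gen (K := K) ▸ hb⟩) = β _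
      rw [map_mul, iha, ihb, ← map_mul]; rfl
    | inv a ha iha =>
      have hm : a ∈ D.group K := hF.group_eq_gen (K := K) ▸ ha
      have e1 : (⟨a⁻¹, Subgroup.inv_mem _ hm⟩ : ↥(D.group K)) * ⟨a, hm⟩ = 1 :=
        Subtype.ext (inv_mul_cancel a)
      have e2 : (⟨a, hm⟩ : ↥(D.group K)) * ⟨a⁻¹, Subgroup.inv_mem _ hm⟩ = 1 :=
        Subtype.ext (mul_inv_cancel a)
      calc α ⟨a⁻¹, _⟩ = α ⟨a⁻¹, _⟩ * (β ⟨a, hm⟩ * β ⟨a⁻¹, Subgroup.inv_mem _ hm⟩) := by
            rw [← map_mul, e2, map_one, mul_one]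
        _ = β ⟨a⁻¹, _⟩ := by rw [← mul_assoc, ← iha, ← map_mul, e1, map_one, one_mul]
  exact e x hx'

namespace TwPar

/-- The defining property for an endomorphism of the group. -/
def IsEndo (P : TwPar) (D : ChevalleyDatum) {K : Type v} [Field K] (f : K →+* K)
    (α : ↥(D.group K) →* ↥(D.group K)) : Prop :=
  ∀ r, r < D.nroots → ∀ (t : K) (h : xU D r t ∈ D.group K),
    ((α ⟨xU D r t, h⟩ : ↥(D.group K)) : GL D.Idx K) = xU D (P.rho r) (P.coef f r t)

end TwPar

theorem Facts.exists_endo (hF : Facts D co) (hC : CommF.{v} D) (hN : HasNbr D) (h : P.OK D)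
    (f : K →+* K) (hp : (P.p : K) = 0) (hs : ∀ r < D.nroots, Function.Surjective (P.coef f r)) :
    ∃ α : ↥(D.group K) →* ↥(D.group K), P.IsEndo D f α := by
  obtain ⟨σ, hσ⟩ := hF.exists_sigma hC hN h f hp hs
  have hmem : ∀ x, σ x ∈ D.group K := by
    intro x
    have hh : ∀ (y : GL D.Idx K) (hy : y ∈ D.group K), σ ⟨y, hy⟩ ∈ D.group K := by
      intro y hy
      have hy' : y ∈ rootClosure D K (fun _ => True) := hF.group_eq (F := K) ▸ hy
      induction hy' using Subgroup.closure_induction with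
      | mem z hz =>
        obtain ⟨r, t, hr, -, rfl⟩ := hz
        rw [hσ r hr]; exact hF.xU_mem_group (h.rho_lt r hr) _
      | one => show σ (1 : ↥(D.group K)) ∈ D.group K; rw [map_one]; exact Subgroup.one_mem _
      | mul a b ha hb iha ihb =>
        have ha' : a ∈ D.group K := hF.group_eq (F := K) ▸ ha
        have hb' : b ∈ D.group K := hF.group_eq (F := K) ▸ hb
        show σ (⟨a, ha'⟩ * ⟨b, hb'⟩) ∈ D.group K
        rw [map_mul]; exact Subgroup.mul_mem _ (iha ha') (ihb hb')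
      | inv a ha iha =>
        have ha' : a ∈ D.group K := hF.group_eq (F := K) ▸ ha
        show σ (⟨a, ha'⟩ : ↥(D.group K))⁻¹ ∈ D.group K
        rw [map_inv]; exact Subgroup.inv_mem _ (iha ha')
    exact hh x.1 x.2
  exact ⟨σ.codRestrict _ hmem, fun r hr t hm => hσ r hr t hm⟩

/-- Two endomorphisms whose composite is prescribed on the generators. -/
theorem Facts.comp_eq_of_gen (hF : Facts D co) {P P' : TwPar} (h : P.OK D) {f f' : K →+* K}
    {α α' β : ↥(D.group K) →* ↥(D.group K)} (hα : P.IsEndo D f α) (hα' : P'.IsEndo D f' α')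
    (e : ∀ r, ∀ hr : IsGen D r, ∀ t : K,
      xU D (P'.rho (P.rho r)) (P'.coef f' (P.rho r) (P.coef f r t)) =
        ((β ⟨xU D r t, hF.xU_mem_group (gen_lt hF hr) t⟩ : ↥(D.group K)) : GL D.Idx K)) :
    α'.comp α = β := by
  refine hF.hom_ext fun r hr t hm => Subtype.ext ?_
  have hr' : r < D.nroots := gen_lt hF hr
  rw [MonoidHom.comp_apply]
  have e1 : α ⟨xU D r t, hm⟩ =
      ⟨xU D (P.rho r) (P.coef f r t), hF.xU_mem_group (h.rho_lt r hr') _⟩ :=
    Subtype.ext (hα r hr' t hm)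
  rw [e1, hα' _ (h.rho_lt r hr') _ _]
  exact e r hr t

end CfsgLib.Chev
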