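/-
Fusion in the torus of a twisted group is induced by monomial elements.
-/
import Mathlib
import Cfsg.Agent.Lib.Chev.Twist.Bruhat
import Cfsg.Agent.Lib.Known.ChevSinger.Bruhat

set_option autoImplicit false

namespace CfsgLib.Chev.TwSys

open Cfsg.Lie CfsgLib.Known.ChevSinger

universe v

variable {D : ChevalleyDatum} {co : ℕ → ℕ → ℤ} {K : Type v} [Field K] {P : TwPar}
  {f : K →+* K} {σ : ↥(D.group K) →* GL D.Idx K} {ι : Type} {O : ι → Orb D}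
  {G : Subgroup (GL D.Idx K)} (T : TwSys D co P f σ O G)
include T

theorem commute_diag {d e : GL D.Idx K} (hd : d ∈ D.diagonalSubgroup K) (he : e ∈ D.diagonalSubgroup K) :
    Commute d e := by
  obtain ⟨a, rfl⟩ := T.sig.hF.mem_diagonal_iff.1 hd
  obtain ⟨b, rfl⟩ := T.sig.hF.mem_diagonal_iff.1 he
  rw [hT, hT]
  exact dU_commute _ _

/-- Simultaneous fusion of torus elements is induced by one monomial element. -/
theorem torus_fusion {x : GL D.Idx K} (hx : x ∈ G) {S : Set (GL D.Idx K)}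
    (hS : ∀ d ∈ S, d ∈ D.diagonalSubgroup K)
    (hS' : ∀ d ∈ S, x * d * x⁻¹ ∈ D.diagonalSubgroup K) :
    ∃ n ∈ G, n ∈ D.monomialSubgroup K ∧ ∀ d ∈ S, n * d * n⁻¹ = x * d * x⁻¹ := by
  have hF := T.sig.hF
  obtain ⟨b, hbG, hb, n, hnG, hn, w, hw, -, u, hu, rfl⟩ := T.bruhat hx
  obtain ⟨u1, -, hu1, k, hkG, hk, rfl⟩ := T.mem_B hbG hb
  refine ⟨k * n, Subgroup.mul_mem _ hkG hnG, Subgroup.mul_mem _ (hF.diag_le_monomial hk) hn,
    fun d hd => ?_⟩
  obtain ⟨e, hee⟩ : ∃ e, e = u1 * k * n * u * d * (u1 * k * n * u)⁻¹ := ⟨_, rfl⟩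
  have he : e ∈ D.diagonalSubgroup K := hee ▸ hS' d hd
  rw [← hee]
  have hdD := hS d hd
  have hnd : n * d * n⁻¹ ∈ D.diagonalSubgroup K := monomial_conj_diag hF hn hdD
  have heu : e * u1 * e⁻¹ ∈ rootClosure D K (D.nroots / 2 ≤ ·) :=
    (Subgroup.mem_normalizer_iff.1 (hF.diagonal_le_normalizer _ he) u1).1 hu1
  have hdu : d⁻¹ * u * d ∈ rootClosure D K (PosFlip w) := by
    have h := (Subgroup.mem_normalizer_iff.1
      (hF.diagonal_le_normalizer _ (Subgroup.inv_mem _ hdD)) u).1 hu.2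
    rwa [inv_inv] at h
  have hb1 : u1 * (k * (n * d * n⁻¹)) ∈ D.borelSubgroup K :=
    Subgroup.mul_mem _ (hF.pos_le_borel hu1) (hF.diagonal_le_borel (Subgroup.mul_mem _ hk hnd))
  have hb2 : e * u1 * e⁻¹ * (e * k) ∈ D.borelSubgroup K :=
    Subgroup.mul_mem _ (hF.pos_le_borel heu) (hF.diagonal_le_borel (Subgroup.mul_mem _ he hk))
  have heq : u1 * (k * (n * d * n⁻¹)) * n * (d⁻¹ * u * d) = e * u1 * e⁻¹ * (e * k) * n * u := by
    calc _ = u1 * k * n * u * d := by group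
      _ = e * (u1 * k * n * u) := by rw [hee]; group
      _ = _ := by group
  obtain ⟨hbe, -⟩ := hF.bruhat_unique hw hb1 hb2 hdu hu.2 heq
  have e1 : (e * u1 * e⁻¹)⁻¹ * u1 = e * k * (k * (n * d * n⁻¹))⁻¹ := by
    rw [eq_mul_inv_iff_mul_eq, mul_assoc, hbe]
    group
  have e2 : (e * u1 * e⁻¹)⁻¹ * u1 ∈ rootClosure D K (D.nroots / 2 ≤ ·) ⊓ D.diagonalSubgroup K :=
    ⟨Subgroup.mul_mem _ (Subgroup.inv_mem _ heu) hu1, e1 ▸ Subgroup.mul_mem _
      (Subgroup.mul_mem _ he hk) (Subgroup.inv_mem _ (Subgroup.mul_mem _ hk hnd))⟩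
  rw [hF.pos_inf_diagonal, Subgroup.mem_bot] at e2
  rw [e2, eq_comm, mul_inv_eq_one] at e1
  calc k * n * d * (k * n)⁻¹ = k * (n * d * n⁻¹) * k⁻¹ := by group
    _ = e := by rw [← e1]; group

end CfsgLib.Chev.TwSys
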