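/-
The seven-part of a group of type ²F₄ lies in the torus, whose fusion is a 2-group.
-/
import Mathlib
import Cfsg.Agent.Lib.Chev.Twist.F4Main
import Cfsg.Agent.Lib.Chev.Twist.TorusFusion

set_option autoImplicit false

namespace CfsgLib.Chev.TwF4

open Cfsg.Lie

universe v

/-- The arithmetic of the order at the prime seven. -/
theorem seven_part (m : ℕ) {e : ℕ}
    (h : 7 ^ e ∣ (2 ^ (2 * m + 1)) ^ 12 * (2 ^ (2 * m + 1) - 1) * ((2 ^ (2 * m + 1)) ^ 3 + 1) *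
      ((2 ^ (2 * m + 1)) ^ 4 - 1) * ((2 ^ (2 * m + 1)) ^ 6 + 1)) :
    7 ^ e ∣ (2 ^ (2 * m + 1) - 1) ^ 2 := by
  obtain ⟨k, hk⟩ : ∃ k, 2 ^ (2 * m + 1) = k + 1 :=
    ⟨2 ^ (2 * m + 1) - 1, by have := Nat.two_pow_pos (2 * m + 1); omega⟩
  have h7 : ∀ n, (2 ^ n) % 7 = 1 ∨ (2 ^ n) % 7 = 2 ∨ (2 ^ n) % 7 = 4 := by
    intro n
    induction n with
    | zero => simp
    | succ n ih => rw [pow_succ, Nat.mul_mod]; rcases ih with h | h | h <;> rw [h] <;> norm_num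
  set q := 2 ^ (2 * m + 1) with hq
  have hqm : q % 7 = 1 ∨ q % 7 = 2 ∨ q % 7 = 4 := h7 _
  have cp : ∀ a : ℕ, a % 7 ≠ 0 → Nat.Coprime (7 ^ e) a := fun a ha => by
    refine Nat.Coprime.pow_left _ ((Nat.Prime.coprime_iff_not_dvd (by norm_num)).2 fun hd => ha ?_)
    omega
  have hmod : ∀ j : ℕ, (q ^ j + 1) % 7 ≠ 0 := by
    intro j
    rw [hq, ← pow_mul, Nat.add_mod]
    rcases h7 ((2 * m + 1) * j) with h | h | h <;> rw [h] <;> norm_num
  have h1 := (cp _ (hmod 6)).dvd_of_dvd_mul_right h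
  have h4 : q ^ 4 - 1 = (q - 1) * ((q + 1) * (q ^ 2 + 1)) := by
    have hq' : q = k + 1 := hk
    rw [hq']
    have : (k + 1) ^ 4 = k * ((k + 1 + 1) * ((k + 1) ^ 2 + 1)) + 1 := by ring
    simp only [Nat.add_sub_cancel, this]
  rw [h4, ← mul_assoc ((q ^ 12 * (q - 1) * (q ^ 3 + 1))), ← mul_assoc _ (q + 1)] at h1
  have h2 := (cp _ (by simpa using hmod 1)).dvd_of_dvd_mul_right
    ((cp _ (hmod 2)).dvd_of_dvd_mul_right h1)
  have h3 : 7 ^ e ∣ q ^ 12 * ((q - 1) ^ 2) * (q ^ 3 + 1) := by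
    convert h2 using 1; ring
  refine (cp _ ?_).dvd_of_dvd_mul_left ((cp _ (hmod 3)).dvd_of_dvd_mul_right h3)
  rw [hq, ← pow_mul]
  rcases h7 ((2 * m + 1) * 12) with h | h | h <;> omega

variable {K : Type v} [Field K] [Fintype K] {m : ℕ} (C : Ctx K m)

include C in
/-- An element normalising a 7-group in `²F₄` centralises it after raising to the power 16. -/
theorem Ctx.pow_sixteen_centralizes (P : Subgroup ↥(twistedF4 K (2 ^ m))) (hP : IsPGroup 7 P)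
    (x : ↥(twistedF4 K (2 ^ m))) (hx : ∀ d ∈ P, x * d * x⁻¹ ∈ P) :
    ∀ d ∈ P, Commute (x ^ 16) d := by
  have hF := DataF4.facts
  haveI : Fact (Nat.Prime 7) := ⟨by norm_num⟩
  have hfin : Finite ↥(twistedF4 K (2 ^ m)) := Nat.finite_of_card_ne_zero (by
    rw [C.card_twisted]
    have : 1 < 2 ^ (2 * m + 1) := Nat.one_lt_two_pow (by omega)
    have : 1 < (2 ^ (2 * m + 1)) ^ 4 := Nat.one_lt_pow (by norm_num) this
    refine Nat.mul_ne_zero (Nat.mul_ne_zero (Nat.mul_ne_zero (Nat.mul_ne_zero ?_ ?_) ?_) ?_) ?_ <;>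
      first | positivity | omega)
  set T : Subgroup ↥(twistedF4 K (2 ^ m)) :=
    (chevF4.diagonalSubgroup K ⊓ twistedF4 K (2 ^ m)).subgroupOf (twistedF4 K (2 ^ m)) with hTdef
  have hTc : Nat.card T = (2 ^ (2 * m + 1) - 1) ^ 2 := by
    rw [hTdef, Nat.card_congr (Subgroup.subgroupOfEquivOfLe inf_le_right).toEquiv, C.card_torus]
  obtain ⟨S, hPS⟩ := hP.exists_le_sylow
  obtain ⟨S0⟩ : Nonempty (Sylow 7 ↥T) := inferInstance
  obtain ⟨S1, hS1⟩ := (S0.isPGroup'.map T.subtype).exists_le_sylow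
  have hS1T : (S1 : Subgroup ↥(twistedF4 K (2 ^ m))) ≤ T := by
    obtain ⟨e, he⟩ := S1.isPGroup'.exists_card_eq
    have hd : 7 ^ e ∣ Nat.card T := by
      rw [hTc]
      refine seven_part m ?_
      rw [← he, ← C.card_twisted]
      exact S1.card_subgroup_dvd_card
    have heq : (S0 : Subgroup ↥T).map T.subtype = (S1 : Subgroup ↥(twistedF4 K (2 ^ m))) := by
      refine Subgroup.eq_of_le_of_card_ge hS1 ?_
      rw [Subgroup.card_subtype, he, S0.card_eq_multiplicity]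
      refine Nat.pow_le_pow_right (by norm_num) ?_
      exact ((Nat.prime_iff.1 (by norm_num : Nat.Prime 7)) |> fun _ =>
        (Nat.Prime.pow_dvd_iff_le_factorization (by norm_num) Nat.card_pos.ne').1 hd)
    rw [← heq]
    exact Subgroup.map_subtype_le _
  obtain ⟨g, hg⟩ := MulAction.exists_smul_eq (↥(twistedF4 K (2 ^ m))) S S1
  have hmap : ∀ d ∈ P, g * d * g⁻¹ ∈ T := fun d hd => hS1T (by
    rw [← hg]
    exact (Subgroup.mem_smul_pointwise_iff_exists _ _ _).2 ⟨d, hPS hd, rfl⟩)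
  set y := g * x * g⁻¹ with hy
  let Sd : Set (GL chevF4.Idx K) := (fun d => ((g * d * g⁻¹ : ↥(twistedF4 K (2 ^ m))) : GL chevF4.Idx K)) '' P
  have hSd : ∀ d ∈ Sd, d ∈ chevF4.diagonalSubgroup K := by
    rintro _ ⟨d, hd, rfl⟩
    exact (Subgroup.mem_subgroupOf.1 (hmap d hd)).1
  have hSy : ∀ d ∈ Sd, (y : GL chevF4.Idx K) * d * (y : GL chevF4.Idx K)⁻¹ ∈ Sd := by
    rintro _ ⟨d, hd, rfl⟩
    refine ⟨x * d * x⁻¹, hx d hd, ?_⟩
    simp [hy, mul_assoc]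
  obtain ⟨n, hnG, hn, hnd⟩ := C.sys.torus_fusion y.2 hSd (fun d hd => hSd _ (hSy d hd))
  have hiter : ∀ j : ℕ, ∀ d ∈ Sd, n ^ j * d * (n ^ j)⁻¹ =
      (y : GL chevF4.Idx K) ^ j * d * ((y : GL chevF4.Idx K) ^ j)⁻¹ ∧
      (y : GL chevF4.Idx K) ^ j * d * ((y : GL chevF4.Idx K) ^ j)⁻¹ ∈ Sd := by
    intro j
    induction j with
    | zero => intro d hd; simp [hd]
    | succ j ih =>
      intro d hd
      obtain ⟨h1, h2⟩ := ih d hd
      have h3 := hnd _ h2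
      have e : ∀ a : GL chevF4.Idx K, a ^ (j + 1) * d * (a ^ (j + 1))⁻¹ =
          a * (a ^ j * d * (a ^ j)⁻¹) * a⁻¹ := fun a => by rw [pow_succ']; group
      rw [e, e, h1]
      exact ⟨h3, hSy _ h2⟩
  obtain ⟨φ, -, hφ⟩ := C.dihedral
  have hn16 : n ^ 16 ∈ chevF4.diagonalSubgroup K := by
    have h1 : φ ⟨n, hn, hnG⟩ ^ 16 = 1 := by
      have := pow_card_eq_one' (x := φ ⟨n, hn, hnG⟩)
      rwa [DihedralGroup.nat_card] at this
    rw [← map_pow, ← MonoidHom.mem_ker, hφ, Subgroup.mem_subgroupOf] at h1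
    exact h1.1
  intro d hd
  have hdS : ((g * d * g⁻¹ : ↥(twistedF4 K (2 ^ m))) : GL chevF4.Idx K) ∈ Sd := ⟨d, hd, rfl⟩
  obtain ⟨h1, -⟩ := hiter 16 _ hdS
  rw [(C.sys.commute_diag hn16 (hSd _ hdS)).eq, mul_inv_cancel_right, eq_mul_inv_iff_mul_eq] at h1
  have h2 : (g * x * g⁻¹) ^ 16 * (g * d * g⁻¹) = g * d * g⁻¹ * (g * x * g⁻¹) ^ 16 :=
    Subtype.ext (by simpa [hy] using h1.symm)
  rw [conj_pow, conj_mul, conj_mul] at h2
  exact mul_left_cancel (mul_right_cancel h2)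

end CfsgLib.Chev.TwF4
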