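/-
The Sylow subgroups for primes larger than three of the groups of type ²G₂ are cyclic.
-/
import Mathlib
import Cfsg.Agent.Lib.Chev.Twist.G2Pair
import Cfsg.Agent.Lib.Chev.Twist.G2Seven
import Cfsg.Agent.Lib.Classical.SL2OddSylow
import Cfsg.Agent.Lib.Classical.SL2Sylow
import Cfsg.Agent.Lib.KnownSimple.GLBasics

set_option autoImplicit false

namespace CfsgLib.Chev

open Cfsg.Lie
open scoped MatrixGroups

universe v

/-- If some element has order divisible by the full `p`-part of the order, every `p`-subgroup is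
cyclic. -/
theorem isCyclic_of_big_element {G : Type*} [Group G] [Finite G] {p : ℕ} [Fact p.Prime] (c : G)
    (hc : p ^ (Nat.card G).factorization p ∣ orderOf c) {P : Subgroup G} (hP : IsPGroup p P) :
    IsCyclic P := by
  have hn : orderOf c ≠ 0 := (orderOf_pos c).ne'
  obtain ⟨d, hd⟩ := hc
  have hd0 : d ≠ 0 := fun e => hn (by rw [hd, e, mul_zero])
  have ho : orderOf (c ^ d) = p ^ (Nat.card G).factorization p := by
    rw [orderOf_pow' c hd0, hd, Nat.gcd_eq_right (dvd_mul_left d _),
      Nat.mul_div_cancel _ (Nat.pos_of_ne_zero hd0)]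
  let S : Sylow p G := Sylow.ofCard (Subgroup.zpowers (c ^ d)) (by rw [Nat.card_zpowers, ho])
  obtain ⟨Q, hQ⟩ := hP.exists_le_sylow
  haveI : IsCyclic ↥(S : Subgroup G) :=
    (inferInstance : IsCyclic (Subgroup.zpowers (c ^ d)))
  have : IsCyclic Q := isCyclic_of_surjective (Sylow.equiv S Q).toMonoidHom (Sylow.equiv S Q).surjective
  exact isCyclic_of_injective (Subgroup.inclusion hQ) (Subgroup.inclusion_injective hQ)

theorem natCard_GL_seven {F : Type*} [Field F] [Fintype F] (n : Type*) [Fintype n] [DecidableEq n]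
    (hn : Fintype.card n = 7) :
    Nat.card (GL n F) = ∏ i : Fin 7, (Fintype.card F ^ 7 - Fintype.card F ^ (i : ℕ)) := by
  rw [← Matrix.card_GL_field 7]
  exact Nat.card_congr (Units.mapEquiv
    (Matrix.reindexAlgEquiv F F (Fintype.equivFinOfCardEq hn)).toMulEquiv).toEquiv

/-- A prime for which the order of `q` is six has cyclic Sylow subgroups in `GL₇(q)`. -/
theorem cyclic_GL_seven {F : Type*} [Field F] [Fintype F] (n : Type*) [Fintype n] [DecidableEq n]
    (hn : Fintype.card n = 7) {p : ℕ} [Fact p.Prime] (hq : ¬ p ∣ Fintype.card F)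
    (h6 : ∀ k ≤ 7, 1 ≤ k → p ∣ Fintype.card F ^ k - 1 → k = 6) :
    ∀ P : Subgroup (GL n F), IsPGroup p P → IsCyclic P := by
  classical
  have hp : p.Prime := Fact.out
  set q := Fintype.card F with hqd
  have h2 : 2 ≤ q := Fintype.one_lt_card
  obtain ⟨M, hM, ho⟩ := CfsgLib.KnownSimple.exists_matrix_orderOf_eq (F := F) 6 (by norm_num)
  let blk : Matrix (Fin 6) (Fin 6) F →* Matrix (Fin 6 ⊕ Fin 1) (Fin 6 ⊕ Fin 1) F :=
    { toFun := fun A => Matrix.fromBlocks A 0 0 1
      map_one' := Matrix.fromBlocks_one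
      map_mul' := fun A B => by simp [Matrix.fromBlocks_multiply] }
  have hblk : Function.Injective blk := fun A B e => (Matrix.fromBlocks_inj.1 e).1
  let e : Fin 6 ⊕ Fin 1 ≃ n := finSumFinEquiv.trans (Fintype.equivFinOfCardEq hn).symm
  let ψ : Matrix (Fin 6) (Fin 6) F →* Matrix n n F :=
    (Matrix.reindexAlgEquiv F F e).toMulEquiv.toMonoidHom.comp blk
  have hψ : Function.Injective ψ := (Matrix.reindexAlgEquiv F F e).injective.comp hblk
  let c : GL n F := Units.map ψ hM.unit
  have hc : orderOf c = q ^ 6 - 1 := by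
    rw [← orderOf_units]
    show orderOf (ψ M) = _
    rw [orderOf_injective ψ hψ, ho]
  intro P hP
  refine isCyclic_of_big_element c ?_ hP
  rw [hc, natCard_GL_seven n hn]
  have hne : ∀ i : Fin 7, q ^ 7 - q ^ (i : ℕ) ≠ 0 := fun i =>
    Nat.sub_ne_zero_of_lt (Nat.pow_lt_pow_right h2 i.2)
  rw [Nat.factorization_prod fun i _ => hne i, Finsupp.coe_finset_sum, Finset.sum_apply,
    Finset.sum_eq_single (⟨1, by norm_num⟩ : Fin 7)]
  · show p ^ (q ^ 7 - q ^ 1).factorization p ∣ q ^ 6 - 1
    have e : q ^ 7 - q ^ 1 = q * (q ^ 6 - 1) := by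
      rw [Nat.mul_sub, mul_one, pow_one, ← pow_succ']
    rw [e, Nat.factorization_mul (by omega) (Nat.sub_ne_zero_of_lt (Nat.one_lt_pow (by norm_num) h2)),
      Finsupp.add_apply, Nat.factorization_eq_zero_of_not_dvd hq, zero_add]
    exact Nat.ordProj_dvd _ _
  · intro i _ hi
    refine Nat.factorization_eq_zero_of_not_dvd fun hd => hi (Fin.ext ?_)
    have e : q ^ 7 - q ^ (i : ℕ) = q ^ (i : ℕ) * (q ^ (7 - (i : ℕ)) - 1) := by
      rw [Nat.mul_sub, mul_one, ← pow_add, Nat.add_sub_cancel' i.2.le]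
    rw [e, hp.dvd_mul] at hd
    rcases hd with h | h
    · exact absurd (hp.dvd_of_dvd_pow h) hq
    · have h7 := h6 (7 - (i : ℕ)) (by omega) (by omega) h
      show (i : ℕ) = 1
      omega
  · intro h; exact absurd (Finset.mem_univ _) h

namespace TwG2

variable {K : Type v} [Field K] [Fintype K] {m : ℕ} (C : Ctx K m)
include C

theorem Ctx.sylow_cyclic (hm : 1 ≤ m) {p : ℕ} [Fact p.Prime] (hp : 3 < p)
    (P : Subgroup ↥(twistedG2 K (3 ^ m))) (hP : IsPGroup p P) : IsCyclic P := by
  classical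
  have hp' : p.Prime := Fact.out
  set q := 3 ^ (2 * m + 1) with hq
  have hq3 : ¬ p ∣ q := fun h => by
    have := (Nat.prime_dvd_prime_iff_eq hp' Nat.prime_three).1 (hp'.dvd_of_dvd_pow h)
    omega
  have h27 : 3 ^ 3 ≤ q := Nat.pow_le_pow_right (by norm_num) (by omega)
  have hcard : Nat.card ↥(twistedG2 K (3 ^ m)) = q ^ 3 * (q - 1) * (q ^ 3 + 1) := C.card_twisted
  have hKq : Fintype.card K = q := C.card
  have hzq : ((q : ℕ) : ZMod p) ≠ 0 := fun e => hq3 ((ZMod.natCast_eq_zero_iff q p).1 e)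
  have cast_sub : ∀ k, ((q ^ k - 1 : ℕ) : ZMod p) = ((q : ℕ) : ZMod p) ^ k - 1 := fun k => by
    rw [Nat.cast_sub (Nat.one_le_pow _ _ (by omega))]; push_cast; rfl
  have hfact : (Nat.card ↥(twistedG2 K (3 ^ m))).factorization p =
      (q - 1).factorization p + (q ^ 3 + 1).factorization p := by
    rw [hcard, Nat.factorization_mul (mul_ne_zero (pow_ne_zero _ (by omega)) (by omega)) (by omega),
      Nat.factorization_mul (pow_ne_zero _ (by omega)) (by omega), Finsupp.add_apply,
      Finsupp.add_apply, Nat.factorization_pow, Finsupp.smul_apply,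
      Nat.factorization_eq_zero_of_not_dvd hq3, smul_zero, zero_add]
  have h2p : ((2 : ℕ) : ZMod p) ≠ 0 := fun e => by
    have := Nat.le_of_dvd (by norm_num) ((ZMod.natCast_eq_zero_iff 2 p).1 e); omega
  by_cases h1 : p ∣ q - 1
  · -- the split torus
    obtain ⟨g, hg⟩ := IsCyclic.exists_ofOrder_eq_natCard (α := Kˣ)
    refine isCyclic_of_big_element
      (⟨C.par g, (C.range_le ⟨g, rfl⟩).2⟩ : ↥(twistedG2 K (3 ^ m))) ?_ hP
    rw [hfact, ← Subgroup.orderOf_coe, orderOf_injective C.par C.par_injective, hg,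
      Nat.card_units, Nat.card_eq_fintype_card, hKq,
      Nat.factorization_eq_zero_of_not_dvd (n := q ^ 3 + 1), add_zero]
    · exact Nat.ordProj_dvd _ _
    intro h
    apply h2p
    have e1 : ((q : ℕ) : ZMod p) = 1 := by
      have := (ZMod.natCast_eq_zero_iff (q ^ 1 - 1) p).2 (by rwa [pow_one])
      rw [cast_sub, pow_one, sub_eq_zero] at this
      exact this
    have := (ZMod.natCast_eq_zero_iff (q ^ 3 + 1) p).2 h
    push_cast at this
    rw [e1, one_pow] at this
    rw [Nat.cast_ofNat]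
    linear_combination this
  rw [Nat.factorization_eq_zero_of_not_dvd h1, zero_add] at hfact
  by_cases h2 : p ∣ q + 1
  · -- the subgroup `PSL₂(q)`
    haveI : CharP K 3 := by
      obtain ⟨r, hr⟩ := CharP.exists K
      have h3 : ((3 : ℕ) : K) = 0 := by exact_mod_cast C.three_eq_zero
      have hd := (CharP.cast_eq_zero_iff K r 3).1 h3
      rcases (Nat.dvd_prime Nat.prime_three).1 hd with e | e
      · exact absurd e (CharP.char_ne_one K r)
      · exact e ▸ hr
    haveI : Fact (Nat.Prime 3) := ⟨Nat.prime_three⟩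
    obtain ⟨φ, hmem, hup, hnw, -, hdiag⟩ := C.exists_pairHom
    obtain ⟨hker, -⟩ := C.ker_pairHom hup hnw hdiag
    let R : Sylow p SL(2, K) := default
    haveI : IsCyclic R :=
      CfsgLib.Classical.sylow_odd_cyclic_SL_two 3 p (by omega) (by omega) R
    obtain ⟨g, hg⟩ := IsCyclic.exists_ofOrder_eq_natCard (α := R)
    refine isCyclic_of_big_element (⟨φ g, hmem g⟩ : ↥(twistedG2 K (3 ^ m))) ?_ hP
    have ho : orderOf (φ g) = orderOf (g : SL(2, K)) := by
      refine orderOf_eq_orderOf_iff.2 fun k => ?_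
      constructor
      · intro h
        rw [← map_pow, ← MonoidHom.mem_ker, hker] at h
        obtain ⟨r, hr, hrg⟩ := Matrix.SpecialLinearGroup.mem_center_iff.1 h
        have h2k : ((g : SL(2, K)) ^ k) ^ 2 = 1 := by
          apply Subtype.ext
          rw [Matrix.SpecialLinearGroup.coe_pow, ← hrg, ← map_pow, pow_two,
            show r * r = 1 by rw [← pow_two, ← Fintype.card_fin 2]; exact hr, map_one]
          rfl
        obtain ⟨j, hj⟩ := IsPGroup.iff_orderOf.1 R.isPGroup' g
        rw [← pow_mul, ← orderOf_dvd_iff_pow_eq_one, Subgroup.orderOf_coe, hj] at h2k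
        rw [← orderOf_dvd_iff_pow_eq_one, Subgroup.orderOf_coe, hj]
        exact ((Nat.coprime_primes hp' Nat.prime_two).2 (by omega)).pow_left j |>.dvd_of_dvd_mul_right h2k
      · intro h
        rw [← map_pow, h, map_one]
    rw [hfact, ← Subgroup.orderOf_coe, ho, Subgroup.orderOf_coe, hg, R.card_eq_multiplicity,
      CfsgLib.Classical.card_SL_two hKq,
      Nat.factorization_mul (by omega) (mul_ne_zero (by omega) (by omega)),
      Nat.factorization_mul (by omega) (by omega), Finsupp.add_apply, Finsupp.add_apply,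
      Nat.factorization_eq_zero_of_not_dvd hq3, Nat.factorization_eq_zero_of_not_dvd h1, zero_add,
      zero_add, show q ^ 3 + 1 = (q + 1) * (q * (q - 1) + 1) by
        obtain ⟨r, hr⟩ : ∃ r, q = r + 1 := ⟨q - 1, by omega⟩
        rw [hr, Nat.add_sub_cancel]; ring,
      Nat.factorization_mul (by omega) (by omega), Finsupp.add_apply,
      Nat.factorization_eq_zero_of_not_dvd (n := q * (q - 1) + 1), add_zero]
    intro h
    have e1 : ((q : ℕ) : ZMod p) = -1 := by
      have := (ZMod.natCast_eq_zero_iff (q + 1) p).2 h2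
      push_cast at this
      exact eq_neg_of_add_eq_zero_left this
    have := (ZMod.natCast_eq_zero_iff (q * (q - 1) + 1) p).2 h
    rw [Nat.cast_add, Nat.cast_mul, Nat.cast_sub (by omega), Nat.cast_one, e1] at this
    have h3 : ((3 : ℕ) : ZMod p) = 0 := by rw [Nat.cast_ofNat]; linear_combination this
    have := Nat.le_of_dvd (by norm_num) ((ZMod.natCast_eq_zero_iff 3 p).1 h3)
    omega
  by_cases h3 : p ∣ q ^ 3 + 1
  swap
  · rw [Nat.factorization_eq_zero_of_not_dvd h3] at hfact
    exact isCyclic_of_big_element 1 (by rw [hfact, pow_zero]; exact one_dvd _) hP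
  -- the remaining primes
  set z : ZMod p := ((q : ℕ) : ZMod p) with hz
  have z3 : z ^ 3 = -1 := by
    have := (ZMod.natCast_eq_zero_iff (q ^ 3 + 1) p).2 h3
    push_cast at this
    exact eq_neg_of_add_eq_zero_left this
  have z1 : z ≠ 1 := fun e => h1 ((ZMod.natCast_eq_zero_iff (q - 1) p).1 (by
    rw [Nat.cast_sub (by omega), Nat.cast_one, ← hz, e, sub_self]))
  have zm : z ≠ -1 := fun e => h2 ((ZMod.natCast_eq_zero_iff (q + 1) p).1 (by
    rw [Nat.cast_add, Nat.cast_one, ← hz, e, neg_add_cancel]))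
  have h6 : ∀ k ≤ 7, 1 ≤ k → p ∣ Fintype.card K ^ k - 1 → k = 6 := by
    intro k hk7 hk1 hd
    rw [hKq, ← ZMod.natCast_eq_zero_iff, cast_sub, sub_eq_zero] at hd
    have h2ne : (2 : ZMod p) ≠ 0 := by rw [← Nat.cast_ofNat]; exact h2p
    interval_cases k
    · exact absurd (by rwa [pow_one] at hd) z1
    · rw [pow_two, mul_self_eq_one_iff] at hd
      exact absurd hd (not_or.2 ⟨z1, zm⟩)
    · exact absurd (z3.symm.trans hd) (fun e => h2ne (by linear_combination -e))
    · rw [show z ^ 4 = z ^ 3 * z by ring, z3, neg_one_mul] at hd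
      exact absurd (neg_eq_iff_eq_neg.1 hd) zm
    · rw [show z ^ 5 = z ^ 3 * z ^ 2 by ring, z3, neg_one_mul] at hd
      exact absurd (show z = 1 ∨ z = -1 by
        have : z ^ 4 = 1 := by linear_combination (z ^ 2 - 1) * (-hd)
        rw [show z ^ 4 = z ^ 3 * z by ring, z3, neg_one_mul] at this
        exact Or.inr (neg_eq_iff_eq_neg.1 this)) (not_or.2 ⟨z1, zm⟩)
    · rfl
    · rw [show z ^ 7 = z ^ 3 * z ^ 3 * z by ring, z3, neg_mul_neg, one_mul, one_mul] at hd
      exact absurd hd z1
  haveI : IsCyclic (P.map C.seven) :=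
    cyclic_GL_seven Sh card_short (by rw [hKq]; exact hq3) h6 _ (hP.map C.seven)
  exact isCyclic_of_injective
    ((Subgroup.equivMapOfInjective P C.seven (C.seven_injective hm)).toMonoidHom)
    (MulEquiv.injective _)

end TwG2

end CfsgLib.Chev
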