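/-
General facts used in counting with self-centralising cyclic subgroups.
-/
import Mathlib

set_option autoImplicit false

namespace CfsgLib.Chev.HallAux

variable {G : Type*} [Group G]

/-- An element of `p`-power order is conjugate into every subgroup of index prime to `p`. -/
theorem exists_conj_mem [Finite G] {p : ℕ} [Fact p.Prime] (A : Subgroup G) (hA : ¬ p ∣ A.index)
    {x : G} {n : ℕ} (hx : x ^ p ^ n = 1) : ∃ g : G, g⁻¹ * x * g ∈ A := by
  obtain ⟨j, -, hj⟩ := (Nat.dvd_prime_pow Fact.out).1 (orderOf_dvd_of_pow_eq_one hx)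
  have hP : IsPGroup p (Subgroup.zpowers x) :=
    IsPGroup.of_card (n := j) (by rw [Nat.card_zpowers, hj])
  obtain ⟨c, hc⟩ := hP.nonempty_fixed_point_of_prime_not_dvd_card (G ⧸ A)
    (by rwa [← Subgroup.index_eq_card])
  obtain ⟨g, rfl⟩ := QuotientGroup.mk_surjective c
  refine ⟨g, ?_⟩
  have h := MulAction.mem_fixedPoints.1 hc ⟨x, Subgroup.mem_zpowers x⟩
  change x • (QuotientGroup.mk g : G ⧸ A) = QuotientGroup.mk g at h
  rw [MulAction.Quotient.smul_mk, QuotientGroup.eq, smul_eq_mul] at h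
  have := inv_mem h
  rwa [show ((x * g)⁻¹ * g)⁻¹ = g⁻¹ * x * g by group] at this

theorem centralizer_conj (g x z : G) :
    z ∈ Subgroup.centralizer ({g * x * g⁻¹} : Set G) ↔
      g⁻¹ * z * g ∈ Subgroup.centralizer ({x} : Set G) := by
  rw [Subgroup.mem_centralizer_singleton_iff, Subgroup.mem_centralizer_singleton_iff]
  constructor <;> intro h
  · calc g⁻¹ * z * g * x = g⁻¹ * (z * (g * x * g⁻¹)) * g := by group
      _ = x * (g⁻¹ * z * g) := by rw [h]; group
  · calc z * (g * x * g⁻¹) = g * (g⁻¹ * z * g * x) * g⁻¹ := by group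
      _ = g * x * g⁻¹ * z := by rw [h]; group

/-- The normaliser of a subgroup normalises its centraliser. -/
theorem normalizer_le_normalizer_centralizer (A : Subgroup G) :
    Subgroup.normalizer (A : Set G) ≤
      Subgroup.normalizer ((Subgroup.centralizer (A : Set G) : Subgroup G) : Set G) := by
  intro n hn
  rw [Subgroup.mem_normalizer_iff]
  intro c
  rw [Subgroup.mem_centralizer_iff, Subgroup.mem_centralizer_iff]
  constructor <;> intro h a ha
  · have := h _ ((Subgroup.mem_normalizer_iff''.1 hn a).1 ha)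
    calc a * (n * c * n⁻¹) = n * ((n⁻¹ * a * n) * c) * n⁻¹ := by group
      _ = _ := by rw [this]; group
  · have := h _ ((Subgroup.mem_normalizer_iff.1 hn a).1 ha)
    calc a * c = n⁻¹ * ((n * a * n⁻¹) * (n * c * n⁻¹)) * n := by group
      _ = _ := by rw [this]; group

/-- The normaliser of a cyclic subgroup normalises all of its subgroups. -/
theorem normalizer_le_of_cyclic {A A₀ : Subgroup G} [IsCyclic A] (h : A₀ ≤ A) :
    Subgroup.normalizer (A : Set G) ≤ Subgroup.normalizer (A₀ : Set G) := by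
  have key : ∀ n ∈ Subgroup.normalizer (A : Set G), ∀ u ∈ A₀, n * u * n⁻¹ ∈ A₀ := by
    intro n hn u hu
    obtain ⟨⟨a, ha⟩, hgen⟩ := IsCyclic.exists_generator (α := A)
    obtain ⟨k, hk⟩ := Subgroup.mem_zpowers_iff.1
      (hgen ⟨n * a * n⁻¹, (Subgroup.mem_normalizer_iff.1 hn a).1 ha⟩)
    obtain ⟨j, hj⟩ := Subgroup.mem_zpowers_iff.1 (hgen ⟨u, h hu⟩)
    have hk' : a ^ k = n * a * n⁻¹ := congrArg Subtype.val hk
    have hj' : a ^ j = u := congrArg Subtype.val hj
    have e : n * u * n⁻¹ = u ^ k := by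
      rw [← hj', ← conj_zpow, ← hk', ← zpow_mul, ← zpow_mul, mul_comm]
    exact e ▸ zpow_mem hu k
  intro n hn
  rw [Subgroup.mem_normalizer_iff]
  refine fun u => ⟨key n hn u, fun hu => ?_⟩
  have := key n⁻¹ (inv_mem hn) _ hu
  rwa [show n⁻¹ * (n * u * n⁻¹) * n⁻¹⁻¹ = u by group] at this

/-- Counting the conjugates of a set of elements with a common centraliser. -/
theorem card_sweep [Finite G] {A : Subgroup G} (S : Set G) (hS : S ⊆ A)
    (hC : ∀ s ∈ S, Subgroup.centralizer ({s} : Set G) = A)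
    (hN : ∀ n ∈ Subgroup.normalizer (A : Set G), ∀ s ∈ S, n * s * n⁻¹ ∈ S) :
    {z : G | ∃ g : G, g⁻¹ * z * g ∈ S}.ncard * Nat.card ↥(Subgroup.normalizer (A : Set G)) =
      Nat.card G * S.ncard := by
  classical
  set N := Subgroup.normalizer (A : Set G) with hNd
  set T := {z : G | ∃ g : G, g⁻¹ * z * g ∈ S} with hT
  rw [← Nat.card_coe_set_eq, ← Nat.card_coe_set_eq, ← Nat.card_prod, ← Nat.card_prod]
  choose g hg using fun z : ↥T => z.2
  refine Nat.card_eq_of_bijective (fun p : ↥T × N =>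
    ((g p.1 * p.2.1, ⟨(p.2.1)⁻¹ * ((g p.1)⁻¹ * p.1.1 * g p.1) * p.2.1, by
      have := hN _ (inv_mem p.2.2) _ (hg p.1)
      rwa [inv_inv] at this⟩) : G × ↥S)) ⟨?_, ?_⟩
  · intro p r e
    have e1 := congrArg Prod.fst e
    have e2 := congrArg (fun z => (Prod.snd z).1) e
    simp only at e1 e2
    have hz : p.1.1 = r.1.1 := by
      calc p.1.1 = (g p.1 * p.2.1) * ((p.2.1)⁻¹ * ((g p.1)⁻¹ * p.1.1 * g p.1) * p.2.1) *
            (g p.1 * p.2.1)⁻¹ := by group
        _ = (g r.1 * r.2.1) * ((r.2.1)⁻¹ * ((g r.1)⁻¹ * r.1.1 * g r.1) * r.2.1) *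
            (g r.1 * r.2.1)⁻¹ := by rw [e1, e2]
        _ = r.1.1 := by group
    have h1 : p.1 = r.1 := Subtype.ext hz
    refine Prod.ext h1 (Subtype.ext ?_)
    rw [h1] at e1
    exact mul_left_cancel e1
  · rintro ⟨h, c, hc⟩
    set z : ↥T := ⟨h * c * h⁻¹, h, by
      rwa [show h⁻¹ * (h * c * h⁻¹) * h = c by group]⟩ with hz
    have hn : (g z)⁻¹ * h ∈ N := by
      rw [hNd, Subgroup.mem_normalizer_iff]
      intro u
      have h2 := hC _ (hg z)
      have h1 := hC _ hc
      have e : (g z)⁻¹ * z.1 * g z = ((g z)⁻¹ * h) * c * ((g z)⁻¹ * h)⁻¹ := by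
        show (g z)⁻¹ * (h * c * h⁻¹) * g z = _
        group
      rw [e] at h2
      conv_rhs => rw [← h2, centralizer_conj, h1]
      rw [show ((g z)⁻¹ * h)⁻¹ * (((g z)⁻¹ * h) * u * ((g z)⁻¹ * h)⁻¹) * ((g z)⁻¹ * h) = u by group]
    refine ⟨(z, ⟨_, hn⟩), Prod.ext ?_ (Subtype.ext ?_)⟩
    · show g z * ((g z)⁻¹ * h) = h
      group
    · show ((g z)⁻¹ * h)⁻¹ * ((g z)⁻¹ * (h * c * h⁻¹) * g z) * ((g z)⁻¹ * h) = c
      group

/-- A prime order power. -/
theorem exists_prime_power [Finite G] (g : G) {p : ℕ} (hp : p ∣ orderOf g) :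
    ∃ x : G, orderOf x = p ∧ Commute g x ∧ x ∈ Subgroup.zpowers g := by
  obtain ⟨d, hd⟩ := hp
  have hpos := orderOf_pos g
  have hd0 : d ≠ 0 := fun e => by rw [hd, e, mul_zero] at hpos; exact lt_irrefl _ hpos
  refine ⟨g ^ d, ?_, Commute.self_pow g d, Subgroup.npow_mem_zpowers g d⟩
  rw [orderOf_pow' g hd0, hd, Nat.gcd_eq_right (dvd_mul_left d p),
    Nat.mul_div_cancel _ (Nat.pos_of_ne_zero hd0)]

/-- Finite commutative subgroups all of whose Sylow subgroups are cyclic are cyclic. -/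
theorem isCyclic_of_comm [Finite G] (A : Subgroup G)
    (hcomm : ∀ a ∈ A, ∀ b ∈ A, a * b = b * a)
    (hcyc : ∀ (p : ℕ) [Fact p.Prime], p ∣ Nat.card A → ∀ P : Subgroup G, IsPGroup p P → P ≤ A →
      IsCyclic P) : IsCyclic A := by
  haveI : Group.IsNilpotent A := by
    letI : CommGroup A :=
      { A.toGroup with mul_comm := fun a b => Subtype.ext (hcomm a a.2 b b.2) }
    exact CommGroup.isNilpotent
  haveI : IsZGroup A := ⟨fun p hp P => by
    haveI := Fact.mk hp
    by_cases h : p ∣ Nat.card A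
    · haveI := hcyc p h ((P : Subgroup A).map A.subtype) (P.isPGroup'.map A.subtype)
        (by rintro _ ⟨a, -, rfl⟩; exact a.2)
      exact isCyclic_of_injective
        (Subgroup.equivMapOfInjective (P : Subgroup A) A.subtype A.subtype_injective).toMonoidHom
        (MulEquiv.injective _)
    · have hP : (P : Subgroup A) = ⊥ := by
        rw [← Subgroup.card_eq_one, P.card_eq_multiplicity,
          Nat.factorization_eq_zero_of_not_dvd h, pow_zero]
      haveI : Subsingleton ↥(P : Subgroup A) := by rw [hP]; infer_instance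
      exact isCyclic_of_subsingleton⟩
  infer_instance

end CfsgLib.Chev.HallAux
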