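/-
Counting fixed points of the action of the groups of type ²G₂ on the cosets of a Borel subgroup.
-/
import Mathlib
import Cfsg.Agent.S1153
import Cfsg.Agent.Lib.Chev.Twist.G2Frame
import Cfsg.Agent.Lib.Chev.Twist.HallAux
import Cfsg.Agent.Lib.Classical.Dickson.MinIndex
import Cfsg.Agent.Lib.Invol.Counting

set_option autoImplicit false
set_option maxRecDepth 4000

namespace CfsgLib.Chev

open Cfsg.Lie
open scoped MatrixGroups

universe v

namespace TwG2

variable {K : Type v} [Field K] [Fintype K] {m : ℕ} (C : Ctx K m)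

/-- The group. -/
abbrev Ctx.Gr (_C : Ctx K m) : Type v := ↥(twistedG2 K (3 ^ m))

/-- The order of the field. -/
abbrev Ctx.q (_C : Ctx K m) : ℕ := 3 ^ (2 * m + 1)

/-- The value `q² - q + 1`. -/
abbrev Ctx.six (C : Ctx K m) : ℕ := C.q * (C.q - 1) + 1

/-- The torus as a subgroup of the group. -/
noncomputable def Ctx.parG (C : Ctx K m) : Kˣ →* C.Gr :=
  C.par.codRestrict _ fun b => (C.range_le ⟨b, rfl⟩).2

/-- The unipotent elements in the group. -/
noncomputable def Ctx.clG (C : Ctx K m) (t u v : K) : C.Gr := ⟨C.cl t u v, (C.cl_mem t u v).1⟩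

/-- The standard point. -/
def Ctx.base (C : Ctx K m) : C.Gr ⧸ C.bor := QuotientGroup.mk 1

/-- The elements without fixed points. -/
def Ctx.fpf (C : Ctx K m) : Set C.Gr := {g | ∀ x : C.Gr ⧸ C.bor, g • x ≠ x}

include C

theorem Ctx.parG_injective : Function.Injective C.parG := fun _ _ e =>
  C.par_injective (congrArg Subtype.val e)

theorem Ctx.q_facts (hm : 1 ≤ m) : 27 ≤ C.q ∧ C.q % 8 = 3 ∧ C.q % 3 = 0 := by
  refine ⟨Nat.pow_le_pow_right (by norm_num : 0 < 3) (show 3 ≤ 2 * m + 1 by omega), ?_, ?_⟩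
  · show 3 ^ (2 * m + 1) % 8 = 3
    rw [pow_succ, pow_mul, Nat.mul_mod, Nat.pow_mod]; norm_num
  · show 3 ^ (2 * m + 1) % 3 = 0
    obtain ⟨c, hc⟩ := dvd_pow_self 3 (show 2 * m + 1 ≠ 0 by omega)
    omega

theorem Ctx.card_Gr : Nat.card C.Gr = C.q ^ 3 * ((C.q - 1) * ((C.q + 1) * C.six)) := by
  rw [show Nat.card C.Gr = _ from C.card_twisted]
  obtain ⟨r, hr⟩ : ∃ r, C.q = r + 1 := ⟨C.q - 1, by
    have : 1 ≤ C.q := Nat.one_le_pow _ _ (by norm_num); omega⟩
  rw [Ctx.six, show (3 : ℕ) ^ (2 * m + 1) = C.q from rfl, hr, Nat.add_sub_cancel]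
  ring

theorem Ctx.card_bor : Nat.card C.bor = C.q ^ 3 * (C.q - 1) := by
  rw [Nat.card_congr (Subgroup.subgroupOfEquivOfLe inf_le_right).toEquiv, inf_comm, C.sys.card_B]
  have hU := C.sys.card_posU (e := 2) (q := C.q) C.card_orbit
  rw [show chevG2.nroots / 2 = 3 * 2 by decide +kernel, pow_mul] at hU
  have hU' := Nat.pow_left_injective two_ne_zero hU
  rw [show chevG2.nroots / 2 = 3 * 2 by decide +kernel, hU', inf_comm, C.card_torus]

theorem Ctx.card_points (hm : 1 ≤ m) : Nat.card (C.Gr ⧸ C.bor) = C.q ^ 3 + 1 := by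
  obtain ⟨h27, -, -⟩ := C.q_facts hm
  have h := Subgroup.card_mul_index C.bor
  rw [C.card_bor, C.card_Gr, Subgroup.index_eq_card] at h
  have h' : C.q ^ 3 + 1 = (C.q + 1) * C.six := by
    obtain ⟨r, hr⟩ : ∃ r, C.q = r + 1 := ⟨C.q - 1, by omega⟩
    rw [Ctx.six, hr, Nat.add_sub_cancel]; ring
  rw [h']
  refine Nat.eq_of_mul_eq_mul_left (show 0 < C.q ^ 3 * (C.q - 1) from
    Nat.mul_pos (pow_pos (by omega) 3) (by omega)) ?_
  rw [h]; ring

theorem Ctx.exists_move {x y : C.Gr ⧸ C.bor} (hxy : x ≠ y) :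
    ∃ g : C.Gr, g • C.base = x ∧ g • C.opp = y := by
  obtain ⟨g, rfl⟩ := QuotientGroup.mk_surjective x
  rcases C.eq_smul_opp (g⁻¹ • y) with e | ⟨u, hu, e⟩
  · refine absurd ?_ hxy
    rw [inv_smul_eq_iff] at e
    rw [e, MulAction.Quotient.smul_mk, smul_eq_mul, mul_one]
  · refine ⟨g * u, ?_, ?_⟩
    · rw [← smul_smul, show u • C.base = C.base from (C.stab_base u).2 (DataG2.facts.pos_le_borel
        (DataG2.facts.posUnipotent_eq (F := K) ▸ hu)), Ctx.base,
        MulAction.Quotient.smul_mk, smul_eq_mul, mul_one]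
    · rw [← smul_smul, ← e, smul_inv_smul]

theorem Ctx.opp_ne_base : C.opp ≠ C.base := by
  intro e
  have h1 : C.clG 0 1 0 • C.opp = (1 : C.Gr) • C.opp := by
    rw [e, one_smul]
    exact (C.stab_base _).2 (DataG2.facts.pos_le_borel
      (DataG2.facts.posUnipotent_eq (F := K) ▸ (C.mem_posU_iff.2 ⟨0, 1, 0, rfl⟩).1))
  have h2 := C.borel_inf_conj (C.mem_posU_iff.2 ⟨0, 1, 0, rfl⟩).1
    (by simpa [Ctx.clG] using (C.smul_opp_eq 1 (C.clG 0 1 0)).1 h1.symm)
  rw [← C.cl_zero] at h2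
  exact one_ne_zero (C.cl_inj h2).2.1

theorem Ctx.card_stab (x : C.Gr ⧸ C.bor) :
    Nat.card (MulAction.stabilizer C.Gr x) = C.q ^ 3 * (C.q - 1) := by
  obtain ⟨g, rfl⟩ := QuotientGroup.mk_surjective x
  rw [show (QuotientGroup.mk g : C.Gr ⧸ C.bor) = g • QuotientGroup.mk 1 by
      rw [MulAction.Quotient.smul_mk, smul_eq_mul, mul_one],
    MulAction.stabilizer_smul_eq_stabilizer_map_conj,
    Subgroup.card_map_of_injective (MulEquiv.injective _), ← C.card_bor]
  refine congrArg (fun S : Subgroup C.Gr => Nat.card S) ?_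
  exact MulAction.stabilizer_quotient (H := C.bor)

theorem Ctx.stab_pair : MulAction.stabilizer C.Gr C.base ⊓ MulAction.stabilizer C.Gr C.opp =
    C.parG.range := by
  ext g
  refine ⟨fun h => ?_, ?_⟩
  · obtain ⟨b, hb⟩ := C.stab_two (MulAction.mem_stabilizer_iff.1 h.1)
      (MulAction.mem_stabilizer_iff.1 h.2)
    exact ⟨b, Subtype.ext hb.symm⟩
  · rintro ⟨b, rfl⟩
    exact ⟨MulAction.mem_stabilizer_iff.2 (C.par_mem_stab b).1,
      MulAction.mem_stabilizer_iff.2 (C.par_mem_stab b).2⟩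

theorem Ctx.card_stab_two {x y : C.Gr ⧸ C.bor} (hxy : x ≠ y) :
    Nat.card ↥(MulAction.stabilizer C.Gr x ⊓ MulAction.stabilizer C.Gr y) = C.q - 1 := by
  obtain ⟨g, rfl, rfl⟩ := C.exists_move hxy
  rw [MulAction.stabilizer_smul_eq_stabilizer_map_conj,
    MulAction.stabilizer_smul_eq_stabilizer_map_conj,
    ← Subgroup.map_inf _ _ _ (MulAut.conj g).injective,
    Subgroup.card_map_of_injective (MulEquiv.injective _), C.stab_pair,
    ← Nat.card_congr (MonoidHom.ofInjective C.parG_injective).toEquiv,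
    Nat.card_units, Nat.card_eq_fintype_card, C.card]

/-- An element fixing three points is trivial or an involution. -/
theorem Ctx.fix_three {g : C.Gr} {x y z : C.Gr ⧸ C.bor} (hxy : x ≠ y) (hxz : x ≠ z) (hyz : y ≠ z)
    (hx : g • x = x) (hy : g • y = y) (hz : g • z = z) : g * g = 1 := by
  set S := MulAction.stabilizer C.Gr x ⊓ MulAction.stabilizer C.Gr y ⊓ MulAction.stabilizer C.Gr z
  have h := (Cfsg.Agent.S1153.result C.card).1 x y z hxy hxz hyz
  have hg : g ∈ S := ⟨⟨hx, hy⟩, hz⟩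
  have hd : orderOf g ∣ Nat.card S := by
    rw [← Subgroup.orderOf_mk g hg]; exact orderOf_dvd_natCard _
  have hle : Nat.card S ≤ 2 := h
  have hpos : 0 < Nat.card S := Nat.card_pos
  rw [← pow_two]
  refine orderOf_dvd_iff_pow_eq_one.1 (hd.trans ?_)
  interval_cases (Nat.card S) <;> norm_num

theorem Ctx.involution_conj (hm : 1 ≤ m) {t : C.Gr} (h1 : t ≠ 1) (h2 : t * t = 1) :
    ∃ g, g * C.parG (-1) * g⁻¹ = t := by
  obtain ⟨φ, hmem, E, F, -, -, -, ha, -, -, -⟩ := C.exists_frame hm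
  obtain ⟨g, hg⟩ := F.involution_conj h1 h2
  refine ⟨g, ?_⟩
  rw [← hg, show F.a = C.parG (-1) from Subtype.ext ha]

theorem Ctx.card_fix_involution (hm : 1 ≤ m) {t : C.Gr} (h1 : t ≠ 1) (h2 : t * t = 1) :
    Nat.card {x : C.Gr ⧸ C.bor // t • x = x} = C.q + 1 := by
  classical
  obtain ⟨g, rfl⟩ := C.involution_conj hm h1 h2
  rw [← Nat.card_congr (Equiv.subtypeEquiv (MulAction.toPerm g)
    (p := fun x => C.parG (-1) • x = x) (q := fun x => (g * C.parG (-1) * g⁻¹) • x = x) fun x => by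
      rw [MulAction.toPerm_apply, ← smul_smul, inv_smul_smul, ← smul_smul, smul_left_cancel_iff])]
  have hU : ∀ u, C.parG (-1) • (C.clG 0 u 0 • C.opp) = C.clG 0 u 0 • C.opp := fun u =>
    (C.par_smul_iff (-1) (u := C.clG 0 u 0) (C.mem_posU_iff.2 ⟨0, u, 0, rfl⟩).1).2 (C.neg_one_comm u)
  let f : Option K → {x : C.Gr ⧸ C.bor // C.parG (-1) • x = x} := fun o => o.elim
    ⟨C.base, (C.par_mem_stab (-1)).1⟩ fun u => ⟨C.clG 0 u 0 • C.opp, hU u⟩
  have hne : ∀ u, C.clG 0 u 0 • C.opp ≠ C.base := fun u e => C.opp_ne_base (by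
    rw [← smul_left_cancel_iff (C.clG 0 u 0), e]
    exact ((C.stab_base _).2 (DataG2.facts.pos_le_borel
      (DataG2.facts.posUnipotent_eq (F := K) ▸ (C.mem_posU_iff.2 ⟨0, u, 0, rfl⟩).1))).symm)
  rw [← Nat.card_eq_of_bijective f ⟨?_, ?_⟩, Finite.card_option, Nat.card_eq_fintype_card, C.card]
  · intro o o' h
    rcases o with - | u <;> rcases o' with - | u'
    · rfl
    · exact absurd (congrArg Subtype.val h).symm (hne u')
    · exact absurd (congrArg Subtype.val h) (hne u)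
    · have h' := (C.smul_opp_eq _ _).1 (congrArg Subtype.val h)
      have hP : ∀ u, C.cl 0 u 0 ∈ chevG2.posUnipotent K := fun u =>
        (C.mem_posU_iff.2 ⟨0, u, 0, rfl⟩).1
      have := C.borel_inf_conj (Subgroup.mul_mem _ (Subgroup.inv_mem _ (hP u)) (hP u')) h'
      exact congrArg some (C.cl_inj (inv_mul_eq_one.1 this)).2.1
  · rintro ⟨x, hx⟩
    rcases C.eq_smul_opp x with e | ⟨u, hu, rfl⟩
    · exact ⟨none, Subtype.ext e.symm⟩
    obtain ⟨t', u', v', e⟩ := C.mem_posU_iff.1 ⟨hu, u.2⟩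
    have h := (C.par_smul_iff (-1) hu).1 hx
    rw [e] at h
    obtain ⟨rfl, rfl⟩ := C.neg_one_fix h
    exact ⟨some u', Subtype.ext (congrArg (· • C.opp) (Subtype.ext e.symm))⟩

theorem Ctx.card_centralizer_involution {t : C.Gr} (hm : 1 ≤ m) (h1 : t ≠ 1) (h2 : t * t = 1) :
    Nat.card (Subgroup.centralizer ({t} : Set C.Gr)) = C.q * ((C.q - 1) * (C.q + 1)) := by
  obtain ⟨g, rfl⟩ := C.involution_conj hm h1 h2
  obtain ⟨φ, hmem, hup, hnw, -, hdiag⟩ := C.exists_pairHom
  obtain ⟨e⟩ := C.centralizer_equiv hup hnw hdiag hmem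
  have hs : Subgroup.centralizer ({g * C.parG (-1) * g⁻¹} : Set C.Gr) =
      (Subgroup.centralizer ({C.parG (-1)} : Set C.Gr)).map (MulAut.conj g).toMonoidHom := by
    ext z
    rw [HallAux.centralizer_conj, Subgroup.mem_map_equiv, ← MulAut.inv_def, ← map_inv,
      MulAut.conj_apply, inv_inv]
  rw [hs, Subgroup.card_map_of_injective (MulEquiv.injective _)]
  show Nat.card ↥(Subgroup.centralizer
    ({⟨C.par (-1), (C.range_le ⟨-1, rfl⟩).2⟩} : Set C.Gr)) = _
  rw [Nat.card_congr e.toEquiv,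
    Nat.card_prod, Nat.card_congr Multiplicative.toAdd, Nat.card_zmod]
  have hpsl := CfsgLib.Classical.Dickson.gcd_mul_card_PSL (F := K) C.card
  obtain ⟨h27, h8, -⟩ := C.q_facts hm
  rwa [show Nat.gcd 2 (C.q - 1) = 2 from Nat.gcd_eq_left (by omega)] at hpsl

theorem Ctx.card_involutions (hm : 1 ≤ m) :
    {t : C.Gr | t ≠ 1 ∧ t * t = 1}.ncard * (C.q * ((C.q - 1) * (C.q + 1))) = Nat.card C.Gr := by
  have hA1 : C.parG (-1) ≠ 1 := fun e => C.neg_one_ne (C.parG_injective (e.trans (map_one _).symm))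
  have hA2 : C.parG (-1) * C.parG (-1) = 1 := by rw [← map_mul, neg_mul_neg, one_mul, map_one]
  rw [← C.card_centralizer_involution hm hA1 hA2, ← CfsgLib.Invol.card_conjugates_mul (C.parG (-1))]
  congr 1
  rw [← Nat.card_coe_set_eq]
  refine Nat.card_congr (Equiv.subtypeEquivRight fun t => ⟨fun h => ?_, fun h => ?_⟩)
  · exact isConj_iff.2 (C.involution_conj hm h.1 h.2)
  · obtain ⟨g, rfl⟩ := isConj_iff.1 h
    refine ⟨fun e => hA1 (conj_eq_one_iff.1 e), ?_⟩
    rw [show g * C.parG (-1) * g⁻¹ * (g * C.parG (-1) * g⁻¹) =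
      g * (C.parG (-1) * C.parG (-1)) * g⁻¹ by group, hA2, mul_one, mul_inv_cancel]

/-- The number of elements without fixed points. -/
theorem Ctx.card_fpf (hm : 1 ≤ m) :
    2 * (C.fpf.ncard : ℤ) = Nat.card C.Gr - (C.q : ℤ) ^ 3 * ((C.q : ℤ) ^ 3 - 1) -
      {t : C.Gr | t ≠ 1 ∧ t * t = 1}.ncard * ((C.q : ℤ) * ((C.q : ℤ) - 1)) := by
  classical
  haveI : Fintype C.Gr := Fintype.ofFinite _
  haveI : Fintype (C.Gr ⧸ C.bor) := Fintype.ofFinite _
  set q := C.q with hq
  have hq1 : 1 ≤ q := Nat.one_le_pow _ _ (by norm_num)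
  let fx : C.Gr → Finset (C.Gr ⧸ C.bor) := fun g => Finset.univ.filter fun p => g • p = p
  have hΩ : Fintype.card (C.Gr ⧸ C.bor) = q ^ 3 + 1 := by
    rw [← Nat.card_eq_fintype_card, C.card_points hm]
  have h1 : ∑ g, (fx g).card = (q ^ 3 + 1) * (q ^ 3 * (q - 1)) := by
    simp only [fx, Finset.card_filter]
    rw [Finset.sum_comm, Finset.sum_congr rfl fun p _ => by
      rw [← Finset.card_filter, ← Fintype.card_subtype, ← Nat.card_eq_fintype_card,
        show Nat.card {g : C.Gr // g • p = p} = _ from C.card_stab p],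
      Finset.sum_const, Finset.card_univ, hΩ, smul_eq_mul]
  have h2 : ∑ g, (fx g).offDiag.card = (q ^ 3 + 1) * q ^ 3 * (q - 1) := by
    have e : ∀ g, (fx g).offDiag.card = ∑ z ∈ (Finset.univ : Finset (C.Gr ⧸ C.bor)).offDiag,
        if g • z.1 = z.1 ∧ g • z.2 = z.2 then 1 else 0 := by
      intro g
      rw [← Finset.card_filter]
      congr 1
      ext ⟨a, b⟩
      simp [fx]
      tauto
    rw [Finset.sum_congr rfl fun g _ => e g, Finset.sum_comm,
      Finset.sum_congr rfl fun z hz => by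
        rw [← Finset.card_filter, ← Fintype.card_subtype, ← Nat.card_eq_fintype_card,
          show Nat.card {g : C.Gr // g • z.1 = z.1 ∧ g • z.2 = z.2} = _ from
            C.card_stab_two (Finset.mem_offDiag.1 hz).2.2],
      Finset.sum_const, Finset.offDiag_card, Finset.card_univ, hΩ, smul_eq_mul,
      ← Nat.mul_sub_one, Nat.add_sub_cancel]
  have hG : (Fintype.card C.Gr : ℤ) = (q : ℤ) ^ 3 * ((q : ℤ) - 1) * ((q : ℤ) ^ 3 + 1) := by
    rw [← Nat.card_eq_fintype_card, show Nat.card C.Gr = q ^ 3 * (q - 1) * (q ^ 3 + 1) from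
      C.card_twisted, Nat.cast_mul, Nat.cast_mul, Nat.cast_sub hq1]
    push_cast
    ring
  have key : ∀ g : C.Gr,
      ((fx g).offDiag.card : ℤ) - 2 * (fx g).card + 2 =
        2 * (if g ∈ C.fpf then 1 else 0) + (if g = 1 then (q : ℤ) ^ 3 * ((q : ℤ) ^ 3 - 1) else 0) +
          (q : ℤ) * ((q : ℤ) - 1) * (if g ≠ 1 ∧ g * g = 1 then 1 else 0) := by
    intro g
    have hoff : ((fx g).offDiag.card : ℤ) = (fx g).card * ((fx g).card - 1) := by
      rw [Finset.offDiag_card, Nat.cast_sub (Nat.le_mul_self _)]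
      push_cast; ring
    have hiff : g ∈ C.fpf ↔ (fx g).card = 0 := by
      simp [Ctx.fpf, fx, Finset.filter_eq_empty_iff]
    by_cases hg : g = 1
    · subst hg
      have hone : (fx 1).card = q ^ 3 + 1 := by
        rw [show fx 1 = Finset.univ from Finset.filter_true_of_mem fun p _ => one_smul _ p,
          Finset.card_univ, hΩ]
      rw [hoff, hone, if_neg (by rw [hiff, hone]; omega), if_pos rfl, if_neg (fun h => h.1 rfl)]
      push_cast
      ring
    by_cases hi : g * g = 1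
    · have hc : (fx g).card = q + 1 := by
        rw [← Fintype.card_subtype, ← Nat.card_eq_fintype_card, C.card_fix_involution hm hg hi]
      rw [hoff, hc, if_neg (by rw [hiff, hc]; omega), if_neg hg, if_pos ⟨hg, hi⟩]
      push_cast
      ring
    have hle : (fx g).card ≤ 2 := by
      by_contra h
      obtain ⟨a, b, c, ha, hb, hc, hab, hac, hbc⟩ := Finset.two_lt_card_iff.1 (not_le.1 h)
      simp [fx] at ha hb hc
      exact hi (C.fix_three hab hac hbc ha hb hc)
    rw [hoff, if_neg hg, if_neg (show ¬ (g ≠ 1 ∧ g * g = 1) from fun h => hi h.2)]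
    by_cases hf : g ∈ C.fpf
    · rw [if_pos hf, hiff.1 hf]; norm_num
    · rw [if_neg hf]
      have hne : (fx g).card ≠ 0 := fun e => hf (hiff.2 e)
      generalize (fx g).card = n at hle hne
      interval_cases n <;> first | exact absurd rfl hne | norm_num
  have hsum := Finset.sum_congr rfl fun g (_ : g ∈ Finset.univ) => key g
  simp only [Finset.sum_add_distrib, Finset.sum_sub_distrib, ← Finset.mul_sum, Finset.sum_boole,
    Finset.sum_ite_eq', Finset.mem_univ, if_true, Finset.sum_const, nsmul_eq_mul] at hsum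
  rw [← Nat.cast_sum, ← Nat.cast_sum, h1, h2, Finset.card_univ] at hsum
  have ef : C.fpf.ncard = (Finset.univ.filter fun g : C.Gr => g ∈ C.fpf).card := by
    rw [← Set.ncard_coe_finset]; simp
  have ei : {t : C.Gr | t ≠ 1 ∧ t * t = 1}.ncard =
      (Finset.univ.filter fun g : C.Gr => g ≠ 1 ∧ g * g = 1).card := by
    rw [← Set.ncard_coe_finset]; simp
  rw [ef, ei, Nat.card_eq_fintype_card]
  push_cast [Nat.cast_sub hq1] at hsum
  rw [hG] at hsum ⊢
  linear_combination -hsum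

end TwG2

end CfsgLib.Chev
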