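/-
The two small cyclic self-normalising-type tori of the groups of type ²G₂.
-/
import Mathlib
import Cfsg.Agent.Lib.Chev.Twist.G2Fix
import Cfsg.Agent.Lib.Chev.Twist.G2Torus

set_option autoImplicit false
set_option maxRecDepth 4000

namespace CfsgLib.Chev

open Cfsg.Lie
open scoped MatrixGroups

universe v

namespace TwG2

variable {K : Type v} [Field K] [Fintype K] {m : ℕ} (C : Ctx K m)
include C

theorem Ctx.fix_par {b : Kˣ} (h1 : b ≠ 1) (h2 : b ≠ -1) {x : C.Gr ⧸ C.bor}
    (hx : C.parG b • x = x) : x = C.base ∨ x = C.opp := by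
  rcases C.eq_smul_opp x with e | ⟨u, hu, rfl⟩
  · exact Or.inl e
  right
  obtain ⟨t', u', v', e⟩ := C.mem_posU_iff.1 ⟨hu, u.2⟩
  have h := (C.par_smul_iff b hu).1 hx
  rw [e] at h
  have := C.fix_point_free h1 h2 h
  rw [show u = 1 from Subtype.ext (e.trans this), one_smul]

theorem Ctx.nw_inv (b : Kˣ) : C.nw * C.par b * C.nw⁻¹ = (C.par b)⁻¹ := by
  obtain ⟨φ, -, hup, hnw, -, hdiag⟩ := C.exists_pairHom
  have key : ∀ w : Kˣ, C.nw * C.par (C.phi w) * C.nw⁻¹ = (C.par (C.phi w))⁻¹ := by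
    intro w
    let D : SL(2, K) := ⟨!![(w : K), 0; 0, (w : K)⁻¹], by simp [Matrix.det_fin_two]⟩
    have e : (wM : SL(2, K)) * D = D⁻¹ * wM := by
      apply Subtype.ext
      simp only [Matrix.SpecialLinearGroup.coe_mul, Matrix.SpecialLinearGroup.coe_inv,
        Matrix.adjugate_fin_two]
      ext i j
      fin_cases i <;> fin_cases j <;> simp [wM, D, Matrix.mul_apply, Fin.sum_univ_two]
    rw [← hdiag D w rfl, ← hnw, ← map_inv, ← map_inv, ← map_mul, ← map_mul, e, mul_inv_cancel_right]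
  obtain ⟨w, rfl | rfl⟩ := C.mem_phi_range b
  · exact key w
  · have hn : (C.par (-1))⁻¹ = C.par (-1) := by rw [← map_inv, inv_neg_one]
    rw [map_mul, mul_inv_rev, hn,
      show C.nw * (C.par (-1) * C.par (C.phi w)) * C.nw⁻¹ =
        (C.nw * C.par (-1) * C.nw⁻¹) * (C.nw * C.par (C.phi w) * C.nw⁻¹) by group,
      key, C.nw_neg_one, mul_inv_cancel_right, ← map_inv, ← map_mul, ← map_mul, mul_comm]

theorem Ctx.exists_swap (hm : 1 ≤ m) : ∃ n : C.Gr, n • C.base = C.opp ∧ n • C.opp = C.base ∧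
    ∀ b, n * C.parG b * n⁻¹ = C.parG b⁻¹ := by
  set n : C.Gr := ⟨C.nw, C.nw_mem.1⟩ with hn
  have hb' : ∀ b, n * C.parG b * n⁻¹ = C.parG b⁻¹ := fun b => Subtype.ext (by
    show C.nw * C.par b * C.nw⁻¹ = C.par b⁻¹
    rw [C.nw_inv, map_inv])
  obtain ⟨b, hb⟩ := C.exists_pow_ten hm
  have h1 : b ≠ 1 := fun e => hb (by rw [e, one_pow])
  have h2 : b ≠ -1 := fun e => hb (by rw [e]; exact Even.neg_one_pow ⟨5, rfl⟩)
  have hfix : ∀ x : C.Gr ⧸ C.bor, C.parG b • x = x → C.parG b • (n • x) = n • x := fun x hx => by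
    have := hb' b⁻¹
    rw [inv_inv, mul_inv_eq_iff_eq_mul] at this
    rw [smul_smul, ← this, ← smul_smul, map_inv, inv_smul_eq_iff.2 hx.symm]
  have e1 : n • C.base = C.opp := (C.fix_par h1 h2 (hfix _ (C.par_mem_stab b).1)).resolve_left
    fun e => C.nw_not_borel ((C.stab_base n).1 e)
  refine ⟨n, e1, (C.fix_par h1 h2 (hfix _ (C.par_mem_stab b).2)).resolve_right fun e => ?_, hb'⟩
  exact C.opp_ne_base (MulAction.injective (β := C.Gr ⧸ C.bor) n (e.trans e1.symm))

theorem Ctx.centralizer_parG (hm : 1 ≤ m) {b : Kˣ} (h1 : b ≠ 1) (h2 : b ≠ -1) :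
    Subgroup.centralizer ({C.parG b} : Set C.Gr) = C.parG.range := by
  refine le_antisymm (fun g hg => ?_) ?_
  · rw [Subgroup.mem_centralizer_singleton_iff] at hg
    have hfix : ∀ x : C.Gr ⧸ C.bor, C.parG b • x = x → C.parG b • (g • x) = g • x := fun x hx => by
      rw [smul_smul, ← hg, ← smul_smul, hx]
    rcases C.fix_par h1 h2 (hfix _ (C.par_mem_stab b).1) with e | e
    · rw [← C.stab_pair]
      refine ⟨e, (C.fix_par h1 h2 (hfix _ (C.par_mem_stab b).2)).resolve_left fun e' => ?_⟩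
      exact C.opp_ne_base (MulAction.injective (β := C.Gr ⧸ C.bor) g (e'.trans e.symm))
    · exfalso
      obtain ⟨n, n1, n2, n3⟩ := C.exists_swap hm
      have hmem : n * g ∈ MulAction.stabilizer C.Gr C.base ⊓ MulAction.stabilizer C.Gr C.opp := by
        replace e : g • C.base = C.opp := e
        refine ⟨MulAction.mem_stabilizer_iff.2 (by rw [← smul_smul, e, n2]),
          MulAction.mem_stabilizer_iff.2 ?_⟩
        rw [← smul_smul, (C.fix_par h1 h2 (hfix _ (C.par_mem_stab b).2)).resolve_right fun e' =>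
          C.opp_ne_base (MulAction.injective (β := C.Gr ⧸ C.bor) g (e'.trans e.symm)), n1]
      rw [C.stab_pair] at hmem
      obtain ⟨c, hc⟩ := hmem
      have h := n3 b
      rw [mul_inv_eq_iff_eq_mul] at h
      have : C.parG b⁻¹ * (n * g) = (n * g) * C.parG b := by
        rw [← mul_assoc, ← h, mul_assoc, ← hg, mul_assoc]
      rw [← hc, ← map_mul, ← map_mul, mul_comm c] at this
      have := mul_right_cancel (C.parG_injective this)
      rcases C.eq_of_sq (X := b) (inv_eq_iff_mul_eq_one.1 this) with e | e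
      · exact h1 e
      · exact h2 e
  · rintro _ ⟨c, rfl⟩
    rw [Subgroup.mem_centralizer_singleton_iff, ← map_mul, ← map_mul, mul_comm]

/-- The torus of order `q - 1` and its subgroup of odd order. -/
theorem Ctx.exists_torus_zero (hm : 1 ≤ m) :
    ∃ A : Subgroup C.Gr, IsCyclic A ∧ Nat.card A = (C.q - 1) / 2 ∧
      Nat.card ↥(Subgroup.normalizer (A : Set C.Gr)) = 2 * (C.q - 1) ∧
      (∀ A₀ ≤ A, A₀ ≠ ⊥ →
        Subgroup.normalizer (A₀ : Set C.Gr) = Subgroup.normalizer (A : Set C.Gr)) ∧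
      A ≤ C.parG.range ∧
      Nat.card ↥(Subgroup.normalizer (C.parG.range : Set C.Gr)) = 2 * (C.q - 1) := by
  classical
  obtain ⟨h27, h8, -⟩ := C.q_facts hm
  set R := C.parG.range with hR
  set A := (powMonoidHom 2 : Kˣ →* Kˣ).range.map C.parG with hA
  have hcard : Nat.card A = (C.q - 1) / 2 := by
    rw [hA, Subgroup.card_map_of_injective C.parG_injective, IsCyclic.card_powMonoidHom_range,
      Nat.card_units, Nat.card_eq_fintype_card, C.card,
      show Nat.gcd (C.q - 1) 2 = 2 from Nat.gcd_eq_right (by omega)]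
  haveI : IsCyclic R := isCyclic_of_surjective C.parG.rangeRestrict C.parG.rangeRestrict_surjective
  have hAR : A ≤ R := by
    rintro _ ⟨b, -, rfl⟩; exact ⟨b, rfl⟩
  haveI : IsCyclic A := isCyclic_of_injective (Subgroup.inclusion hAR)
    (Subgroup.inclusion_injective hAR)
  have hcen : ∀ u ∈ A, u ≠ 1 → Subgroup.centralizer ({u} : Set C.Gr) = R := by
    rintro _ ⟨b, ⟨c, rfl⟩, rfl⟩ hne
    refine C.centralizer_parG hm (fun e => hne (by rw [e, map_one])) fun e => ?_
    refine C.not_isSquare ⟨c, ?_⟩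
    have := congrArg (fun x : Kˣ => (x : K)) e
    simpa [pow_two] using this.symm
  have hN : ∀ A₀ ≤ A, A₀ ≠ ⊥ → Subgroup.normalizer (A₀ : Set C.Gr) =
      Subgroup.normalizer (R : Set C.Gr) := by
    intro A₀ h0 hne
    refine le_antisymm ?_ (HallAux.normalizer_le_of_cyclic (h0.trans hAR))
    obtain ⟨⟨u, hu⟩, hu1⟩ := Subgroup.ne_bot_iff_exists_ne_one.1 hne
    have e : Subgroup.centralizer (A₀ : Set C.Gr) = R := by
      refine le_antisymm ?_ ?_
      · rw [← hcen u (h0 hu) fun e => hu1 (Subtype.ext e)]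
        exact Subgroup.centralizer_le (Set.singleton_subset_iff.2 hu)
      · rintro _ ⟨b, rfl⟩
        rw [Subgroup.mem_centralizer_iff]
        intro a ha
        obtain ⟨c, rfl⟩ := hAR (h0 ha)
        rw [← map_mul, ← map_mul, mul_comm]
    exact e ▸ HallAux.normalizer_le_normalizer_centralizer A₀
  have hAne : A ≠ ⊥ := fun e => by
    rw [e, Subgroup.card_bot] at hcard
    omega
  have hNA := hN A le_rfl hAne
  suffices hcN : Nat.card ↥(Subgroup.normalizer (R : Set C.Gr)) = 2 * (C.q - 1) from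
    ⟨A, inferInstance, hcard, hNA ▸ hcN, fun A₀ h0 hne => (hN A₀ h0 hne).trans hNA.symm, hAR, hcN⟩
  obtain ⟨n, n1, n2, n3⟩ := C.exists_swap hm
  set N := Subgroup.normalizer (R : Set C.Gr)
  have hnN : n ∈ N := by
    rw [Subgroup.mem_normalizer_iff]
    refine fun x => ⟨?_, ?_⟩
    · rintro ⟨b, rfl⟩; exact ⟨b⁻¹, (n3 b).symm⟩
    · rintro ⟨b, hb⟩
      refine ⟨b⁻¹, ?_⟩
      rw [← mul_left_cancel_iff (a := n), ← mul_left_inj n⁻¹, n3, inv_inv, hb]
  have hbN : ∀ b, C.parG b ∈ N := fun b => Subgroup.le_normalizer ⟨b, rfl⟩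
  let f : Bool × Kˣ → N := fun p => match p.1 with
    | false => ⟨C.parG p.2, hbN _⟩
    | true => ⟨n * C.parG p.2, mul_mem hnN (hbN _)⟩
  rw [← Nat.card_eq_of_bijective f ⟨?_, ?_⟩, Nat.card_prod, Nat.card_units,
    Nat.card_eq_fintype_card (α := K), C.card, Nat.card_eq_fintype_card (α := Bool),
    Fintype.card_bool]
  · rintro ⟨i, b⟩ ⟨j, c⟩ h
    have h' : ((f (i, b) : N) : C.Gr) • C.base = ((f (j, c) : N) : C.Gr) • C.base := by rw [h]
    have hs : ∀ b, C.parG b • C.base = C.base := fun b => (C.par_mem_stab b).1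
    have hval := congrArg Subtype.val h
    cases i <;> cases j <;> simp only [f] at h' hval
    · rw [C.parG_injective hval]
    · rw [← smul_smul, hs, hs, n1] at h'; exact absurd h'.symm C.opp_ne_base
    · rw [← smul_smul, hs, hs, n1] at h'; exact absurd h' C.opp_ne_base
    · rw [C.parG_injective (mul_left_cancel hval)]
  · rintro ⟨g, hg⟩
    obtain ⟨b, hb⟩ := C.exists_pow_ten hm
    have h1 : b ≠ 1 := fun e => hb (by rw [e, one_pow])
    have h2 : b ≠ -1 := fun e => hb (by rw [e]; exact Even.neg_one_pow ⟨5, rfl⟩)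
    obtain ⟨b', hb'⟩ : g⁻¹ * C.parG b * g ∈ R :=
      (Subgroup.mem_normalizer_iff''.1 hg _).1 ⟨b, rfl⟩
    have hmv : ∀ x : C.Gr ⧸ C.bor, C.parG b' • x = x → C.parG b • (g • x) = g • x := fun x hx => by
      rw [hb', ← smul_smul, ← smul_smul, inv_smul_eq_iff] at hx
      exact hx
    rcases C.fix_par h1 h2 (hmv _ (C.par_mem_stab b').1) with e | e
    · have e' := (C.fix_par h1 h2 (hmv _ (C.par_mem_stab b').2)).resolve_left fun e' =>
        C.opp_ne_base (MulAction.injective (β := C.Gr ⧸ C.bor) g (e'.trans e.symm))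
      obtain ⟨c, hc⟩ : g ∈ R := by rw [hR, ← C.stab_pair]; exact ⟨e, e'⟩
      exact ⟨(false, c), Subtype.ext hc⟩
    · have e' := (C.fix_par h1 h2 (hmv _ (C.par_mem_stab b').2)).resolve_right fun e' =>
        C.opp_ne_base (MulAction.injective (β := C.Gr ⧸ C.bor) g (e'.trans e.symm))
      obtain ⟨c, hc⟩ : n⁻¹ * g ∈ R := by
        rw [hR, ← C.stab_pair]
        replace e : g • C.base = C.opp := e
        exact ⟨show (n⁻¹ * g) • C.base = C.base by rw [← smul_smul, e, inv_smul_eq_iff, n1],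
          show (n⁻¹ * g) • C.opp = C.opp by rw [← smul_smul, e', inv_smul_eq_iff, n2]⟩
      refine ⟨(true, c), Subtype.ext ?_⟩
      show n * C.parG c = g
      rw [hc, mul_inv_cancel_left]

/-- The torus of order `q + 1`. -/
theorem Ctx.exists_torus_one (hm : 1 ≤ m) :
    ∃ (A T : Subgroup C.Gr) (τ : C.Gr), IsCyclic A ∧ 4 * Nat.card A = C.q + 1 ∧ A ≤ T ∧
      Nat.card T = C.q + 1 ∧ orderOf τ = (C.q + 1) / 2 ∧ (∀ t ∈ T, t ^ ((C.q + 1) / 2) = 1) ∧
      (∀ u ∈ A, u ≠ 1 → Subgroup.centralizer ({u} : Set C.Gr) = T) ∧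
      (∀ t ∈ T, t * t ≠ 1 → Subgroup.centralizer ({t} : Set C.Gr) = T) ∧
      {t | t ∈ T ∧ t * t = 1}.ncard = 4 ∧
      Nat.card ↥(Subgroup.normalizer (T : Set C.Gr)) = 6 * (C.q + 1) ∧
      (∀ A₀ ≤ A, A₀ ≠ ⊥ →
        Subgroup.normalizer (A₀ : Set C.Gr) = Subgroup.normalizer (T : Set C.Gr)) := by
  classical
  obtain ⟨h27, h8, -⟩ := C.q_facts hm
  obtain ⟨φ, hmem, E, F, hup, hnw, hdiag, hFa, hFz, hFw, -⟩ := C.exists_frame hm
  obtain ⟨hker, hna⟩ := C.ker_pairHom hup hnw hdiag
  let Φ : SL(2, K) →* C.Gr := φ.codRestrict _ hmem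
  have hΦ : ∀ g, (Φ g : GL chevG2.Idx K) = φ g := fun g => rfl
  have ha : F.a = C.parG (-1) := Subtype.ext hFa
  set a := F.a with had
  set z := Φ wM with hzd
  set w := Φ C.quat with hwd
  have hz : F.z = z := hFz
  have hw : F.w = w := hFw
  have hac : ∀ g, Commute a (Φ g) := fun g => by
    rw [ha]; exact Subtype.ext (C.pair_comm hup hnw hdiag g).eq
  have haΦ : ∀ g, a ≠ Φ g := fun g e => hna g (by rw [← hΦ, ← e, hFa])
  have hsgn : ∀ {x y : SL(2, K)}, Φ x = Φ y → x = y ∨ x = -y := fun h =>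
    C.phi_eq_iff hup hnw hdiag (congrArg Subtype.val h)
  have hneg : ∀ g, Φ (-g) = Φ g := fun g => Subtype.ext (C.phi_neg hup hnw hdiag g)
  have ha2 : a * a = 1 := F.sq _ F.ha
  -- elements of the centraliser of the involution
  have hdec : ∀ g : C.Gr, g * a = a * g → ∃ x, g = Φ x ∨ g = a * Φ x := by
    intro g h
    rw [ha] at h
    obtain ⟨x, e | e⟩ := C.centralizer_decomp hup hnw hdiag g.2 (congrArg Subtype.val h).symm
    · exact ⟨x, Or.inl (Subtype.ext e)⟩
    · exact ⟨x, Or.inr (by rw [ha]; exact Subtype.ext e)⟩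
  -- the cyclic group
  obtain ⟨a₁, ha₁⟩ : ∃ a₁, C.q + 1 = 4 * a₁ := ⟨(C.q + 1) / 4, by omega⟩
  have ha₁odd : Odd a₁ := Nat.odd_iff.2 (by omega)
  haveI := C.tor_cyclic
  obtain ⟨⟨σ, hσt⟩, hgen⟩ := IsCyclic.exists_generator (α := C.tor)
  have hσo : orderOf σ = C.q + 1 := by
    rw [← Subgroup.orderOf_mk σ hσt, orderOf_eq_card_of_forall_mem_zpowers hgen, C.card_tor]
  have htor : ∀ x, x ∈ C.tor → ∃ j : ℕ, x = σ ^ j := fun x hx => by
    obtain ⟨j, hj⟩ := (isOfFinOrder_of_finite _).mem_powers_iff_mem_zpowers.2 (hgen ⟨x, hx⟩)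
    exact ⟨j, (congrArg Subtype.val hj).symm⟩
  have hm1 : (-1 : SL(2, K)) = σ ^ (2 * a₁) := by
    have hmem : (-1 : SL(2, K)) ∈ C.tor := Subgroup.mem_centralizer_iff.2 (by
      rintro _ rfl; rw [mul_neg, mul_one, neg_mul, one_mul])
    obtain ⟨j, hj⟩ := htor _ hmem
    have h1 : σ ^ (j * 2) = 1 := by rw [pow_mul, ← hj, neg_one_sq]
    obtain ⟨k, hk⟩ := orderOf_dvd_of_pow_eq_one h1
    rw [hσo] at hk
    have hj0 : σ ^ j ≠ 1 := fun e => by
      rw [← hj] at e
      have := congrFun (congrFun (congrArg Subtype.val e) 0) 0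
      simp at this
      exact C.neg_one_ne (Units.ext (by simpa using this))
    rw [hj, show j = 2 * a₁ * k by rw [ha₁] at hk; linarith, pow_mul]
    rcases Nat.even_or_odd' k with ⟨r, rfl | rfl⟩
    · refine absurd ?_ hj0
      rw [show j = 4 * a₁ * r by rw [ha₁] at hk; linarith, ← ha₁, ← hσo, pow_mul, pow_orderOf_eq_one,
        one_pow]
    · rw [pow_succ, pow_mul, ← pow_mul σ, show 2 * a₁ * 2 = orderOf σ by rw [hσo, ha₁]; ring,
        pow_orderOf_eq_one, one_pow, one_mul]
  set τ := Φ σ with hτd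
  have hτo : orderOf τ = 2 * a₁ := by
    refine Nat.dvd_antisymm (orderOf_dvd_of_pow_eq_one ?_) ?_
    · rw [hτd, ← map_pow, ← hm1, hneg, map_one]
    · have h := pow_orderOf_eq_one τ
      rw [hτd, ← map_pow, ← map_one Φ] at h
      rcases hsgn h with h | h
      · have := orderOf_dvd_of_pow_eq_one h
        rw [hσo, ha₁] at this
        exact (Dvd.intro_left 2 (by ring)).trans this
      · rw [hm1, (orderOf_pos_iff.1 (hσo ▸ Nat.succ_pos _)).pow_eq_pow_iff_modEq, hσo, ha₁] at h
        exact (Nat.ModEq.dvd_iff h (Dvd.intro_left 2 (by ring))).2 dvd_rfl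
  set A := Subgroup.zpowers (τ ^ 4) with hA
  have hAo : orderOf (τ ^ 4) = a₁ := by
    rw [orderOf_pow, hτo, show Nat.gcd (2 * a₁) 4 = 2 by
      rw [show 4 = 2 * 2 from rfl, Nat.gcd_mul_left,
        show Nat.gcd a₁ 2 = 1 from Nat.coprime_two_right.2 ha₁odd],
      Nat.mul_div_cancel_left _ two_pos]
  have hτ2 : τ ^ 2 = (τ ^ 4) ^ ((a₁ + 1) / 2) := by
    rw [← pow_mul, (orderOf_pos_iff.1 (by omega)).pow_eq_pow_iff_modEq, hτo]
    obtain ⟨r, hr⟩ := ha₁odd
    rw [show 4 * ((a₁ + 1) / 2) = 2 + 2 * a₁ by omega]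
    exact (Nat.add_modEq_right).symm
  have hzmem : ∃ j : ℕ, z = τ ^ j := by
    obtain ⟨j, hj⟩ := htor wM (Subgroup.mem_centralizer_iff.2 (by rintro _ rfl; rfl))
    exact ⟨j, by rw [hzd, hj, map_pow]⟩
  -- the abelian subgroup
  let f : Bool × Subgroup.zpowers τ → C.Gr := fun p => bif p.1 then a * p.2.1 else p.2.1
  have hτc : ∀ x ∈ Subgroup.zpowers τ, Commute a x := fun x hx => by
    obtain ⟨j, rfl⟩ := Subgroup.mem_zpowers_iff.1 hx
    exact (hac σ).zpow_right j
  let T : Subgroup C.Gr :=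
    { carrier := {g | g ∈ Subgroup.zpowers τ ∨ a * g ∈ Subgroup.zpowers τ}
      one_mem' := Or.inl (one_mem _)
      mul_mem' := by
        have hax : ∀ x, a * x ∈ Subgroup.zpowers τ → Commute a x := fun x hx =>
          inv_mul_cancel_left a x ▸ ((Commute.refl a).inv_right.mul_right (hτc _ hx))
        rintro x y (hx | hx) (hy | hy)
        · exact Or.inl (mul_mem hx hy)
        · right
          have := mul_mem hx hy
          rwa [← mul_assoc, ← (hτc x hx).eq, mul_assoc] at this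
        · right
          have := mul_mem hx hy
          rwa [mul_assoc] at this
        · left
          have := mul_mem hx hy
          rwa [show a * x * (a * y) = x * y by
            rw [(hax x hx).eq, mul_assoc x a, ← mul_assoc a a, ha2, one_mul]] at this
      inv_mem' := by
        rintro x (hx | hx)
        · exact Or.inl (inv_mem hx)
        · right
          have hc : Commute a x :=
            inv_mul_cancel_left a x ▸ ((Commute.refl a).inv_right.mul_right (hτc _ hx))
          have := inv_mem hx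
          rw [mul_inv_rev, inv_eq_of_mul_eq_one_right ha2, ← hc.inv_right.eq] at this
          exact this }
  have hTmem : ∀ g, g ∈ T ↔ ∃ p, f p = g := by
    intro g
    constructor
    · rintro (h | h)
      · exact ⟨(false, ⟨g, h⟩), rfl⟩
      · exact ⟨(true, ⟨_, h⟩), by show a * (a * g) = g; rw [← mul_assoc, ha2, one_mul]⟩
    · rintro ⟨⟨i, p, hp⟩, rfl⟩
      cases i
      · exact Or.inl hp
      · exact Or.inr (by show a * (a * p) ∈ _; rwa [← mul_assoc, ha2, one_mul])
  have hτΦ : ∀ x ∈ Subgroup.zpowers τ, ∃ y ∈ C.tor, x = Φ y := fun x hx => by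
    obtain ⟨j, rfl⟩ := Subgroup.mem_zpowers_iff.1 hx
    exact ⟨σ ^ j, zpow_mem hσt j, (map_zpow Φ σ j).symm⟩
  have hcardT : Nat.card T = C.q + 1 := by
    rw [← Nat.card_eq_of_bijective (fun p => (⟨f p, (hTmem _).2 ⟨p, rfl⟩⟩ : T)) ⟨?_, ?_⟩,
      Nat.card_prod, Nat.card_zpowers, hτo, Nat.card_eq_fintype_card, Fintype.card_bool, ha₁]
    · ring
    · rintro ⟨i, p⟩ ⟨j, p'⟩ h
      have h' : f (i, p) = f (j, p') := congrArg Subtype.val h
      obtain ⟨y, -, hy⟩ := hτΦ _ p.2
      obtain ⟨y', -, hy'⟩ := hτΦ _ p'.2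
      cases i <;> cases j <;> simp only [f, cond_true, cond_false] at h'
      · rw [Subtype.ext h']
      · exact absurd (show a = Φ (y * y'⁻¹) by
          rw [map_mul, map_inv, ← hy, ← hy', h', mul_inv_cancel_right]) (haΦ _)
      · exact absurd (show a = Φ (y' * y⁻¹) by
          rw [map_mul, map_inv, ← hy, ← hy', ← h', mul_inv_cancel_right]) (haΦ _)
      · rw [Subtype.ext (mul_left_cancel h')]
    · rintro ⟨g, hg⟩
      obtain ⟨p, rfl⟩ := (hTmem g).1 hg
      exact ⟨p, rfl⟩
  have hAτ : A ≤ Subgroup.zpowers τ := Subgroup.zpowers_le.2 (Subgroup.npow_mem_zpowers τ 4)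
  have hAT : A ≤ T := fun x hx => Or.inl (hAτ hx)
  have hsqA : ∀ x ∈ T, x * x ∈ A := by
    intro x hx
    have key : ∀ y ∈ Subgroup.zpowers τ, y * y ∈ A := fun y hy => by
      obtain ⟨j, rfl⟩ := Subgroup.mem_zpowers_iff.1 hy
      rw [← zpow_add, ← two_mul, zpow_mul, zpow_two, ← pow_two, hτ2]
      exact zpow_mem (pow_mem (Subgroup.mem_zpowers _) _) _
    rcases hx with h | h
    · exact key x h
    · have e := key _ h
      rwa [show a * x * (a * x) = x * x by
        have := (hτc _ h).eq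
        rw [← mul_assoc a a x, ha2, one_mul] at this
        calc a * x * (a * x) = (a * x * a) * x := by group
          _ = x * x := by rw [← this]] at e
  have hcomm : ∀ x ∈ T, ∀ y ∈ T, x * y = y * x := by
    intro x hx y hy
    obtain ⟨⟨i, p, hp⟩, rfl⟩ := (hTmem x).1 hx
    obtain ⟨⟨j, r, hr⟩, rfl⟩ := (hTmem y).1 hy
    have c0 : Commute p r := by
      obtain ⟨k, rfl⟩ := Subgroup.mem_zpowers_iff.1 hp
      obtain ⟨l, rfl⟩ := Subgroup.mem_zpowers_iff.1 hr
      exact Commute.zpow_zpow_self τ k l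
    have cp := hτc p hp
    have cr := hτc r hr
    cases i <;> cases j <;> simp only [f, cond_true, cond_false]
    · exact c0.eq
    · exact (cp.symm.mul_right c0).eq
    · exact (cr.mul_left c0).eq
    · exact (((Commute.refl a).mul_right cr).mul_left (cp.symm.mul_right c0)).eq
  -- centralisers
  have hcen : ∀ u ∈ A, u ≠ 1 → Subgroup.centralizer ({u} : Set C.Gr) = T := by
    intro u hu hu1
    refine le_antisymm (fun g hg => ?_) fun g hg => Subgroup.mem_centralizer_singleton_iff.2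
      (hcomm g hg u (hAT hu))
    rw [Subgroup.mem_centralizer_singleton_iff] at hg
    obtain ⟨j, rfl⟩ := (isOfFinOrder_of_finite _).mem_powers_iff_mem_zpowers.2 hu
    set y := σ ^ (4 * j) with hy
    have huy : (τ ^ 4) ^ j = Φ y := by rw [hy, map_pow, pow_mul]
    change g * (τ ^ 4) ^ j = (τ ^ 4) ^ j * g at hg
    change (τ ^ 4) ^ j ≠ 1 at hu1
    rw [huy] at hg hu1
    have hyt : y ∈ C.tor := pow_mem hσt _
    have hyodd : Odd (orderOf y) := by
      refine ha₁odd.of_dvd_nat (orderOf_dvd_of_pow_eq_one ?_)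
      rw [hy, ← pow_mul, show 4 * j * a₁ = orderOf σ * j by rw [hσo, ha₁]; ring, pow_mul,
        pow_orderOf_eq_one, one_pow]
    have hy1 : y ≠ 1 := fun e => hu1 (by rw [e, map_one])
    have hga : g * a = a * g := by
      rw [ha]
      exact Subtype.ext (C.tor_centralizer hup hnw hyt hyodd hy1 g.2 hm (congrArg Subtype.val hg))
    obtain ⟨x, hx⟩ := hdec g hga
    have hxy : Φ x * Φ y = Φ y * Φ x := by
      rcases hx with rfl | rfl
      · exact hg
      · refine mul_left_cancel (a := a) ?_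
        rw [← mul_assoc, hg, ← mul_assoc, ← (hac y).eq, mul_assoc]
    rw [← map_mul, ← map_mul] at hxy
    have hxy' : x * y = y * x := by
      rcases hsgn hxy with h | h
      · exact h
      · exfalso
        have e : x * y * x⁻¹ = -y := by rw [h, neg_mul, mul_inv_cancel_right]
        have hord : (-y) ^ orderOf y = 1 := by
          rw [← e, conj_pow, pow_orderOf_eq_one, mul_one, mul_inv_cancel]
        rw [hyodd.neg_pow, pow_orderOf_eq_one] at hord
        exact C.neg_one_ne (Units.ext (by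
          simpa using congrFun (congrFun (congrArg Subtype.val hord) 0) 0))
    have hxt : x ∈ C.tor := by
      obtain ⟨b1, b2, b3⟩ := C.mem_tor hyt
      have hb : y 0 1 ≠ 0 := by
        intro hb0
        rw [hb0, mul_zero, add_zero, mul_self_eq_one_iff] at b3
        rw [hb0, neg_zero] at b1
        have hyy : y * y = 1 := by
          apply Subtype.ext
          show y.1 * y.1 = 1
          ext i k
          fin_cases i <;> fin_cases k <;>
            rcases b3 with b3 | b3 <;> simp [Matrix.mul_apply, Fin.sum_univ_two, b1, b2, hb0, b3]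
        have := orderOf_dvd_of_pow_eq_one (show y ^ 2 = 1 by rw [pow_two, hyy])
        rcases (Nat.dvd_prime Nat.prime_two).1 this with h | h
        · exact hy1 (orderOf_eq_one_iff.1 h)
        · rw [h] at hyodd; exact absurd hyodd (by decide)
      have e := congrArg (fun s : SL(2, K) => (s : Matrix (Fin 2) (Fin 2) K)) hxy'
      simp only [Matrix.SpecialLinearGroup.coe_mul] at e
      have e00 := congrFun (congrFun e 0) 0
      have e01 := congrFun (congrFun e 0) 1
      simp [Matrix.mul_apply, Fin.sum_univ_two, b1, b2] at e00 e01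
      have x10 : x 1 0 = -(x 0 1) := mul_left_cancel₀ hb (by linear_combination -e00)
      have x11 : x 1 1 = x 0 0 := mul_left_cancel₀ hb (by linear_combination -e01)
      refine Subgroup.mem_centralizer_iff.2 ?_
      rintro _ rfl
      apply Subtype.ext
      show (wM : SL(2, K)).1 * x.1 = x.1 * (wM : SL(2, K)).1
      ext i k
      fin_cases i <;> fin_cases k <;> simp [wM, Matrix.mul_apply, Fin.sum_univ_two, x10, x11]
    obtain ⟨k, rfl⟩ := htor x hxt
    rcases hx with rfl | rfl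
    · exact Or.inl (by rw [map_pow]; exact Subgroup.npow_mem_zpowers τ k)
    · exact Or.inr (by rw [← mul_assoc, ha2, one_mul, map_pow]; exact Subgroup.npow_mem_zpowers τ k)
  haveI hAcyc : IsCyclic A := inferInstance
  have hcardA : Nat.card A = a₁ := by rw [Nat.card_zpowers, hAo]
  -- the four-group
  have hz2 : z * z = 1 := by rw [← hz]; exact F.sq _ F.hz
  have hnd := F.nodup
  simp only [List.nodup_cons, List.mem_cons, List.not_mem_nil, or_false, not_or,
    List.nodup_nil, and_true] at hnd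
  have hzT : z ∈ T := by obtain ⟨j, hj⟩ := hzmem; exact Or.inl (hj ▸ Subgroup.npow_mem_zpowers τ j)
  have haT : a ∈ T := Or.inr (by rw [ha2]; exact one_mem _)
  have hinv : ∀ t ∈ T, t * t = 1 → t = 1 ∨ t = a ∨ t = z ∨ t = a * z := by
    have key : ∀ y ∈ Subgroup.zpowers τ, y * y = 1 → y = 1 ∨ y = z := by
      intro y hy hyy
      obtain ⟨j, hj⟩ := hzmem
      by_contra hno
      push Not at hno
      haveI : Fintype (Subgroup.zpowers τ) := Fintype.ofFinite _
      have h3 : ({⟨1, one_mem _⟩, ⟨y, hy⟩, ⟨z, hj ▸ Subgroup.npow_mem_zpowers τ j⟩} :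
          Finset (Subgroup.zpowers τ)) ⊆ Finset.univ.filter fun x => x ^ 2 = 1 := by
        intro x hx
        rw [Finset.mem_filter]
        refine ⟨Finset.mem_univ _, Subtype.ext ?_⟩
        rw [SubgroupClass.coe_pow, pow_two]
        simp only [Finset.mem_insert, Finset.mem_singleton] at hx
        rcases hx with rfl | rfl | rfl
        · exact one_mul _
        · exact hyy
        · exact hz2
      have := (Finset.card_le_card h3).trans (IsCyclic.card_pow_eq_one_le two_pos)
      have hz1 : z ≠ 1 := fun e => hnd.1.2.1 (hz.trans e).symm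
      rw [Finset.card_insert_of_notMem (by
        simp only [Finset.mem_insert, Finset.mem_singleton, Subtype.mk.injEq, not_or]
        exact ⟨hno.1.symm, hz1.symm⟩),
        Finset.card_pair (fun e => hno.2 (congrArg Subtype.val e))] at this
      omega
    intro t ht htt
    rcases ht with h | h
    · rcases key t h htt with e | e <;> simp [e]
    · have hat : a * t * (a * t) = 1 := by
        have := hcomm a haT t (Or.inr h)
        rw [show a * t * (a * t) = a * (t * a) * t by group, ← this, ← mul_assoc, ha2, one_mul, htt]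
      have e0 : t = a * (a * t) := by rw [← mul_assoc, ha2, one_mul]
      rcases key _ h hat with e | e <;> rw [e] at e0 <;> simp [e0]
  have haz2 : a * z * (a * z) = 1 := by
    rw [show a * z * (a * z) = a * (z * a) * z by group, hcomm z hzT a haT, ← mul_assoc, ha2, one_mul, hz2]
  have hfour : {t | t ∈ T ∧ t * t = 1}.ncard = 4 := by
    have e : {t | t ∈ T ∧ t * t = 1} = ({1, a, z, a * z} : Set C.Gr) := by
      ext t
      refine ⟨fun h => by simpa using hinv t h.1 h.2, ?_⟩
      rintro (rfl | rfl | rfl | rfl)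
      · exact ⟨one_mem _, one_mul _⟩
      · exact ⟨haT, ha2⟩
      · exact ⟨hzT, hz2⟩
      · exact ⟨mul_mem haT hzT, haz2⟩
    rw [e]
    have q1 : (1 : C.Gr) ≠ a := hnd.1.1
    have q2 : (1 : C.Gr) ≠ z := hz ▸ hnd.1.2.1
    have q3 : a ≠ z := hz ▸ hnd.2.1.1
    have q4 : (1 : C.Gr) ≠ a * z := fun e => q3 (by
      rw [← mul_one a, e, ← mul_assoc, ha2, one_mul])
    have q5 : a ≠ a * z := fun e => q2 (mul_left_cancel (a := a) (by rw [mul_one]; exact e))
    have q6 : z ≠ a * z := fun e => q1 (mul_right_cancel (b := z) (by rw [one_mul]; exact e))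
    rw [Set.ncard_insert_of_notMem (by simp [q1, q2, q4]), Set.ncard_insert_of_notMem (by simp [q3, q5]),
      Set.ncard_pair q6]
  -- the normaliser
  set W := Subgroup.centralizer ({a, z} : Set C.Gr) with hW
  have hWmem : ∀ g, g ∈ W ↔ g * a = a * g ∧ g * z = z * g := fun g => by
    simp only [hW, Subgroup.mem_centralizer_iff, Set.mem_insert_iff, Set.mem_singleton_iff,
      forall_eq_or_imp, forall_eq]
    exact ⟨fun h => ⟨h.1.symm, h.2.symm⟩, fun h => ⟨h.1.symm, h.2.symm⟩⟩
  have hWdec : ∀ g ∈ W, g ∈ T ∨ g * w ∈ T := by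
    intro g hg
    obtain ⟨g1, g2⟩ := (hWmem g).1 hg
    obtain ⟨x, hx⟩ := hdec g g1
    have hxz : Φ x * z = z * Φ x := by
      rcases hx with rfl | rfl
      · exact g2
      · refine mul_left_cancel (a := a) ?_
        rw [← mul_assoc, g2, ← mul_assoc, hzd, ← (hac wM).eq, mul_assoc]
    rw [hzd, ← map_mul, ← map_mul] at hxz
    obtain ⟨-, -, hq, -, -⟩ := C.quat_rel
    have hor : ∃ y ∈ C.tor, (Φ x = Φ y) ∨ (Φ x * w = Φ y) := by
      rcases hsgn hxz with h | h
      · exact ⟨x, Subgroup.mem_centralizer_iff.2 (by rintro _ rfl; exact h.symm), Or.inl rfl⟩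
      · refine ⟨x * C.quat, Subgroup.mem_centralizer_iff.2 ?_, Or.inr (map_mul Φ x C.quat).symm⟩
        rintro _ rfl
        rw [← mul_assoc, eq_comm, mul_assoc, neg_eq_iff_eq_neg.1 hq.symm, mul_neg, ← mul_assoc, h,
          neg_mul, neg_neg]
    obtain ⟨y, hy, hy'⟩ := hor
    obtain ⟨k, rfl⟩ := htor y hy
    rw [map_pow] at hy'
    have hk := Subgroup.npow_mem_zpowers τ k
    rcases hx with rfl | rfl <;> rcases hy' with e | e
    · exact Or.inl (Or.inl (e ▸ hk))
    · exact Or.inr (Or.inl (e ▸ hk))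
    · exact Or.inl (Or.inr (by rw [← mul_assoc, ha2, one_mul, e]; exact hk))
    · exact Or.inr (Or.inr (by rw [mul_assoc a, ← mul_assoc a a, ha2, one_mul, e]; exact hk))
  have hwW : w ∈ W := (hWmem w).2 ⟨hw ▸ F.comm F.hw F.ha, by
    rw [← hw, ← hz]; exact F.comm F.hw F.hz⟩
  have hTW : T ≤ W := fun t ht => (hWmem t).2 ⟨hcomm t ht a haT, hcomm t ht z hzT⟩
  have hwT : w ∉ T := by
    intro h
    have hww : w * w = 1 := by rw [← hw]; exact F.sq _ F.hw
    rcases hinv w h hww with e | e | e | e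
    · exact hnd.1.2.2.1 (hw.trans e).symm
    · exact hnd.2.1.2.1 (hw.trans e).symm
    · exact hnd.2.2.1.1 (hz.trans (hw.trans e).symm)
    · exact haΦ (C.quat * wM⁻¹) (by rw [map_mul, map_inv, ← hwd, e, mul_inv_cancel_right])
  have hW2 : w * w = 1 := by rw [← hw]; exact F.sq _ F.hw
  have hcardW : Nat.card W = 2 * (C.q + 1) := by
    let g : Bool × T → W := fun p => bif p.1 then ⟨p.2.1 * w, mul_mem (hTW p.2.2) hwW⟩
      else ⟨p.2.1, hTW p.2.2⟩
    rw [← Nat.card_eq_of_bijective g ⟨?_, ?_⟩, Nat.card_prod, hcardT, Nat.card_eq_fintype_card,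
      Fintype.card_bool]
    · rintro ⟨i, p⟩ ⟨j, p'⟩ h
      have h' := congrArg Subtype.val h
      cases i <;> cases j <;> simp only [g, cond_true, cond_false] at h'
      · rw [Subtype.ext h']
      · exact absurd ((show w = p'.1⁻¹ * p.1 by rw [h', inv_mul_cancel_left]) ▸
          mul_mem (inv_mem p'.2) p.2 : w ∈ T) hwT
      · exact absurd ((show w = p.1⁻¹ * p'.1 by rw [← h', inv_mul_cancel_left]) ▸
          mul_mem (inv_mem p.2) p'.2 : w ∈ T) hwT
      · rw [Subtype.ext (mul_right_cancel h')]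
    · rintro ⟨x, hx⟩
      rcases hWdec x hx with h | h
      · exact ⟨(false, ⟨x, h⟩), rfl⟩
      · exact ⟨(true, ⟨x * w, h⟩), Subtype.ext (by
          show x * w * w = x; rw [mul_assoc, hW2, mul_one])⟩
  have hA_mem : ∀ x ∈ W, Odd (orderOf x) → x ∈ A := by
    intro x hx ho
    have hsq : ∀ y ∈ W, y * y ∈ T := by
      intro y hy
      rcases hWdec y hy with h | h
      · exact mul_mem h h
      · -- an element outside `T` has its square in the four-group
        obtain ⟨g1, g2⟩ := (hWmem y).1 hy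
        obtain ⟨x', hx'⟩ := hdec y g1
        have hz' : Φ x' * Φ wM = Φ wM * Φ x' := by
          rcases hx' with rfl | rfl
          · exact g2
          · refine mul_left_cancel (a := a) ?_
            rw [← mul_assoc, ← hzd, g2, ← mul_assoc, hzd, ← (hac wM).eq, mul_assoc]
        rw [← map_mul, ← map_mul] at hz'
        have hyy : y * y = Φ x' * Φ x' := by
          rcases hx' with rfl | rfl
          · rfl
          · rw [show a * Φ x' * (a * Φ x') = a * (Φ x' * a) * Φ x' by group, ← (hac x').eq,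
              ← mul_assoc, ha2, one_mul]
        rw [hyy, ← map_mul]
        have hsq' : x' * x' ∈ C.tor := by
          refine Subgroup.mem_centralizer_iff.2 ?_
          rintro _ rfl
          rcases hsgn hz' with e | e
          · rw [← mul_assoc, ← e, mul_assoc, ← e, mul_assoc]
          · have e' : wM * x' = -(x' * wM) := by rw [e, neg_neg]
            rw [← mul_assoc, e', neg_mul, mul_assoc, e', mul_neg, neg_neg, mul_assoc]
        obtain ⟨k, hk⟩ := htor _ hsq'
        exact Or.inl (by rw [hk, map_pow]; exact Subgroup.npow_mem_zpowers τ k)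
    obtain ⟨r, hr⟩ := ho
    have hxx : x = (x ^ (r + 1)) * (x ^ (r + 1)) := by
      rw [← pow_add, show r + 1 + (r + 1) = orderOf x + 1 by omega, pow_succ, pow_orderOf_eq_one,
        one_mul]
    have hxT : x ∈ T := hxx ▸ hsq _ (pow_mem hx _)
    rw [hxx]
    exact hsqA _ (pow_mem hxT _)
  have hnormW : ∀ g : C.Gr, (∀ x ∈ W, g * x * g⁻¹ ∈ W) →
      g ∈ Subgroup.normalizer (A : Set C.Gr) := by
    intro g hg
    have key : ∀ x ∈ A, g * x * g⁻¹ ∈ A := fun x hx => hA_mem _ (hg x (hTW (hAT hx))) (by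
      rw [show g * x * g⁻¹ = MulAut.conj g x from rfl, MulEquiv.orderOf_eq]
      exact (hcardA ▸ ha₁odd).of_dvd_nat (Subgroup.orderOf_mk x hx ▸ orderOf_dvd_natCard _))
    rw [Subgroup.mem_normalizer_iff]
    refine fun x => ⟨key x, fun hx => ?_⟩
    have hsurj : Function.Surjective fun y : A => (⟨g * y.1 * g⁻¹, key _ y.2⟩ : A) :=
      Finite.surjective_of_injective fun y y' e => Subtype.ext
        (mul_left_cancel (mul_right_cancel (congrArg Subtype.val e)))
    obtain ⟨y, hy⟩ := hsurj ⟨_, hx⟩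
    have := mul_left_cancel (mul_right_cancel (congrArg Subtype.val hy))
    exact this ▸ y.2
  have hAne : A ≠ ⊥ := fun e => by
    rw [e, Subgroup.card_bot] at hcardA
    omega
  have hN : ∀ A₀ ≤ A, A₀ ≠ ⊥ → Subgroup.centralizer (A₀ : Set C.Gr) = T := by
    intro A₀ h0 hne
    obtain ⟨⟨u, hu⟩, hu1⟩ := Subgroup.ne_bot_iff_exists_ne_one.1 hne
    refine le_antisymm ?_ fun g hg => Subgroup.mem_centralizer_iff.2 fun x hx =>
      hcomm x (hAT (h0 hx)) g hg
    rw [← hcen u (h0 hu) fun e => hu1 (Subtype.ext e)]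
    exact Subgroup.centralizer_le (Set.singleton_subset_iff.2 hu)
  have hTA : Subgroup.normalizer (T : Set C.Gr) ≤ Subgroup.normalizer (A : Set C.Gr) := by
    intro n hn
    have key : ∀ n ∈ Subgroup.normalizer (T : Set C.Gr), ∀ x ∈ A, n * x * n⁻¹ ∈ A :=
      fun n hn x hx => hA_mem _ (hTW ((Subgroup.mem_normalizer_iff.1 hn x).1 (hAT hx))) (by
        rw [show n * x * n⁻¹ = MulAut.conj n x from rfl, MulEquiv.orderOf_eq]
        exact (hcardA ▸ ha₁odd).of_dvd_nat (Subgroup.orderOf_mk x hx ▸ orderOf_dvd_natCard _))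
    rw [Subgroup.mem_normalizer_iff]
    refine fun x => ⟨key n hn x, fun hx => ?_⟩
    have := key n⁻¹ (inv_mem hn) _ hx
    rwa [show n⁻¹ * (n * x * n⁻¹) * n⁻¹⁻¹ = x by group] at this
  have hAT' : Subgroup.normalizer (A : Set C.Gr) ≤ Subgroup.normalizer (T : Set C.Gr) :=
    hN A le_rfl hAne ▸ HallAux.normalizer_le_normalizer_centralizer A
  obtain ⟨h, -, hh1, hh2⟩ := F.exists_cycle
  rw [hz] at hh1 hh2
  have hhA : h ∈ Subgroup.normalizer (A : Set C.Gr) := by
    refine hnormW h fun x hx => (hWmem _).2 ?_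
    obtain ⟨x1, x2⟩ := (hWmem x).1 hx
    have e1 : a = h * (a * z) * h⁻¹ * (h * z * h⁻¹)⁻¹ * (h * z * h⁻¹) * (h * z * h⁻¹)⁻¹ *
        (h * z * h⁻¹) * 1 := by
      rw [show h * (a * z) * h⁻¹ = (h * a * h⁻¹) * (h * z * h⁻¹) by group, hh1, hh2]
      rw [← mul_assoc z a z, hcomm z hzT a haT, mul_assoc a z z, hz2]
      group
    have caz : Commute x (a * z) := Commute.mul_right x1 x2
    have hcj : ∀ y, Commute x y → Commute (h * x * h⁻¹) (h * y * h⁻¹) := fun y hy => by
      show _ = _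
      rw [show h * x * h⁻¹ * (h * y * h⁻¹) = h * (x * y) * h⁻¹ by group, hy.eq]; group
    have cz : Commute (h * x * h⁻¹) z := hh1 ▸ hcj a x1
    have caz' : Commute (h * x * h⁻¹) (a * z) := hh2 ▸ hcj z x2
    refine ⟨?_, cz.eq⟩
    have := caz'.mul_right cz.inv_right
    rwa [mul_inv_cancel_right] at this
  have hNcard : Nat.card ↥(Subgroup.normalizer (T : Set C.Gr)) = 6 * (C.q + 1) := by
    set N := Subgroup.normalizer (T : Set C.Gr) with hNd
    have hhN : h ∈ N := hAT' hhA
    have hWN : W ≤ N := fun x hx => hAT' (hnormW x fun y hy => mul_mem (mul_mem hx hy) (inv_mem hx))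
    let g : Fin 3 × W → N := fun p => ⟨h ^ (p.1 : ℕ) * p.2.1, mul_mem (pow_mem hhN _) (hWN p.2.2)⟩
    have himg : ∀ i : Fin 3, h ^ (i : ℕ) * a * (h ^ (i : ℕ))⁻¹ = ![a, z, a * z] i := by
      intro i
      fin_cases i
      · simp
      · simpa using hh1
      · show h ^ 2 * a * (h ^ 2)⁻¹ = a * z
        rw [pow_two, show h * h * a * (h * h)⁻¹ = h * (h * a * h⁻¹) * h⁻¹ by group, hh1, hh2]
    have hq3 : a ≠ z := hz ▸ hnd.2.1.1
    have hinj : Function.Injective ![a, z, a * z] := by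
      intro i j e
      have q5 : a ≠ a * z := fun e => hnd.1.2.1 (by
        rw [hz]; exact mul_left_cancel (a := a) (by rw [mul_one]; exact e))
      have q6 : z ≠ a * z := fun e => hnd.1.1 (mul_right_cancel (b := z) (by rw [one_mul]; exact e))
      revert e
      fin_cases i <;> fin_cases j <;> intro e <;>
        first | rfl | exact absurd e hq3 | exact absurd e.symm hq3 | exact absurd e q5 |
          exact absurd e.symm q5 | exact absurd e q6 | exact absurd e.symm q6
    have hfix : ∀ x ∈ W, x * a * x⁻¹ = a := fun x hx => by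
      rw [((hWmem x).1 hx).1, mul_inv_cancel_right]
    rw [← Nat.card_eq_of_bijective g ⟨?_, ?_⟩, Nat.card_prod, hcardW, Nat.card_eq_fintype_card,
      Fintype.card_fin]
    · ring
    · rintro ⟨i, x⟩ ⟨j, y⟩ e
      have e' : h ^ (i : ℕ) * x.1 = h ^ (j : ℕ) * y.1 := congrArg Subtype.val e
      have hij : i = j := hinj (by
        have l : ∀ (k : ℕ) (u : C.Gr), u ∈ W → h ^ k * u * a * (h ^ k * u)⁻¹ = h ^ k * a * (h ^ k)⁻¹ :=
          fun k u hu => by
            rw [show h ^ k * u * a * (h ^ k * u)⁻¹ = h ^ k * (u * a * u⁻¹) * (h ^ k)⁻¹ by group,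
              hfix u hu]
        rw [← himg, ← himg, ← l i x.1 x.2, ← l j y.1 y.2, e'])
      subst hij
      rw [Subtype.ext (mul_left_cancel e')]
    · rintro ⟨n, hn⟩
      have hna' : n * a * n⁻¹ ∈ T := (Subgroup.mem_normalizer_iff.1 hn a).1 haT
      have h2' : n * a * n⁻¹ * (n * a * n⁻¹) = 1 := by
        rw [show n * a * n⁻¹ * (n * a * n⁻¹) = n * (a * a) * n⁻¹ by group, ha2, mul_one, mul_inv_cancel]
      obtain ⟨i, hi⟩ : ∃ i : Fin 3, n * a * n⁻¹ = ![a, z, a * z] i := by
        rcases hinv _ hna' h2' with e | e | e | e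
        · rw [conj_eq_one_iff] at e; exact absurd e.symm hnd.1.1
        · exact ⟨0, e⟩
        · exact ⟨1, e⟩
        · exact ⟨2, e⟩
      set x := (h ^ (i : ℕ))⁻¹ * n with hx
      have hxN : x ∈ N := mul_mem (inv_mem (pow_mem hhN _)) hn
      have hxa : x * a * x⁻¹ = a := by
        rw [hx, show (h ^ (i : ℕ))⁻¹ * n * a * ((h ^ (i : ℕ))⁻¹ * n)⁻¹ =
          (h ^ (i : ℕ))⁻¹ * (n * a * n⁻¹) * h ^ (i : ℕ) by group, hi, ← himg]
        group
      have hxa' : x * a = a * x := mul_inv_eq_iff_eq_mul.1 hxa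
      have hxW : x ∈ W := by
        refine (hWmem x).2 ⟨hxa', mul_inv_eq_iff_eq_mul.1 ?_⟩
        have hxz : x * z * x⁻¹ ∈ T := (Subgroup.mem_normalizer_iff.1 hxN z).1 hzT
        have hxz2 : x * z * x⁻¹ * (x * z * x⁻¹) = 1 := by
          rw [show x * z * x⁻¹ * (x * z * x⁻¹) = x * (z * z) * x⁻¹ by group, hz2, mul_one,
            mul_inv_cancel]
        obtain ⟨y, hy⟩ : ∃ y, x * z * x⁻¹ = Φ y := by
          obtain ⟨x', hx'⟩ := hdec x hxa'
          refine ⟨x' * wM * x'⁻¹, ?_⟩
          rw [map_mul, map_mul, map_inv, ← hzd]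
          rcases hx' with e | e <;> rw [e]
          rw [show a * Φ x' * z * (a * Φ x')⁻¹ = a * (Φ x' * z * (Φ x')⁻¹) * a⁻¹ by group, hzd,
            ← map_inv, ← map_mul, ← map_mul, (hac _).eq, mul_inv_cancel_right]
        rcases hinv _ hxz hxz2 with e | e | e | e
        · rw [conj_eq_one_iff] at e; exact absurd (hz.trans e).symm hnd.1.2.1
        · exact absurd (e.symm.trans hy) (haΦ y)
        · exact e
        · exact absurd (show a = Φ (y * wM⁻¹) by
            rw [map_mul, map_inv, ← hy, e, ← hzd, mul_inv_cancel_right]) (haΦ _)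
      exact ⟨(i, ⟨x, hxW⟩), Subtype.ext (by show h ^ (i : ℕ) * x = n; rw [hx, mul_inv_cancel_left])⟩
  refine ⟨A, T, τ, hAcyc, by omega, hAT, hcardT, by omega, ?_, hcen, ?_, hfour, hNcard, ?_⟩
  · intro t ht
    rw [show (C.q + 1) / 2 = 2 * a₁ by omega, pow_mul, pow_two]
    obtain ⟨k, hk⟩ := Subgroup.mem_zpowers_iff.1 (hsqA t ht)
    rw [← hk, ← zpow_natCast, ← zpow_mul, mul_comm, zpow_mul, zpow_natCast, ← hAo,
      pow_orderOf_eq_one, one_zpow]
  · intro t ht htt
    refine le_antisymm (fun g hg => ?_) fun g hg => Subgroup.mem_centralizer_singleton_iff.2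
      (hcomm g hg t ht)
    rw [← hcen _ (hsqA t ht) htt, Subgroup.mem_centralizer_singleton_iff]
    rw [Subgroup.mem_centralizer_singleton_iff] at hg
    exact ((show Commute g t from hg).mul_right hg).eq
  · intro A₀ h0 hne
    exact le_antisymm (hN A₀ h0 hne ▸ HallAux.normalizer_le_normalizer_centralizer A₀)
      (hTA.trans (HallAux.normalizer_le_of_cyclic h0))

end TwG2

end CfsgLib.Chev
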