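/-
Elements of seven-dimensional linear groups of prime order `p`, when the order of `q` modulo `p`
is six: they have seven distinct eigenvalues.
-/
import Mathlib

set_option autoImplicit false

namespace CfsgLib.Chev

open Matrix Polynomial

universe v w

variable {F : Type v} [Field F] [Fintype F] {ι : Type w} [Fintype ι] [DecidableEq ι]

/-- The roots of the characteristic polynomial: an orbit of the Frobenius map of length six, and
the root one. -/
theorem exists_eigenvalues (hn : Fintype.card ι = 7) [CharP F 3] {p : ℕ} [hp : Fact p.Prime]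
    (h3 : p ≠ 3) (hp1 : ¬ p ∣ Fintype.card F - 1) (h6 : p ∣ Fintype.card F ^ 6 - 1)
    (hd : ∀ i j : ℕ, i < 6 → j < 6 → Fintype.card F ^ i ≡ Fintype.card F ^ j [MOD p] → i = j)
    {M : GL ι F} (hM : M ^ p = 1) (hM1 : M ≠ 1) :
    ∃ (ζ : AlgebraicClosure F) (lam : ι → AlgebraicClosure F), orderOf ζ = p ∧
      Function.Injective lam ∧ (∃ a, lam a = ζ) ∧
      (∀ a, lam a = 1 ∨ ∃ i < 6, lam a = ζ ^ Fintype.card F ^ i) ∧
      (∀ z, ((M : Matrix ι ι F).map (algebraMap F (AlgebraicClosure F))).charpoly.IsRoot z →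
        ∃ a, lam a = z) ∧
      ∀ a, ((M : Matrix ι ι F).map (algebraMap F (AlgebraicClosure F))).charpoly.IsRoot (lam a) := by
  classical
  set L := AlgebraicClosure F
  set q := Fintype.card F with hq
  set A : Matrix ι ι F := (M : Matrix ι ι F) with hA
  set B : Matrix ι ι L := A.map (algebraMap F L) with hB
  have hAp : A ^ p = 1 := by rw [hA, ← Units.val_pow_eq_pow_val, hM, Units.val_one]
  have hBp : B ^ p = 1 := by
    rw [hB, ← RingHom.mapMatrix_apply, ← map_pow, hAp, map_one]
  haveI : Nonempty ι := Fintype.card_pos_iff.1 (by rw [hn]; norm_num)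
  -- roots of the characteristic polynomial have order dividing `p`
  have hroot : ∀ z, B.charpoly.IsRoot z → z ^ p = 1 := by
    intro z hz
    rw [← Matrix.charpoly_toLin', ← Module.End.hasEigenvalue_iff_isRoot_charpoly] at hz
    obtain ⟨w, hw, hw0⟩ := hz.exists_hasEigenvector
    rw [Module.End.mem_eigenspace_iff, Matrix.toLin'_apply] at hw
    have hpow : ∀ k : ℕ, B ^ k *ᵥ w = z ^ k • w := by
      intro k
      induction k with
      | zero => simp
      | succ k ih => rw [pow_succ, ← mulVec_mulVec, hw, mulVec_smul, ih, smul_smul, pow_succ']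
    have := hpow p
    rw [hBp, one_mulVec] at this
    exact smul_left_injective L hw0 (show z ^ p • w = (1 : L) • w by rw [← this, one_smul])
  have hcp : B.charpoly = A.charpoly.map (algebraMap F L) := Matrix.charpoly_map A _
  have hdeg : B.charpoly.natDegree = 7 := by rw [Matrix.charpoly_natDegree_eq_dim, hn]
  have hmon := B.charpoly_monic
  have hspl : B.charpoly.Splits := IsAlgClosed.splits _
  have hcard : Multiset.card B.charpoly.roots = 7 := by
    rw [← hdeg]; exact (hspl.natDegree_eq_card_roots).symm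
  have hmem : ∀ z, z ∈ B.charpoly.roots ↔ B.charpoly.IsRoot z := fun z =>
    Polynomial.mem_roots hmon.ne_zero
  -- some eigenvalue is not one
  obtain ⟨ζ, hζr, hζ1⟩ : ∃ z, B.charpoly.IsRoot z ∧ z ≠ 1 := by
    by_contra hno
    push Not at hno
    have hr : B.charpoly.roots = Multiset.replicate 7 1 :=
      Multiset.eq_replicate.2 ⟨hcard, fun z hz => hno z ((hmem z).1 hz)⟩
    have hc : B.charpoly = (X - C (1 : L)) ^ 7 := by
      rw [hspl.eq_prod_roots_of_monic hmon, hr, Multiset.map_replicate, Multiset.prod_replicate]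
    have h7 := Matrix.aeval_self_charpoly B
    rw [hc, map_pow, map_sub, aeval_X, aeval_C, map_one] at h7
    haveI : CharP L 3 := charP_of_injective_algebraMap (algebraMap F L).injective 3
    haveI : Fact (Nat.Prime 3) := ⟨Nat.prime_three⟩
    have h9 : B ^ 9 = 1 := by
      have := sub_pow_char_pow_of_commute (R := Matrix ι ι L) 3 2 (Commute.one_right B)
      rw [one_pow, show (3 : ℕ) ^ 2 = 9 from rfl,
        show (B - 1) ^ 9 = (B - 1) ^ 7 * (B - 1) ^ 2 from pow_add _ 7 2, h7, zero_mul] at this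
      exact sub_eq_zero.1 this.symm
    apply hM1
    have hA9 : A ^ 9 = 1 := Matrix.map_injective (algebraMap F L).injective (by
      show (algebraMap F L).mapMatrix (A ^ 9) = (algebraMap F L).mapMatrix 1
      rw [map_pow, map_one]
      exact h9)
    have hM9 : M ^ 9 = 1 := Units.ext (by rw [Units.val_pow_eq_pow_val]; exact hA9)
    have hdvd := Nat.dvd_gcd (orderOf_dvd_of_pow_eq_one hM) (orderOf_dvd_of_pow_eq_one hM9)
    rw [show Nat.gcd p 9 = 1 from ((Nat.coprime_primes hp.out Nat.prime_three).2 h3).pow_right 2]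
      at hdvd
    exact orderOf_eq_one_iff.1 (Nat.dvd_one.1 hdvd)
  have hζo : orderOf ζ = p := orderOf_eq_prime (hroot ζ hζr) hζ1
  have hof : IsOfFinOrder ζ := orderOf_pos_iff.1 (hζo ▸ hp.out.pos)
  have horb : ∀ i, B.charpoly.IsRoot (ζ ^ q ^ i) := by
    intro i
    induction i with
    | zero => rwa [pow_zero, pow_one]
    | succ i ih =>
      rw [hcp, Polynomial.IsRoot, Polynomial.eval_map, ← Polynomial.aeval_def] at ih ⊢
      rw [pow_succ, pow_mul, hq, ← Polynomial.expand_aeval, FiniteField.expand_card, map_pow, ih,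
        zero_pow Fintype.card_ne_zero]
  set S : Finset L := (Finset.range 6).image fun i => ζ ^ q ^ i with hS
  have hScard : S.card = 6 := by
    rw [hS, Finset.card_image_of_injOn, Finset.card_range]
    intro i hi j hj h
    simp only [Finset.coe_range, Set.mem_Iio] at hi hj
    exact hd i j hi hj (hζo ▸ hof.pow_eq_pow_iff_modEq.1 h)
  have hSm : ∀ z ∈ S.val, ∃ i < 6, z = ζ ^ q ^ i := fun z hz => by
    obtain ⟨i, hi, e⟩ := Finset.mem_image.1 (show z ∈ (Finset.range 6).image _ from hz)
    exact ⟨i, Finset.mem_range.1 hi, e.symm⟩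
  obtain ⟨R, hR⟩ : ∃ R, B.charpoly.roots = S.val + R :=
    Multiset.le_iff_exists_add.1 ((Multiset.le_iff_subset S.nodup).2 fun z hz => by
      obtain ⟨i, -, rfl⟩ := hSm z hz
      exact (hmem _).2 (horb i))
  obtain ⟨l, rfl⟩ : ∃ l, R = {l} := Multiset.card_eq_one.1 (by
    have := congrArg Multiset.card hR
    rw [hcard, Multiset.card_add, Finset.card_val, hScard] at this
    omega)
  have hlp : l ^ p = 1 := hroot l ((hmem l).1 (by rw [hR]; simp))
  -- the remaining root is one
  have hl : l = 1 := by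
    have hprod : S.val.prod = 1 := by
      show S.val.prod = 1
      rw [← Multiset.map_id S.val, ← Finset.prod_eq_multiset_prod, hS, Finset.prod_image]
      simp only [id_eq]
      rw [Finset.prod_pow_eq_pow_sum]
      · refine orderOf_dvd_iff_pow_eq_one.1 ?_
        rw [hζo]
        obtain ⟨k, hk⟩ : ∃ k, q = k + 1 := ⟨q - 1, by have := Fintype.card_pos (α := F); omega⟩
        have hg := geom_sum_mul_add k 6
        rw [← hk] at hg
        have hdvd : p ∣ (∑ i ∈ Finset.range 6, q ^ i) * k := by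
          rw [show (∑ i ∈ Finset.range 6, q ^ i) * k = q ^ 6 - 1 by omega]; exact h6
        refine ((Nat.Prime.dvd_mul hp.out).1 hdvd).resolve_right fun h => hp1 ?_
        rwa [hk, Nat.add_sub_cancel]
      · intro i hi j hj h
        exact hd i j (Finset.mem_range.1 hi) (Finset.mem_range.1 hj) (hζo ▸ hof.pow_eq_pow_iff_modEq.1 h)
    have hdet := Matrix.det_eq_prod_roots_charpoly B
    rw [hR, Multiset.prod_add, hprod, one_mul, Multiset.prod_singleton, hB,
      ← RingHom.mapMatrix_apply, ← RingHom.map_det] at hdet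
    have hne : A.det ≠ 0 := fun e => by
      rw [← hdet, e, map_zero, zero_pow hp.out.ne_zero] at hlp
      exact zero_ne_one hlp
    have h1 : l ^ (q - 1) = 1 := by
      rw [← hdet, ← map_pow, hq, FiniteField.pow_card_sub_one_eq_one _ hne, map_one]
    by_contra hl1
    exact hp1 (orderOf_eq_prime hlp hl1 ▸ orderOf_dvd_of_pow_eq_one h1)
  subst hl
  have hnd : (S.val + {(1 : L)}).Nodup := by
    rw [Multiset.nodup_add]
    refine ⟨S.nodup, Multiset.nodup_singleton _, Multiset.disjoint_singleton.2 fun h => ?_⟩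
    obtain ⟨i, -, e⟩ := hSm _ h
    have h1 : p ∣ q ^ i := hζo ▸ orderOf_dvd_of_pow_eq_one e.symm
    have := hd 1 2 (by norm_num) (by norm_num) (by
      have hz : q ≡ 0 [MOD p] := Nat.modEq_zero_iff_dvd.2 (hp.out.dvd_of_dvd_pow h1)
      exact ((hz.pow 1).trans (hz.pow 2).symm))
    omega
  set T : Finset L := ⟨S.val + {(1 : L)}, hnd⟩ with hT
  have hTc : Fintype.card ι = Fintype.card ↥T := by
    rw [Fintype.card_coe, Finset.card_mk, Multiset.card_add, Finset.card_val, hScard,
      Multiset.card_singleton, hn]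
  let e : ι ≃ ↥T := Fintype.equivOfCardEq hTc
  refine ⟨ζ, fun a => (e a).1, hζo, fun a b h => e.injective (Subtype.ext h), ?_, ?_, ?_, ?_⟩
  · have hz : ζ ∈ T := show ζ ∈ S.val + {(1 : L)} from
      Multiset.mem_add.2 (Or.inl (show ζ ∈ S from hS ▸ Finset.mem_image.2
        ⟨0, Finset.mem_range.2 (by norm_num), by rw [pow_zero, pow_one]⟩))
    exact ⟨e.symm ⟨ζ, hz⟩, congrArg Subtype.val (e.apply_symm_apply ⟨ζ, hz⟩)⟩
  · intro a
    rcases Multiset.mem_add.1 (show (e a).1 ∈ S.val + {(1 : L)} from (e a).2) with h | h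
    · exact Or.inr (hSm _ h)
    · exact Or.inl (Multiset.mem_singleton.1 h)
  · intro z hz
    have := (hmem z).2 hz
    rw [hR] at this
    exact ⟨e.symm ⟨z, this⟩, congrArg Subtype.val (e.apply_symm_apply (⟨z, this⟩ : ↥T))⟩
  · intro a
    refine (hmem _).1 ?_
    rw [hR]
    exact (e a).2

/-- The centraliser is commutative, and the normaliser induces powers of the Frobenius map. -/
theorem singer_seven (hn : Fintype.card ι = 7) [CharP F 3] {p : ℕ} [hp : Fact p.Prime]
    (h3 : p ≠ 3) (hp1 : ¬ p ∣ Fintype.card F - 1) (h6 : p ∣ Fintype.card F ^ 6 - 1)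
    (hd : ∀ i j : ℕ, i < 6 → j < 6 → Fintype.card F ^ i ≡ Fintype.card F ^ j [MOD p] → i = j)
    {M : GL ι F} (hM : M ^ p = 1) (hM1 : M ≠ 1) :
    (∀ Y Z : GL ι F, Commute Y M → Commute Z M → Commute Y Z) ∧
      ∀ (Y : GL ι F) (k : ℕ), Y * M * Y⁻¹ = M ^ k → ¬ p ∣ k →
        ∃ i < 6, k ≡ Fintype.card F ^ i [MOD p] := by
  classical
  suffices key : ∀ (L : Type v) [Field L] [Algebra F L] (ζ : L) (lam : ι → L), orderOf ζ = p →
      Function.Injective lam → (∃ a, lam a = ζ) →
      (∀ a, lam a = 1 ∨ ∃ i < 6, lam a = ζ ^ Fintype.card F ^ i) →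
      (∀ z, ((M : Matrix ι ι F).map (algebraMap F L)).charpoly.IsRoot z → ∃ a, lam a = z) →
      (∀ a, ((M : Matrix ι ι F).map (algebraMap F L)).charpoly.IsRoot (lam a)) → _ by
    obtain ⟨ζ, lam, a, b, c, d, e, f⟩ := exists_eigenvalues hn h3 hp1 h6 hd hM hM1
    exact key (AlgebraicClosure F) ζ lam a b c d e f
  intro L _ _ ζ lam hζ hlam ⟨a₀, ha₀⟩ hval hroot hroot'
  set B : Matrix ι ι L := (M : Matrix ι ι F).map (algebraMap F L) with hB
  have hev : ∀ a, ∃ v, Module.End.HasEigenvector (Matrix.toLin' B) (lam a) v := fun a => by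
    refine Module.End.HasEigenvalue.exists_hasEigenvector ?_
    rw [Module.End.hasEigenvalue_iff_isRoot_charpoly, Matrix.charpoly_toLin']
    exact hroot' a
  choose v hv using hev
  have hli := Module.End.eigenvectors_linearIndependent' (Matrix.toLin' B) lam hlam v hv
  let P : Matrix ι ι L := (Matrix.of v)ᵀ
  have hP : IsUnit P := Matrix.linearIndependent_cols_iff_isUnit.1 hli
  obtain ⟨u, hu⟩ := hP
  set Qi : Matrix ι ι L := ((u⁻¹ : (Matrix ι ι L)ˣ) : Matrix ι ι L) with hPi
  have hPiP : Qi * P = 1 := by rw [hPi, ← hu, Units.inv_mul]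
  have hPPi : P * Qi = 1 := by rw [hPi, ← hu, Units.mul_inv]
  have hBP : B * P = P * Matrix.diagonal lam := by
    ext i a
    have h := congrFun (Module.End.mem_eigenspace_iff.1 (hv a).1) i
    rw [Matrix.toLin'_apply] at h
    rw [Matrix.mul_diagonal]
    show (B *ᵥ v a) i = v a i * lam a
    rw [h, Pi.smul_apply, smul_eq_mul, mul_comm]
  refine ⟨fun Y Z hY hZ => ?_, fun Y k hYk hk => ?_⟩
  · have diag : ∀ W : GL ι F, Commute W M → ∃ δ : ι → L,
        Qi * (W : Matrix ι ι F).map (algebraMap F L) * P = Matrix.diagonal δ := by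
      intro W hW
      set W' := (W : Matrix ι ι F).map (algebraMap F L) with hW'
      have hc : W' * B = B * W' := by
        rw [hW', hB, ← RingHom.mapMatrix_apply, ← RingHom.mapMatrix_apply, ← map_mul, ← map_mul,
          ← Units.val_mul, ← Units.val_mul, hW.eq]
      set X := Qi * W' * P with hX
      have hXD : X * Matrix.diagonal lam = Matrix.diagonal lam * X := by
        have e1 : Qi * B = Matrix.diagonal lam * Qi := by
          calc Qi * B = Qi * (B * P) * Qi := by rw [mul_assoc, mul_assoc B, hPPi, mul_one]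
            _ = _ := by rw [hBP, ← mul_assoc, hPiP, one_mul]
        rw [hX, mul_assoc, ← hBP, mul_assoc, ← mul_assoc W', hc, mul_assoc B, ← mul_assoc, e1]
        simp only [mul_assoc]
      refine ⟨fun a => X a a, ?_⟩
      ext a b
      have h := congrFun (congrFun hXD a) b
      rw [Matrix.mul_diagonal, Matrix.diagonal_mul] at h
      by_cases hab : a = b
      · subst hab; rw [Matrix.diagonal_apply_eq]
      · rw [Matrix.diagonal_apply_ne _ hab]
        by_contra hne
        exact hab (hlam (mul_left_cancel₀ hne (h.trans (mul_comm _ _)))).symm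
    obtain ⟨δ, hδ⟩ := diag Y hY
    obtain ⟨ε, hε⟩ := diag Z hZ
    refine Units.ext (Matrix.map_injective (algebraMap F L).injective ?_)
    have back : ∀ (W : Matrix ι ι L) (δ : ι → L),
        Qi * W * P = Matrix.diagonal δ → W = P * Matrix.diagonal δ * Qi := by
      intro W δ h
      rw [← h, ← mul_assoc, ← mul_assoc, hPPi, one_mul, mul_assoc, hPPi, mul_one]
    show ((Y : Matrix ι ι F) * (Z : Matrix ι ι F)).map (algebraMap F L) =
      ((Z : Matrix ι ι F) * (Y : Matrix ι ι F)).map (algebraMap F L)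
    rw [Matrix.map_mul, Matrix.map_mul, back _ _ hδ, back _ _ hε]
    have hh : ∀ a b : ι → L, P * Matrix.diagonal a * Qi * (P * Matrix.diagonal b * Qi) =
        P * Matrix.diagonal (fun i => a i * b i) * Qi := fun a b => by
      calc P * Matrix.diagonal a * Qi * (P * Matrix.diagonal b * Qi)
          = P * Matrix.diagonal a * (Qi * P) * Matrix.diagonal b * Qi := by simp only [mul_assoc]
        _ = _ := by rw [hPiP, mul_one, mul_assoc P, Matrix.diagonal_mul_diagonal]
    rw [hh, hh]
    simp only [mul_comm (δ _)]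
  · set Y' := (algebraMap F L).mapMatrix (Y : Matrix ι ι F) with hY'
    have hYB : B ^ k * Y' = Y' * B := by
      rw [hY', hB, ← RingHom.mapMatrix_apply, ← map_pow, ← map_mul, ← map_mul,
        ← Units.val_pow_eq_pow_val, ← Units.val_mul, ← Units.val_mul, ← hYk, inv_mul_cancel_right]
    have hr : B.charpoly.IsRoot (ζ ^ k) := by
      have hpowv : ∀ j : ℕ, B ^ j *ᵥ v a₀ = ζ ^ j • v a₀ := by
        intro j
        induction j with
        | zero => simp
        | succ j ih =>
          have h1 := Module.End.mem_eigenspace_iff.1 (hv a₀).1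
          rw [Matrix.toLin'_apply, ha₀] at h1
          rw [pow_succ, ← mulVec_mulVec, h1, mulVec_smul, ih, smul_smul, pow_succ']
      set Yi := (algebraMap F L).mapMatrix ((Y⁻¹ : GL ι F) : Matrix ι ι F) with hYi
      have hii : Y' * Yi = 1 ∧ Yi * Y' = 1 := by
        rw [hY', hYi, ← map_mul, ← map_mul, ← Units.val_mul, ← Units.val_mul, mul_inv_cancel,
          inv_mul_cancel, Units.val_one, map_one]
        exact ⟨rfl, rfl⟩
      rw [← Matrix.charpoly_toLin', ← Module.End.hasEigenvalue_iff_isRoot_charpoly]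
      refine Module.End.hasEigenvalue_of_hasEigenvector (x := Yi *ᵥ v a₀) ⟨?_, fun e => (hv a₀).2 ?_⟩
      · rw [Module.End.mem_eigenspace_iff, Matrix.toLin'_apply, mulVec_mulVec]
        have : B * Yi = Yi * B ^ k := by
          calc B * Yi = Yi * (Y' * B) * Yi := by rw [← mul_assoc Yi, hii.2, one_mul]
            _ = Yi * B ^ k * (Y' * Yi) := by rw [← hYB]; simp only [mul_assoc]
            _ = _ := by rw [hii.1, mul_one]
        rw [this, ← mulVec_mulVec, hpowv, mulVec_smul]
      · calc v a₀ = (Y' * Yi) *ᵥ v a₀ := by rw [hii.1, one_mulVec]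
          _ = 0 := by rw [← mulVec_mulVec, e, mulVec_zero]
    obtain ⟨a, ha⟩ := hroot _ hr
    rcases hval a with h | ⟨i, hi, h⟩
    · exact absurd (hζ ▸ orderOf_dvd_of_pow_eq_one (ha.symm.trans h)) hk
    · refine ⟨i, hi, ?_⟩
      have hof : IsOfFinOrder ζ := orderOf_pos_iff.1 (hζ ▸ hp.out.pos)
      exact hζ ▸ hof.pow_eq_pow_iff_modEq.1 (ha.symm.trans h)

end CfsgLib.Chev
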