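/-
The cyclic subgroups of orders `q ± r + 1` of the groups of type ²G₂, and the element orders.
-/
import Mathlib
import Cfsg.Agent.Lib.Chev.Twist.G2Tori
import Cfsg.Agent.Lib.Chev.Twist.G2Cyclic
import Cfsg.Agent.Lib.Chev.Twist.SingerSeven

set_option autoImplicit false
set_option maxRecDepth 4000

namespace CfsgLib.Chev

open Cfsg.Lie
open scoped MatrixGroups

universe v

namespace TwG2

variable {K : Type v} [Field K] [Fintype K] {m : ℕ} (C : Ctx K m)

/-- The Sylow subgroup for the prime three. -/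
abbrev Ctx.uni (_C : Ctx K m) : Subgroup ↥(twistedG2 K (3 ^ m)) :=
  (chevG2.posUnipotent K ⊓ twistedG2 K (3 ^ m)).subgroupOf (twistedG2 K (3 ^ m))

/-- The elements of order dividing `q² - q + 1`. -/
def Ctx.cox (C : Ctx K m) : Set C.Gr := {g | g ≠ 1 ∧ orderOf g ∣ C.six}

theorem six_five : ∀ y : ZMod 5, y ^ 2 - y + 1 ≠ 0 := by decide

include C

theorem Ctx.six_facts (hm : 1 ≤ m) {p : ℕ} (hp : p.Prime) (h : p ∣ C.six) :
    p ≠ 2 ∧ p ≠ 3 ∧ 7 ≤ p ∧ ¬ p ∣ C.q ∧ ¬ p ∣ C.q - 1 ∧ ¬ p ∣ C.q + 1 ∧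
      p ∣ C.q ^ 6 - 1 ∧
      ∀ i j : ℕ, i < 6 → j < 6 → C.q ^ i ≡ C.q ^ j [MOD p] → i = j := by
  obtain ⟨h27, h8, h3⟩ := C.q_facts hm
  haveI := Fact.mk hp
  set q := C.q with hq
  have hsix : ((q : ZMod p)) ^ 2 - q + 1 = 0 := by
    have := (ZMod.natCast_eq_zero_iff (C.six) p).2 h
    rw [Ctx.six, ← hq, Nat.cast_add, Nat.cast_mul, Nat.cast_sub (by omega : 1 ≤ q)] at this
    push_cast at this
    linear_combination this
  have p2 : p ≠ 2 := by
    rintro rfl
    have : q * (q - 1) % 2 = 0 := by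
      rw [Nat.mul_mod, show (q - 1) % 2 = 0 by omega]; simp
    change 2 ∣ q * (q - 1) + 1 at h
    omega
  have p3 : p ≠ 3 := by
    rintro rfl
    have : q * (q - 1) % 3 = 0 := by rw [Nat.mul_mod, h3]; simp
    change 3 ∣ q * (q - 1) + 1 at h
    omega
  have h3z : (3 : ZMod p) ≠ 0 := fun e => p3 (((Nat.prime_dvd_prime_iff_eq hp Nat.prime_three).1
    ((ZMod.natCast_eq_zero_iff 3 p).1 (by exact_mod_cast e))))
  have h2z : (2 : ZMod p) ≠ 0 := fun e => p2 (((Nat.prime_dvd_prime_iff_eq hp Nat.prime_two).1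
    ((ZMod.natCast_eq_zero_iff 2 p).1 (by exact_mod_cast e))))
  set x : ZMod p := (q : ZMod p) with hx
  have hx0 : x ≠ 0 := fun e => by rw [e] at hsix; norm_num at hsix
  have hx1 : x ≠ 1 := fun e => by rw [e] at hsix; norm_num at hsix
  have hxm : x ≠ -1 := fun e => h3z (by rw [e] at hsix; linear_combination hsix)
  have hx3 : x ^ 3 = -1 := by linear_combination (x + 1) * hsix
  have pows : ∀ d, 0 < d → d < 6 → x ^ d ≠ 1 := by
    intro d h0 h6 e
    interval_cases d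
    · exact hx1 (by simpa using e)
    · exact (sq_eq_one_iff.1 e).elim hx1 hxm
    · exact h2z (by linear_combination hx3 - e)
    · exact hxm (by linear_combination x * hx3 - e)
    · have e5 : x ^ 2 = -1 := by linear_combination x ^ 2 * hx3 - e
      have : x = 0 := by linear_combination e5 - hsix
      exact hx0 this
  refine ⟨p2, p3, ?_, fun hd => hx0 ((ZMod.natCast_eq_zero_iff q p).2 hd), fun hd => hx1 ?_,
    fun hd => hxm ?_, ?_, ?_⟩
  · rcases Nat.lt_or_ge p 7 with hlt | hge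
    · exfalso
      have := hp.two_le
      interval_cases p <;> first | omega | (revert hp; decide) | skip
      -- `p = 5`
      exact six_five x hsix
    · exact hge
  · have := (ZMod.natCast_eq_zero_iff (q - 1) p).2 hd
    rwa [Nat.cast_sub (by omega), Nat.cast_one, sub_eq_zero] at this
  · have := (ZMod.natCast_eq_zero_iff (q + 1) p).2 hd
    push_cast at this
    exact eq_neg_of_add_eq_zero_left this
  · rw [← ZMod.natCast_eq_zero_iff, Nat.cast_sub (Nat.one_le_pow _ _ (by omega))]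
    push_cast
    rw [show (q : ZMod p) = x from rfl]
    linear_combination (x ^ 3 - 1) * hx3
  · intro i j hi hj he
    have e := (ZMod.natCast_eq_natCast_iff _ _ _).2 he
    push_cast at e
    rw [show (q : ZMod p) = x from rfl] at e
    rcases lt_trichotomy i j with hlt | heq | hgt
    · refine absurd ?_ (pows (j - i) (by omega) (by omega))
      refine mul_left_cancel₀ (pow_ne_zero i hx0) ?_
      rw [← pow_add, mul_one, show i + (j - i) = j by omega, e]
    · exact heq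
    · refine absurd ?_ (pows (i - j) (by omega) (by omega))
      refine mul_left_cancel₀ (pow_ne_zero j hx0) ?_
      rw [← pow_add, mul_one, show j + (i - j) = i by omega, e]

theorem Ctx.prime_cases {p : ℕ} (hp : p.Prime) (h : p ∣ Nat.card C.Gr) :
    p = 3 ∨ p ∣ C.q - 1 ∨ p ∣ C.q + 1 ∨ p ∣ C.six := by
  rw [C.card_Gr] at h
  rcases hp.dvd_mul.1 h with h | h
  · exact Or.inl ((Nat.prime_dvd_prime_iff_eq hp Nat.prime_three).1
      (hp.dvd_of_dvd_pow (hp.dvd_of_dvd_pow h)))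
  · rcases hp.dvd_mul.1 h with h | h
    · exact Or.inr (Or.inl h)
    · rcases hp.dvd_mul.1 h with h | h
      · exact Or.inr (Or.inr (Or.inl h))
      · exact Or.inr (Or.inr (Or.inr h))

theorem Ctx.card_uni : Nat.card C.uni = C.q ^ 3 := by
  rw [Nat.card_congr (Subgroup.subgroupOfEquivOfLe inf_le_right).toEquiv, C.card_posU]

theorem Ctx.not_dvd_of (hm : 1 ≤ m) {p : ℕ} (hp : p.Prime) (hp3 : p ≠ 3) : ¬ p ∣ C.q ^ 3 := fun h =>
  hp3 ((Nat.prime_dvd_prime_iff_eq hp Nat.prime_three).1 (hp.dvd_of_dvd_pow (hp.dvd_of_dvd_pow h)))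

theorem Ctx.index_uni (hm : 1 ≤ m) : ¬ 3 ∣ C.uni.index := by
  obtain ⟨h27, h8, h3⟩ := C.q_facts hm
  have h := Subgroup.card_mul_index C.uni
  rw [C.card_uni, C.card_Gr] at h
  rw [Nat.eq_of_mul_eq_mul_left (pow_pos (by omega) 3) h]
  intro hd
  rcases (Nat.prime_three.dvd_mul).1 hd with h | h
  · omega
  · rcases (Nat.prime_three.dvd_mul).1 h with h | h
    · omega
    · have := (C.six_facts hm Nat.prime_three h).2.1
      exact this rfl

/-- A non-trivial unipotent element fixes only the standard point. -/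
theorem Ctx.uni_fix (hm : 1 ≤ m) {x : C.Gr} (hx : x ∈ C.uni) (h1 : x ≠ 1) {P : C.Gr ⧸ C.bor}
    (hP : x • P = P) : P = C.base := by
  rcases C.eq_smul_opp P with e | ⟨u, hu, rfl⟩
  · exact e
  exfalso
  have hxU : (x : GL chevG2.Idx K) ∈ chevG2.posUnipotent K := hx.1
  have hb : ∀ y : C.Gr, (y : GL chevG2.Idx K) ∈ chevG2.posUnipotent K → y • C.base = C.base :=
    fun y hy => (C.stab_base y).2 (DataG2.facts.pos_le_borel
      (DataG2.facts.posUnipotent_eq (F := K) ▸ hy))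
  have hmem : u⁻¹ * x * u ∈ MulAction.stabilizer C.Gr C.base ⊓ MulAction.stabilizer C.Gr C.opp :=
    ⟨MulAction.mem_stabilizer_iff.2 (hb _ (Subgroup.mul_mem _ (Subgroup.mul_mem _
      (Subgroup.inv_mem _ hu) hxU) hu)), MulAction.mem_stabilizer_iff.2 (by
      rw [← smul_smul, ← smul_smul, hP, inv_smul_smul])⟩
  have hU' : u⁻¹ * x * u ∈ C.uni :=
    mul_mem (mul_mem (inv_mem (show u ∈ C.uni from ⟨hu, u.2⟩)) hx) (show u ∈ C.uni from ⟨hu, u.2⟩)
  rw [C.stab_pair] at hmem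
  have d1 := orderOf_dvd_natCard (⟨_, hmem⟩ : C.parG.range)
  have d2 := orderOf_dvd_natCard (⟨_, hU'⟩ : C.uni)
  rw [Subgroup.orderOf_mk] at d1 d2
  rw [← Nat.card_congr (MonoidHom.ofInjective C.parG_injective).toEquiv,
    Nat.card_units, Nat.card_eq_fintype_card, C.card] at d1
  rw [C.card_uni] at d2
  have hco : Nat.Coprime (C.q - 1) (C.q ^ 3) := Nat.Coprime.pow_right 3 (by
    obtain ⟨h27, -, -⟩ := C.q_facts hm
    exact (Nat.coprime_self_sub_left (by omega)).2 (Nat.coprime_one_left _))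
  have := Nat.dvd_gcd d1 d2
  rw [hco.gcd_eq_one, Nat.dvd_one, orderOf_eq_one_iff] at this
  exact h1 (by rwa [mul_assoc, inv_mul_eq_one, eq_comm, mul_eq_right] at this)

/-- An element of order three and anything commuting with it have a common fixed point. -/
theorem Ctx.three_fix (hm : 1 ≤ m) {x : C.Gr} (hx : orderOf x = 3) :
    ∃ h : C.Gr, h⁻¹ * x * h ∈ C.uni ∧ ∀ g : C.Gr, g * x = x * g → h⁻¹ * g * h ∈ C.bor := by
  haveI : Fact (Nat.Prime 3) := ⟨Nat.prime_three⟩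
  obtain ⟨h, hh⟩ := HallAux.exists_conj_mem C.uni (C.index_uni hm) (x := x) (n := 1)
    (orderOf_dvd_iff_pow_eq_one.1 (by rw [hx, pow_one]))
  refine ⟨h, hh, fun g hg => ?_⟩
  set y := h⁻¹ * x * h
  set g' := h⁻¹ * g * h
  have hy1 : y ≠ 1 := fun e => by
    rw [show y = MulAut.conj h⁻¹ x by simp [y, MulAut.conj_apply], MulEquiv.map_eq_one_iff] at e
    rw [e, orderOf_one] at hx
    omega
  have hy : y • C.base = C.base := (C.stab_base y).2 (DataG2.facts.pos_le_borel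
    (DataG2.facts.posUnipotent_eq (F := K) ▸ hh.1))
  have hc : g' * y = y * g' := by
    show h⁻¹ * g * h * (h⁻¹ * x * h) = h⁻¹ * x * h * (h⁻¹ * g * h)
    rw [show h⁻¹ * g * h * (h⁻¹ * x * h) = h⁻¹ * (g * x) * h by group, hg]; group
  have e : g' • C.base = C.base := C.uni_fix hm hh hy1 (by rw [smul_smul, ← hc, ← smul_smul, hy])
  exact ⟨(C.stab_base g').1 e, g'.2⟩

/-- An element of odd prime order dividing `q - 1` has centraliser conjugate to the torus. -/
theorem Ctx.minus_cent (hm : 1 ≤ m) {x : C.Gr} {p : ℕ} (hp : p.Prime) (hp2 : p ≠ 2)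
    (hx : orderOf x = p) (hd : p ∣ C.q - 1) :
    ∃ h : C.Gr, ∀ g : C.Gr, g * x = x * g → h⁻¹ * g * h ∈ C.parG.range := by
  haveI := Fact.mk hp
  obtain ⟨h27, h8, h3⟩ := C.q_facts hm
  have hcard : Nat.card C.parG.range = C.q - 1 := by
    rw [← Nat.card_congr (MonoidHom.ofInjective C.parG_injective).toEquiv,
      Nat.card_units, Nat.card_eq_fintype_card, C.card]
  have hidx : ¬ p ∣ C.parG.range.index := by
    have h := Subgroup.card_mul_index C.parG.range
    rw [hcard, C.card_Gr] at h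
    rw [Nat.eq_of_mul_eq_mul_left (show 0 < C.q - 1 by omega)
      (h.trans (show _ = (C.q - 1) * (C.q ^ 3 * ((C.q + 1) * C.six)) by ring))]
    have hp3 : p ≠ 3 := by rintro rfl; omega
    intro h'
    rcases hp.dvd_mul.1 h' with h' | h'
    · exact C.not_dvd_of hm hp hp3 h'
    · rcases hp.dvd_mul.1 h' with h' | h'
      · have := Nat.dvd_sub h' hd
        rw [show C.q + 1 - (C.q - 1) = 2 by omega] at this
        exact hp2 ((Nat.prime_dvd_prime_iff_eq hp Nat.prime_two).1 this)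
      · exact (C.six_facts hm hp h').2.2.2.2.1 hd
  obtain ⟨h, hh⟩ := HallAux.exists_conj_mem C.parG.range hidx (x := x) (n := 1)
    (by rw [pow_one, ← hx, pow_orderOf_eq_one])
  refine ⟨h, fun g hg => ?_⟩
  obtain ⟨b, hb⟩ := hh
  have hbo : orderOf b = p := by
    rw [← orderOf_injective C.parG C.parG_injective, hb,
      show h⁻¹ * x * h = MulAut.conj h⁻¹ x by simp [MulAut.conj_apply], MulEquiv.orderOf_eq, hx]
  rw [← C.centralizer_parG hm (b := b) (fun e => by rw [e, orderOf_one] at hbo; exact hp.ne_one hbo.symm)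
    (fun e => by
      have : orderOf b ∣ 2 := orderOf_dvd_of_pow_eq_one (by rw [e, neg_one_sq])
      rw [hbo] at this
      exact hp2 ((Nat.prime_dvd_prime_iff_eq hp Nat.prime_two).1 this)),
    hb, Subgroup.mem_centralizer_singleton_iff,
    show h⁻¹ * g * h * (h⁻¹ * x * h) = h⁻¹ * (g * x) * h by group, hg]
  group

variable {A T : Subgroup (Ctx.Gr C)} (hcard : 4 * Nat.card A = C.q + 1)
  (hcen : ∀ u ∈ A, u ≠ 1 → Subgroup.centralizer ({u} : Set (Ctx.Gr C)) = T)

include hcard hcen in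
/-- An element of odd prime order dividing `q + 1` has centraliser conjugate to `T`. -/
theorem Ctx.plus_cent (hm : 1 ≤ m) {x : C.Gr} {p : ℕ} (hp : p.Prime) (hp2 : p ≠ 2)
    (hx : orderOf x = p) (hd : p ∣ C.q + 1) :
    ∃ h : C.Gr, ∀ g : C.Gr, g * x = x * g → h⁻¹ * g * h ∈ T := by
  haveI := Fact.mk hp
  obtain ⟨h27, h8, h3⟩ := C.q_facts hm
  have hidx : ¬ p ∣ A.index := by
    have h := Subgroup.card_mul_index A
    rw [C.card_Gr] at h
    have h' : Nat.card A * A.index = Nat.card A * (4 * (C.q ^ 3 * ((C.q - 1) * C.six))) := by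
      rw [h, ← hcard]; ring
    rw [Nat.eq_of_mul_eq_mul_left Nat.card_pos h']
    have hp3 : p ≠ 3 := by rintro rfl; omega
    intro h''
    rcases hp.dvd_mul.1 h'' with h'' | h''
    · exact hp2 ((Nat.prime_dvd_prime_iff_eq hp Nat.prime_two).1
        (hp.dvd_of_dvd_pow (m := 2) (n := 2) h''))
    · rcases hp.dvd_mul.1 h'' with h'' | h''
      · exact C.not_dvd_of hm hp hp3 h''
      · rcases hp.dvd_mul.1 h'' with h'' | h''
        · have := Nat.dvd_sub hd h''
          rw [show C.q + 1 - (C.q - 1) = 2 by omega] at this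
          exact hp2 ((Nat.prime_dvd_prime_iff_eq hp Nat.prime_two).1 this)
        · exact (C.six_facts hm hp h'').2.2.2.2.2.1 hd
  obtain ⟨h, hh⟩ := HallAux.exists_conj_mem A hidx (x := x) (n := 1)
    (by rw [pow_one, ← hx, pow_orderOf_eq_one])
  refine ⟨h, fun g hg => ?_⟩
  rw [← hcen _ hh fun e => by
      rw [show h⁻¹ * x * h = MulAut.conj h⁻¹ x by simp [MulAut.conj_apply],
        MulEquiv.map_eq_one_iff] at e
      rw [e, orderOf_one] at hx
      exact hp.ne_one hx.symm,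
    Subgroup.mem_centralizer_singleton_iff,
    show h⁻¹ * g * h * (h⁻¹ * x * h) = h⁻¹ * (g * x) * h by group, hg]
  group

omit hcard hcen in
theorem Ctx.three_comm_dvd (hm : 1 ≤ m) {x g : C.Gr} (hx : orderOf x = 3) (hg : g * x = x * g) :
    orderOf g ∣ C.q ^ 3 * (C.q - 1) := by
  obtain ⟨h, -, hh⟩ := C.three_fix hm hx
  have := orderOf_dvd_natCard (⟨_, hh g hg⟩ : C.bor)
  rwa [Subgroup.orderOf_mk, C.card_bor,
    show h⁻¹ * g * h = MulAut.conj h⁻¹ g by simp [MulAut.conj_apply], MulEquiv.orderOf_eq] at this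

omit hcard hcen in
/-- The centraliser of an element of prime order dividing `q² - q + 1`. -/
theorem Ctx.six_cent (hm : 1 ≤ m) {x : C.Gr} {p : ℕ} (hp : p.Prime) (hx : orderOf x = p)
    (hd : p ∣ C.six) :
    (∀ a ∈ Subgroup.centralizer ({x} : Set C.Gr), ∀ b ∈ Subgroup.centralizer ({x} : Set C.Gr),
      a * b = b * a) ∧
    Nat.card ↥(Subgroup.centralizer ({x} : Set C.Gr)) ∣ C.six := by
  haveI := Fact.mk hp
  obtain ⟨h27, h8, h3⟩ := C.q_facts hm
  obtain ⟨p2, p3, p7, pq, pm, pp, p6, pinj⟩ := C.six_facts hm hp hd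
  have hc : ∀ a ∈ Subgroup.centralizer ({x} : Set C.Gr), ∀ b ∈ Subgroup.centralizer ({x} : Set C.Gr),
      a * b = b * a := by
    intro a ha b hb
    haveI : CharP K 3 := by
      obtain ⟨r, hr⟩ := CharP.exists K
      have h3' : ((3 : ℕ) : K) = 0 := by exact_mod_cast C.three_eq_zero
      rcases (Nat.dvd_prime Nat.prime_three).1 ((CharP.cast_eq_zero_iff K r 3).1 h3') with e | e
      · exact absurd e (CharP.char_ne_one K r)
      · exact e ▸ hr
    have hinj := C.seven_injective hm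
    have h7 := (singer_seven (F := K) (ι := Sh) card_short (p := p) p3 (by rwa [C.card])
      (by rwa [C.card]) (by rw [C.card]; exact pinj) (M := C.seven x)
      (by rw [← map_pow, ← hx, pow_orderOf_eq_one, map_one])
      (fun e => by
        rw [← map_one C.seven] at e
        rw [hinj e, orderOf_one] at hx
        exact hp.ne_one hx.symm)).1 (C.seven a) (C.seven b)
      ((show Commute a x from Subgroup.mem_centralizer_singleton_iff.1 ha).map C.seven)
      ((show Commute b x from Subgroup.mem_centralizer_singleton_iff.1 hb).map C.seven)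
    exact hinj (by rw [map_mul, map_mul, h7.eq])
  refine ⟨hc, ?_⟩
  set Z := Subgroup.centralizer ({x} : Set C.Gr) with hZ
  have hbad : ∀ r : ℕ, r.Prime → r ∣ Nat.card Z → ¬ r ∣ C.q ^ 3 * ((C.q - 1) * (C.q + 1)) := by
    intro r hr hrZ hrG
    haveI := Fact.mk hr
    obtain ⟨⟨y, hyZ⟩, hy⟩ := exists_prime_orderOf_dvd_card' r hrZ
    rw [Subgroup.orderOf_mk] at hy
    have hxy : x * y = y * x := (Subgroup.mem_centralizer_singleton_iff.1 hyZ).symm
    by_cases r3 : r = 3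
    · subst r3
      have := C.three_comm_dvd hm hy hxy
      rw [hx] at this
      rcases hp.dvd_mul.1 this with h | h
      · exact C.not_dvd_of hm hp p3 h
      · exact pm h
    have hr' : r ∣ C.q - 1 ∨ r ∣ C.q + 1 := by
      rcases hr.dvd_mul.1 hrG with h | h
      · exact absurd h (C.not_dvd_of hm hr r3)
      · exact hr.dvd_mul.1 h
    by_cases r2 : r = 2
    · subst r2
      have hy2 : y * y = 1 := by rw [← pow_two, ← hy, pow_orderOf_eq_one]
      have hy1 : y ≠ 1 := fun e => by rw [e, orderOf_one] at hy; omega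
      have := orderOf_dvd_natCard
        (⟨x, Subgroup.mem_centralizer_singleton_iff.2 hxy⟩ : Subgroup.centralizer ({y} : Set C.Gr))
      rw [Subgroup.orderOf_mk, hx, C.card_centralizer_involution hm hy1 hy2] at this
      rcases hp.dvd_mul.1 this with h | h
      · exact pq h
      · rcases hp.dvd_mul.1 h with h | h
        · exact pm h
        · exact pp h
    obtain ⟨A', T', -, -, hA', -, hT', -, -, hcen', -⟩ := C.exists_torus_one hm
    rcases hr' with h | h
    · obtain ⟨g, hg⟩ := C.minus_cent hm hr r2 hy h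
      have := orderOf_dvd_natCard (⟨_, hg x hxy⟩ : C.parG.range)
      rw [Subgroup.orderOf_mk, ← Nat.card_congr (MonoidHom.ofInjective C.parG_injective).toEquiv,
        Nat.card_units, Nat.card_eq_fintype_card, C.card,
        show g⁻¹ * x * g = MulAut.conj g⁻¹ x by simp [MulAut.conj_apply], MulEquiv.orderOf_eq,
        hx] at this
      exact pm this
    · obtain ⟨g, hg⟩ := C.plus_cent hA' hcen' hm hr r2 hy h
      have := orderOf_dvd_natCard (⟨_, hg x hxy⟩ : T')
      rw [Subgroup.orderOf_mk, hT',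
        show g⁻¹ * x * g = MulAut.conj g⁻¹ x by simp [MulAut.conj_apply], MulEquiv.orderOf_eq,
        hx] at this
      exact pp this
  have hdG := Subgroup.card_subgroup_dvd_card Z
  rw [C.card_Gr, show C.q ^ 3 * ((C.q - 1) * ((C.q + 1) * C.six)) =
    C.q ^ 3 * ((C.q - 1) * (C.q + 1)) * C.six by ring] at hdG
  exact (Nat.coprime_of_dvd hbad).dvd_of_dvd_mul_left hdG

omit hcard hcen in
/-- Centralisers in the exceptional tori. -/
theorem Ctx.cox_cent (hm : 1 ≤ m) {g : C.Gr} (hg : g ∈ C.cox) :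
    IsCyclic ↥(Subgroup.centralizer ({g} : Set C.Gr)) ∧
    Nat.card ↥(Subgroup.centralizer ({g} : Set C.Gr)) ∣ C.six ∧
    7 ≤ Nat.card ↥(Subgroup.centralizer ({g} : Set C.Gr)) ∧
    (∀ u ∈ Subgroup.centralizer ({g} : Set C.Gr), u ≠ 1 →
      Subgroup.centralizer ({u} : Set C.Gr) = Subgroup.centralizer ({g} : Set C.Gr)) ∧
    ∃ n, n ∣ 6 ∧
      Nat.card ↥(Subgroup.normalizer
        ((Subgroup.centralizer ({g} : Set C.Gr) : Subgroup C.Gr) : Set C.Gr)) =
      n * Nat.card ↥(Subgroup.centralizer ({g} : Set C.Gr)) := by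
  classical
  obtain ⟨hg1, hgd⟩ := hg
  obtain ⟨p, hp, hpd⟩ := Nat.exists_prime_and_dvd (mt orderOf_eq_one_iff.1 hg1)
  haveI := Fact.mk hp
  obtain ⟨x, hxo, hgx, -⟩ := HallAux.exists_prime_power g hpd
  obtain ⟨p2, p3, p7, pq, pm, pp, p6, pinj⟩ := C.six_facts hm hp (hpd.trans hgd)
  obtain ⟨hcomm, hdvd⟩ := C.six_cent hm hp hxo (hpd.trans hgd)
  set Z := Subgroup.centralizer ({x} : Set C.Gr) with hZ
  have hxZ : x ∈ Z := Subgroup.mem_centralizer_singleton_iff.2 rfl
  have hgZ : g ∈ Z := Subgroup.mem_centralizer_singleton_iff.2 hgx.eq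
  have hsame : ∀ u ∈ Z, u ≠ 1 → Subgroup.centralizer ({u} : Set C.Gr) = Z := by
    intro u hu hu1
    refine le_antisymm ?_ fun v hv => Subgroup.mem_centralizer_singleton_iff.2 (hcomm v hv u hu)
    obtain ⟨r, hr, hrd⟩ := Nat.exists_prime_and_dvd (mt orderOf_eq_one_iff.1 hu1)
    obtain ⟨w, hw, huw, hwu⟩ := HallAux.exists_prime_power u hrd
    have hwZ : w ∈ Z := Subgroup.zpowers_le.2 hu hwu
    have hr6 : r ∣ C.six := by
      refine hrd.trans (dvd_trans ?_ hdvd)
      rw [← Subgroup.orderOf_mk u hu]; exact orderOf_dvd_natCard _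
    obtain ⟨hcomm', -⟩ := C.six_cent hm hr hw hr6
    intro v hv
    rw [Subgroup.mem_centralizer_singleton_iff] at hv ⊢
    refine hcomm' v (Subgroup.mem_centralizer_singleton_iff.2 ?_) x
      (Subgroup.mem_centralizer_singleton_iff.2 (hcomm x hxZ w hwZ))
    obtain ⟨j, rfl⟩ := Subgroup.mem_zpowers_iff.1 hwu
    exact ((show Commute v u from hv).zpow_right j).eq
  have hgC : Subgroup.centralizer ({g} : Set C.Gr) = Z := hsame g hgZ hg1
  rw [hgC]
  haveI hcyc : IsCyclic Z := HallAux.isCyclic_of_comm Z hcomm fun r hr hrd P hP _ => by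
    obtain ⟨r2, r3, r7, -⟩ := C.six_facts hm hr.out (hrd.trans hdvd)
    exact C.sylow_cyclic hm (by omega) P hP
  have hxdvd : p ∣ Nat.card Z := by
    rw [← hxo, ← Subgroup.orderOf_mk x hxZ]; exact orderOf_dvd_natCard _
  refine ⟨hcyc, hdvd, p7.trans (Nat.le_of_dvd Nat.card_pos hxdvd), hsame, ?_⟩
  set N := Subgroup.normalizer (Z : Set C.Gr) with hN
  have hNx : N ≤ Subgroup.normalizer (Subgroup.zpowers x : Set C.Gr) :=
    HallAux.normalizer_le_of_cyclic (Subgroup.zpowers_le.2 hxZ)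
  haveI : CharP K 3 := by
    obtain ⟨r, hr⟩ := CharP.exists K
    have h3' : ((3 : ℕ) : K) = 0 := by exact_mod_cast C.three_eq_zero
    rcases (Nat.dvd_prime Nat.prime_three).1 ((CharP.cast_eq_zero_iff K r 3).1 h3') with e | e
    · exact absurd e (CharP.char_ne_one K r)
    · exact e ▸ hr
  have hinj := C.seven_injective hm
  have h7 := (singer_seven (F := K) (ι := Sh) card_short (p := p) p3 (by rwa [C.card])
    (by rwa [C.card]) (by rw [C.card]; exact pinj) (M := C.seven x)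
    (by rw [← map_pow, ← hxo, pow_orderOf_eq_one, map_one])
    (fun e => by
      rw [← map_one C.seven] at e
      rw [hinj e, orderOf_one] at hxo
      exact hp.ne_one hxo.symm)).2
  have hof : IsOfFinOrder x := isOfFinOrder_of_finite x
  have hex : ∀ n : N, ∃ i < 6, (n : C.Gr) * x * (n : C.Gr)⁻¹ = x ^ C.q ^ i := by
    intro n
    obtain ⟨k, hk⟩ := hof.mem_powers_iff_mem_zpowers.2
      ((Subgroup.mem_normalizer_iff.1 (hNx n.2) x).1 (Subgroup.mem_zpowers x))
    change x ^ k = (n : C.Gr) * x * (n : C.Gr)⁻¹ at hk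
    have hk0 : ¬ p ∣ k := fun h => by
      obtain ⟨l, rfl⟩ := h
      rw [pow_mul, ← hxo, pow_orderOf_eq_one, one_pow, eq_comm, conj_eq_one_iff] at hk
      rw [hk, orderOf_one] at hxo
      exact hp.ne_one hxo.symm
    obtain ⟨i, hi, he⟩ := h7 (C.seven n) k (by rw [← map_inv, ← map_mul, ← map_mul, ← hk, map_pow]) hk0
    rw [C.card] at he
    exact ⟨i, hi, by rw [← hk, hof.pow_eq_pow_iff_modEq, hxo]; exact he⟩
  choose χ hχ hχe using hex
  have hq6 : C.q ^ 6 ≡ 1 [MOD p] :=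
    ((Nat.modEq_iff_dvd' (Nat.one_le_pow _ _ (Nat.pow_pos (by norm_num)))).2 p6).symm
  have huniq : ∀ {i j : ℕ}, i < 6 → j < 6 → x ^ C.q ^ i = x ^ C.q ^ j → i = j := fun hi hj h =>
    pinj _ _ hi hj (hxo ▸ hof.pow_eq_pow_iff_modEq.1 h)
  have hred : ∀ k, x ^ C.q ^ k = x ^ C.q ^ (k % 6) := fun k => by
    rw [hof.pow_eq_pow_iff_modEq, hxo]
    conv_lhs => rw [← Nat.mod_add_div k 6, pow_add, pow_mul]
    simpa using (hq6.pow (k / 6)).mul_left (C.q ^ (k % 6))
  let f : N →* Multiplicative (ZMod 6) :=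
    MonoidHom.mk' (fun a => Multiplicative.ofAdd (χ a : ZMod 6)) fun a b => by
      rw [← ofAdd_add, ← Nat.cast_add]
      congr 1
      rw [ZMod.natCast_eq_natCast_iff]
      have h1 : ((a * b : N) : C.Gr) * x * ((a * b : N) : C.Gr)⁻¹ =
          x ^ C.q ^ ((χ a + χ b) % 6) := by
        rw [← hred, pow_add C.q (χ a) (χ b), pow_mul, ← hχe a, conj_pow, ← hχe b, Subgroup.coe_mul]
        group
      rw [hχe (a * b)] at h1
      rw [huniq (hχ (a * b)) (Nat.mod_lt _ (by norm_num)) h1]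
      exact Nat.mod_modEq _ _
  have hker : f.ker = Z.subgroupOf N := by
    ext a
    rw [MonoidHom.mem_ker, Subgroup.mem_subgroupOf, hZ, Subgroup.mem_centralizer_singleton_iff]
    show Multiplicative.ofAdd (χ a : ZMod 6) = 1 ↔ _
    rw [ofAdd_eq_one, ZMod.natCast_eq_zero_iff]
    constructor
    · intro h
      have h1 := hχe a
      rw [Nat.eq_zero_of_dvd_of_lt h (hχ a), pow_zero, pow_one, mul_inv_eq_iff_eq_mul] at h1
      exact h1
    · intro h
      rw [huniq (hχ a) (by norm_num : 0 < 6) (by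
        rw [← hχe a, pow_zero, pow_one, mul_inv_eq_iff_eq_mul]; exact h)]
      exact dvd_zero _
  refine ⟨Nat.card f.range, ?_, ?_⟩
  · have := Subgroup.card_subgroup_dvd_card f.range
    rwa [Nat.card_congr Multiplicative.toAdd, Nat.card_zmod] at this
  · rw [← Subgroup.card_mul_index f.ker, Subgroup.index_ker, hker,
      Nat.card_congr (Subgroup.subgroupOfEquivOfLe Subgroup.le_normalizer).toEquiv, mul_comm]

omit hcard hcen in
theorem Ctx.borel_dvd {g : C.Gr} {P : C.Gr ⧸ C.bor} (h : g • P = P) :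
    orderOf g ∣ C.q ^ 3 * (C.q - 1) := by
  rw [← C.card_stab P, ← Subgroup.orderOf_mk g (show g ∈ MulAction.stabilizer C.Gr P from h)]
  exact orderOf_dvd_natCard _

omit hcard hcen in
theorem Ctx.cox_fpf (hm : 1 ≤ m) {g : C.Gr} (hg : g ∈ C.cox) : g ∈ C.fpf := by
  intro P hP
  obtain ⟨hg1, hgd⟩ := hg
  obtain ⟨p, hp, hpd⟩ := Nat.exists_prime_and_dvd (mt orderOf_eq_one_iff.1 hg1)
  obtain ⟨p2, p3, p7, pq, pm, -⟩ := C.six_facts hm hp (hpd.trans hgd)
  rcases hp.dvd_mul.1 (hpd.trans (C.borel_dvd hP)) with h | h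
  · exact C.not_dvd_of hm hp p3 h
  · exact pm h

omit hcard hcen in
/-- The decomposition of the elements without fixed points. -/
theorem Ctx.fpf_eq (hm : 1 ≤ m) {A T : Subgroup C.Gr} (hcard : 4 * Nat.card A = C.q + 1)
    (hT : Nat.card T = C.q + 1)
    (hsq : ∀ t ∈ T, t ^ ((C.q + 1) / 2) = 1)
    (hcen : ∀ u ∈ A, u ≠ 1 → Subgroup.centralizer ({u} : Set C.Gr) = T) :
    C.fpf = C.cox ∪ {z | ∃ h : C.Gr, h⁻¹ * z * h ∈ {t | t ∈ T ∧ t * t ≠ 1}} ∧
      Disjoint C.cox {z : C.Gr | ∃ h : C.Gr, h⁻¹ * z * h ∈ {t | t ∈ T ∧ t * t ≠ 1}} := by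
  obtain ⟨h27, h8, h3⟩ := C.q_facts hm
  have hprime : ∀ t ∈ T, t * t ≠ 1 → ∃ p, p.Prime ∧ p ≠ 2 ∧ p ∣ C.q + 1 ∧ p ∣ orderOf t := by
    intro t ht htt
    have hd := orderOf_dvd_of_pow_eq_one (hsq t ht)
    by_contra hno
    push Not at hno
    refine htt ?_
    rw [← pow_two]
    refine orderOf_dvd_iff_pow_eq_one.1 ?_
    obtain ⟨a, ha⟩ : ∃ a, (C.q + 1) / 2 = 2 * a := ⟨(C.q + 1) / 4, by omega⟩
    have hodd : Odd a := Nat.odd_iff.2 (by omega)
    refine (Nat.Coprime.dvd_of_dvd_mul_right ?_ (ha ▸ hd))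
    refine Nat.coprime_of_dvd fun r hr h1 h2 => ?_
    have r2 : r ≠ 2 := by rintro rfl; exact absurd (hodd.of_dvd_nat h2) (by decide)
    exact hno r hr r2 (h2.trans ⟨4, by omega⟩) h1
  refine ⟨?_, Set.disjoint_left.2 ?_⟩
  · refine Set.Subset.antisymm (fun g hg => ?_) ?_
    · have hg1 : g ≠ 1 := fun e => hg C.base (by rw [e, one_smul])
      by_cases hcox : orderOf g ∣ C.six
      · exact Or.inl ⟨hg1, hcox⟩
      right
      have hno2 : g * g ≠ 1 := fun e => by
        have h1 := C.card_fix_involution hm hg1 e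
        rw [Nat.card_eq_zero.2 (Or.inl ⟨fun x => hg x.1 x.2⟩)] at h1
        omega
      have hfix3 : ¬ 3 ∣ orderOf g := fun h => by
        obtain ⟨x, hx, hgx, -⟩ := HallAux.exists_prime_power g h
        obtain ⟨k, -, hk⟩ := C.three_fix hm hx
        have h2 := hk g hgx.eq
        refine hg (QuotientGroup.mk k) ?_
        rw [MulAction.Quotient.smul_mk, QuotientGroup.eq, smul_eq_mul]
        have := inv_mem h2
        rwa [show (k⁻¹ * g * k)⁻¹ = (g * k)⁻¹ * k by group] at this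
      have hminus : ∀ p, p.Prime → p ≠ 2 → p ∣ orderOf g → ¬ p ∣ C.q - 1 := fun p hp hp2 hpo hpd => by
        obtain ⟨x, hx, hgx, -⟩ := HallAux.exists_prime_power g hpo
        obtain ⟨k, hk⟩ := C.minus_cent hm hp hp2 hx hpd
        obtain ⟨b, hb⟩ := hk g hgx.eq
        refine hg (k • C.base) ?_
        rw [← inv_smul_eq_iff, smul_smul, smul_smul, ← hb]
        exact (C.par_mem_stab b).1
      -- some odd prime divides `q + 1` and the order
      obtain ⟨p, hp, hp2, hpo, hpd⟩ : ∃ p, p.Prime ∧ p ≠ 2 ∧ p ∣ orderOf g ∧ p ∣ C.q + 1 := by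
        by_contra hno
        push Not at hno
        by_cases h2 : 2 ∣ orderOf g
        · -- the element centralises an involution
          obtain ⟨y, hy, hgy, -⟩ := HallAux.exists_prime_power g h2
          have hy2 : y * y = 1 := by rw [← pow_two, ← hy, pow_orderOf_eq_one]
          have hy1 : y ≠ 1 := fun e => by rw [e, orderOf_one] at hy; omega
          have hd := orderOf_dvd_natCard
            (⟨g, Subgroup.mem_centralizer_singleton_iff.2 hgy.eq⟩ :
              Subgroup.centralizer ({y} : Set C.Gr))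
          rw [Subgroup.orderOf_mk, C.card_centralizer_involution hm hy1 hy2] at hd
          have honly : ∀ r, r.Prime → r ∣ orderOf g → r = 2 := by
            intro r hr hrd
            by_contra r2
            rcases hr.dvd_mul.1 (hrd.trans hd) with h | h
            · exact hfix3 ((Nat.prime_dvd_prime_iff_eq hr Nat.prime_three).1
                (hr.dvd_of_dvd_pow h) ▸ hrd)
            · rcases hr.dvd_mul.1 h with h | h
              · exact hminus r hr r2 hrd h
              · exact hno r hr r2 hrd h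
          obtain ⟨n, hn⟩ : ∃ n, orderOf g = 2 ^ n :=
            ⟨_, Nat.eq_prime_pow_of_unique_prime_dvd (orderOf_pos g).ne'
              (fun {r} hr hrd => honly r hr hrd)⟩
          haveI : Fact (Nat.Prime 2) := ⟨Nat.prime_two⟩
          obtain ⟨S, hS⟩ := (IsPGroup.of_card (p := 2) (n := n)
            (by rw [Nat.card_zpowers, hn]) : IsPGroup 2 (Subgroup.zpowers g)).exists_le_sylow
          exact hno2 ((C.sylow_two S).2 g (hS (Subgroup.mem_zpowers g)))
        · refine hcox (Nat.Coprime.dvd_of_dvd_mul_left (m := C.q ^ 3 * ((C.q - 1) * (C.q + 1))) ?_ ?_)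
          · refine Nat.coprime_of_dvd fun r hr h1 h1' => ?_
            have r2 : r ≠ 2 := by rintro rfl; exact h2 h1
            rcases hr.dvd_mul.1 h1' with h | h
            · exact hfix3 ((Nat.prime_dvd_prime_iff_eq hr Nat.prime_three).1
                (hr.dvd_of_dvd_pow (hr.dvd_of_dvd_pow h)) ▸ h1)
            · rcases hr.dvd_mul.1 h with h | h
              · exact hminus r hr r2 h1 h
              · exact hno r hr r2 h1 h
          · rw [show C.q ^ 3 * ((C.q - 1) * (C.q + 1)) * C.six = Nat.card C.Gr by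
              rw [C.card_Gr]; ring]
            exact orderOf_dvd_natCard g
      obtain ⟨x, hx, hgx, hxg⟩ := HallAux.exists_prime_power g hpo
      obtain ⟨k, hk⟩ := C.plus_cent hcard hcen hm hp hp2 hx hpd
      refine ⟨k, hk g hgx.eq, fun e => hno2 ?_⟩
      rw [show k⁻¹ * g * k * (k⁻¹ * g * k) = k⁻¹ * (g * g) * k by group] at e
      rwa [mul_assoc, inv_mul_eq_one, eq_comm, mul_eq_right] at e
    · rintro g (hg | ⟨k, hk, hk2⟩)
      · exact C.cox_fpf hm hg
      · intro P hP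
        obtain ⟨p, hp, hp2, hpd, hpo⟩ := hprime _ hk hk2
        rw [show k⁻¹ * g * k = MulAut.conj k⁻¹ g by simp [MulAut.conj_apply],
          MulEquiv.orderOf_eq] at hpo
        have hp3 : p ≠ 3 := by rintro rfl; omega
        rcases hp.dvd_mul.1 (hpo.trans (C.borel_dvd hP)) with h | h
        · exact C.not_dvd_of hm hp hp3 h
        · have := Nat.dvd_sub hpd h
          rw [show C.q + 1 - (C.q - 1) = 2 by omega] at this
          exact hp2 ((Nat.prime_dvd_prime_iff_eq hp Nat.prime_two).1 this)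
  · rintro g ⟨-, hg⟩ ⟨k, hk, hk2⟩
    obtain ⟨p, hp, hp2, hpd, hpo⟩ := hprime _ hk hk2
    rw [show k⁻¹ * g * k = MulAut.conj k⁻¹ g by simp [MulAut.conj_apply],
      MulEquiv.orderOf_eq] at hpo
    exact (C.six_facts hm hp (hpo.trans hg)).2.2.2.2.2.1 hpd

omit hcard hcen in
theorem Ctx.card_cox (hm : 1 ≤ m) : 3 * C.six * C.cox.ncard = Nat.card C.Gr * (C.q * (C.q - 2)) := by
  classical
  obtain ⟨h27, -, -⟩ := C.q_facts hm
  obtain ⟨A, T, τ, -, hA, -, hT, -, hsq, hcen, hcen', h4, hN, -⟩ := C.exists_torus_one hm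
  obtain ⟨he, hdisj⟩ := C.fpf_eq hm hA hT hsq hcen
  set S := {t : C.Gr | t ∈ T ∧ t * t ≠ 1} with hS
  set Q := {z : C.Gr | ∃ h : C.Gr, h⁻¹ * z * h ∈ S} with hQ
  have hfp : C.fpf.ncard = C.cox.ncard + Q.ncard := by rw [he, Set.ncard_union_eq hdisj]
  have hSc : S.ncard + 4 = C.q + 1 := by
    rw [← h4, ← hT, ← Set.ncard_union_eq (Set.disjoint_left.2 fun t h h' => h.2 h'.2)]
    rw [show Nat.card T = (T : Set C.Gr).ncard from Nat.card_coe_set_eq _]
    congr 1
    ext t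
    constructor
    · rintro (h | h) <;> exact h.1
    · intro h; by_cases ht : t * t = 1
      · exact Or.inr ⟨h, ht⟩
      · exact Or.inl ⟨h, ht⟩
  have hsw := HallAux.card_sweep S (fun t ht => ht.1) (fun t ht => hcen' t ht.1 ht.2)
    fun n hn t ht => ⟨(Subgroup.mem_normalizer_iff.1 hn t).1 ht.1, fun e => ht.2 (by
      rw [show n * t * n⁻¹ * (n * t * n⁻¹) = n * (t * t) * n⁻¹ by group, conj_eq_one_iff] at e
      exact e)⟩
  rw [hN, ← hQ] at hsw
  have hnt := C.card_involutions hm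
  have hf := C.card_fpf hm
  set nt := {t : C.Gr | t ≠ 1 ∧ t * t = 1}.ncard
  set q := C.q with hq
  obtain ⟨r, hr⟩ : ∃ r, q = r + 2 := ⟨q - 2, by omega⟩
  have hG := C.card_Gr
  rw [Ctx.six, ← hq] at hG ⊢
  rw [hr, show r + 2 - 1 = r + 1 by omega] at hG hnt
  rw [hr, show r + 2 - 1 = r + 1 by omega, Nat.add_sub_cancel]
  rw [hfp, hr] at hf
  rw [hr] at hsw
  have hS' : (S.ncard : ℤ) = (r : ℤ) - 1 := by omega
  generalize Nat.card C.Gr = G at *
  zify at hG hnt hsw
  rw [hS'] at hsw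
  push_cast at hf
  zify
  set u : ℤ := ((r : ℤ) + 2) * ((r : ℤ) + 1) + 1 with hu
  have key : (((r : ℤ) + 2 + 1) * 4) * (3 * u * (C.cox.ncard : ℤ)) =
      (((r : ℤ) + 2 + 1) * 4) * ((G : ℤ) * (((r : ℤ) + 2) * (r : ℤ))) := by
    linear_combination (6 * u * ((r : ℤ) + 3)) * hf - 2 * u * hsw - 6 * u * hnt +
      6 * ((r : ℤ) ^ 2 + 5 * r + 7) * hG
  exact mul_left_cancel₀ (by positivity) key

omit hcard hcen in
/-- The two classes of exceptional cyclic subgroups. -/
theorem Ctx.exists_cox_tori (hm : 1 ≤ m) :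
    ∀ k ∈ ({C.q - 3 ^ (m + 1) + 1, C.q + 3 ^ (m + 1) + 1} : Set ℕ),
      ∃ A : Subgroup C.Gr, IsCyclic A ∧ Nat.card A = k ∧
        (∀ u ∈ A, u ≠ 1 → Subgroup.centralizer ({u} : Set C.Gr) = A) ∧
        Nat.card ↥(Subgroup.normalizer (A : Set C.Gr)) = 6 * k ∧
        ∀ g ∈ C.cox, orderOf g ∣ C.q - 3 ^ (m + 1) + 1 ∨ orderOf g ∣ C.q + 3 ^ (m + 1) + 1 := by
  classical
  obtain ⟨h27, -, -⟩ := C.q_facts hm
  set G := Nat.card C.Gr with hG
  set q := C.q with hq
  set E := C.cox with hEd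
  have hGpos : 0 < G := Nat.card_pos
  have hE := C.card_cox hm
  rw [← hq, ← hG, ← hEd] at hE
  obtain ⟨r, hr⟩ : ∃ r, q = r + 2 := ⟨q - 2, by omega⟩
  have hsix : C.six = (r + 2) * (r + 1) + 1 := by
    rw [Ctx.six, ← hq, hr]; rfl
  have hElt : 3 * E.ncard < G := by
    by_contra h
    push Not at h
    have : G * C.six ≤ G * (q * (q - 2)) := by
      rw [← hE, mul_right_comm]
      exact Nat.mul_le_mul_right _ h
    have h' := Nat.le_of_mul_le_mul_left this hGpos
    rw [hsix, hr, Nat.add_sub_cancel] at h'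
    nlinarith
  have hEne : E.Nonempty := by
    rcases Set.eq_empty_or_nonempty E with h | h
    · exfalso
      rw [h, Set.ncard_empty, mul_zero] at hE
      rcases Nat.mul_eq_zero.1 hE.symm with h' | h'
      · omega
      · rcases Nat.mul_eq_zero.1 h' with h'' | h'' <;> omega
    · exact h
  let cls : C.Gr → Set C.Gr := fun x =>
    {z | ∃ h : C.Gr, h⁻¹ * z * h ∈ {u | u ∈ Subgroup.centralizer ({x} : Set C.Gr) ∧ u ≠ 1}}
  have hself : ∀ {x : C.Gr}, x ∈ E → x ∈ cls x := fun {x} hx =>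
    ⟨1, by rw [inv_one, one_mul, mul_one]; exact Subgroup.mem_centralizer_singleton_iff.2 rfl,
      by rw [inv_one, one_mul, mul_one]; exact hx.1⟩
  have hsub : ∀ {x : C.Gr}, x ∈ E → cls x ⊆ E := by
    rintro x hx z ⟨h, hz, hz1⟩
    obtain ⟨-, hdvd, -⟩ := C.cox_cent hm hx
    refine ⟨fun e => hz1 (by rw [e, mul_one, inv_mul_cancel]), ?_⟩
    have := orderOf_dvd_natCard (⟨_, hz⟩ : Subgroup.centralizer ({x} : Set C.Gr))
    rw [Subgroup.orderOf_mk, show h⁻¹ * z * h = MulAut.conj h⁻¹ z by simp [MulAut.conj_apply],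
      MulEquiv.orderOf_eq] at this
    exact this.trans hdvd
  have hcls : ∀ {x z : C.Gr}, x ∈ E → z ∈ cls x → cls z = cls x := by
    rintro x z hx ⟨g, hg, hg1⟩
    obtain ⟨-, -, -, hs, -⟩ := C.cox_cent hm hx
    have hmem : ∀ u, u ∈ Subgroup.centralizer ({z} : Set C.Gr) ↔
        g⁻¹ * u * g ∈ Subgroup.centralizer ({x} : Set C.Gr) := fun u => by
      rw [← hs _ hg hg1, ← HallAux.centralizer_conj, show g * (g⁻¹ * z * g) * g⁻¹ = z by group]
    have hne : ∀ a b : C.Gr, a⁻¹ * b * a = 1 ↔ b = 1 := fun a b => by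
      rw [show a⁻¹ * b * a = MulAut.conj a⁻¹ b by simp [MulAut.conj_apply], MulEquiv.map_eq_one_iff]
    ext w
    simp only [cls, Set.mem_setOf_eq, hmem, ne_eq, hne]
    constructor
    · rintro ⟨k, hk, hk1⟩
      refine ⟨k * g, ?_, hk1⟩
      rwa [show (k * g)⁻¹ * w * (k * g) = g⁻¹ * (k⁻¹ * w * k) * g by group]
    · rintro ⟨k, hk, hk1⟩
      refine ⟨k * g⁻¹, ?_, hk1⟩
      rwa [show g⁻¹ * ((k * g⁻¹)⁻¹ * w * (k * g⁻¹)) * g = k⁻¹ * w * k by group]
  have facts : ∀ {x : C.Gr}, x ∈ E → ∃ n a, (n = 1 ∨ n = 2 ∨ n = 3 ∨ n = 6) ∧ 7 ≤ a ∧ a ∣ C.six ∧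
      Nat.card ↥(Subgroup.centralizer ({x} : Set C.Gr)) = a ∧
      Nat.card ↥(Subgroup.normalizer ((Subgroup.centralizer ({x} : Set C.Gr) : Subgroup C.Gr) :
        Set C.Gr)) = n * a ∧
      (cls x).ncard * (n * a) = G * (a - 1) := by
    intro x hx
    obtain ⟨-, hdvd, h7, hs, n, hn, hN⟩ := C.cox_cent hm hx
    refine ⟨n, _, ?_, h7, hdvd, rfl, hN, ?_⟩
    · have := Nat.le_of_dvd (by norm_num) hn
      interval_cases n <;> simp_all
    · rw [← hN, HallAux.card_sweep {u | u ∈ Subgroup.centralizer ({x} : Set C.Gr) ∧ u ≠ 1} (fun u hu => hu.1) (fun u hu => hs u hu.1 hu.2)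
        fun k hk u hu => ⟨(Subgroup.mem_normalizer_iff.1 hk u).1 hu.1, fun e =>
          hu.2 (conj_eq_one_iff.1 e)⟩]
      congr 1
      rw [show {u : C.Gr | u ∈ Subgroup.centralizer ({x} : Set C.Gr) ∧ u ≠ 1} =
          (Subgroup.centralizer ({x} : Set C.Gr) : Set C.Gr) \ {1} from rfl,
        Set.ncard_sdiff_singleton_of_mem (one_mem _), ← Nat.card_coe_set_eq]
      rfl
  obtain ⟨x₁, hx₁⟩ := hEne
  obtain ⟨n₁, a₁, hn₁, h7₁, hd₁, hc₁, hN₁, hs₁⟩ := facts hx₁
  have hbound : ∀ {n a s : ℕ}, (n = 1 ∨ n = 2 ∨ n = 3 ∨ n = 6) → 7 ≤ a → s * (n * a) = G * (a - 1) →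
      G ≤ 7 * s ∧ (n ≠ 6 → 2 * G ≤ 7 * s) ∧ (n ≠ 6 → n ≠ 3 → 3 * G ≤ 7 * s) := by
    intro n a s hn ha hs
    obtain ⟨b, rfl⟩ : ∃ b, a = b + 1 := ⟨a - 1, by omega⟩
    rw [Nat.add_sub_cancel] at hs
    have h1 : 6 * G * (b + 1) ≤ 7 * n * s * (b + 1) := by nlinarith
    have h2 := Nat.le_of_mul_le_mul_right h1 (Nat.succ_pos b)
    rcases hn with rfl | rfl | rfl | rfl
    all_goals refine ⟨by omega, ?_, ?_⟩ <;> intros <;> omega
  -- a second class
  obtain ⟨x₂, hx₂, hx₂'⟩ : ∃ x₂ ∈ E, x₂ ∉ cls x₁ := by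
    by_contra h
    push Not at h
    have e : cls x₁ = E := Set.Subset.antisymm (hsub hx₁) h
    obtain ⟨b1, b2, b3⟩ := hbound hn₁ h7₁ hs₁
    rw [e] at hs₁ b3
    obtain ⟨b, hb⟩ : ∃ b, a₁ = b + 1 := ⟨a₁ - 1, by omega⟩
    rw [hb, Nat.add_sub_cancel] at hs₁
    rw [hsix, hr, Nat.add_sub_cancel] at hE
    have key : (r + 2) * r * (n₁ * (b + 1)) = 3 * ((r + 2) * (r + 1) + 1) * b := by
      refine Nat.eq_of_mul_eq_mul_left hGpos ?_
      calc G * ((r + 2) * r * (n₁ * (b + 1))) = G * ((r + 2) * r) * (n₁ * (b + 1)) := by ring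
        _ = 3 * ((r + 2) * (r + 1) + 1) * (E.ncard * (n₁ * (b + 1))) := by rw [← hE]; ring
        _ = G * (3 * ((r + 2) * (r + 1) + 1) * b) := by rw [hs₁]; ring
    rcases hn₁ with rfl | rfl | rfl | rfl
    · have := b3 (by omega) (by omega); omega
    · have := b3 (by omega) (by omega); omega
    · have hdiv : r + 3 ∣ (r + 2) * (r + 1) + 1 := ⟨b + 1, by nlinarith⟩
      rw [show (r + 2) * (r + 1) + 1 = (r + 3) * r + 3 by ring,
        Nat.dvd_add_right (dvd_mul_right _ _)] at hdiv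
      have := Nat.le_of_dvd (by norm_num) hdiv
      omega
    · nlinarith [Nat.mul_le_mul_right b (show 25 * r ≤ r * r by nlinarith)]
  obtain ⟨n₂, a₂, hn₂, h7₂, hd₂, hc₂, hN₂, hs₂⟩ := facts hx₂
  have hdisj : Disjoint (cls x₁) (cls x₂) := Set.disjoint_left.2 fun z hz₁ hz₂ => hx₂' (by
    rw [← hcls hx₁ hz₁, hcls hx₂ hz₂]; exact hself hx₂)
  have hle : (cls x₁).ncard + (cls x₂).ncard ≤ E.ncard := by
    rw [← Set.ncard_union_eq hdisj]
    exact Set.ncard_le_ncard (Set.union_subset (hsub hx₁) (hsub hx₂))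
  obtain ⟨f1, f1', -⟩ := hbound hn₁ h7₁ hs₁
  obtain ⟨f2, f2', -⟩ := hbound hn₂ h7₂ hs₂
  obtain rfl : n₁ = 6 := by by_contra h; have := f1' h; omega
  obtain rfl : n₂ = 6 := by by_contra h; have := f2' h; omega
  have hunion : cls x₁ ∪ cls x₂ = E := by
    refine Set.Subset.antisymm (Set.union_subset (hsub hx₁) (hsub hx₂)) fun z hz => ?_
    by_contra hnot
    simp only [Set.mem_union, not_or] at hnot
    obtain ⟨n₃, a₃, hn₃, h7₃, -, -, -, hs₃⟩ := facts hz
    have h3 : Disjoint (cls x₁ ∪ cls x₂) (cls z) := Set.disjoint_left.2 fun w hw hw' => by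
      rcases hw with h | h
      · exact hnot.1 (by rw [← hcls hx₁ h, hcls hz hw']; exact hself hz)
      · exact hnot.2 (by rw [← hcls hx₂ h, hcls hz hw']; exact hself hz)
    have hle3 : (cls x₁ ∪ cls x₂).ncard + (cls z).ncard ≤ E.ncard := by
      rw [← Set.ncard_union_eq h3]
      exact Set.ncard_le_ncard (Set.union_subset (Set.union_subset (hsub hx₁) (hsub hx₂)) (hsub hz))
    rw [Set.ncard_union_eq hdisj] at hle3
    have := (hbound hn₃ h7₃ hs₃).1
    omega
  have hEeq : E.ncard = (cls x₁).ncard + (cls x₂).ncard := by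
    rw [← hunion, Set.ncard_union_eq hdisj]
  -- the two orders are coprime
  have hcop : Nat.Coprime a₁ a₂ := by
    refine Nat.coprime_of_dvd fun s hs hs1 hs2 => hx₂' ?_
    haveI := Fact.mk hs
    obtain ⟨s2, s3, s7, -⟩ := C.six_facts hm hs (hs1.trans hd₁)
    obtain ⟨⟨u, hu⟩, huo⟩ := exists_prime_orderOf_dvd_card'
      (G := ↥(Subgroup.centralizer ({x₁} : Set C.Gr))) s (hc₁.symm ▸ hs1)
    obtain ⟨⟨w, hw⟩, hwo⟩ := exists_prime_orderOf_dvd_card'
      (G := ↥(Subgroup.centralizer ({x₂} : Set C.Gr))) s (hc₂.symm ▸ hs2)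
    rw [Subgroup.orderOf_mk] at huo hwo
    obtain ⟨P, hP⟩ := (IsPGroup.of_card (p := s) (n := 1)
      (by rw [Nat.card_zpowers, huo, pow_one]) : IsPGroup s (Subgroup.zpowers u)).exists_le_sylow
    obtain ⟨P', hP'⟩ := (IsPGroup.of_card (p := s) (n := 1)
      (by rw [Nat.card_zpowers, hwo, pow_one]) : IsPGroup s (Subgroup.zpowers w)).exists_le_sylow
    obtain ⟨g, hg⟩ := MulAction.exists_smul_eq C.Gr P' P
    have hw' : g * w * g⁻¹ ∈ (P : Subgroup C.Gr) := by
      rw [← hg, Sylow.coe_subgroup_smul]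
      exact Subgroup.smul_mem_pointwise_smul _ (MulAut.conj g) _ (hP' (Subgroup.mem_zpowers _))
    have hcycP : IsCyclic (P : Subgroup C.Gr) := C.sylow_cyclic hm (by omega) _ P.isPGroup'
    have hu1 : u ≠ 1 := fun e => by rw [e, orderOf_one] at huo; exact hs.ne_one huo.symm
    have hw1 : w ≠ 1 := fun e => by rw [e, orderOf_one] at hwo; exact hs.ne_one hwo.symm
    have hwu : g * w * g⁻¹ ∈ Subgroup.centralizer ({x₁} : Set C.Gr) := by
      rw [← (C.cox_cent hm hx₁).2.2.2.1 u hu hu1, Subgroup.mem_centralizer_singleton_iff]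
      obtain ⟨c, hc⟩ := hcycP.exists_generator
      obtain ⟨i, hi⟩ := Subgroup.mem_zpowers_iff.1 (hc ⟨_, hw'⟩)
      obtain ⟨j, hj⟩ := Subgroup.mem_zpowers_iff.1 (hc ⟨_, hP (Subgroup.mem_zpowers u)⟩)
      have hi' : (c : C.Gr) ^ i = g * w * g⁻¹ := congrArg Subtype.val hi
      have hj' : (c : C.Gr) ^ j = u := congrArg Subtype.val hj
      rw [← hi', ← hj', ← zpow_add, ← zpow_add, add_comm]
    have hwcls : w ∈ cls x₁ := ⟨g⁻¹, by rwa [inv_inv], by
      rw [inv_inv]; exact fun e => hw1 (conj_eq_one_iff.1 e)⟩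
    have hwcls2 : w ∈ cls x₂ := ⟨1, by rw [inv_one, one_mul, mul_one]; exact hw,
      by rw [inv_one, one_mul, mul_one]; exact hw1⟩
    rw [← hcls hx₁ hwcls, hcls hx₂ hwcls2]
    exact hself hx₂
  -- arithmetic
  obtain ⟨b₁, hb₁⟩ : ∃ b, a₁ = b + 1 := ⟨a₁ - 1, by omega⟩
  obtain ⟨b₂, hb₂⟩ : ∃ b, a₂ = b + 1 := ⟨a₂ - 1, by omega⟩
  have hkey : C.six * (a₁ + a₂) = 2 * (a₁ * a₂) * (q + 1) := by
    rw [hEeq, hsix, hr, Nat.add_sub_cancel] at hE
    rw [hb₁, Nat.add_sub_cancel] at hs₁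
    rw [hb₂, Nat.add_sub_cancel] at hs₂
    rw [hb₁, hb₂, hsix, hr]
    refine Nat.eq_of_mul_eq_mul_left hGpos ?_
    zify at hE hs₁ hs₂ ⊢
    linear_combination (((r : ℤ) + 2) * (r + 1) + 1) * ((b₂ : ℤ) + 1) * hs₁ +
      (((r : ℤ) + 2) * (r + 1) + 1) * ((b₁ : ℤ) + 1) * hs₂ -
      (2 * ((b₁ : ℤ) + 1) * ((b₂ : ℤ) + 1)) * hE
  obtain ⟨c, hc⟩ := hcop.mul_dvd_of_dvd_of_dvd hd₁ hd₂
  have hsum : c * (a₁ + a₂) = 2 * (q + 1) := by
    rw [hc] at hkey
    refine Nat.eq_of_mul_eq_mul_left (show 0 < a₁ * a₂ by positivity) ?_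
    linarith [hkey]
  have hc1 : c = 1 := by
    by_contra hne
    obtain ⟨s, hs, hsc⟩ := Nat.exists_prime_and_dvd hne
    obtain ⟨s2, -, -, -, -, sp, -⟩ := C.six_facts hm hs (hsc.trans ⟨a₁ * a₂, hc.trans (mul_comm _ _)⟩)
    rcases hs.dvd_mul.1 (hsc.trans ⟨_, hsum.symm⟩) with h | h
    · exact s2 ((Nat.prime_dvd_prime_iff_eq hs Nat.prime_two).1 h)
    · exact sp h
  rw [hc1, mul_one] at hc
  rw [hc1, one_mul] at hsum
  have hval : (a₁ = q - 3 ^ (m + 1) + 1 ∧ a₂ = q + 3 ^ (m + 1) + 1) ∨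
      (a₂ = q - 3 ^ (m + 1) + 1 ∧ a₁ = q + 3 ^ (m + 1) + 1) := by
    have hle : 3 ^ (m + 1) ≤ q := Nat.pow_le_pow_right (by norm_num) (by omega)
    have hr2 : ((3 : ℤ) ^ (m + 1)) ^ 2 = 3 * (q : ℤ) := by
      rw [hq]; push_cast [Ctx.q]; ring
    have hsixz : (C.six : ℤ) = (q : ℤ) ^ 2 - q + 1 := by
      rw [hsix, hr]; push_cast; ring
    have key : ((a₁ : ℤ) - (q - 3 ^ (m + 1) + 1)) * ((a₁ : ℤ) - (q + 3 ^ (m + 1) + 1)) = 0 := by
      have e1 : (a₁ : ℤ) + a₂ = 2 * ((q : ℤ) + 1) := by exact_mod_cast hsum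
      have e2 : (C.six : ℤ) = a₁ * a₂ := by exact_mod_cast hc
      linear_combination (a₁ : ℤ) * e1 + e2 - hsixz - hr2
    have hle' : ((3 ^ (m + 1) : ℕ) : ℤ) = (3 : ℤ) ^ (m + 1) := by push_cast; rfl
    rcases mul_eq_zero.1 key with h | h
    · left; omega
    · right; omega
  have hord : ∀ g ∈ E, orderOf g ∣ q - 3 ^ (m + 1) + 1 ∨ orderOf g ∣ q + 3 ^ (m + 1) + 1 := by
    intro g hg
    have hd : orderOf g ∣ a₁ ∨ orderOf g ∣ a₂ := by
      rw [← hunion] at hg
      rcases hg with ⟨h, hh, -⟩ | ⟨h, hh, -⟩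
      · left
        have := orderOf_dvd_natCard (⟨_, hh⟩ : Subgroup.centralizer ({x₁} : Set C.Gr))
        rwa [Subgroup.orderOf_mk, hc₁, show h⁻¹ * g * h = MulAut.conj h⁻¹ g by
          simp [MulAut.conj_apply], MulEquiv.orderOf_eq] at this
      · right
        have := orderOf_dvd_natCard (⟨_, hh⟩ : Subgroup.centralizer ({x₂} : Set C.Gr))
        rwa [Subgroup.orderOf_mk, hc₂, show h⁻¹ * g * h = MulAut.conj h⁻¹ g by
          simp [MulAut.conj_apply], MulEquiv.orderOf_eq] at this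
    rcases hval with ⟨e1, e2⟩ | ⟨e1, e2⟩ <;> rw [← e1, ← e2] <;> tauto
  intro k hk
  have hk' : k = a₁ ∨ k = a₂ := by
    rcases hk with rfl | hk
    · omega
    · rw [Set.mem_singleton_iff] at hk; omega
  rcases hk' with rfl | rfl
  · exact ⟨_, (C.cox_cent hm hx₁).1, hc₁, (C.cox_cent hm hx₁).2.2.2.1, hN₁, hord⟩
  · exact ⟨_, (C.cox_cent hm hx₂).1, hc₂, (C.cox_cent hm hx₂).2.2.2.1, hN₂, hord⟩

end TwG2

end CfsgLib.Chev
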