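/-
The element orders of the groups of type ²G₂.
-/
import Mathlib
import Cfsg.Agent.Lib.Chev.Twist.G2Hall

set_option autoImplicit false

namespace CfsgLib.Chev

open Cfsg.Lie

universe v

namespace TwG2

variable {K : Type v} [Field K] [Fintype K] {m : ℕ} (C : Ctx K m)
include C

theorem Ctx.uni_pow_nine {x : C.Gr} (hx : x ∈ C.uni) : x ^ 9 = 1 := by
  obtain ⟨t, u, v, e⟩ := C.mem_posU_iff.1 (show (x : GL chevG2.Idx K) ∈ _ from hx)
  obtain ⟨t₂, u₂, v₂, e₂⟩ := C.mem_posU_iff.1 (show ((x * x : C.Gr) : GL chevG2.Idx K) ∈ _ from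
    mul_mem hx hx)
  obtain ⟨t₃, u₃, v₃, e₃⟩ := C.mem_posU_iff.1 (show ((x * x * x : C.Gr) : GL chevG2.Idx K) ∈ _ from
    mul_mem (mul_mem hx hx) hx)
  rw [Subgroup.coe_mul, e] at e₂
  rw [Subgroup.coe_mul, Subgroup.coe_mul, e, e₂] at e₃
  have h := C.cl_mul_fst e₃
  rw [C.cl_mul_fst e₂, show t + t + t = 0 by linear_combination t * C.three_eq_zero] at h
  refine Subtype.ext ?_
  have h3 : (x : GL chevG2.Idx K) ^ 3 = C.cl 0 u₃ v₃ := by rw [pow_three', e, e₂, e₃, h]
  rw [SubmonoidClass.coe_pow, show 9 = 3 * 3 from rfl, pow_mul, h3, C.cl_cube_center]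
  rfl

theorem Ctx.mem_uni_of_fix (hm : 1 ≤ m) {x : C.Gr} {k : ℕ} (hx : x ^ 3 ^ k = 1)
    (hfix : x • C.base = C.base) : x ∈ C.uni := by
  haveI : Fact (Nat.Prime 3) := ⟨Nat.prime_three⟩
  by_cases h1 : x = 1
  · rw [h1]; exact one_mem _
  obtain ⟨g, hg⟩ := HallAux.exists_conj_mem C.uni (C.index_uni hm) hx
  have hne : g⁻¹ * x * g ≠ 1 := fun e => h1 (by
    rwa [mul_assoc, inv_mul_eq_one, eq_comm, mul_eq_right] at e)
  have e := C.uni_fix hm hg hne (P := g⁻¹ • C.base) (by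
    rw [smul_smul, mul_assoc, mul_inv_cancel, mul_one, ← smul_smul, hfix])
  have hgb : (g : GL chevG2.Idx K) ∈ chevG2.borelSubgroup K := (C.stab_base g).1 (by
    rw [inv_smul_eq_iff] at e; exact e.symm)
  have := C.borel_normalizes ⟨hgb, g.2⟩ hg
  show (x : GL chevG2.Idx K) ∈ chevG2.posUnipotent K ⊓ twistedG2 K (3 ^ m)
  have e' : x = g * (g⁻¹ * x * g) * g⁻¹ := by group
  rw [e']
  exact this

/-- No element of order nine commutes with an involution. -/
theorem Ctx.nine_not_comm (hm : 1 ≤ m) {x t : C.Gr} (hx : orderOf x = 9) (ht1 : t ≠ 1)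
    (ht2 : t * t = 1) (hc : t * x = x * t) : False := by
  have hx9 : x ^ 3 ^ 2 = 1 := orderOf_dvd_iff_pow_eq_one.1 (by rw [hx]; norm_num)
  haveI : Fact (Nat.Prime 3) := ⟨Nat.prime_three⟩
  obtain ⟨k, hk⟩ := HallAux.exists_conj_mem C.uni (C.index_uni hm) hx9
  have hx1 : x ≠ 1 := fun e => by rw [e, orderOf_one] at hx; omega
  set y := k⁻¹ * x * k with hy
  set s := k⁻¹ * t * k with hs
  have hyo : orderOf y = 9 := by
    rw [hy, show k⁻¹ * x * k = MulAut.conj k⁻¹ x by simp [MulAut.conj_apply], MulEquiv.orderOf_eq, hx]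
  have hy1 : y ≠ 1 := fun e => by rw [e, orderOf_one] at hyo; omega
  have hs1 : s ≠ 1 := fun e => ht1 (by
    rwa [hs, mul_assoc, inv_mul_eq_one, eq_comm, mul_eq_right] at e)
  have hs2 : s * s = 1 := by
    rw [hs, show k⁻¹ * t * k * (k⁻¹ * t * k) = k⁻¹ * (t * t) * k by group, ht2, mul_one, inv_mul_cancel]
  have hsy : s * y = y * s := by
    rw [hs, hy, show k⁻¹ * t * k * (k⁻¹ * x * k) = k⁻¹ * (t * x) * k by group, hc]; group
  have hyb : y • C.base = C.base := (C.stab_base y).2 (DataG2.facts.pos_le_borel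
    (DataG2.facts.posUnipotent_eq (F := K) ▸ hk.1))
  have hsb : s • C.base = C.base := C.uni_fix hm hk hy1 (by rw [smul_smul, ← hsy, ← smul_smul, hyb])
  -- a second fixed point of the involution
  obtain ⟨P, hP, hPb⟩ : ∃ P, s • P = P ∧ C.base ≠ P := by
    by_contra hno
    push Not at hno
    haveI : Subsingleton {P : C.Gr ⧸ C.bor // s • P = P} :=
      ⟨fun a b => Subtype.ext ((hno a.1 a.2).symm.trans (hno b.1 b.2))⟩
    have h1 := C.card_fix_involution hm hs1 hs2
    have h2 := Finite.card_le_one_iff_subsingleton.2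
      (inferInstance : Subsingleton {P : C.Gr ⧸ C.bor // s • P = P})
    obtain ⟨h27, -, -⟩ := C.q_facts hm
    omega
  obtain ⟨g, g1, g2⟩ := C.exists_move hPb
  set r := g⁻¹ * s * g with hr
  obtain ⟨b, hb⟩ : r ∈ C.parG.range := by
    rw [← C.stab_pair]
    refine ⟨MulAction.mem_stabilizer_iff.2 ?_, MulAction.mem_stabilizer_iff.2 ?_⟩
    · rw [← smul_smul, g1, ← smul_smul, hsb, inv_smul_eq_iff, g1]
    · rw [← smul_smul, g2, ← smul_smul, hP, inv_smul_eq_iff, g2]
  have hr2 : r * r = 1 := by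
    rw [hr, show g⁻¹ * s * g * (g⁻¹ * s * g) = g⁻¹ * (s * s) * g by group, hs2, mul_one, inv_mul_cancel]
  have hb1 : b ≠ 1 := fun e => hs1 (by
    rw [e, map_one] at hb
    rwa [hr, eq_comm, mul_assoc, inv_mul_eq_one, eq_comm, mul_eq_right] at hb)
  rw [← hb, ← map_mul, ← map_one C.parG] at hr2
  obtain rfl : b = -1 := (C.eq_of_sq (C.parG_injective hr2)).resolve_left hb1
  set z := g⁻¹ * y * g with hz
  have hzo : orderOf z = 9 := by
    rw [hz, show g⁻¹ * y * g = MulAut.conj g⁻¹ y by simp [MulAut.conj_apply], MulEquiv.orderOf_eq, hyo]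
  have hzu : z ∈ C.uni := by
    refine C.mem_uni_of_fix hm (k := 2) (orderOf_dvd_iff_pow_eq_one.1 (by rw [hzo]; norm_num)) ?_
    rw [← smul_smul, g1, ← smul_smul, hyb, inv_smul_eq_iff, g1]
  obtain ⟨a, u, v, e⟩ := C.mem_posU_iff.1 (show (z : GL chevG2.Idx K) ∈ _ from hzu)
  have hcz : C.parG (-1) * z = z * C.parG (-1) := by
    rw [hb, hr, hz, show g⁻¹ * s * g * (g⁻¹ * y * g) = g⁻¹ * (s * y) * g by group, hsy]; group
  have h := congrArg Subtype.val hcz
  change C.par (-1) * (z : GL chevG2.Idx K) = (z : GL chevG2.Idx K) * C.par (-1) at h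
  rw [e] at h
  obtain ⟨rfl, rfl⟩ := C.neg_one_fix h
  have h3 : z ^ 3 = 1 := Subtype.ext (by rw [SubmonoidClass.coe_pow, e, C.cl_cube_center]; rfl)
  have := orderOf_dvd_of_pow_eq_one h3
  rw [hzo] at this
  norm_num at this

theorem Ctx.exists_order_of_dvd {x : C.Gr} {n d : ℕ} (hx : orderOf x = n) (hd : d ∣ n) :
    ∃ g : C.Gr, orderOf g = d := by
  refine ⟨x ^ (orderOf x / d), orderOf_pow_orderOf_div (orderOf_pos x).ne' (hx ▸ hd)⟩

/-- The element orders. -/
theorem Ctx.orders (hm : 1 ≤ m) (d : ℕ) :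
    (∃ g : C.Gr, orderOf g = d) ↔
      (d ∣ 6 ∨ d ∣ 9 ∨ d ∣ C.q - 1 ∨ d ∣ (C.q + 1) / 2 ∨
        d ∣ C.q - 3 ^ (m + 1) + 1 ∨ d ∣ C.q + 3 ^ (m + 1) + 1) := by
  classical
  obtain ⟨h27, h8, h3⟩ := C.q_facts hm
  obtain ⟨A, T, τ, -, hA, -, hT, hτ, hsq, hcen, -, -, -, -⟩ := C.exists_torus_one hm
  constructor
  · rintro ⟨g, rfl⟩
    by_cases hg : g ∈ C.fpf
    · rw [(C.fpf_eq hm hA hT hsq hcen).1] at hg
      rcases hg with hg | ⟨h, hh, -⟩
      · obtain ⟨-, -, -, -, -, hord⟩ := C.exists_cox_tori hm _ (Or.inl rfl)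
        rcases hord g hg with h | h
        · exact Or.inr (Or.inr (Or.inr (Or.inr (Or.inl h))))
        · exact Or.inr (Or.inr (Or.inr (Or.inr (Or.inr h))))
      · refine Or.inr (Or.inr (Or.inr (Or.inl ?_)))
        have := orderOf_dvd_of_pow_eq_one (hsq _ hh)
        rwa [show h⁻¹ * g * h = MulAut.conj h⁻¹ g by simp [MulAut.conj_apply],
          MulEquiv.orderOf_eq] at this
    obtain ⟨P, hP⟩ : ∃ P : C.Gr ⧸ C.bor, g • P = P := not_forall_not.1 hg
    have hd := C.borel_dvd hP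
    by_cases hodd : ∃ p, p.Prime ∧ p ≠ 2 ∧ p ∣ orderOf g ∧ p ∣ C.q - 1
    · obtain ⟨p, hp, hp2, hpo, hpd⟩ := hodd
      obtain ⟨x, hx, hgx, -⟩ := HallAux.exists_prime_power g hpo
      obtain ⟨k, hk⟩ := C.minus_cent hm hp hp2 hx hpd
      refine Or.inr (Or.inr (Or.inl ?_))
      have := orderOf_dvd_natCard (⟨_, hk g hgx.eq⟩ : C.parG.range)
      rwa [Subgroup.orderOf_mk, show k⁻¹ * g * k = MulAut.conj k⁻¹ g by simp [MulAut.conj_apply],
        MulEquiv.orderOf_eq, ← Nat.card_congr (MonoidHom.ofInjective C.parG_injective).toEquiv,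
        Nat.card_units, Nat.card_eq_fintype_card, C.card] at this
    push Not at hodd
    have hfour : ¬ 4 ∣ orderOf g := by
      rintro ⟨e, he⟩
      have h4 : orderOf (g ^ e) = 4 := by
        have hpos := orderOf_pos g
        rw [orderOf_pow' g (by rintro rfl; omega), he, Nat.gcd_eq_right (dvd_mul_left e 4),
          Nat.mul_div_cancel _ (Nat.pos_of_ne_zero (by rintro rfl; omega))]
      haveI : Fact (Nat.Prime 2) := ⟨Nat.prime_two⟩
      obtain ⟨S, hS⟩ := (IsPGroup.of_card (p := 2) (n := 2)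
        (by rw [Nat.card_zpowers, h4]; norm_num) : IsPGroup 2 (Subgroup.zpowers (g ^ e))).exists_le_sylow
      have := orderOf_dvd_of_pow_eq_one (show (g ^ e) ^ 2 = 1 by
        rw [pow_two]; exact (C.sylow_two S).2 _ (hS (Subgroup.mem_zpowers _)))
      rw [h4] at this
      norm_num at this
    have key : ∀ k, Odd k → k ∣ orderOf g → ∃ j, k = 3 ^ j := by
      intro k hk hkd
      have hco : Nat.Coprime k (C.q - 1) := Nat.coprime_of_dvd fun r hr h1 h2 => by
        have r2 : r ≠ 2 := by rintro rfl; exact absurd (hk.of_dvd_nat h1) (by decide)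
        exact hodd r hr r2 (h1.trans hkd) h2
      have h' : k ∣ 3 ^ ((2 * m + 1) * 3) := by
        rw [pow_mul]; exact hco.dvd_of_dvd_mul_right (hkd.trans hd)
      obtain ⟨j, -, hj⟩ := (Nat.dvd_prime_pow Nat.prime_three).1 h'
      exact ⟨j, hj⟩
    rcases Nat.even_or_odd (orderOf g) with he | ho
    · -- even order
      left
      obtain ⟨k, hk⟩ := he.two_dvd
      have hkodd : Odd k := by
        rcases Nat.even_or_odd k with ⟨l, hl⟩ | h
        · exact absurd ⟨l, by omega⟩ hfour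
        · exact h
      obtain ⟨j, hj⟩ := key k hkodd ⟨2, by omega⟩
      rw [hk, hj]
      rcases Nat.lt_or_ge j 2 with hj2 | hj2
      · interval_cases j <;> norm_num
      exfalso
      have hpos := orderOf_pos g
      have h2 : orderOf (g ^ k) = 2 := by
        rw [orderOf_pow' g (by omega), hk, Nat.gcd_eq_right (dvd_mul_left k 2),
          Nat.mul_div_cancel _ (by omega)]
      obtain ⟨i, rfl⟩ : ∃ i, j = i + 2 := ⟨j - 2, by omega⟩
      have h9 : orderOf (g ^ (2 * 3 ^ i)) = 9 := by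
        have hp : 0 < 2 * 3 ^ i := by positivity
        rw [orderOf_pow' g (by omega), hk, hj, show 2 * 3 ^ (i + 2) = 9 * (2 * 3 ^ i) by ring,
          Nat.gcd_eq_right (dvd_mul_left _ 9), Nat.mul_div_cancel _ hp]
      refine C.nine_not_comm hm h9 (t := g ^ k) (fun e => ?_) ?_ ((Commute.pow_pow_self g _ _).eq)
      · rw [e, orderOf_one] at h2; omega
      · rw [← pow_two, ← h2, pow_orderOf_eq_one]
    · -- odd order
      obtain ⟨j, hj⟩ := key _ ho dvd_rfl
      refine Or.inr (Or.inl ?_)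
      haveI : Fact (Nat.Prime 3) := ⟨Nat.prime_three⟩
      obtain ⟨k, hk⟩ := HallAux.exists_conj_mem C.uni (C.index_uni hm) (x := g) (n := j)
        (by rw [← hj, pow_orderOf_eq_one])
      have := orderOf_dvd_of_pow_eq_one (C.uni_pow_nine hk)
      rwa [show k⁻¹ * g * k = MulAut.conj k⁻¹ g by simp [MulAut.conj_apply],
        MulEquiv.orderOf_eq] at this
  · have hcube : ∀ u v, (C.clG 0 u v) ^ 3 = 1 := fun u v =>
      Subtype.ext (by rw [SubmonoidClass.coe_pow]; exact C.cl_cube_center u v)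
    rintro (h | h | h | h | h | h)
    · have o2 : orderOf (C.parG (-1)) = 2 := by
        refine orderOf_eq_prime ?_ fun e => C.neg_one_ne (C.parG_injective (e.trans (map_one _).symm))
        rw [← map_pow, neg_one_sq, map_one]
      have o3 : orderOf (C.clG 0 1 0) = 3 := by
        haveI : Fact (Nat.Prime 3) := ⟨Nat.prime_three⟩
        refine orderOf_eq_prime (hcube 1 0) fun e => ?_
        have e' : C.cl 0 1 0 = 1 := congrArg Subtype.val e
        rw [← C.cl_zero] at e'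
        exact one_ne_zero (C.cl_inj e').2.1
      refine C.exists_order_of_dvd (x := C.parG (-1) * C.clG 0 1 0) ?_ h
      rw [Commute.orderOf_mul_eq_mul_orderOf_of_coprime (Subtype.ext (C.neg_one_comm 1))
        (by rw [o2, o3]; norm_num), o2, o3]
    · refine C.exists_order_of_dvd (x := C.clG 1 0 0) ?_ h
      haveI : Fact (Nat.Prime 3) := ⟨Nat.prime_three⟩
      refine orderOf_eq_prime_pow (p := 3) (n := 1) ?_ ?_
      · rw [pow_one]
        intro e
        exact C.cube_ne_one one_ne_zero 0 0 (by simpa [Ctx.clG] using congrArg Subtype.val e)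
      · exact C.uni_pow_nine (C.mem_posU_iff.2 ⟨1, 0, 0, rfl⟩)
    · obtain ⟨b, hb⟩ := IsCyclic.exists_ofOrder_eq_natCard (α := Kˣ)
      refine C.exists_order_of_dvd (x := C.parG b) ?_ h
      rw [orderOf_injective C.parG C.parG_injective, hb, Nat.card_units, Nat.card_eq_fintype_card,
        C.card]
    · exact C.exists_order_of_dvd hτ h
    · obtain ⟨A, hA, hc, -⟩ := C.exists_cox_tori hm _ (Or.inl rfl)
      obtain ⟨a, ha⟩ := hA.exists_ofOrder_eq_natCard
      exact C.exists_order_of_dvd (x := a.1) (by rw [Subgroup.orderOf_coe, ha, hc]) h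
    · obtain ⟨A, hA, hc, -⟩ := C.exists_cox_tori hm _ (Or.inr rfl)
      obtain ⟨a, ha⟩ := hA.exists_ofOrder_eq_natCard
      exact C.exists_order_of_dvd (x := a.1) (by rw [Subgroup.orderOf_coe, ha, hc]) h

end TwG2

end CfsgLib.Chev
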