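/-
Conjugacy of the cyclic tori of the groups of type ²G₂ and the centralisers of their elements.
-/
import Mathlib
import Cfsg.Agent.Lib.Chev.Twist.G2Orders

set_option autoImplicit false

namespace CfsgLib.Chev

open Cfsg.Lie

universe v

namespace TwG2

variable {K : Type v} [Field K] [Fintype K] {m : ℕ} (C : Ctx K m)
include C

theorem Ctx.card_parG : Nat.card C.parG.range = C.q - 1 := by
  rw [← Nat.card_congr (MonoidHom.ofInjective C.parG_injective).toEquiv,
    Nat.card_units, Nat.card_eq_fintype_card, C.card]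

theorem Ctx.parG_cyclic : IsCyclic C.parG.range :=
  isCyclic_of_surjective C.parG.rangeRestrict C.parG.rangeRestrict_surjective

omit C in
/-- The centraliser of `x`, when everything commuting with it is conjugate into an abelian
subgroup by a fixed element. -/
theorem mem_cent_iff {G : Type*} [Group G] {X : Subgroup G}
    (hX : ∀ a ∈ X, ∀ b ∈ X, a * b = b * a) {x h : G}
    (hh : ∀ g : G, g * x = x * g → h⁻¹ * g * h ∈ X) (z : G) :
    z ∈ Subgroup.centralizer ({x} : Set G) ↔ h⁻¹ * z * h ∈ X := by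
  rw [Subgroup.mem_centralizer_singleton_iff]
  refine ⟨hh z, fun hz => ?_⟩
  have := hX _ hz _ (hh x rfl)
  rw [show h⁻¹ * z * h * (h⁻¹ * x * h) = h⁻¹ * (z * x) * h by group,
    show h⁻¹ * x * h * (h⁻¹ * z * h) = h⁻¹ * (x * z) * h by group] at this
  exact mul_left_cancel (mul_right_cancel this)

omit C in
theorem card_cent_eq {G : Type*} [Group G] {X : Subgroup G}
    (hX : ∀ a ∈ X, ∀ b ∈ X, a * b = b * a) {x h : G}
    (hh : ∀ g : G, g * x = x * g → h⁻¹ * g * h ∈ X) :
    Subgroup.centralizer ({x} : Set G) = X.map (MulAut.conj h).toMonoidHom := by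
  ext z
  rw [mem_cent_iff hX hh, Subgroup.mem_map_equiv, ← MulAut.inv_def, ← map_inv, MulAut.conj_apply,
    inv_inv]

omit C in
theorem comm_cent {G : Type*} [Group G] {X : Subgroup G}
    (hX : ∀ a ∈ X, ∀ b ∈ X, a * b = b * a) {x h : G}
    (hh : ∀ g : G, g * x = x * g → h⁻¹ * g * h ∈ X) :
    ∀ a ∈ Subgroup.centralizer ({x} : Set G), ∀ b ∈ Subgroup.centralizer ({x} : Set G),
      a * b = b * a := by
  intro a ha b hb
  have := hX _ ((mem_cent_iff hX hh a).1 ha) _ ((mem_cent_iff hX hh b).1 hb)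
  rw [show h⁻¹ * a * h * (h⁻¹ * b * h) = h⁻¹ * (a * b) * h by group,
    show h⁻¹ * b * h * (h⁻¹ * a * h) = h⁻¹ * (b * a) * h by group] at this
  exact mul_left_cancel (mul_right_cancel this)

omit C in
theorem comm_of_cyclic {G : Type*} [Group G] {X : Subgroup G} [IsCyclic X] :
    ∀ a ∈ X, ∀ b ∈ X, a * b = b * a := fun a ha b hb =>
  congrArg Subtype.val ((IsCyclic.commutative (α := X)).is_comm.comm ⟨a, ha⟩ ⟨b, hb⟩)

omit C in
/-- Two cyclic subgroups of one order inside a cyclic subgroup are equal. -/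
theorem eq_of_card {G : Type*} [Group G] [Finite G] {X A B : Subgroup G} [IsCyclic X] (hA : A ≤ X)
    (hB : B ≤ X) (h : Nat.card A = Nat.card B) : A = B := by
  classical
  haveI : Fintype X := Fintype.ofFinite X
  set d := Nat.card A with hd
  have hsub : ∀ (D : Subgroup G), D ≤ X → Nat.card D = d →
      (Finset.univ.filter fun x : X => x.1 ∈ D) = Finset.univ.filter fun x : X => x ^ d = 1 := by
    intro D hD hc
    refine Finset.eq_of_subset_of_card_le (fun x hx => ?_) ?_
    · rw [Finset.mem_filter] at hx ⊢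
      refine ⟨Finset.mem_univ _, Subtype.ext ?_⟩
      rw [SubgroupClass.coe_pow, ← hc]
      exact congrArg Subtype.val (pow_card_eq_one' (x := (⟨x.1, hx.2⟩ : D)))
    · refine (IsCyclic.card_pow_eq_one_le (hd ▸ Nat.card_pos)).trans (le_of_eq ?_)
      rw [← hc, ← Fintype.card_subtype, ← Nat.card_eq_fintype_card]
      exact (Nat.card_congr (Subgroup.subgroupOfEquivOfLe hD).toEquiv).symm
  ext g
  have e := (hsub A hA rfl).trans (hsub B hB h.symm).symm
  constructor
  · intro hg
    have := Finset.ext_iff.1 e ⟨g, hA hg⟩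
    simpa [hg] using this
  · intro hg
    have := Finset.ext_iff.1 e ⟨g, hB hg⟩
    simpa [hg] using this

/-- The analogue of `minus_cent` for the tori of orders `q ± r + 1`. -/
theorem Ctx.cox_conj (hm : 1 ≤ m) {k : ℕ}
    (hk : k ∈ ({C.q - 3 ^ (m + 1) + 1, C.q + 3 ^ (m + 1) + 1} : Set ℕ)) :
    ∃ A : Subgroup C.Gr, IsCyclic A ∧ Nat.card A = k ∧ k ∣ C.six ∧
      Nat.card ↥(Subgroup.normalizer (A : Set C.Gr)) = 6 * k ∧
      (∀ u ∈ A, u ≠ 1 → Subgroup.centralizer ({u} : Set C.Gr) = A) ∧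
      ∀ (x : C.Gr) (p : ℕ), p.Prime → orderOf x = p → p ∣ k →
        ∃ h : C.Gr, ∀ g : C.Gr, g * x = x * g → h⁻¹ * g * h ∈ A := by
  obtain ⟨h27, h8, h3⟩ := C.q_facts hm
  obtain ⟨A, hA, hc, hcen, hN, -⟩ := C.exists_cox_tori hm k hk
  set r := 3 ^ (m + 1) with hr
  have hrq : r ≤ C.q := Nat.pow_le_pow_right (by norm_num) (by omega)
  have hprod : (C.q - r + 1) * (C.q + r + 1) = C.six := by
    have hr2 : r * r = 3 * C.q := by
      rw [hr, ← pow_add, Ctx.q, ← pow_succ']; congr 1; omega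
    rw [Ctx.six]
    zify [hrq, show 1 ≤ C.q by omega]
    zify at hr2
    linear_combination -hr2
  have hk6 : k ∣ C.six := by
    rcases hk with rfl | hk
    · exact ⟨_, hprod.symm⟩
    · rw [Set.mem_singleton_iff] at hk; exact ⟨_, by rw [hk, mul_comm]; exact hprod.symm⟩
  refine ⟨A, hA, hc, hk6, hN, hcen, fun x p hp hx hpk => ?_⟩
  haveI := Fact.mk hp
  obtain ⟨p2, p3, p7, pq, pm, pp, -⟩ := C.six_facts hm hp (hpk.trans hk6)
  have hnot : ¬ (p ∣ C.q - r + 1 ∧ p ∣ C.q + r + 1) := by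
    rintro ⟨h1, h2⟩
    have := Nat.dvd_sub h2 h1
    rw [show C.q + r + 1 - (C.q - r + 1) = 2 * r by omega] at this
    rcases hp.dvd_mul.1 this with h | h
    · exact p2 ((Nat.prime_dvd_prime_iff_eq hp Nat.prime_two).1 h)
    · exact p3 ((Nat.prime_dvd_prime_iff_eq hp Nat.prime_three).1 (hp.dvd_of_dvd_pow h))
  have hidx : ¬ p ∣ A.index := by
    obtain ⟨k', hk', hpk'⟩ : ∃ k', C.six = k * k' ∧ ¬ p ∣ k' := by
      rcases hk with rfl | hk
      · exact ⟨_, hprod.symm, fun h => hnot ⟨hpk, h⟩⟩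
      · rw [Set.mem_singleton_iff] at hk
        subst hk
        exact ⟨_, by rw [← hprod, mul_comm], fun h => hnot ⟨h, hpk⟩⟩
    have h := Subgroup.card_mul_index A
    rw [hc, C.card_Gr, hk'] at h
    rw [Nat.eq_of_mul_eq_mul_left (Nat.pos_of_ne_zero fun e => by
        rw [e] at hc; exact Nat.card_pos.ne' hc)
      (h.trans (show _ = k * (C.q ^ 3 * ((C.q - 1) * (C.q + 1)) * k') by ring))]
    intro hd
    rcases hp.dvd_mul.1 hd with hd | hd
    · rcases hp.dvd_mul.1 hd with hd | hd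
      · exact C.not_dvd_of hm hp p3 hd
      · rcases hp.dvd_mul.1 hd with hd | hd
        · exact pm hd
        · exact pp hd
    · exact hpk' hd
  obtain ⟨h, hh⟩ := HallAux.exists_conj_mem A hidx (x := x) (n := 1)
    (by rw [pow_one, ← hx, pow_orderOf_eq_one])
  refine ⟨h, fun g hg => ?_⟩
  rw [← hcen _ hh fun e => by
      rw [show h⁻¹ * x * h = MulAut.conj h⁻¹ x by simp [MulAut.conj_apply],
        MulEquiv.map_eq_one_iff] at e
      rw [e, orderOf_one] at hx
      exact hp.ne_one hx.symm,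
    Subgroup.mem_centralizer_singleton_iff,
    show h⁻¹ * g * h * (h⁻¹ * x * h) = h⁻¹ * (g * x) * h by group, hg]
  group

/-- Centralisers of the subgroups of the two small tori. -/
theorem Ctx.small_cents (hm : 1 ≤ m) (H : Subgroup C.Gr) (hH : IsCyclic H) :
    (Nat.card H = (C.q - 1) / 2 →
      IsCyclic ↥(Subgroup.centralizer (H : Set C.Gr)) ∧
        Nat.card ↥(Subgroup.centralizer (H : Set C.Gr)) = C.q - 1 ∧
        ∀ A : Subgroup C.Gr, A ≤ H → A ≠ ⊥ →
          Subgroup.centralizer (A : Set C.Gr) = Subgroup.centralizer (H : Set C.Gr)) ∧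
    (Nat.card H = (C.q + 1) / 4 →
      IsMulCommutative ↥(Subgroup.centralizer (H : Set C.Gr)) ∧
        Nat.card ↥(Subgroup.centralizer (H : Set C.Gr)) = C.q + 1 ∧
        (∀ x ∈ Subgroup.centralizer (H : Set C.Gr), orderOf x ≠ 4) ∧
        ∀ A : Subgroup C.Gr, A ≤ H → A ≠ ⊥ →
          Subgroup.centralizer (A : Set C.Gr) = Subgroup.centralizer (H : Set C.Gr)) := by
  obtain ⟨h27, h8, h3⟩ := C.q_facts hm
  have hHc := comm_of_cyclic (X := H)
  -- all centralisers agree
  have key : ∀ X : Subgroup C.Gr, (∀ a ∈ X, ∀ b ∈ X, a * b = b * a) →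
      (∀ x ∈ H, (orderOf x).Prime → ∃ h : C.Gr, ∀ g : C.Gr, g * x = x * g → h⁻¹ * g * h ∈ X) →
      H ≠ ⊥ → ∃ h : C.Gr, Subgroup.centralizer (H : Set C.Gr) = X.map (MulAut.conj h).toMonoidHom ∧
        ∀ A ≤ H, A ≠ ⊥ → Subgroup.centralizer (A : Set C.Gr) = Subgroup.centralizer (H : Set C.Gr) := by
    intro X hX hconj hne
    have hex : ∀ A : Subgroup C.Gr, A ≤ H → A ≠ ⊥ →
        ∃ x ∈ A, (orderOf x).Prime := by
      intro A hA hA1
      obtain ⟨⟨u, hu⟩, hu1⟩ := Subgroup.ne_bot_iff_exists_ne_one.1 hA1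
      obtain ⟨p, hp, hpd⟩ := Nat.exists_prime_and_dvd
        (mt orderOf_eq_one_iff.1 fun e => hu1 (Subtype.ext e))
      obtain ⟨x, hx, -, hxu⟩ := HallAux.exists_prime_power u hpd
      exact ⟨x, Subgroup.zpowers_le.2 hu hxu, hx ▸ hp⟩
    obtain ⟨x₀, hx₀, hp₀⟩ := hex H le_rfl hne
    obtain ⟨h₀, hh₀⟩ := hconj x₀ hx₀ hp₀
    set Z := Subgroup.centralizer ({x₀} : Set C.Gr)
    have hHZ : ∀ u ∈ H, u ∈ Z := fun u hu =>
      Subgroup.mem_centralizer_singleton_iff.2 (hHc u hu x₀ hx₀)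
    have hsame : ∀ A ≤ H, A ≠ ⊥ → Subgroup.centralizer (A : Set C.Gr) = Z := by
      intro A hA hA1
      refine le_antisymm ?_ fun z hz => Subgroup.mem_centralizer_iff.2 fun u hu =>
        comm_cent hX hh₀ u (hHZ u (hA hu)) z hz
      obtain ⟨x, hx, hp⟩ := hex A hA hA1
      obtain ⟨h, hh⟩ := hconj x (hA hx) hp
      intro z hz
      have hz' : z ∈ Subgroup.centralizer ({x} : Set C.Gr) :=
        Subgroup.mem_centralizer_singleton_iff.2 (Subgroup.mem_centralizer_iff.1 hz x hx).symm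
      exact Subgroup.mem_centralizer_singleton_iff.2 (comm_cent hX hh z hz' x₀
        (Subgroup.mem_centralizer_singleton_iff.2 (hHc x₀ hx₀ x (hA hx))))
    refine ⟨h₀, ?_, fun A hA hA1 => (hsame A hA hA1).trans (hsame H le_rfl hne).symm⟩
    rw [hsame H le_rfl hne]
    exact card_cent_eq hX hh₀
  refine ⟨fun hc => ?_, fun hc => ?_⟩
  · haveI := C.parG_cyclic
    obtain ⟨h, hh, hall⟩ := key C.parG.range comm_of_cyclic (fun x hx hp => by
      have hd : orderOf x ∣ (C.q - 1) / 2 := by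
        rw [← hc, ← Subgroup.orderOf_mk x hx]; exact orderOf_dvd_natCard _
      exact C.minus_cent hm hp (fun e => by rw [e] at hd; omega) rfl
        (hd.trans (Nat.div_dvd_of_dvd (by omega))))
      (fun e => by rw [e, Subgroup.card_bot] at hc; omega)
    rw [hh]
    exact ⟨isCyclic_of_surjective ((MulAut.conj h).toMonoidHom.subgroupMap C.parG.range)
      (MonoidHom.subgroupMap_surjective _ _),
      by rw [Subgroup.card_map_of_injective (MulEquiv.injective _), C.card_parG],
      fun A hA hA1 => (hall A hA hA1).trans hh⟩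
  · obtain ⟨A₁, T, τ, -, hA₁, -, hT, -, hsq, hcen, hcen', -, -, -⟩ := C.exists_torus_one hm
    have hTc : ∀ a ∈ T, ∀ b ∈ T, a * b = b * a := by
      intro a ha b hb
      have hne : A₁ ≠ ⊥ := fun e => by rw [e, Subgroup.card_bot] at hA₁; omega
      obtain ⟨⟨u, hu⟩, hu1⟩ := Subgroup.ne_bot_iff_exists_ne_one.1 hne
      have hu1' : u ≠ 1 := fun e => hu1 (Subtype.ext e)
      have huT : u ∈ T := by
        rw [← hcen u hu hu1']; exact Subgroup.mem_centralizer_singleton_iff.2 rfl
      by_cases h : a * a = 1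
      · by_cases h' : b * b = 1
        · have hab : a * u ∈ T := mul_mem ha huT
          have hau : a * u = u * a := by
            rw [← hcen u hu hu1'] at ha
            exact Subgroup.mem_centralizer_singleton_iff.1 ha
          have hne : a * u * (a * u) ≠ 1 := fun e => by
            rw [show a * u * (a * u) = a * (u * a) * u by group, ← hau, ← mul_assoc, h, one_mul] at e
            have h2 := orderOf_dvd_of_pow_eq_one (show u ^ 2 = 1 by rw [pow_two, e])
            have hd : orderOf u ∣ Nat.card A₁ := by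
              rw [← Subgroup.orderOf_mk u hu]; exact orderOf_dvd_natCard _
            have h12 := Nat.dvd_gcd h2 hd
            rw [show Nat.gcd 2 (Nat.card A₁) = 1 from Nat.coprime_two_left.2
              (Nat.odd_iff.2 (by omega)), Nat.dvd_one, orderOf_eq_one_iff] at h12
            exact hu1' h12
          have e := hb
          rw [← hcen' _ hab hne, Subgroup.mem_centralizer_singleton_iff] at e
          have hub : b * u = u * b := by
            rw [← hcen u hu hu1'] at hb
            exact Subgroup.mem_centralizer_singleton_iff.1 hb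
          rw [mul_assoc a u, ← hub, ← mul_assoc, ← mul_assoc] at e
          exact (mul_right_cancel e).symm
        · have := ha
          rw [← hcen' b hb h', Subgroup.mem_centralizer_singleton_iff] at this
          exact this
      · have := hb
        rw [← hcen' a ha h, Subgroup.mem_centralizer_singleton_iff] at this
        exact this.symm
    obtain ⟨h, hh, hall⟩ := key T hTc (fun x hx hp => by
      have hd : orderOf x ∣ (C.q + 1) / 4 := by
        rw [← hc, ← Subgroup.orderOf_mk x hx]; exact orderOf_dvd_natCard _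
      exact C.plus_cent hA₁ hcen hm hp (fun e => by rw [e] at hd; omega) rfl
        (hd.trans (Nat.div_dvd_of_dvd (by omega))))
      (fun e => by rw [e, Subgroup.card_bot] at hc; omega)
    rw [hh]
    refine ⟨⟨⟨?_⟩⟩, by rw [Subgroup.card_map_of_injective (MulEquiv.injective _), hT], ?_,
      fun A hA hA1 => (hall A hA hA1).trans hh⟩
    · rintro ⟨_, a, ha, rfl⟩ ⟨_, b, hb, rfl⟩
      exact Subtype.ext (show MulAut.conj h a * MulAut.conj h b = MulAut.conj h b * MulAut.conj h a by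
        rw [← map_mul, ← map_mul, hTc a ha b hb])
    · rintro _ ⟨a, ha, rfl⟩ h4
      change orderOf (MulAut.conj h a) = 4 at h4
      rw [MulEquiv.orderOf_eq] at h4
      have := orderOf_dvd_of_pow_eq_one (hsq a ha)
      rw [h4] at this
      omega

/-- Cyclic subgroups of toral order are conjugate. -/
theorem Ctx.cyclic_conj (hm : 1 ≤ m) (d : ℕ)
    (hd : d ∣ (C.q - 1) / 2 ∨ d ∣ (C.q + 1) / 4 ∨ d ∣ C.q - 3 ^ (m + 1) + 1 ∨
      d ∣ C.q + 3 ^ (m + 1) + 1)
    (A B : Subgroup C.Gr) (hA : IsCyclic A) (hB : IsCyclic B)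
    (hAd : Nat.card A = d) (hBd : Nat.card B = d) :
    ∃ g : C.Gr, B = A.map (MulAut.conj g).toMonoidHom := by
  obtain ⟨h27, h8, h3⟩ := C.q_facts hm
  by_cases hd1 : d = 1
  · refine ⟨1, ?_⟩
    rw [Subgroup.eq_bot_of_card_eq A (hAd.trans hd1), Subgroup.eq_bot_of_card_eq B (hBd.trans hd1),
      Subgroup.map_bot]
  obtain ⟨p, hp, hpd⟩ := Nat.exists_prime_and_dvd hd1
  suffices key : ∃ X : Subgroup C.Gr, IsCyclic X ∧
      ∀ D : Subgroup C.Gr, IsCyclic D → Nat.card D = d → ∃ h : C.Gr, ∀ u ∈ D, h⁻¹ * u * h ∈ X by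
    obtain ⟨X, hX, hin⟩ := key
    obtain ⟨a, ha⟩ := hin A hA hAd
    obtain ⟨b, hb⟩ := hin B hB hBd
    have e : A.map (MulAut.conj a⁻¹).toMonoidHom = B.map (MulAut.conj b⁻¹).toMonoidHom := by
      refine eq_of_card (X := X) ?_ ?_ (by
        rw [Subgroup.card_map_of_injective (MulEquiv.injective _),
          Subgroup.card_map_of_injective (MulEquiv.injective _), hAd, hBd])
      · rintro _ ⟨u, hu, rfl⟩
        simpa [MulAut.conj_apply] using ha u hu
      · rintro _ ⟨u, hu, rfl⟩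
        simpa [MulAut.conj_apply] using hb u hu
    refine ⟨b * a⁻¹, ?_⟩
    have hcomp : ∀ (Y : Subgroup C.Gr) (s t : C.Gr),
        (Y.map (MulAut.conj s).toMonoidHom).map (MulAut.conj t).toMonoidHom =
          Y.map (MulAut.conj (t * s)).toMonoidHom := fun Y s t => by
      rw [Subgroup.map_map]
      congr 1
      ext u
      simp [MulAut.conj_apply, mul_assoc]
    have e' := congrArg (fun Y => Y.map (MulAut.conj b).toMonoidHom) e
    simp only [hcomp, mul_inv_cancel] at e'
    rw [e', map_one]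
    exact (Subgroup.map_id B).symm
  -- a generator and an element of prime order inside
  have gen : ∀ D : Subgroup C.Gr, IsCyclic D → Nat.card D = d →
      ∃ a x : C.Gr, orderOf a = d ∧ orderOf x = p ∧ a * x = x * a ∧ D = Subgroup.zpowers a := by
    intro D hD hDd
    obtain ⟨⟨a, ha⟩, hgen⟩ := hD.exists_generator
    have hao : orderOf a = d := by
      rw [← hDd, ← orderOf_eq_card_of_forall_mem_zpowers hgen]
      exact (Subgroup.orderOf_mk a ha).symm
    obtain ⟨x, hx, hax, -⟩ := HallAux.exists_prime_power a (hao ▸ hpd)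
    refine ⟨a, x, hao, hx, hax.eq, le_antisymm (fun u hu => ?_) (Subgroup.zpowers_le.2 ha)⟩
    obtain ⟨j, hj⟩ := Subgroup.mem_zpowers_iff.1 (hgen ⟨u, hu⟩)
    exact Subgroup.mem_zpowers_iff.2 ⟨j, congrArg Subtype.val hj⟩
  have conc : ∀ {X : Subgroup C.Gr} {a h : C.Gr}, h⁻¹ * a * h ∈ X →
      ∀ u ∈ Subgroup.zpowers a, h⁻¹ * u * h ∈ X := by
    rintro X a h hX u ⟨j, rfl⟩
    have := zpow_mem hX j
    rwa [show h⁻¹ * a * h = MulAut.conj h⁻¹ a by simp [MulAut.conj_apply], ← map_zpow,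
      MulAut.conj_apply, inv_inv] at this
  rcases hd with hd | hd | hd | hd
  · haveI := C.parG_cyclic
    refine ⟨C.parG.range, inferInstance, fun D hD hDd => ?_⟩
    obtain ⟨a, x, -, hx, hax, rfl⟩ := gen D hD hDd
    obtain ⟨h, hh⟩ := C.minus_cent hm hp
      (fun e => by have := hpd.trans hd; rw [e] at this; omega) hx
      ((hpd.trans hd).trans (Nat.div_dvd_of_dvd (by omega)))
    exact ⟨h, conc (hh a hax)⟩
  · obtain ⟨A₁, T, τ, hA₁c, hA₁, hAT, hT, -, -, hcen, -, -, -, -⟩ := C.exists_torus_one hm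
    refine ⟨A₁, hA₁c, fun D hD hDd => ?_⟩
    obtain ⟨a, x, hao, hx, hax, rfl⟩ := gen D hD hDd
    obtain ⟨h, hh⟩ := C.plus_cent hA₁ hcen hm hp
      (fun e => by have := hpd.trans hd; rw [e] at this; omega) hx
      ((hpd.trans hd).trans (Nat.div_dvd_of_dvd (by omega)))
    refine ⟨h, conc ?_⟩
    set b := h⁻¹ * a * h
    have hb : b ∈ T := hh a hax
    have hbo : orderOf b = d := by
      rw [show b = MulAut.conj h⁻¹ a by simp [b, MulAut.conj_apply], MulEquiv.orderOf_eq, hao]
    have hTn : ∀ u ∈ A₁, ∀ t ∈ T, t * u * t⁻¹ = u := fun u hu t ht => by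
      by_cases hu1 : u = 1
      · simp [hu1]
      · rw [← hcen u hu hu1, Subgroup.mem_centralizer_singleton_iff] at ht
        rw [ht, mul_inv_cancel_right]
    haveI hn : (A₁.subgroupOf T).Normal := ⟨fun u hu t => by
      rw [Subgroup.mem_subgroupOf] at hu ⊢
      show (t : C.Gr) * u * (t : C.Gr)⁻¹ ∈ A₁
      rw [hTn _ hu _ t.2]; exact hu⟩
    have hidx : (A₁.subgroupOf T).index = 4 := by
      have := Subgroup.card_mul_index (A₁.subgroupOf T)
      rw [Nat.card_congr (Subgroup.subgroupOfEquivOfLe hAT).toEquiv, hT, ← hA₁,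
        mul_comm 4] at this
      exact Nat.eq_of_mul_eq_mul_left Nat.card_pos this
    have h4 : b ^ 4 ∈ A₁ := by
      have := Subgroup.pow_index_mem (A₁.subgroupOf T) ⟨b, hb⟩
      rw [hidx, Subgroup.mem_subgroupOf] at this
      exact this
    have hodd : Odd d := (Nat.odd_iff.2 (by omega) : Odd ((C.q + 1) / 4)).of_dvd_nat hd
    obtain ⟨j, hj⟩ : ∃ j, b = (b ^ 4) ^ j := by
      have hcop : Nat.Coprime 4 (orderOf b) := by
        rw [hbo]; exact (Nat.coprime_two_left.2 hodd).pow_left 2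
      obtain ⟨j, hj⟩ := exists_pow_eq_self_of_coprime hcop
      exact ⟨j, hj.symm⟩
    rw [hj]
    exact pow_mem h4 j
  · obtain ⟨X, hX, -, hk6, -, -, hconj⟩ := C.cox_conj hm (Or.inl rfl)
    refine ⟨X, hX, fun D hD hDd => ?_⟩
    obtain ⟨a, x, -, hx, hax, rfl⟩ := gen D hD hDd
    obtain ⟨h, hh⟩ := hconj x p hp hx (hpd.trans hd)
    exact ⟨h, conc (hh a hax)⟩
  · obtain ⟨X, hX, -, hk6, -, -, hconj⟩ := C.cox_conj hm (Or.inr rfl)
    refine ⟨X, hX, fun D hD hDd => ?_⟩
    obtain ⟨a, x, -, hx, hax, rfl⟩ := gen D hD hDd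
    obtain ⟨h, hh⟩ := hconj x p hp hx (hpd.trans hd)
    exact ⟨h, conc (hh a hax)⟩

end TwG2

end CfsgLib.Chev
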