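/-
The numbers of elements of each order in the groups of type ²G₂.
-/
import Mathlib
import Cfsg.Agent.S1154
import Cfsg.Agent.Lib.Chev.Twist.G2Conj

set_option autoImplicit false

namespace CfsgLib.Chev

open Cfsg.Lie

universe v

namespace TwG2

variable {K : Type v} [Field K] [Fintype K] {m : ℕ} (C : Ctx K m)
include C

omit C in
theorem conj_orderOf {G : Type*} [Group G] (h x : G) : orderOf (h⁻¹ * x * h) = orderOf x := by
  rw [show h⁻¹ * x * h = MulAut.conj h⁻¹ x by simp [MulAut.conj_apply], MulEquiv.orderOf_eq]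

omit C in
theorem conj_orderOf' {G : Type*} [Group G] (h x : G) : orderOf (h * x * h⁻¹) = orderOf x := by
  simpa using conj_orderOf h⁻¹ x

omit C in
theorem card_order_in_cyclic {G : Type*} [Group G] [Finite G] (X : Subgroup G) [IsCyclic X] {i : ℕ}
    (hi : i ∣ Nat.card X) : {t : G | t ∈ X ∧ orderOf t = i}.ncard = Nat.totient i := by
  classical
  haveI : Fintype X := Fintype.ofFinite X
  rw [← IsCyclic.card_orderOf_eq_totient (α := X) (by rwa [← Nat.card_eq_fintype_card]),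
    ← Nat.card_coe_set_eq, ← Fintype.card_subtype, ← Nat.card_eq_fintype_card]
  exact Nat.card_congr
    { toFun := fun t => ⟨⟨t.1, t.2.1⟩, (Subgroup.orderOf_mk t.1 t.2.1).trans t.2.2⟩
      invFun := fun t => ⟨t.1.1, t.1.2, (Subgroup.orderOf_coe t.1).trans t.2⟩
      left_inv := fun t => rfl
      right_inv := fun t => rfl }

omit C in
/-- The elements of a given order, when they are conjugate into a subgroup where they have the
same centraliser. -/
theorem card_order_sweep {G : Type*} [Group G] [Finite G] (X : Subgroup G) {i : ℕ}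
    (hC : ∀ t ∈ X, orderOf t = i → Subgroup.centralizer ({t} : Set G) = X)
    (hall : ∀ g : G, orderOf g = i → ∃ h : G, h⁻¹ * g * h ∈ X) :
    Nat.card {g : G // orderOf g = i} * Nat.card ↥(Subgroup.normalizer (X : Set G)) =
      Nat.card G * {t : G | t ∈ X ∧ orderOf t = i}.ncard := by
  rw [← HallAux.card_sweep (A := X) {t : G | t ∈ X ∧ orderOf t = i} (fun t ht => ht.1)
    (fun t ht => hC t ht.1 ht.2)
    fun n hn t ht => ⟨(Subgroup.mem_normalizer_iff.1 hn t).1 ht.1, (conj_orderOf' n t).trans ht.2⟩,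
    ← Nat.card_coe_set_eq]
  congr 1
  refine Nat.card_congr (Equiv.subtypeEquivRight fun g => ⟨fun hg => ?_, ?_⟩)
  · obtain ⟨h, hh⟩ := hall g hg
    exact ⟨h, hh, (conj_orderOf h g).trans hg⟩
  · rintro ⟨h, -, hh⟩
    rwa [conj_orderOf] at hh

theorem Ctx.card_three_power (hm : 1 ≤ m) {k : ℕ} (hk : 1 ≤ k) :
    Nat.card {g : C.Gr // orderOf g = 3 ^ k} =
      (C.q ^ 3 + 1) * {u : C.Gr | u ∈ C.uni ∧ orderOf u = 3 ^ k}.ncard := by
  classical
  haveI : Fact (Nat.Prime 3) := ⟨Nat.prime_three⟩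
  have hne : ∀ u : C.Gr, orderOf u = 3 ^ k → u ≠ 1 := fun u hu e => by
    rw [e, orderOf_one] at hu
    exact (Nat.one_lt_pow (by omega) (by norm_num)).ne hu
  choose s hs using fun P : C.Gr ⧸ C.bor => MulAction.exists_smul_eq C.Gr C.base P
  rw [← Nat.card_coe_set_eq, ← C.card_points hm, ← Nat.card_prod]
  refine (Nat.card_eq_of_bijective (fun p : (C.Gr ⧸ C.bor) × {u : C.Gr | u ∈ C.uni ∧ orderOf u = 3 ^ k} =>
    (⟨s p.1 * p.2.1 * (s p.1)⁻¹, (conj_orderOf' _ _).trans p.2.2.2⟩ : {g : C.Gr // orderOf g = 3 ^ k}))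
    ⟨?_, ?_⟩).symm
  · rintro ⟨P, u⟩ ⟨Q, w⟩ e
    have e' : s P * u.1 * (s P)⁻¹ = s Q * w.1 * (s Q)⁻¹ := congrArg Subtype.val e
    have hb : ∀ x : C.Gr, x ∈ C.uni → x • C.base = C.base := fun x hx =>
      (C.stab_base x).2 (DataG2.facts.pos_le_borel
        (DataG2.facts.posUnipotent_eq (F := K) ▸ hx.1))
    have hwQ : (s Q * w.1 * (s Q)⁻¹) • Q = Q := by
      rw [← smul_smul, ← smul_smul, inv_smul_eq_iff.2 (hs Q).symm, hb _ w.2.1, hs Q]
    have hfix : u.1 • ((s P)⁻¹ • Q) = (s P)⁻¹ • Q := by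
      rw [show u.1 = (s P)⁻¹ * (s P * u.1 * (s P)⁻¹) * s P by group, e', smul_smul, mul_assoc _ (s P),
        mul_inv_cancel, mul_one, ← smul_smul, hwQ]
    have := C.uni_fix hm u.2.1 (hne _ u.2.2) hfix
    rw [inv_smul_eq_iff, hs] at this
    subst this
    exact Prod.ext rfl (Subtype.ext (mul_left_cancel (mul_right_cancel e')))
  · rintro ⟨g, hg⟩
    obtain ⟨h, hh⟩ := HallAux.exists_conj_mem C.uni (C.index_uni hm) (x := g) (n := k)
      (by rw [← hg, pow_orderOf_eq_one])
    set P := h • C.base with hP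
    have hu : (s P)⁻¹ * g * s P ∈ C.uni := by
      refine C.mem_uni_of_fix hm (k := k) ?_ ?_
      · rw [← hg, ← conj_orderOf (s P) g, pow_orderOf_eq_one]
      · rw [← smul_smul, hs, ← smul_smul, inv_smul_eq_iff, hs]
        have hy : (h⁻¹ * g * h) • C.base = C.base := (C.stab_base _).2
          (DataG2.facts.pos_le_borel (DataG2.facts.posUnipotent_eq (F := K) ▸ hh.1))
        rw [← smul_smul, ← smul_smul, inv_smul_eq_iff] at hy
        exact hy
    exact ⟨(P, ⟨_, hu, (conj_orderOf _ _).trans hg⟩), Subtype.ext (by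
      show s P * ((s P)⁻¹ * g * s P) * (s P)⁻¹ = g
      group)⟩

theorem Ctx.uni_counts (hm : 1 ≤ m) :
    {u : C.Gr | u ∈ C.uni ∧ orderOf u = 3}.ncard = C.q ^ 2 - 1 ∧
    {u : C.Gr | u ∈ C.uni ∧ orderOf u = 9}.ncard = C.q ^ 2 * (C.q - 1) := by
  classical
  obtain ⟨h27, -, -⟩ := C.q_facts hm
  have h3 : {u : C.Gr | u ∈ C.uni ∧ orderOf u = 3}.ncard = C.q ^ 2 - 1 := by
    rw [← Cfsg.Agent.S1154.result hm C.card, ← Nat.card_coe_set_eq]
    exact Nat.card_congr
      { toFun := fun u => ⟨⟨u.1.1, u.2.1⟩, by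
          rw [← Subgroup.orderOf_coe]
          exact (Subgroup.orderOf_coe u.1).trans u.2.2⟩
        invFun := fun u => ⟨⟨u.1.1, u.1.2.2⟩, u.1.2, by
          rw [← Subgroup.orderOf_coe]
          exact (Subgroup.orderOf_coe u.1).trans u.2⟩
        left_inv := fun u => rfl
        right_inv := fun u => rfl }
  refine ⟨h3, ?_⟩
  have hu : (C.uni : Set C.Gr) = {1} ∪ ({u : C.Gr | u ∈ C.uni ∧ orderOf u = 3} ∪
      {u : C.Gr | u ∈ C.uni ∧ orderOf u = 9}) := by
    ext u
    constructor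
    · intro hu
      have h9 : orderOf u ∣ 3 ^ 2 := orderOf_dvd_of_pow_eq_one (C.uni_pow_nine hu)
      obtain ⟨j, hj, e⟩ := (Nat.dvd_prime_pow Nat.prime_three).1 h9
      interval_cases j
      · exact Or.inl (orderOf_eq_one_iff.1 e)
      · exact Or.inr (Or.inl ⟨hu, e⟩)
      · exact Or.inr (Or.inr ⟨hu, e⟩)
    · rintro (rfl | h | h)
      · exact one_mem _
      · exact h.1
      · exact h.1
  have hc := congrArg Set.ncard hu
  rw [← Nat.card_coe_set_eq, show Nat.card ↥(C.uni : Set C.Gr) = _ from C.card_uni,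
    Set.ncard_union_eq (Set.disjoint_singleton_left.2 (by
      rintro (⟨-, h⟩ | ⟨-, h⟩) <;> simp at h)), Set.ncard_singleton,
    Set.ncard_union_eq (Set.disjoint_left.2 fun u h h' => by
      have := h.2.symm.trans h'.2
      omega), h3] at hc
  have h1 : C.q ^ 3 = C.q ^ 2 * (C.q - 1) + C.q ^ 2 := by
    rw [← Nat.mul_succ, show (C.q - 1).succ = C.q by omega, pow_succ]
  have : 1 ≤ C.q ^ 2 := Nat.one_le_pow _ _ (by omega)
  omega

theorem Ctx.card_six (hm : 1 ≤ m) : Nat.card {g : C.Gr // orderOf g = 6} =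
    {t : C.Gr | t ≠ 1 ∧ t * t = 1}.ncard * ((C.q + 1) * (C.q - 1)) := by
  classical
  haveI : Fact (Nat.Prime 3) := ⟨Nat.prime_three⟩
  obtain ⟨h27, -, -⟩ := C.q_facts hm
  set a := C.parG (-1) with ha
  set I := {t : C.Gr | t ≠ 1 ∧ t * t = 1}
  -- the pairs
  have hsig : Nat.card {g : C.Gr // orderOf g = 6} =
      Nat.card (Σ t : I, {x : C.Gr // orderOf x = 3 ∧ t.1 * x = x * t.1}) := by
    refine (Nat.card_eq_of_bijective (fun p : Σ t : I, {x : C.Gr // orderOf x = 3 ∧ t.1 * x = x * t.1} =>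
      (⟨p.1.1 * p.2.1, by
        have h2 : orderOf p.1.1 = 2 := orderOf_eq_prime (by rw [pow_two]; exact p.1.2.2) p.1.2.1
        rw [Commute.orderOf_mul_eq_mul_orderOf_of_coprime p.2.2.2 (by rw [h2, p.2.2.1]; norm_num),
          h2, p.2.2.1]⟩ : {g : C.Gr // orderOf g = 6})) ⟨?_, ?_⟩).symm
    · rintro ⟨⟨t, ht⟩, ⟨x, hx, hc⟩⟩ ⟨⟨t', ht'⟩, ⟨x', hx', hc'⟩⟩ e
      have e' : t * x = t' * x' := congrArg Subtype.val e
      have hp : ∀ {t x : C.Gr}, t * t = 1 → orderOf x = 3 → t * x = x * t → (t * x) ^ 3 = t := by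
        intro t x h2 h3 hcm
        rw [(show Commute t x from hcm).mul_pow, pow_three t, h2, mul_one,
          orderOf_dvd_iff_pow_eq_one.1 h3.dvd, mul_one]
      have et : t = t' := by rw [← hp ht.2 hx hc, e', hp ht'.2 hx' hc']
      subst et
      have ex : x = x' := mul_left_cancel e'
      subst ex
      rfl
    · rintro ⟨g, hg⟩
      have h2 : orderOf (g ^ 3) = 2 := by
        rw [orderOf_pow' g (by norm_num), hg]; norm_num
      have h3 : orderOf (g ^ 4) = 3 := by
        rw [orderOf_pow' g (by norm_num), hg]; norm_num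
      refine ⟨⟨⟨g ^ 3, ⟨fun e => by rw [e, orderOf_one] at h2; omega,
        by rw [← pow_two, ← h2, pow_orderOf_eq_one]⟩⟩, ⟨g ^ 4, h3, (Commute.pow_pow_self g 3 4).eq⟩⟩,
        Subtype.ext ?_⟩
      show g ^ 3 * g ^ 4 = g
      rw [← pow_add, show 3 + 4 = orderOf g + 1 by omega, pow_succ, pow_orderOf_eq_one, one_mul]
  -- the commuting elements of order three, for one involution
  obtain ⟨n, n1, n2, n3⟩ := C.exists_swap hm
  have hna : Commute a n := by
    have := n3 (-1)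
    rw [inv_neg_one, mul_inv_eq_iff_eq_mul] at this
    exact this.symm
  have hva : ∀ v, Commute a (C.clG 0 v 0) := fun v => Subtype.ext (C.neg_one_comm v)
  let s : Option K → C.Gr := fun o => o.elim 1 fun v => C.clG 0 v 0 * n
  have hsa : ∀ o, Commute a (s o) := fun o => by
    cases o with
    | none => exact Commute.one_right a
    | some v => exact (hva v).mul_right hna
  have hsb : ∀ v, C.clG 0 v 0 • C.base = C.base := fun v => (C.stab_base _).2
    (DataG2.facts.pos_le_borel (DataG2.facts.posUnipotent_eq (F := K) ▸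
      (C.mem_posU_iff.2 ⟨0, v, 0, rfl⟩).1))
  have hsinj : ∀ o o', s o • C.base = s o' • C.base → o = o' := by
    intro o o' e
    rcases o with - | v <;> rcases o' with - | v' <;>
      simp only [s, Option.elim, one_smul, ← smul_smul, n1] at e
    · rfl
    · exact absurd (MulAction.injective (β := C.Gr ⧸ C.bor) (C.clG 0 v' 0) ((hsb v').trans e)).symm
        C.opp_ne_base
    · exact absurd (MulAction.injective (β := C.Gr ⧸ C.bor) (C.clG 0 v 0) ((hsb v).trans e.symm)).symm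
        C.opp_ne_base
    · have h' := (C.smul_opp_eq _ _).1 e
      have hP : ∀ u, C.cl 0 u 0 ∈ chevG2.posUnipotent K := fun u =>
        (C.mem_posU_iff.2 ⟨0, u, 0, rfl⟩).1
      have := C.borel_inf_conj (Subgroup.mul_mem _ (Subgroup.inv_mem _ (hP v)) (hP v')) h'
      exact congrArg some (C.cl_inj (inv_mul_eq_one.1 this)).2.1
  have hfix : ∀ P : C.Gr ⧸ C.bor, a • P = P → ∃ o, s o • C.base = P := by
    intro P hP
    rcases C.eq_smul_opp P with e | ⟨u, hu, rfl⟩
    · exact ⟨none, by simp only [s, Option.elim, one_smul]; exact e.symm⟩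
    obtain ⟨t', u', v', e⟩ := C.mem_posU_iff.1 ⟨hu, u.2⟩
    have h := (C.par_smul_iff (-1) hu).1 hP
    rw [e] at h
    obtain ⟨rfl, rfl⟩ := C.neg_one_fix h
    refine ⟨some u', ?_⟩
    simp only [s, Option.elim, ← smul_smul, n1]
    rw [show u = C.clG 0 u' 0 from Subtype.ext e]
  have h3' : ∀ u : Kˣ, orderOf (C.clG 0 (u : K) 0) = 3 := fun u => by
    refine orderOf_eq_prime (Subtype.ext (by
      rw [SubmonoidClass.coe_pow]; exact C.cl_cube_center _ _)) fun e => u.ne_zero ?_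
    have e' : C.cl 0 (u : K) 0 = 1 := congrArg Subtype.val e
    rw [← C.cl_zero] at e'
    exact (C.cl_inj e').2.1
  have hX : Nat.card {x : C.Gr // orderOf x = 3 ∧ a * x = x * a} = (C.q + 1) * (C.q - 1) := by
    rw [show (C.q + 1) * (C.q - 1) = Nat.card (Option K × Kˣ) by
      rw [Nat.card_prod, Finite.card_option, Nat.card_units, Nat.card_eq_fintype_card, C.card]]
    refine (Nat.card_eq_of_bijective (fun p : Option K × Kˣ =>
      (⟨s p.1 * C.clG 0 (p.2 : K) 0 * (s p.1)⁻¹, (conj_orderOf' _ _).trans (h3' p.2),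
        ((hsa p.1).mul_right (hva _)).mul_right (hsa p.1).inv_right⟩ :
        {x : C.Gr // orderOf x = 3 ∧ a * x = x * a})) ⟨?_, ?_⟩).symm
    · rintro ⟨o, u⟩ ⟨o', u'⟩ e
      have e' : s o * C.clG 0 (u : K) 0 * (s o)⁻¹ = s o' * C.clG 0 (u' : K) 0 * (s o')⁻¹ :=
        congrArg Subtype.val e
      have hfix : C.clG 0 (u : K) 0 • ((s o)⁻¹ • (s o' • C.base)) = (s o)⁻¹ • (s o' • C.base) := by
        rw [show C.clG 0 (u : K) 0 = (s o)⁻¹ * (s o * C.clG 0 (u : K) 0 * (s o)⁻¹) * s o by group,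
          e', smul_smul, mul_assoc _ (s o), mul_inv_cancel, mul_one, ← smul_smul, ← smul_smul,
          inv_smul_smul, ← smul_smul, hsb]
      have hP := C.uni_fix hm (C.mem_posU_iff.2 ⟨0, (u : K), 0, rfl⟩)
        (fun e => by have := h3' u; rw [e, orderOf_one] at this; omega) hfix
      rw [inv_smul_eq_iff] at hP
      obtain rfl := hsinj _ _ hP
      have := congrArg Subtype.val (mul_left_cancel (mul_right_cancel e'))
      exact Prod.ext rfl (Units.ext (C.cl_inj this).2.1)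
    · rintro ⟨x, hx, hc⟩
      obtain ⟨h, hh, hcom⟩ := C.three_fix hm hx
      have hy : (h⁻¹ * x * h) • C.base = C.base := (C.stab_base _).2
        (DataG2.facts.pos_le_borel (DataG2.facts.posUnipotent_eq (F := K) ▸ hh.1))
      have hta : (h⁻¹ * a * h) • C.base = C.base := (C.stab_base _).2 (hcom a hc).1
      rw [← smul_smul, ← smul_smul, inv_smul_eq_iff] at hy hta
      obtain ⟨o, ho⟩ := hfix _ hta
      set y := (s o)⁻¹ * x * s o with hy'
      have hyu : y ∈ C.uni := by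
        refine C.mem_uni_of_fix hm (k := 1) ?_ ?_
        · exact orderOf_dvd_iff_pow_eq_one.1 (by rw [hy', conj_orderOf, hx, pow_one])
        · rw [hy', ← smul_smul, ← smul_smul, inv_smul_eq_iff, ho, hy]
      have hac : Commute a y := ((hsa o).inv_right.mul_right hc).mul_right (hsa o)
      obtain ⟨t', u', v', e⟩ := C.mem_posU_iff.1 (show (y : GL chevG2.Idx K) ∈ _ from hyu)
      have h' := congrArg Subtype.val hac.eq
      change C.par (-1) * (y : GL chevG2.Idx K) = (y : GL chevG2.Idx K) * C.par (-1) at h'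
      rw [e] at h'
      obtain ⟨rfl, rfl⟩ := C.neg_one_fix h'
      have hu0 : u' ≠ 0 := fun e0 => by
        have : y = 1 := Subtype.ext (by rw [e, e0, C.cl_zero]; rfl)
        have h1 := conj_orderOf (s o) x
        rw [← hy', this, orderOf_one, hx] at h1
        omega
      refine ⟨(o, Units.mk0 u' hu0), Subtype.ext ?_⟩
      show s o * C.clG 0 u' 0 * (s o)⁻¹ = x
      rw [show C.clG 0 u' 0 = y from Subtype.ext e.symm, hy']
      group
  rw [hsig, Nat.card_sigma, Finset.sum_congr rfl fun t _ => show _ = (C.q + 1) * (C.q - 1) from by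
    obtain ⟨g, hg⟩ := C.involution_conj hm t.2.1 t.2.2
    rw [← hX]
    refine (Nat.card_congr (Equiv.subtypeEquiv (MulAut.conj g).toEquiv fun x => ?_)).symm
    show _ ↔ orderOf (MulAut.conj g x) = 3 ∧ t.1 * MulAut.conj g x = MulAut.conj g x * t.1
    rw [MulEquiv.orderOf_eq, ← hg, show g * C.parG (-1) * g⁻¹ = MulAut.conj g a from rfl, ← map_mul,
      ← map_mul, EmbeddingLike.apply_eq_iff_eq],
    Finset.sum_const, Finset.card_univ, ← Nat.card_eq_fintype_card, Nat.card_coe_set_eq,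
    smul_eq_mul]

/-- The numbers of elements of each order. -/
theorem Ctx.counts (hm : 1 ≤ m) :
    Nat.card {g : C.Gr // orderOf g = 2} = C.q ^ 2 * (C.q ^ 2 - C.q + 1) ∧
    Nat.card {g : C.Gr // orderOf g = 3} = (C.q ^ 2 - 1) * (C.q ^ 3 + 1) ∧
    Nat.card {g : C.Gr // orderOf g = 6} = C.q ^ 2 * (C.q - 1) * (C.q ^ 3 + 1) ∧
    Nat.card {g : C.Gr // orderOf g = 9} = C.q ^ 2 * (C.q - 1) * (C.q ^ 3 + 1) ∧
    (∀ i : ℕ, 2 < i → i ∣ C.q - 1 →
      2 * Nat.card {g : C.Gr // orderOf g = i} = Nat.totient i * C.q ^ 3 * (C.q ^ 3 + 1)) ∧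
    (∀ i : ℕ, 1 < i → i ∣ (C.q + 1) / 4 →
      6 * Nat.card {g : C.Gr // orderOf g = i} =
          Nat.totient i * C.q ^ 3 * (C.q - 1) * (C.q ^ 2 - C.q + 1) ∧
        2 * Nat.card {g : C.Gr // orderOf g = 2 * i} =
          Nat.totient i * C.q ^ 3 * (C.q - 1) * (C.q ^ 2 - C.q + 1)) ∧
    (∀ i : ℕ, 1 < i → i ∣ C.q - 3 ^ (m + 1) + 1 →
      6 * Nat.card {g : C.Gr // orderOf g = i} =
        Nat.totient i * C.q ^ 3 * (C.q ^ 2 - 1) * (C.q + 3 ^ (m + 1) + 1)) ∧
    (∀ i : ℕ, 1 < i → i ∣ C.q + 3 ^ (m + 1) + 1 →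
      6 * Nat.card {g : C.Gr // orderOf g = i} =
        Nat.totient i * C.q ^ 3 * (C.q ^ 2 - 1) * (C.q - 3 ^ (m + 1) + 1)) := by
  classical
  obtain ⟨h27, h8, h3⟩ := C.q_facts hm
  have hsix : C.q ^ 2 - C.q + 1 = C.six := by rw [Ctx.six, Nat.mul_sub_one, pow_two]
  have hG := C.card_Gr
  have hsq : C.q ^ 2 - 1 = (C.q - 1) * (C.q + 1) := by
    rw [mul_comm, ← Nat.sq_sub_sq, one_pow]
  have hcube : C.q ^ 3 + 1 = (C.q + 1) * C.six := by
    obtain ⟨r, hr⟩ : ∃ r, C.q = r + 1 := ⟨C.q - 1, by omega⟩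
    rw [Ctx.six, hr, Nat.add_sub_cancel]; ring
  have hnt : {t : C.Gr | t ≠ 1 ∧ t * t = 1}.ncard = C.q ^ 2 * C.six := by
    have h := C.card_involutions hm
    rw [hG] at h
    refine Nat.eq_of_mul_eq_mul_right (show 0 < C.q * ((C.q - 1) * (C.q + 1)) from
      Nat.mul_pos (by omega) (Nat.mul_pos (by omega) (by omega))) (h.trans ?_)
    ring
  have hpos : ∀ i, 1 < i → ∃ p, p.Prime ∧ p ∣ i := fun i hi => Nat.exists_prime_and_dvd (by omega)
  obtain ⟨u3, u9⟩ := C.uni_counts hm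
  refine ⟨?_, ?_, ?_, ?_, ?_, ?_, ?_, ?_⟩
  · rw [hsix, ← hnt, ← Nat.card_coe_set_eq]
    refine Nat.card_congr (Equiv.subtypeEquivRight fun g => ⟨fun h => ⟨fun e => ?_, ?_⟩, fun h => ?_⟩)
    · rw [e, orderOf_one] at h; omega
    · rw [← pow_two, ← h, pow_orderOf_eq_one]
    · exact orderOf_eq_prime (by rw [pow_two]; exact h.2) h.1
  · have := C.card_three_power hm (k := 1) le_rfl
    rw [pow_one] at this
    rw [this, u3, mul_comm]
  · rw [C.card_six hm, hnt, hcube]; ring
  · have := C.card_three_power hm (k := 2) (by omega)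
    rw [show (3 : ℕ) ^ 2 = 9 from rfl] at this
    rw [this, u9, mul_comm]
  · intro i hi hd
    obtain ⟨A, -, -, -, -, -, hN⟩ := C.exists_torus_zero hm
    haveI := C.parG_cyclic
    obtain ⟨p, hp, hp2, hpi⟩ : ∃ p, p.Prime ∧ p ≠ 2 ∧ p ∣ i := by
      obtain ⟨p, hp, hpi⟩ := hpos i (by omega)
      by_cases hp2 : p = 2
      · subst hp2
        obtain ⟨j, rfl⟩ := hpi
        obtain ⟨r, hr, hrj⟩ := hpos j (by omega)
        refine ⟨r, hr, ?_, hrj.trans (dvd_mul_left j 2)⟩
        rintro rfl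
        have := (Nat.mul_dvd_mul_left 2 hrj).trans hd
        omega
      · exact ⟨p, hp, hp2, hpi⟩
    have hsw := card_order_sweep C.parG.range (i := i) (fun t ht ho => by
      obtain ⟨b, rfl⟩ := ht
      rw [orderOf_injective C.parG C.parG_injective] at ho
      refine C.centralizer_parG hm (fun e => ?_) fun e => ?_
      · rw [e, orderOf_one] at ho; omega
      · have := orderOf_dvd_of_pow_eq_one (show b ^ 2 = 1 by rw [e, neg_one_sq])
        have := Nat.le_of_dvd two_pos this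
        omega) fun g hg => by
      obtain ⟨x, hx, hgx, -⟩ := HallAux.exists_prime_power g (hg ▸ hpi)
      obtain ⟨h, hh⟩ := C.minus_cent hm hp hp2 hx (hpi.trans hd)
      exact ⟨h, hh g hgx.eq⟩
    rw [hN, card_order_in_cyclic _ (by rwa [C.card_parG]), hG] at hsw
    refine Nat.eq_of_mul_eq_mul_left (show 0 < C.q - 1 by omega) ?_
    calc (C.q - 1) * (2 * Nat.card {g : C.Gr // orderOf g = i}) =
          Nat.card {g : C.Gr // orderOf g = i} * (2 * (C.q - 1)) := by ring
      _ = _ := by rw [hsw, hcube]; ring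
  · intro i hi hd
    obtain ⟨A, T, τ, hAc, hA, hAT, hT, -, -, hcen, hcen', h4, hN, -⟩ := C.exists_torus_one hm
    haveI := hAc
    have ha₁ : Nat.card A = (C.q + 1) / 4 := by omega
    have hodd : Odd i := (Nat.odd_iff.2 (by omega) : Odd ((C.q + 1) / 4)).of_dvd_nat hd
    have hiA : i ∣ Nat.card A := ha₁ ▸ hd
    obtain ⟨p, hp, hpi⟩ := hpos i hi
    have hp2 : p ≠ 2 := fun e => absurd (hodd.of_dvd_nat (e ▸ hpi)) (by decide)
    have hpq : p ∣ C.q + 1 := (hpi.trans hd).trans (Nat.div_dvd_of_dvd (by omega))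
    have hTn : ∀ u ∈ A, ∀ t ∈ T, t * u = u * t := fun u hu t ht => by
      by_cases hu1 : u = 1
      · simp [hu1]
      · rw [← hcen u hu hu1, Subgroup.mem_centralizer_singleton_iff] at ht
        exact ht
    have hinA : ∀ b ∈ T, Odd (orderOf b) → b ∈ A := by
      intro b hb hbo
      haveI hn : (A.subgroupOf T).Normal := ⟨fun u hu t => by
        rw [Subgroup.mem_subgroupOf] at hu ⊢
        show (t : C.Gr) * u * (t : C.Gr)⁻¹ ∈ A
        rw [hTn _ hu _ t.2, mul_inv_cancel_right]; exact hu⟩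
      have hidx : (A.subgroupOf T).index = 4 := by
        have := Subgroup.card_mul_index (A.subgroupOf T)
        rw [Nat.card_congr (Subgroup.subgroupOfEquivOfLe hAT).toEquiv, hT, ← hA, mul_comm 4] at this
        exact Nat.eq_of_mul_eq_mul_left Nat.card_pos this
      have h4 : b ^ 4 ∈ A := by
        have := Subgroup.pow_index_mem (A.subgroupOf T) ⟨b, hb⟩
        rw [hidx, Subgroup.mem_subgroupOf] at this
        exact this
      obtain ⟨j, hj⟩ := exists_pow_eq_self_of_coprime (x := b) (n := 4)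
        ((Nat.coprime_two_left.2 hbo).pow_left 2)
      exact hj ▸ pow_mem h4 j
    have hall : ∀ g : C.Gr, p ∣ orderOf g → ∃ h : C.Gr, h⁻¹ * g * h ∈ T := fun g hg => by
      obtain ⟨x, hx, hgx, -⟩ := HallAux.exists_prime_power g hg
      obtain ⟨h, hh⟩ := C.plus_cent hA hcen hm hp hp2 hx hpq
      exact ⟨h, hh g hgx.eq⟩
    have e1 : {t : C.Gr | t ∈ T ∧ orderOf t = i} = {t : C.Gr | t ∈ A ∧ orderOf t = i} := by
      ext t
      exact ⟨fun h => ⟨hinA t h.1 (h.2 ▸ hodd), h.2⟩, fun h => ⟨hAT h.1, h.2⟩⟩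
    have c1 := card_order_sweep T (i := i) (fun t ht ho => by
      refine hcen t (hinA t ht (ho ▸ hodd)) fun e => ?_
      rw [e, orderOf_one] at ho; omega) fun g hg => hall g (hg ▸ hpi)
    have c2 := card_order_sweep T (i := 2 * i) (fun t ht ho => hcen' t ht fun e => by
      have := Nat.le_of_dvd two_pos (orderOf_dvd_of_pow_eq_one (show t ^ 2 = 1 by rw [pow_two, e]))
      omega) fun g hg => hall g (hg ▸ hpi.trans (dvd_mul_left i 2))
    have e2 : {t : C.Gr | t ∈ T ∧ orderOf t = 2 * i}.ncard = 3 * Nat.totient i := by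
      set I := {t : C.Gr | t ∈ T ∧ t * t = 1 ∧ t ≠ 1}
      have hI : I.ncard = 3 := by
        have : {t : C.Gr | t ∈ T ∧ t * t = 1} = insert 1 I := by
          ext t
          constructor
          · intro h
            by_cases ht : t = 1
            · exact Or.inl ht
            · exact Or.inr ⟨h.1, h.2, ht⟩
          · rintro (rfl | h)
            · exact ⟨one_mem _, one_mul _⟩
            · exact ⟨h.1, h.2.1⟩
        rw [this, Set.ncard_insert_of_notMem (fun h => h.2.2 rfl)] at h4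
        omega
      rw [← card_order_in_cyclic A hiA]
      conv_rhs => arg 1; rw [← hI]
      rw [← Nat.card_coe_set_eq, ← Nat.card_coe_set_eq, ← Nat.card_coe_set_eq, ← Nat.card_prod]
      refine (Nat.card_eq_of_bijective (fun p : ↥I × ↥{t : C.Gr | t ∈ A ∧ orderOf t = i} =>
        (⟨p.1.1 * p.2.1, mul_mem p.1.2.1 (hAT p.2.2.1), by
          have h2 : orderOf p.1.1 = 2 :=
            orderOf_eq_prime (by rw [pow_two]; exact p.1.2.2.1) p.1.2.2.2
          rw [Commute.orderOf_mul_eq_mul_orderOf_of_coprime (hTn _ p.2.2.1 _ p.1.2.1)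
            (by rw [h2, p.2.2.2]; exact Nat.coprime_two_left.2 hodd), h2, p.2.2.2]⟩ :
          ↥{t : C.Gr | t ∈ T ∧ orderOf t = 2 * i})) ⟨?_, ?_⟩).symm
      · rintro ⟨⟨s, hs⟩, ⟨y, hy⟩⟩ ⟨⟨s', hs'⟩, ⟨y', hy'⟩⟩ e
        have e' : s * y = s' * y' := congrArg Subtype.val e
        have hp : ∀ {s y : C.Gr}, s ∈ T → s * s = 1 → y ∈ A → orderOf y = i → (s * y) ^ i = s := by
          intro s y hsT hs2 hyA hyo
          obtain ⟨r, hr⟩ := hodd
          rw [(show Commute s y from hTn _ hyA _ hsT).mul_pow, ← hyo, pow_orderOf_eq_one, mul_one, hyo,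
            hr, pow_succ, pow_mul, pow_two, hs2, one_pow, one_mul]
        have es : s = s' := by rw [← hp hs.1 hs.2.1 hy.1 hy.2, e', hp hs'.1 hs'.2.1 hy'.1 hy'.2]
        subst es
        have ey : y = y' := mul_left_cancel e'
        subst ey
        rfl
      · rintro ⟨t, ht, hto⟩
        have h2 : orderOf (t ^ i) = 2 := by
          rw [orderOf_pow' t (by omega), hto, Nat.gcd_eq_right (dvd_mul_left i 2),
            Nat.mul_div_cancel _ (by omega)]
        obtain ⟨r, hr⟩ := hodd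
        have h1 : orderOf (t ^ (i + 1)) = i := by
          rw [orderOf_pow' t (by omega), hto, show i + 1 = 2 * (r + 1) by omega, Nat.gcd_mul_left,
            show Nat.gcd i (r + 1) = 1 from by
              have hd1 := Nat.dvd_sub (dvd_mul_of_dvd_right (Nat.gcd_dvd_right i (r + 1)) 2)
                (Nat.gcd_dvd_left i (r + 1))
              rw [show 2 * (r + 1) - i = 1 by omega] at hd1
              exact Nat.dvd_one.1 hd1,
            mul_one, Nat.mul_div_cancel_left _ two_pos]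
        refine ⟨(⟨t ^ i, pow_mem ht i, by rw [← pow_two, ← h2, pow_orderOf_eq_one],
            fun e => by rw [e, orderOf_one] at h2; omega⟩,
          ⟨t ^ (i + 1), hinA _ (pow_mem ht _) (by rw [h1]; exact ⟨r, hr⟩), h1⟩), Subtype.ext ?_⟩
        show t ^ i * t ^ (i + 1) = t
        rw [← pow_add, show i + (i + 1) = orderOf t + 1 by omega, pow_succ, pow_orderOf_eq_one, one_mul]
    rw [hN, e1, card_order_in_cyclic A hiA, hG] at c1
    rw [hN, e2, hG] at c2
    rw [hsix]
    refine ⟨Nat.eq_of_mul_eq_mul_left (show 0 < C.q + 1 by omega) ?_,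
      Nat.eq_of_mul_eq_mul_left (show 0 < 3 * (C.q + 1) by omega) ?_⟩
    · calc (C.q + 1) * (6 * Nat.card {g : C.Gr // orderOf g = i}) =
            Nat.card {g : C.Gr // orderOf g = i} * (6 * (C.q + 1)) := by ring
        _ = _ := by rw [c1]; ring
    · calc 3 * (C.q + 1) * (2 * Nat.card {g : C.Gr // orderOf g = 2 * i}) =
            Nat.card {g : C.Gr // orderOf g = 2 * i} * (6 * (C.q + 1)) := by ring
        _ = _ := by rw [c2]; ring
  all_goals
    intro i hi hd
  · obtain ⟨A, hA, hc, -, hN, hcen, hconj⟩ := C.cox_conj hm (Or.inl rfl)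
    obtain ⟨h1, -⟩ : (C.q - 3 ^ (m + 1) + 1) * (C.q + 3 ^ (m + 1) + 1) = C.six ∧ True := by
      refine ⟨?_, trivial⟩
      have hr2 : 3 ^ (m + 1) * 3 ^ (m + 1) = 3 * C.q := by
        rw [← pow_add, Ctx.q, ← pow_succ']; congr 1; omega
      rw [Ctx.six]
      zify [show 3 ^ (m + 1) ≤ C.q from Nat.pow_le_pow_right (by norm_num) (by omega),
        show 1 ≤ C.q by omega] at hr2 ⊢
      linear_combination -hr2
    haveI := hA
    obtain ⟨p, hp, hpi⟩ := hpos i hi
    have c := card_order_sweep A (i := i) (fun t ht ho => hcen t ht fun e => by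
      rw [e, orderOf_one] at ho; omega) fun g hg => by
      obtain ⟨x, hx, hgx, -⟩ := HallAux.exists_prime_power g (hg ▸ hpi)
      obtain ⟨h, hh⟩ := hconj x p hp hx (hpi.trans hd)
      exact ⟨h, hh g hgx.eq⟩
    rw [hN, card_order_in_cyclic A (hc ▸ hd), hG, ← h1] at c
    rw [hsq]
    refine Nat.eq_of_mul_eq_mul_left (show 0 < C.q - 3 ^ (m + 1) + 1 by omega) ?_
    calc (C.q - 3 ^ (m + 1) + 1) * (6 * Nat.card {g : C.Gr // orderOf g = i}) =
          Nat.card {g : C.Gr // orderOf g = i} * (6 * (C.q - 3 ^ (m + 1) + 1)) := by ring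
      _ = _ := by rw [c]; ring
  · obtain ⟨A, hA, hc, -, hN, hcen, hconj⟩ := C.cox_conj hm (Or.inr rfl)
    obtain ⟨h1, -⟩ : (C.q - 3 ^ (m + 1) + 1) * (C.q + 3 ^ (m + 1) + 1) = C.six ∧ True := by
      refine ⟨?_, trivial⟩
      have hr2 : 3 ^ (m + 1) * 3 ^ (m + 1) = 3 * C.q := by
        rw [← pow_add, Ctx.q, ← pow_succ']; congr 1; omega
      rw [Ctx.six]
      zify [show 3 ^ (m + 1) ≤ C.q from Nat.pow_le_pow_right (by norm_num) (by omega),
        show 1 ≤ C.q by omega] at hr2 ⊢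
      linear_combination -hr2
    haveI := hA
    obtain ⟨p, hp, hpi⟩ := hpos i hi
    have c := card_order_sweep A (i := i) (fun t ht ho => hcen t ht fun e => by
      rw [e, orderOf_one] at ho; omega) fun g hg => by
      obtain ⟨x, hx, hgx, -⟩ := HallAux.exists_prime_power g (hg ▸ hpi)
      obtain ⟨h, hh⟩ := hconj x p hp hx (hpi.trans hd)
      exact ⟨h, hh g hgx.eq⟩
    rw [hN, card_order_in_cyclic A (hc ▸ hd), hG, ← h1] at c
    rw [hsq]
    refine Nat.eq_of_mul_eq_mul_left (show 0 < C.q + 3 ^ (m + 1) + 1 by omega) ?_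
    calc (C.q + 3 ^ (m + 1) + 1) * (6 * Nat.card {g : C.Gr // orderOf g = i}) =
          Nat.card {g : C.Gr // orderOf g = i} * (6 * (C.q + 3 ^ (m + 1) + 1)) := by ring
      _ = _ := by rw [c]; ring

end TwG2

end CfsgLib.Chev
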