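/-
The solvable subgroups of the groups of type ²G₂.
-/
import Mathlib
import Cfsg.Prelude.Def_Solvable
import Cfsg.Agent.Lib.Solvable.Fitting
import Cfsg.Agent.Lib.Chev.Twist.G2Conj

set_option autoImplicit false

namespace CfsgLib.Chev

open Cfsg Cfsg.Lie

universe v

namespace TwG2

variable {K : Type v} [Field K] [Fintype K] {m : ℕ} (C : Ctx K m)

/-- The possible local subgroups. -/
def Ctx.LocalSub (C : Ctx K m) (S : Subgroup C.Gr) : Prop :=
  ∃ A : Subgroup C.Gr, S ≤ Subgroup.normalizer (A : Set C.Gr) ∧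
    ((∃ P : Sylow 2 C.Gr, A = P) ∨ (∃ P : Sylow 3 C.Gr, A = P) ∨
      (IsCyclic A ∧ (Nat.card A = (C.q - 1) / 2 ∨ Nat.card A = (C.q + 1) / 4 ∨
        Nat.card A = C.q - 3 ^ (m + 1) + 1 ∨ Nat.card A = C.q + 3 ^ (m + 1) + 1)))

include C

omit C in
theorem cyclic_map {G : Type*} [Group G] (X : Subgroup G) [IsCyclic X] (h : G) :
    IsCyclic ↥(X.map (MulAut.conj h).toMonoidHom) :=
  isCyclic_of_surjective ((MulAut.conj h).toMonoidHom.subgroupMap X)
    (MonoidHom.subgroupMap_surjective _ _)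

omit C in
theorem normalizer_map_le {G : Type*} [Group G] {X A : Subgroup G}
    (hle : Subgroup.normalizer (X : Set G) ≤ Subgroup.normalizer (A : Set G)) (h : G) :
    Subgroup.normalizer ((X.map (MulAut.conj h).toMonoidHom : Subgroup G) : Set G) ≤
      Subgroup.normalizer ((A.map (MulAut.conj h).toMonoidHom : Subgroup G) : Set G) := by
  rw [← Subgroup.map_equiv_normalizer_eq, ← Subgroup.map_equiv_normalizer_eq]
  exact Subgroup.map_mono hle

/-- The normaliser of a subgroup of odd prime order. -/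
theorem Ctx.local_of_prime_order (hm : 1 ≤ m) {x : C.Gr} {p : ℕ} (hp : p.Prime) (hp2 : p ≠ 2)
    (hp3 : p ≠ 3) (hx : orderOf x = p) (S : Subgroup C.Gr)
    (hS : S ≤ Subgroup.normalizer (Subgroup.zpowers x : Set C.Gr)) : C.LocalSub S := by
  obtain ⟨h27, h8, h3⟩ := C.q_facts hm
  have hG : p ∣ Nat.card C.Gr := hx ▸ orderOf_dvd_natCard x
  have hcz : Subgroup.centralizer (Subgroup.zpowers x : Set C.Gr) =
      Subgroup.centralizer ({x} : Set C.Gr) := by
    rw [Subgroup.zpowers_eq_closure, Subgroup.centralizer_closure]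
  have hN : Subgroup.normalizer (Subgroup.zpowers x : Set C.Gr) ≤
      Subgroup.normalizer ((Subgroup.centralizer ({x} : Set C.Gr) : Subgroup C.Gr) : Set C.Gr) :=
    hcz ▸ HallAux.normalizer_le_normalizer_centralizer (Subgroup.zpowers x)
  rcases C.prime_cases hp hG with e | hd | hd | hd
  · exact absurd e hp3
  · obtain ⟨A, hA, hc, -, -, hAR, -⟩ := C.exists_torus_zero hm
    obtain ⟨h, hh⟩ := C.minus_cent hm hp hp2 hx hd
    haveI := C.parG_cyclic
    rw [card_cent_eq comm_of_cyclic hh] at hN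
    haveI := hA
    exact ⟨A.map (MulAut.conj h).toMonoidHom,
      (hS.trans hN).trans (normalizer_map_le (HallAux.normalizer_le_of_cyclic hAR) h),
      Or.inr (Or.inr ⟨cyclic_map A h, Or.inl
        (by rw [Subgroup.card_map_of_injective (MulEquiv.injective _), hc])⟩)⟩
  · obtain ⟨A, T, τ, hA, hc, hAT, -, -, -, hcen, hcen', -, -, h0⟩ := C.exists_torus_one hm
    obtain ⟨h, hh⟩ := C.plus_cent hc hcen hm hp hp2 hx hd
    have hne : A ≠ ⊥ := fun e => by rw [e, Subgroup.card_bot] at hc; omega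
    -- everything commuting with `x` is conjugate into `T`, and conversely
    have hTx : Subgroup.centralizer ({x} : Set C.Gr) = T.map (MulAut.conj h).toMonoidHom := by
      ext z
      rw [Subgroup.mem_map_equiv, ← MulAut.inv_def, ← map_inv, MulAut.conj_apply, inv_inv,
        Subgroup.mem_centralizer_singleton_iff]
      refine ⟨hh z, fun hz => ?_⟩
      have hxT := hh x rfl
      have hxne : (h⁻¹ * x * h) * (h⁻¹ * x * h) ≠ 1 := fun e => by
        have := orderOf_dvd_of_pow_eq_one (show (h⁻¹ * x * h) ^ 2 = 1 by rw [pow_two, e])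
        rw [show h⁻¹ * x * h = MulAut.conj h⁻¹ x by simp [MulAut.conj_apply], MulEquiv.orderOf_eq,
          hx] at this
        exact hp2 ((Nat.prime_dvd_prime_iff_eq hp Nat.prime_two).1 this)
      rw [← hcen' _ hxT hxne, Subgroup.mem_centralizer_singleton_iff] at hz
      rw [show h⁻¹ * z * h * (h⁻¹ * x * h) = h⁻¹ * (z * x) * h by group,
        show h⁻¹ * x * h * (h⁻¹ * z * h) = h⁻¹ * (x * z) * h by group] at hz
      exact mul_left_cancel (mul_right_cancel hz)
    rw [hTx] at hN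
    haveI := hA
    exact ⟨A.map (MulAut.conj h).toMonoidHom,
      (hS.trans hN).trans (normalizer_map_le (h0 A le_rfl hne).ge h),
      Or.inr (Or.inr ⟨cyclic_map A h, Or.inr (Or.inl
        (by rw [Subgroup.card_map_of_injective (MulEquiv.injective _)]; omega))⟩)⟩
  · obtain ⟨k, hk, hpk⟩ : ∃ k ∈ ({C.q - 3 ^ (m + 1) + 1, C.q + 3 ^ (m + 1) + 1} : Set ℕ), p ∣ k := by
      obtain ⟨-, -, -, -, -, hord⟩ := C.exists_cox_tori hm _ (Or.inl rfl)
      rcases hord x ⟨fun e => by rw [e, orderOf_one] at hx; exact hp.ne_one hx.symm,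
        hx.symm ▸ hd⟩ with h | h
      · exact ⟨_, Or.inl rfl, hx ▸ h⟩
      · exact ⟨_, Or.inr rfl, hx ▸ h⟩
    obtain ⟨A, hA, hc, -, -, -, hconj⟩ := C.cox_conj hm hk
    obtain ⟨h, hh⟩ := hconj x p hp hx hpk
    haveI := hA
    rw [card_cent_eq comm_of_cyclic hh] at hN
    refine ⟨A.map (MulAut.conj h).toMonoidHom, hS.trans hN, Or.inr (Or.inr ⟨cyclic_map A h, ?_⟩)⟩
    rw [Subgroup.card_map_of_injective (MulEquiv.injective _), hc]
    rcases hk with hk | hk
    · exact Or.inr (Or.inr (Or.inl hk))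
    · exact Or.inr (Or.inr (Or.inr hk))

/-- A subgroup normalising a non-trivial three-group. -/
theorem Ctx.local_of_three (hm : 1 ≤ m) {V : Subgroup C.Gr} (hV : IsPGroup 3 V) (hV1 : V ≠ ⊥)
    (S : Subgroup C.Gr) (hS : S ≤ Subgroup.normalizer (V : Set C.Gr)) : C.LocalSub S := by
  haveI : Fact (Nat.Prime 3) := ⟨Nat.prime_three⟩
  let P : Sylow 3 C.Gr := (IsPGroup.of_card (p := 3) (n := (2 * m + 1) * 3)
    (by rw [C.card_uni, Ctx.q, ← pow_mul]) : IsPGroup 3 C.uni).toSylow (C.index_uni hm)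
  have hP : (P : Subgroup C.Gr) = C.uni := rfl
  obtain ⟨Q, hQ⟩ := hV.exists_le_sylow
  obtain ⟨g, rfl⟩ := MulAction.exists_smul_eq C.Gr P Q
  refine ⟨((g • P : Sylow 3 C.Gr) : Subgroup C.Gr), fun s hs => ?_, Or.inr (Or.inl ⟨_, rfl⟩)⟩
  have hmem : ∀ v ∈ V, g⁻¹ * v * g ∈ C.uni := fun v hv => by
    have := hQ hv
    rw [Sylow.coe_subgroup_smul, Subgroup.mem_pointwise_smul_iff_inv_smul_mem, hP] at this
    simpa [MulAut.conj_apply, ← map_inv] using this
  obtain ⟨⟨v, hv⟩, hv1⟩ := Subgroup.ne_bot_iff_exists_ne_one.1 hV1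
  have hs' : s⁻¹ * v * s ∈ V := (Subgroup.mem_normalizer_iff''.1 (hS hs) v).1 hv
  set u := g⁻¹ * v * g
  set t := g⁻¹ * s * g
  have hu1 : u ≠ 1 := fun e => hv1 (Subtype.ext (by
    rwa [show u = g⁻¹ * v * g from rfl, mul_assoc, inv_mul_eq_one, eq_comm, mul_eq_right] at e))
  have hu' : t⁻¹ * u * t ∈ C.uni := by
    have := hmem _ hs'
    rwa [show g⁻¹ * (s⁻¹ * v * s) * g = t⁻¹ * u * t by simp only [u, t]; group] at this
  have hfix : u • (t • C.base) = t • C.base := by
    have h1 : (t⁻¹ * u * t) • C.base = C.base := (C.stab_base _).2 (DataG2.facts.pos_le_borel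
      (DataG2.facts.posUnipotent_eq (F := K) ▸ hu'.1))
    rwa [← smul_smul, ← smul_smul, inv_smul_eq_iff] at h1
  have ht := (C.stab_base t).1 (C.uni_fix hm (hmem v hv) hu1 hfix)
  have hnorm : ∀ {a : C.Gr}, (a : GL chevG2.Idx K) ∈ chevG2.borelSubgroup K → ∀ y ∈ C.uni,
      a * y * a⁻¹ ∈ C.uni := fun {a} ha y hy => C.borel_normalizes ⟨ha, a.2⟩ hy
  have htN : t ∈ Subgroup.normalizer (C.uni : Set C.Gr) := by
    rw [Subgroup.mem_normalizer_iff]
    refine fun y => ⟨hnorm ht y, fun hy => ?_⟩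
    have := hnorm (a := t⁻¹) (Subgroup.inv_mem _ ht) _ hy
    rwa [show t⁻¹ * (t * y * t⁻¹) * t⁻¹⁻¹ = y by group] at this
  rw [Sylow.coe_subgroup_smul, hP, Subgroup.mem_normalizer_iff]
  intro y
  rw [Subgroup.mem_pointwise_smul_iff_inv_smul_mem, Subgroup.mem_pointwise_smul_iff_inv_smul_mem]
  simp only [MulAut.smul_def, ← map_inv, MulAut.conj_apply, inv_inv]
  rw [Subgroup.mem_normalizer_iff.1 htN (g⁻¹ * y * g)]
  rw [show t * (g⁻¹ * y * g) * t⁻¹ = g⁻¹ * (s * y * s⁻¹) * g by simp only [t]; group]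

/-- No element of order three centralises two distinct commuting involutions. -/
theorem Ctx.three_four (hm : 1 ≤ m) {y s t : C.Gr} (hy : orderOf y = 3)
    (hs1 : s ≠ 1) (hs2 : s * s = 1) (ht1 : t ≠ 1) (ht2 : t * t = 1) (hst : s ≠ t)
    (hc : s * t = t * s) (hys : s * y = y * s) (hyt : t * y = y * t) : False := by
  obtain ⟨h, -, hh⟩ := C.three_fix hm hy
  set P := Subgroup.closure ({s, t} : Set C.Gr)
  have hV : ∃ E : Subgroup C.Gr, Nat.card E = 4 ∧ s ∈ E ∧ t ∈ E ∧ ∀ u ∈ E, u * y = y * u := by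
    let E : Subgroup C.Gr :=
      { carrier := {1, s, t, s * t}
        one_mem' := Or.inl rfl
        mul_mem' := by
          have e1 : s * (s * t) = t := by rw [← mul_assoc, hs2, one_mul]
          have e2 : t * (s * t) = s := by rw [hc, ← mul_assoc, ht2, one_mul]
          have e3 : s * t * s = t := by rw [hc, mul_assoc, hs2, mul_one]
          have e4 : s * t * t = s := by rw [mul_assoc, ht2, mul_one]
          have e5 : s * t * (s * t) = 1 := by rw [← mul_assoc, e3, ht2]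
          rintro a b (rfl | rfl | rfl | rfl) (rfl | rfl | rfl | rfl) <;>
            simp [hs2, ht2, e1, e2, e3, e4, e5, ← hc]
        inv_mem' := by
          have i1 : s⁻¹ = s := inv_eq_of_mul_eq_one_right hs2
          have i2 : t⁻¹ = t := inv_eq_of_mul_eq_one_right ht2
          rintro a (rfl | rfl | rfl | rfl) <;> simp [i1, i2, ← hc] }
    have hst' : s * t ≠ 1 := fun e => hst (mul_left_cancel (hs2.trans e.symm)).symm.symm
    refine ⟨E, ?_, Or.inr (Or.inl rfl), Or.inr (Or.inr (Or.inl rfl)), ?_⟩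
    · show Nat.card ({1, s, t, s * t} : Set C.Gr) = 4
      rw [Nat.card_coe_set_eq, Set.ncard_insert_of_notMem (by simp [hs1.symm, ht1.symm, hst'.symm]),
        Set.ncard_insert_of_notMem (by simp [hst, ht1]), Set.ncard_pair (by simpa using hs1)]
    · rintro u (rfl | rfl | rfl | rfl)
      · rw [one_mul, mul_one]
      · exact hys
      · exact hyt
      · exact ((show Commute s y from hys).mul_left hyt).eq
  obtain ⟨E, hE, -, -, hEc⟩ := hV
  have hle : E.map (MulAut.conj h⁻¹).toMonoidHom ≤ C.bor := by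
    rintro _ ⟨u, hu, rfl⟩
    simpa [MulAut.conj_apply] using hh u (hEc u hu)
  have := Subgroup.card_dvd_of_le hle
  rw [Subgroup.card_map_of_injective (MulEquiv.injective _), hE, C.card_bor] at this
  obtain ⟨h27, h8, -⟩ := C.q_facts hm
  have hodd : Odd (C.q ^ 3) := (Nat.odd_iff.2 (by omega) : Odd C.q).pow
  have := ((Nat.coprime_two_left.2 hodd).pow_left 2).dvd_of_dvd_mul_left this
  omega

theorem Ctx.local_of_two (hm : 1 ≤ m) (S : Subgroup C.Gr) (V : Subgroup C.Gr) (hV : IsPGroup 2 V)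
    (hVS : V ≤ S) (hn : S ≤ Subgroup.normalizer (V : Set C.Gr))
    (hself : ∀ s ∈ S, (∀ v ∈ V, s * v = v * s) → s ∈ V) : C.LocalSub S := by
  classical
  haveI : Fact (Nat.Prime 2) := ⟨Nat.prime_two⟩
  obtain ⟨P, hP⟩ := hV.exists_le_sylow
  obtain ⟨hP8, hPsq⟩ := C.sylow_two P
  have habel : ∀ (Q : Sylow 2 C.Gr), ∀ a ∈ Q, ∀ b ∈ Q, a * b = b * a := fun Q a ha b hb => by
    have hs := (C.sylow_two Q).2
    have h1 := hs _ (mul_mem ha hb)
    have := inv_eq_of_mul_eq_one_right h1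
    rw [mul_inv_rev, inv_eq_of_mul_eq_one_right (hs _ ha), inv_eq_of_mul_eq_one_right (hs _ hb)] at this
    exact this.symm
  have hVd : Nat.card V ∣ 8 := hP8 ▸ Subgroup.card_dvd_of_le hP
  have hle2 : ∀ s ∈ S, ∀ Q : Sylow 2 C.Gr, V ≤ (Q : Subgroup C.Gr) → s ∈ Q → s ∈ V :=
    fun s hs Q hVQ hsQ => hself s hs fun v hv => habel Q s hsQ v (hVQ hv)
  -- two-elements of `S` lie in `V`
  have htwo : ∀ s ∈ S, ∀ n, s ^ 2 ^ n = 1 → s ∈ V := by
    intro s hs n hsn
    obtain ⟨j, -, hj⟩ := (Nat.dvd_prime_pow Nat.prime_two).1 (orderOf_dvd_of_pow_eq_one hsn)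
    have hsP : IsPGroup 2 (Subgroup.zpowers s) :=
      IsPGroup.of_card (n := j) (by rw [Nat.card_zpowers, hj])
    obtain ⟨Q, hQ⟩ := (hsP.to_sup_of_normal_right' hV
      ((Subgroup.zpowers_le.2 (hn hs)))).exists_le_sylow
    exact hle2 s hs Q (le_sup_right.trans hQ) (hQ (le_sup_left (a := Subgroup.zpowers s) (b := V)
      (Subgroup.mem_zpowers s)))
  rcases (Nat.dvd_prime_pow Nat.prime_two).1 (show Nat.card V ∣ 2 ^ 3 from hVd) with ⟨j, hj, hcard⟩
  interval_cases j
  · -- trivial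
    rw [pow_zero, Subgroup.card_eq_one] at hcard
    refine ⟨(P : Subgroup C.Gr), fun s hs => ?_, Or.inl ⟨P, rfl⟩⟩
    have : s ∈ V := hself s hs fun v hv => by
      rw [hcard, Subgroup.mem_bot] at hv; simp [hv]
    rw [hcard, Subgroup.mem_bot] at this
    rw [this]; exact one_mem _
  · -- order two
    refine ⟨(P : Subgroup C.Gr), fun s hs => Subgroup.le_normalizer (hP (hself s hs ?_)),
      Or.inl ⟨P, rfl⟩⟩
    intro v hv
    have h2 := Nat.card_eq_two_iff' (1 : V) |>.1 (by rw [hcard]; norm_num)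
    by_cases hv1 : v = 1
    · simp [hv1]
    obtain ⟨z, -, hz⟩ := h2
    have e1 := hz ⟨v, hv⟩ (fun e => hv1 (congrArg Subtype.val e))
    have hv' : s * v * s⁻¹ ∈ V := (Subgroup.mem_normalizer_iff.1 (hn hs) v).1 hv
    have e2 := hz ⟨_, hv'⟩ (fun e => hv1 (by
      have := congrArg Subtype.val e
      simpa [conj_eq_one_iff] using this))
    exact mul_inv_eq_iff_eq_mul.1 (congrArg Subtype.val (e2.trans e1.symm))
  · -- order four
    have hVsq : ∀ v ∈ V, v * v = 1 := fun v hv => hPsq v (hP hv)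
    set Z := Subgroup.centralizer (V : Set C.Gr)
    have hPZ : (P : Subgroup C.Gr) ≤ Z := fun x hx => Subgroup.mem_centralizer_iff.2 fun v hv =>
      habel P v (hP hv) x hx
    obtain ⟨s₀, hs₀, t₀, ht₀, hs1, ht1, hne⟩ : ∃ s ∈ V, ∃ t ∈ V, s ≠ 1 ∧ t ≠ 1 ∧ s ≠ t := by
      haveI : Fintype V := Fintype.ofFinite _
      obtain ⟨a, b, c, hab, hac, hbc⟩ := (Fintype.two_lt_card_iff (α := V)).1 (by
        rw [← Nat.card_eq_fintype_card, hcard]; norm_num)
      by_cases ha : (a : C.Gr) = 1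
      · exact ⟨b, b.2, c, c.2, fun e => hab (Subtype.ext (ha.trans e.symm)),
          fun e => hac (Subtype.ext (ha.trans e.symm)), fun e => hbc (Subtype.ext e)⟩
      by_cases hb : (b : C.Gr) = 1
      · exact ⟨a, a.2, c, c.2, ha, fun e => hbc (Subtype.ext (hb.trans e.symm)),
          fun e => hac (Subtype.ext e)⟩
      exact ⟨a, a.2, b, b.2, ha, hb, fun e => hab (Subtype.ext e)⟩
    have hZ3 : ¬ 3 ∣ Nat.card Z := fun h => by
      haveI : Fact (Nat.Prime 3) := ⟨Nat.prime_three⟩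
      obtain ⟨⟨y, hyZ⟩, hy⟩ := exists_prime_orderOf_dvd_card' 3 h
      rw [Subgroup.orderOf_mk] at hy
      exact C.three_four hm hy hs1 (hVsq _ hs₀) ht1 (hVsq _ ht₀) hne
        (habel P _ (hP hs₀) _ (hP ht₀)) (Subgroup.mem_centralizer_iff.1 hyZ _ hs₀)
        (Subgroup.mem_centralizer_iff.1 hyZ _ ht₀)
    -- the action on the three involutions
    set S' := {s : C.Gr | s ∈ S}
    have hcube : ∀ s ∈ S, s ∉ V → ∃ y ∈ S, y ∉ V ∧ ∀ u ∈ S, u ∈ V ∨ u * y⁻¹ ∈ V ∨ u * y ∈ V := by
      intro s hs hsV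
      -- the homomorphism to the symmetric group
      let I := {v : C.Gr // v ∈ V ∧ v ≠ 1}
      have hI : Nat.card I = 3 := by
        show Nat.card {v : C.Gr | v ∈ V ∧ v ≠ 1} = 3
        rw [Nat.card_coe_set_eq, show {v : C.Gr | v ∈ V ∧ v ≠ 1} = (V : Set C.Gr) \ {1} from rfl,
          Set.ncard_sdiff_singleton_of_mem (one_mem _), ← Nat.card_coe_set_eq]
        show Nat.card V - 1 = 3
        rw [hcard]; norm_num
      let f : S →* Equiv.Perm I :=
        { toFun := fun a =>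
            { toFun := fun v => ⟨a.1 * v.1 * (a.1)⁻¹, (Subgroup.mem_normalizer_iff.1 (hn a.2) _).1 v.2.1,
                fun e => v.2.2 (conj_eq_one_iff.1 e)⟩
              invFun := fun v => ⟨(a.1)⁻¹ * v.1 * a.1, (Subgroup.mem_normalizer_iff''.1 (hn a.2) _).1 v.2.1,
                fun e => v.2.2 (by rwa [mul_assoc, inv_mul_eq_one, eq_comm, mul_eq_right] at e)⟩
              left_inv := fun v => Subtype.ext (by simp only; group)
              right_inv := fun v => Subtype.ext (by simp only; group) }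
          map_one' := Equiv.ext fun v => Subtype.ext (by simp)
          map_mul' := fun a b => Equiv.ext fun v => Subtype.ext (by
            show (a.1 * b.1) * v.1 * (a.1 * b.1)⁻¹ = a.1 * (b.1 * v.1 * (b.1)⁻¹) * (a.1)⁻¹
            group) }
      have hker : ∀ a : S, f a = 1 → a.1 ∈ V := fun a ha => hself a.1 a.2 fun v hv => by
        by_cases hv1 : v = 1
        · simp [hv1]
        have : a.1 * v * (a.1)⁻¹ = v := congrArg Subtype.val (Equiv.ext_iff.1 ha ⟨v, hv, hv1⟩)
        exact mul_inv_eq_iff_eq_mul.1 this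
      have hnot2 : ∀ a : S, f a * f a = 1 → f a = 1 := by
        intro a ha
        rw [← map_mul] at ha
        have h1 := hker _ ha
        have h4 : a.1 ^ 2 ^ 2 = 1 := by
          rw [show (2 : ℕ) ^ 2 = 2 + 2 from rfl, pow_add, pow_two]
          exact hVsq _ h1
        have h2 := htwo _ a.2 _ h4
        refine Equiv.ext fun v => Subtype.ext ?_
        show a.1 * v.1 * (a.1)⁻¹ = v.1
        rw [habel P _ (hP h2) _ (hP v.2.1), mul_inv_cancel_right]
      haveI : Finite I := Subtype.finite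
      have hord : ∀ a : S, f a ^ 3 = 1 := by
        intro a
        have hd : orderOf (f a) ∣ 6 := by
          have := orderOf_dvd_natCard (f a)
          rwa [Nat.card_perm, hI] at this
        have h6 : orderOf (f a ^ 3) ∣ 2 := orderOf_dvd_of_pow_eq_one (by
          rw [← pow_mul]; exact orderOf_dvd_iff_pow_eq_one.1 hd)
        rw [← map_pow]
        refine hnot2 _ ?_
        rw [← pow_two, map_pow]
        exact orderOf_dvd_iff_pow_eq_one.1 h6
      have hR : Nat.card f.range ∣ 3 := by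
        have h1 : Nat.card f.range ∣ 6 := by
          have := Subgroup.card_subgroup_dvd_card f.range
          rwa [Nat.card_perm, hI] at this
        refine Nat.Coprime.dvd_of_dvd_mul_left (?_ : Nat.Coprime (Nat.card f.range) 2) h1
        refine Nat.coprime_of_dvd fun r hr h2 h2' => ?_
        obtain rfl := (Nat.prime_dvd_prime_iff_eq hr Nat.prime_two).1 h2'
        obtain ⟨⟨b, hb'⟩, hb⟩ := exists_prime_orderOf_dvd_card' (G := f.range) 2 h2
        obtain ⟨a, rfl⟩ := hb'
        have hb2 : orderOf (f a) = 2 := (Subgroup.orderOf_coe (⟨f a, a, rfl⟩ : f.range)).trans hb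
        have := orderOf_dvd_of_pow_eq_one (hord a)
        rw [hb2] at this
        omega
      refine ⟨s, hs, hsV, fun u hu => ?_⟩
      have hs1 : f ⟨s, hs⟩ ≠ 1 := fun e => hsV (hker _ e)
      have hR3 : Nat.card f.range = 3 := by
        rcases (Nat.dvd_prime Nat.prime_three).1 hR with h | h
        · exact absurd (by
            haveI := (Nat.card_eq_one_iff_unique.1 h).1
            exact congrArg Subtype.val
              (Subsingleton.elim (⟨f ⟨s, hs⟩, ⟨_, rfl⟩⟩ : f.range) 1)) hs1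
        · exact h
      haveI : Fact (Nat.Prime 3) := ⟨Nat.prime_three⟩
      obtain ⟨j, hj⟩ := Subgroup.mem_zpowers_iff.1
        (mem_zpowers_of_prime_card hR3 (g := (⟨f ⟨s, hs⟩, ⟨_, rfl⟩⟩ : f.range))
          (g' := ⟨f ⟨u, hu⟩, ⟨_, rfl⟩⟩) (fun e => hs1 (congrArg Subtype.val e)))
      have hj' : f ⟨s, hs⟩ ^ j = f ⟨u, hu⟩ := congrArg Subtype.val hj
      have h3z : f ⟨s, hs⟩ ^ (3 : ℤ) = 1 := by
        rw [show (3 : ℤ) = ((3 : ℕ) : ℤ) from rfl, zpow_natCast]; exact hord _
      have hj3 : f ⟨s, hs⟩ ^ (j % 3) = f ⟨u, hu⟩ := by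
        rw [← hj', ← Int.emod_add_mul_ediv j 3, zpow_add, zpow_mul, h3z, one_zpow, mul_one,
          Int.emod_add_mul_ediv]
      have : j % 3 = 0 ∨ j % 3 = 1 ∨ j % 3 = 2 := by omega
      rcases this with e | e | e <;> rw [e] at hj3
      · exact Or.inl (hker ⟨u, hu⟩ (by rw [← hj3, zpow_zero]))
      · refine Or.inr (Or.inl (hker (⟨u, hu⟩ * ⟨s, hs⟩⁻¹) ?_))
        rw [map_mul, map_inv, ← hj3, zpow_one, mul_inv_cancel]
      · refine Or.inr (Or.inr (hker (⟨u, hu⟩ * ⟨s, hs⟩) ?_))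
        rw [map_mul, ← hj3, ← zpow_add_one]
        exact h3z
    by_cases hall : ∀ s ∈ S, s ∈ V
    · exact ⟨(P : Subgroup C.Gr), fun s hs => Subgroup.le_normalizer (hP (hall s hs)), Or.inl ⟨P, rfl⟩⟩
    push Not at hall
    obtain ⟨s, hs, hsV⟩ := hall
    obtain ⟨y, hy, hyV, hgen⟩ := hcube s hs hsV
    -- the element permutes the Sylow subgroups of the centraliser
    have hy3 : y ^ 3 ∈ V := by
      rcases hgen (y * y) (mul_mem hy hy) with h | h | h
      · exact absurd (htwo y hy 2 (by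
          rw [show (2 : ℕ) ^ 2 = 2 + 2 from rfl, pow_add, pow_two]; exact hVsq _ h)) hyV
      · exact absurd (by rwa [mul_inv_cancel_right] at h) hyV
      · rwa [← pow_three'] at h
    set x := y ^ 4
    have hx3 : x ^ 3 = 1 := by
      rw [← pow_mul, show 4 * 3 = 3 * 2 * 2 from rfl, pow_mul, pow_mul, pow_two (y ^ 3), hVsq _ hy3,
        one_pow]
    have hxy : x * y⁻¹ = y ^ 3 := by
      show y ^ 4 * y⁻¹ = y ^ 3
      rw [pow_succ, mul_inv_cancel_right]
    have hxN : x ∈ Subgroup.normalizer (Z : Set C.Gr) :=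
      HallAux.normalizer_le_normalizer_centralizer V (pow_mem (hn hy) 4)
    let Ω := {Q : Sylow 2 C.Gr // (Q : Subgroup C.Gr) ≤ Z}
    have hcl : ∀ (g : C.Gr), g ∈ Subgroup.normalizer (Z : Set C.Gr) → ∀ Q : Sylow 2 C.Gr,
        (Q : Subgroup C.Gr) ≤ Z → ((g • Q : Sylow 2 C.Gr) : Subgroup C.Gr) ≤ Z := by
      intro g hg Q hQ v hv
      rw [Sylow.coe_subgroup_smul, Subgroup.mem_pointwise_smul_iff_inv_smul_mem, MulAut.smul_def,
        ← map_inv, MulAut.conj_apply, inv_inv] at hv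
      exact (Subgroup.mem_normalizer_iff''.1 hg v).2 (hQ hv)
    letI : MulAction (Subgroup.zpowers x) Ω :=
      { smul := fun g Q => ⟨g.1 • Q.1, hcl _ (Subgroup.zpowers_le.2 hxN g.2) _ Q.2⟩
        one_smul := fun Q => Subtype.ext (one_smul C.Gr Q.1)
        mul_smul := fun g h Q => Subtype.ext (mul_smul g.1 h.1 Q.1) }
    have hcount : ¬ 3 ∣ Nat.card Ω := by
      have e : Nat.card Ω = Nat.card (Sylow 2 Z) := by
        refine Nat.card_eq_of_bijective (fun Q => Q.1.subtype Q.2) ⟨fun Q Q' e => ?_, fun R => ?_⟩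
        · exact Subtype.ext (Sylow.ext (Subgroup.subgroupOf_inj.1 (congrArg
            (fun R : Sylow 2 Z => (R : Subgroup Z)) e) |> fun h => by
              rwa [inf_eq_left.2 Q.2, inf_eq_left.2 Q'.2] at h))
        · obtain ⟨Q₀, hQ₀⟩ := (R.isPGroup'.map Z.subtype).exists_le_sylow
          obtain ⟨g, hg⟩ := MulAction.exists_smul_eq Z (P.subtype hPZ) R
          refine ⟨⟨(g : C.Gr) • P, hcl _ (Subgroup.le_normalizer g.2) _ hPZ⟩, ?_⟩
          rw [← hg]
          exact (Sylow.smul_subtype (P := P) hPZ g).symm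
      rw [e]
      exact fun h => hZ3 (h.trans ((P.subtype hPZ).card_dvd_index.trans (Subgroup.index_dvd_card _)))
    haveI : Fact (Nat.Prime 3) := ⟨Nat.prime_three⟩
    have hx3P : IsPGroup 3 (Subgroup.zpowers x) := by
      obtain ⟨j, -, hj⟩ := (Nat.dvd_prime_pow Nat.prime_three).1
        (orderOf_dvd_of_pow_eq_one (show x ^ 3 ^ 1 = 1 by rw [pow_one, hx3]))
      exact IsPGroup.of_card (n := j) (by rw [Nat.card_zpowers, hj])
    obtain ⟨Q, hQ⟩ := hx3P.nonempty_fixed_point_of_prime_not_dvd_card Ω hcount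
    have hfix : x • Q.1 = Q.1 := congrArg Subtype.val
      (MulAction.mem_fixedPoints.1 hQ ⟨x, Subgroup.mem_zpowers x⟩)
    have hVQ : V ≤ (Q.1 : Subgroup C.Gr) := fun v hv => by
      have hcomm : ∀ u ∈ Q.1, v * u = u * v := fun u hu => Subgroup.mem_centralizer_iff.1 (Q.2 hu) v hv
      have hj : IsPGroup 2 ↥((Q.1 : Subgroup C.Gr) ⊔ V) :=
        Q.1.isPGroup'.to_sup_of_normal_right' hV fun u hu => Subgroup.mem_normalizer_iff.2 fun w => by
          constructor
          · intro hw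
            rw [← Subgroup.mem_centralizer_iff.1 (Q.2 hu) w hw, mul_inv_cancel_right]; exact hw
          · intro hw
            have := Subgroup.mem_centralizer_iff.1 (Q.2 hu) _ hw
            rwa [show w = u * w * u⁻¹ by
              rw [show u * w * u⁻¹ = u⁻¹ * ((u * w * u⁻¹) * u) * 1 * (u * u⁻¹) by
                rw [mul_inv_cancel, mul_one, mul_one, this]; group]
              group]
      rw [← Q.1.is_maximal' hj le_sup_left]
      exact Subgroup.mem_sup_right hv
    have hxQ : x ∈ Subgroup.normalizer ((Q.1 : Subgroup C.Gr) : Set C.Gr) :=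
      Sylow.smul_eq_iff_mem_normalizer.1 hfix
    have hyQ : y ∈ Subgroup.normalizer ((Q.1 : Subgroup C.Gr) : Set C.Gr) := by
      rw [show y = (x * y⁻¹)⁻¹ * x by group, hxy]
      exact mul_mem (inv_mem (Subgroup.le_normalizer (hVQ hy3))) hxQ
    refine ⟨(Q.1 : Subgroup C.Gr), fun u hu => ?_, Or.inl ⟨Q.1, rfl⟩⟩
    rcases hgen u hu with h | h | h
    · exact Subgroup.le_normalizer (hVQ h)
    · rw [show u = u * y⁻¹ * y by group]
      exact mul_mem (Subgroup.le_normalizer (hVQ h)) hyQ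
    · rw [show u = u * y * y⁻¹ by group]
      exact mul_mem (Subgroup.le_normalizer (hVQ h)) (inv_mem hyQ)
  · -- order eight
    have e : V = (P : Subgroup C.Gr) := Subgroup.eq_of_le_of_card_ge hP (by rw [hP8, hcard]; norm_num)
    exact ⟨(P : Subgroup C.Gr), e ▸ hn, Or.inl ⟨P, rfl⟩⟩

/-- Every solvable subgroup is local. -/
theorem Ctx.solvable_local (hm : 1 ≤ m) (S : Subgroup C.Gr) (hS : Group.IsSolvable S) :
    C.LocalSub S := by
  classical
  haveI : Fact (Nat.Prime 2) := ⟨Nat.prime_two⟩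
  have hto : ∀ M : Subgroup S, M.Normal → S ≤ Subgroup.normalizer ((M.map S.subtype : Subgroup C.Gr) : Set C.Gr) := by
    intro M hM s hs
    rw [Subgroup.mem_normalizer_iff]
    intro v
    constructor
    · rintro ⟨a, ha, rfl⟩
      exact ⟨⟨s, hs⟩ * a * ⟨s, hs⟩⁻¹, hM.conj_mem a ha _, rfl⟩
    · rintro ⟨a, ha, e⟩
      refine ⟨⟨s, hs⟩⁻¹ * a * ⟨s, hs⟩, by simpa using hM.conj_mem a ha (⟨s, hs⟩⁻¹), ?_⟩
      have e' : (a : C.Gr) = s * v * s⁻¹ := e
      show s⁻¹ * (a : C.Gr) * s = v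
      rw [e']; group
  by_cases hO : pPrimeCore 2 S = ⊥
  · have hn : (pCore 2 S).Normal := Subgroup.sSup_normal _ fun N hN => hN.1
    refine C.local_of_two hm S ((pCore 2 S).map S.subtype)
      ((CfsgLib.Cores.isPGroup_pCore (G := S) 2).map S.subtype) (Subgroup.map_subtype_le _) (hto _ hn)
      fun s hs hc => ?_
    refine ⟨⟨s, hs⟩, CfsgLib.Solvable.centralizer_pCore_le 2 hO
      (Subgroup.mem_centralizer_iff.2 fun a ha => Subtype.ext ?_), rfl⟩
    exact (hc a.1 ⟨a, ha, rfl⟩).symm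
  · haveI hn : (pPrimeCore 2 S).Normal := Subgroup.sSup_normal _ fun N hN => hN.1
    obtain ⟨M, hM, hM1, hMle, hmin⟩ :=
      CfsgLib.Solvable.exists_minimal_normal_le (pPrimeCore 2 S) hO
    haveI := hM
    obtain ⟨p, n, hp, -, -, hcard⟩ := CfsgLib.Solvable.exists_pow_card_of_minimal_normal M hM1 hmin
      (by haveI := hS; infer_instance)
    haveI := Fact.mk hp
    set V := M.map S.subtype
    have hV1 : V ≠ ⊥ := fun e => hM1 (Subgroup.map_injective S.subtype_injective (by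
      rw [Subgroup.map_bot]; exact e))
    have hVc : Nat.card V = p ^ n := by
      rw [Subgroup.card_map_of_injective S.subtype_injective, hcard]
    have hn0 : n ≠ 0 := fun e => hV1 (Subgroup.eq_bot_of_card_eq V (by rw [hVc, e, pow_zero]))
    have hp2 : p ≠ 2 := by
      rintro rfl
      have h1 := Subgroup.card_dvd_of_le hMle
      rw [hcard] at h1
      have h2 := (dvd_pow_self 2 hn0).trans h1
      have h3 := CfsgLib.Cores.coprime_card_pPrimeCore (G := S) 2
      exact absurd (Nat.Coprime.eq_one_of_dvd h3.symm h2) (by norm_num)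
    by_cases hp3 : p = 3
    · subst hp3
      exact C.local_of_three hm (IsPGroup.of_card hVc) hV1 S (hto M hM)
    obtain ⟨⟨x, hxV⟩, hxo⟩ := exists_prime_orderOf_dvd_card' (G := V) p
      (hVc ▸ dvd_pow_self p hn0)
    rw [Subgroup.orderOf_mk] at hxo
    have h5 : 3 < p := by have := hp.two_le; omega
    haveI : IsCyclic V := C.sylow_cyclic hm h5 V (IsPGroup.of_card hVc)
    refine C.local_of_prime_order hm hp hp2 hp3 hxo S ((hto M hM).trans ?_)
    exact HallAux.normalizer_le_of_cyclic (Subgroup.zpowers_le.2 hxV)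

end TwG2

end CfsgLib.Chev
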