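/-
Graph automorphisms of the tabulated Chevalley groups, including the exceptional ones in
characteristic 2 and 3.
-/
import Mathlib
import Cfsg.Agent.Lib.Chev.Twist.Par
import Cfsg.Agent.Lib.Chev.Twist.Endo
import Cfsg.Agent.S1080

set_option autoImplicit false
set_option maxRecDepth 20000

namespace CfsgLib.Chev

open Cfsg.Lie

universe v

variable {D : ChevalleyDatum} {co : ℕ → ℕ → ℤ} {K : Type v} [Field K] {P P' : TwPar}

theorem TwPar.OK.coef_gen (h : P.OK D) (hF : Facts D co) {i : ℕ} (hi : i < D.rank) (t : K) :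
    P.coef (RingHom.id K) (D.simple i) t = t ^ P.lam (D.simple i) ∧
      P.coef (RingHom.id K) (D.neg (D.simple i)) t = t ^ P.lam (D.simple i) := by
  constructor
  · simp [TwPar.coef, h.eps_simple i hi]
  · simp [TwPar.coef, h.eps_neg _ (hF.simple_lt' hi), h.eps_simple i hi,
      h.lam_neg _ (hF.simple_lt' hi)]

theorem TwPar.OK.gen_comp (h : P.OK D) (h' : P'.OK D) (hF : Facts D co) {e : ℕ}
    (hπ : ∀ i < D.rank, P'.pi (P.pi i) = i ∧
      P.lam (D.simple i) * P'.lam (D.simple (P.pi i)) = e) {r : ℕ} (hr : IsGen D r) (t : K) :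
    xU D (P'.rho (P.rho r)) (P'.coef (RingHom.id K) (P.rho r) (P.coef (RingHom.id K) r t)) =
      xU D r (t ^ e) := by
  obtain ⟨i, hi, hr⟩ := hr
  obtain ⟨h1, h2⟩ := hπ i hi
  have hi' := h.pi_lt i hi
  have hp := hF.simple_lt' hi
  have hp' := hF.simple_lt' hi'
  rcases hr with rfl | rfl
  · rw [(h.coef_gen hF hi t).1, h.rho_simple i hi, (h'.coef_gen hF hi' _).1, ← pow_mul, h2,
      h'.rho_simple _ hi', h1]
  · rw [(h.coef_gen hF hi t).2, h.rho_neg _ hp, h.rho_simple i hi, (h'.coef_gen hF hi' _).2,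
      ← pow_mul, h2, h'.rho_neg _ hp', h'.rho_simple _ hi', h1]

/-- The defining property of a graph automorphism. -/
def IsGraph (D : ChevalleyDatum) (P : TwPar) {K : Type v} [Field K]
    (α : ↥(D.group K) ≃* ↥(D.group K)) : Prop :=
  ∀ (g : ↥(D.group K)) (i : ℕ) (t : K), i < D.rank →
    (((g : GL D.Idx K) : Matrix D.Idx D.Idx K) = D.x K (D.simple i) t →
      ((α g : GL D.Idx K) : Matrix D.Idx D.Idx K) =
        D.x K (D.simple (P.pi i)) (t ^ P.lam (D.simple i))) ∧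
    (((g : GL D.Idx K) : Matrix D.Idx D.Idx K) = D.x K (D.neg (D.simple i)) t →
      ((α g : GL D.Idx K) : Matrix D.Idx D.Idx K) =
        D.x K (D.neg (D.simple (P.pi i))) (t ^ P.lam (D.simple i)))

theorem exists_graph (hG : Good.{v} D) (hN : HasNbr D) (h : P.OK D) (h' : P'.OK D) {e : ℕ}
    (hp : (P.p : K) = 0) (hp' : (P'.p : K) = 0)
    (hs : ∀ r < D.nroots, ∀ x : K, ∃ y, y ^ P.lam r = x)
    (hs' : ∀ r < D.nroots, ∀ x : K, ∃ y, y ^ P'.lam r = x)
    (hπ : ∀ i < D.rank, P'.pi (P.pi i) = i ∧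
      P.lam (D.simple i) * P'.lam (D.simple (P.pi i)) = e)
    (hπ' : ∀ i < D.rank, P.pi (P'.pi i) = i ∧
      P'.lam (D.simple i) * P.lam (D.simple (P'.pi i)) = e)
    (β : ↥(D.group K) ≃* ↥(D.group K))
    (hβ : ∀ r, IsGen D r → ∀ (t : K) (hm : xU D r t ∈ D.group K),
      (β ⟨xU D r t, hm⟩ : GL D.Idx K) = xU D r (t ^ e)) :
    ∃ α : ↥(D.group K) ≃* ↥(D.group K), IsGraph D P α := by
  obtain ⟨⟨co, hF⟩, hC⟩ := hG
  have hsur : ∀ (Q : TwPar), Q.OK D → (∀ r < D.nroots, ∀ x : K, ∃ y, y ^ Q.lam r = x) →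
      ∀ r < D.nroots, Function.Surjective (Q.coef (RingHom.id K) r) := by
    intro Q hQ hQs r hr x
    obtain ⟨y, hy⟩ := hQs r hr ((Q.eps r : K) * x)
    refine ⟨y, ?_⟩
    rw [TwPar.coef, RingHom.id_apply, hy, ← mul_assoc]
    rcases hQ.eps_pm r hr with e | e <;> simp [e]
  obtain ⟨α, hα⟩ := hF.exists_endo hC hN h (RingHom.id K) hp (hsur P h hs)
  obtain ⟨α', hα'⟩ := hF.exists_endo hC hN h' (RingHom.id K) hp' (hsur P' h' hs')
  have e1 : α'.comp α = β.toMonoidHom := hF.comp_eq_of_gen h hα hα' fun r hr t =>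
    (h.gen_comp h' hF hπ hr t).trans (hβ r hr t _).symm
  have e2 : α.comp α' = β.toMonoidHom := hF.comp_eq_of_gen h' hα' hα fun r hr t =>
    (h'.gen_comp h hF hπ' hr t).trans (hβ r hr t _).symm
  have hb : Function.Bijective α :=
    ⟨Function.Injective.of_comp (f := α')
      (by rw [← MonoidHom.coe_comp, e1]; exact β.injective),
      Function.Surjective.of_comp (g := α')
      (by rw [← MonoidHom.coe_comp, e2]; exact β.surjective)⟩
  refine ⟨MulEquiv.ofBijective α hb, fun g i t hi => ⟨fun hg => ?_, fun hg => ?_⟩⟩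
  · have hr := hF.simple_lt' hi
    rw [← hF.xU_val hr, Units.val_inj] at hg
    rw [← hF.xU_val (hF.simple_lt' (h.pi_lt i hi)), Units.val_inj, ← (h.coef_gen hF hi t).1,
      ← h.rho_simple i hi, ← hα _ hr t (hF.xU_mem_group hr t)]
    exact congrArg (fun x => (α x : GL D.Idx K)) (Subtype.ext hg)
  · have hr := hF.neg_lt (hF.simple_lt' hi)
    rw [← hF.xU_val hr, Units.val_inj] at hg
    rw [← hF.xU_val (hF.neg_lt (hF.simple_lt' (h.pi_lt i hi))), Units.val_inj,
      ← (h.coef_gen hF hi t).2, ← h.rho_simple i hi, ← h.rho_neg _ (hF.simple_lt' hi),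
      ← hα _ hr t (hF.xU_mem_group hr t)]
    exact congrArg (fun x => (α x : GL D.Idx K)) (Subtype.ext hg)

/-- The automorphism induced by the Frobenius map. -/
theorem exists_frobenius (hD : D ∈ [chevG2, chevB2, chevD4, chevF4, chevE6, chevE7, chevE8])
    (p : ℕ) [Fact p.Prime] [CharP K p] (hperf : ∀ x : K, ∃ y : K, y ^ p = x) :
    ∃ β : ↥(D.group K) ≃* ↥(D.group K), ∀ r, IsGen D r → ∀ (t : K) (hm : xU D r t ∈ D.group K),
      (β ⟨xU D r t, hm⟩ : GL D.Idx K) = xU D r (t ^ p) := by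
  have hbij : Function.Bijective (frobenius K p) :=
    ⟨(frobenius K p).injective, fun x => hperf x⟩
  obtain ⟨⟨co, hF⟩, -⟩ := good_of_mem.{0} hD
  obtain ⟨β, hβ⟩ := Cfsg.Agent.S1080.result D hD (RingEquiv.ofBijective (frobenius K p) hbij)
  refine ⟨β, fun r hr t hm => Units.ext ?_⟩
  rw [hF.xU_val ((hF.gen_lt hr))]
  exact hβ ⟨_, hm⟩ r t ((hF.gen_lt hr)) (hF.xU_val ((hF.gen_lt hr)) t)

end CfsgLib.Chev
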