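import Mathlib
import Cfsg.Agent.Lib.Chev.Twist.BN
import Cfsg.Agent.Lib.Chev.BNPair

/-!
Orders of rank one parabolic subgroups and opposite Borel subgroups of twisted groups.
-/

set_option autoImplicit false
set_option linter.style.haveILetI false

namespace CfsgLib.Chev.TwSys

open Cfsg.Lie

universe v

variable {D : ChevalleyDatum} {co : ℕ → ℕ → ℤ} {K : Type v} [Field K] {P : TwPar}
  {f : K →+* K} {σ : ↥(D.group K) →* GL D.Idx K} {ι : Type} {O : ι → Orb D}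
  {G : Subgroup (GL D.Idx K)} (T : TwSys D co P f σ O G)
include T

theorem exists_opposite :
    ∃ n ∈ T.bnPair.N, ∀ x ∈ T.bnPair.B, n⁻¹ * x * n ∈ T.bnPair.B →
      (x : GL D.Idx K) ∈ D.diagonalSubgroup K := by
  have hF := T.sig.hF
  obtain ⟨l, hw, hl⟩ := T.exists_w0
  obtain ⟨n, hnG, hnN, hn⟩ := T.exists_rep rfl hw
  refine ⟨⟨n, hnG⟩, ⟨hnN, hnG⟩, ?_⟩
  rintro ⟨x, hx⟩ ⟨hxB, -⟩ ⟨hcB, -⟩
  change x ∈ D.borelSubgroup K at hxB
  change n⁻¹ * x * n ∈ D.borelSubgroup K at hcB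
  show x ∈ D.diagonalSubgroup K
  obtain ⟨u, hu, h, hh, rfl⟩ := hF.mem_borel_iff.1 hxB
  have hneg : n⁻¹ * u * n ∈ D.negUnipotent K := by
    rw [hF.negUnipotent_eq]
    have hmap : ∀ r : Fin D.nroots, D.nroots / 2 ≤ r.val → ((sW D l)⁻¹ r).val < D.nroots / 2 := by
      intro r hr
      by_contra hc
      have := hl _ (not_lt.1 hc)
      rw [← Equiv.Perm.mul_apply, mul_inv_cancel, Equiv.Perm.one_apply] at this
      omega
    have := hF.conj_rootClosure (hF.permAct_inv hnN hn) (P := (D.nroots / 2 ≤ ·)) (Q := (· < D.nroots / 2))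
      hmap hu
    rwa [inv_inv] at this
  have hd : n⁻¹ * h * n ∈ D.borelSubgroup K := by
    have := hF.conj_diagonal (inv_mem hnN) hh
    rw [inv_inv] at this
    exact hF.diagonal_le_borel this
  have hb : n⁻¹ * u * n ∈ D.borelSubgroup K := by
    have := mul_mem hcB (inv_mem hd)
    rwa [show n⁻¹ * (u * h) * n * (n⁻¹ * h * n)⁻¹ = n⁻¹ * u * n by group] at this
  have h0 : n⁻¹ * u * n ∈ D.borelSubgroup K ⊓ D.negUnipotent K := ⟨hb, hneg⟩
  rw [hF.borel_inf_neg, Subgroup.mem_bot] at h0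
  have : u = 1 := by
    calc u = n * (n⁻¹ * u * n) * n⁻¹ := by group
      _ = 1 := by rw [h0]; group
  rwa [this, one_mul]

theorem card_bnPair_B :
    Nat.card ↥T.bnPair.B = Nat.card ↥(G ⊓ D.borelSubgroup K : Subgroup (GL D.Idx K)) := by
  rw [inf_comm]
  exact Nat.card_congr (Subgroup.subgroupOfEquivOfLe inf_le_right).toEquiv

theorem card_parabolic_one [Finite K] (o : ι) :
    Nat.card ↥(T.bnPair.parabolic {(⟨T.nO o, T.nO_mem o⟩ : ↥G)}) =
      Nat.card ↥T.bnPair.B * (1 + Nat.card ↥(T.fixU (O o).wO)) := by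
  classical
  have hF := T.sig.hF
  set s : ↥G := ⟨T.nO o, T.nO_mem o⟩ with hs
  have hsS : s ∈ T.bnPair.S := ⟨o, rfl⟩
  have hJ : ({s} : Set ↥G) ⊆ T.bnPair.S := Set.singleton_subset_iff.2 hsS
  have hUG : T.fixU (O o).wO ≤ G := by rw [T.fixU_wO]; exact fun x hx => T.posO_le o hx
  have hUB : ∀ {x}, x ∈ T.fixU (O o).wO → x ∈ D.borelSubgroup K := fun hx =>
    hF.pos_le_borel (rootClosure_mono (fun r _ ⟨_, h, _⟩ => h) hx.2)
  let f : ↥T.bnPair.B ⊕ (↥T.bnPair.B × ↥(T.fixU (O o).wO)) → ↥(T.bnPair.parabolic {s}) :=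
    Sum.elim (fun b => ⟨b.1, BN.B_le_parabolic _ b.2⟩)
      (fun p => ⟨p.1.1 * s * ⟨p.2.1, hUG p.2.2⟩,
        mul_mem (mul_mem (BN.B_le_parabolic _ p.1.2) (BN.J_subset_parabolic rfl))
          (BN.B_le_parabolic _ ⟨hUB p.2.2, hUG p.2.2⟩)⟩)
  have hcell : ∀ p : ↥T.bnPair.B × ↥(T.fixU (O o).wO), (f (Sum.inr p)).1 ∈ BN.cell T.bnPair s := fun p =>
    BN.mem_cell.2 ⟨p.1.1, p.1.2, ⟨p.2.1, hUG p.2.2⟩, ⟨hUB p.2.2, hUG p.2.2⟩, rfl⟩
  have hnB : ∀ g, g ∈ BN.cell T.bnPair s → g ∉ T.bnPair.B := by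
    intro g hg hgB
    obtain ⟨b₁, hb₁, b₂, hb₂, rfl⟩ := BN.mem_cell.1 hg
    refine BN.s_not_mem_B hsS ?_
    have := mul_mem (mul_mem (inv_mem hb₁) hgB) (inv_mem hb₂)
    simpa [mul_assoc] using this
  have hf : Function.Bijective f := by
    constructor
    · rintro (b | p) (b' | p') e
      · exact congrArg Sum.inl (Subtype.ext (congrArg (fun z => z.1) e))
      · exact absurd ((congrArg (fun z => z.1) e) ▸ b.2 : (f (Sum.inr p')).1 ∈ T.bnPair.B) (hnB _ (hcell p'))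
      · exact absurd ((congrArg (fun z => z.1) e).symm ▸ b'.2 : (f (Sum.inr p)).1 ∈ T.bnPair.B) (hnB _ (hcell p))
      · have e' : (p.1.1 : GL D.Idx K) * T.nO o * p.2.1 = (p'.1.1 : GL D.Idx K) * T.nO o * p'.2.1 :=
          congrArg (fun z => (z.1 : GL D.Idx K)) e
        obtain ⟨h1, h2⟩ := hF.bruhat_unique (T.nO_perm o) p.1.2.1 p'.1.2.1 p.2.2.2 p'.2.2.2 e'
        exact congrArg Sum.inr (Prod.ext (Subtype.ext (Subtype.ext h1)) (Subtype.ext h2))
    · rintro ⟨g, hg⟩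
      obtain ⟨l, hl, hgl⟩ := (BN.mem_parabolic_iff hJ).1 hg
      have hpow : ∀ l : List ↥G, (∀ x ∈ l, x ∈ ({s} : Set ↥G)) →
          BN.Eqv T.bnPair l.prod 1 ∨ BN.Eqv T.bnPair l.prod s := by
        intro l hl
        induction l with
        | nil => exact Or.inl (BN.Eqv.refl _)
        | cons x l ih =>
          obtain rfl : x = s := hl x (by simp)
          rcases ih (fun y hy => hl y (by simp [hy])) with h | h
          · right; simpa using h.mul_left s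
          · left
            rw [List.prod_cons]
            exact (h.mul_left s).trans (BN.eqv_one_iff.2 (BN.sq_mem_H hsS)).symm
      rcases hpow l hl with h | h
      · rw [h.cell_eq] at hgl
        exact ⟨Sum.inl ⟨g, BN.cell_one_subset hgl⟩, rfl⟩
      · rw [h.cell_eq] at hgl
        obtain ⟨c₁, hc₁, c₂, hc₂, hg'⟩ := BN.mem_cell.1 hgl
        obtain ⟨b, hbG, hb, n, hnG, hn, w, hw, -, u, hu, e⟩ := T.bruhat g.2
        have e' : b * n * u = (c₁ : GL D.Idx K) * T.nO o * c₂ := by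
          rw [← e, hg']; rfl
        have hUBw : u ∈ D.borelSubgroup K :=
          hF.pos_le_borel (rootClosure_mono (fun r _ ⟨_, h, _⟩ => h) hu.2)
        have h1 := hF.bruhat_eqv T.sig.hC hb hc₁.1 hn (T.nO_monomial o) hUBw hc₂.1 e'
        have hw' : w = (O o).wO := by
          have h2 := hF.permAct_mul hw (hF.permAct_diagonal h1)
          rw [mul_inv_cancel_left, mul_one] at h2
          exact hF.permAct_unique h2 (T.nO_perm o)
        subst hw'
        have hb' : b * n * (T.nO o)⁻¹ ∈ D.borelSubgroup K := by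
          rw [show b * n * (T.nO o)⁻¹ = b * (T.nO o * ((T.nO o)⁻¹ * n) * (T.nO o)⁻¹) by group]
          exact mul_mem hb (hF.diagonal_le_borel
            (hF.conj_diagonal (T.nO_monomial o) (hF.same_perm (T.nO_monomial o) hn (T.nO_perm o) hw)))
        have hbG' : b * n * (T.nO o)⁻¹ ∈ G := mul_mem (mul_mem hbG hnG) (inv_mem (T.nO_mem o))
        refine ⟨Sum.inr (⟨⟨b * n * (T.nO o)⁻¹, hbG'⟩, hb', hbG'⟩, ⟨u, hu⟩), Subtype.ext (Subtype.ext ?_)⟩
        show b * n * (T.nO o)⁻¹ * T.nO o * u = (g : GL D.Idx K)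
        rw [e]; group
  rw [← Nat.card_eq_of_bijective f hf, Nat.card_sum, Nat.card_prod, mul_add, mul_one]

end CfsgLib.Chev.TwSys
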