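/-
The group of type ²G₂ over the field with three elements: kernel computations.
-/
import Mathlib
import Cfsg.Agent.Lib.Chev.Twist.ReeThreeEnc

set_option autoImplicit false
set_option maxRecDepth 20000

namespace CfsgLib.Chev.TwG2.Three

open Cfsg.Lie Matrix

/-- The table of a root element. -/
def rootT (r t : ℕ) : List (List ℕ) := if t = 0 then oneT else xTab.getD (2 * r + (t - 1)) []

theorem rootT_ok : ∀ r : Fin chevG2.nroots, ∀ t : ZMod 3,
    (rootT r.val t.val).length = 14 ∧ (rootT r.val t.val).all (fun c => c.length == 14) = true ∧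
    ∀ i j : Fin 14, chevG2.xMat (ZMod 3) r t (eT i) (eT j) =
      ((((rootT r.val t.val).getD j.val []).getD i.val 0 : ℕ) : ZMod 3) := by
  decide +kernel

/-- The table of a word. -/
def wordT (w : List (ℕ × ZMod 3)) : List (List ℕ) := prodT (w.map fun p => rootT p.1 p.2.val)

theorem wordT_enc : ∀ w : List (ℕ × ZMod 3), (∀ p ∈ w, p.1 < chevG2.nroots) →
    Enc (chevG2.wordMat (ZMod 3) w) (wordT w) := by
  intro w
  induction w with
  | nil => intro _; simpa [ChevalleyDatum.wordMat, wordT, prodT] using enc_one
  | cons p w ih =>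
    intro h
    have hp := h p List.mem_cons_self
    obtain ⟨h1, h2, h3⟩ := rootT_ok ⟨p.1, hp⟩ p.2
    have hx : Enc (chevG2.x (ZMod 3) p.1 p.2) (rootT p.1 p.2.val) := by
      refine ⟨h1, fun c hc => by simpa using List.all_eq_true.1 h2 c hc, fun i j => ?_⟩
      rw [ChevalleyDatum.x, dif_pos hp]
      exact h3 i j
    have := enc_mul hx (ih fun q hq => h q (List.mem_cons_of_mem _ hq))
    simpa [ChevalleyDatum.wordMat, wordT, prodT] using this

/-- The standard generating words. -/
def word (n : Fin 54) : List (ℕ × ZMod 3) :=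
  let t : ZMod 3 := ((n.val % 27 / 9 : ℕ) : ZMod 3)
  let u : ZMod 3 := ((n.val % 9 / 3 : ℕ) : ZMod 3)
  let v : ZMod 3 := ((n.val % 3 : ℕ) : ZMod 3)
  if n.val < 27 then reeWordU 1 t u v else reeWordV 1 t u v

/-- The six base words. -/
def baseW (k : Fin 6) : List (ℕ × ZMod 3) := word ([9, 3, 1, 36, 30, 28].getD k.val 0)

theorem word_ok : ∀ n : Fin 54, (word n).all (fun p => decide (p.1 < chevG2.nroots)) = true := by
  decide +kernel

theorem word_all : ∀ t u v : ZMod 3, (∃ n : Fin 54, word n = reeWordU 1 t u v) ∧
    ∃ n : Fin 54, word n = reeWordV 1 t u v := by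
  decide +kernel

/-- The tables of the six base elements. -/
def baseT (k : Fin 6) : List (List ℕ) := wordT (baseW k)

theorem wordTab_ok : ∀ n : Fin 54, (wordTab.getD n.val []).all (fun k => decide (k < 6)) = true ∧
    wordT (word n) = prodT ((wordTab.getD n.val []).map fun k => baseT (Fin.ofNat 6 k)) := by
  decide +kernel

theorem orbit_ok : ∀ k : Fin 6, (List.range 378).all (fun i =>
    let j := (imgTab.getD k.val []).getD i 0
    decide (j < 378) && (apT (baseT k) (vecTab.getD i []) == vecTab.getD j []) &&
      ((colTab.getD i 0 + shiftTab.getD k.val 0) % 3 == colTab.getD j 0)) = true := by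
  decide +kernel

theorem vec_ok : (List.range 378).all (fun i => (vecTab.getD i []).length == 14 &&
    (vecTab.getD i []).all (fun x => decide (x < 3)) && decide (colTab.getD i 0 < 3)) = true := by
  decide +kernel

theorem vec_inj : (List.range 378).all (fun i => (List.range i).all fun j =>
    !(vecTab.getD i [] == vecTab.getD j [])) = true := by
  decide +kernel

/-- The table of the test commutator. -/
def commT : List (List ℕ) := prodT (commTab.flatten.map fun k => baseT (Fin.ofNat 6 k))

theorem comm_ok : prodT (List.replicate 9 commT) = oneT ∧ prodT (List.replicate 3 commT) ≠ oneT ∧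
    prodT ((commTab.getD 0 [] ++ commTab.getD 2 []).map fun k => baseT (Fin.ofNat 6 k)) = oneT ∧
    prodT ((commTab.getD 1 [] ++ commTab.getD 3 []).map fun k => baseT (Fin.ofNat 6 k)) = oneT := by
  decide +kernel

theorem shift_zero : shiftTab.getD 0 0 = 1 := rfl

end CfsgLib.Chev.TwG2.Three
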