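/-
The derived subgroup of the group of type ²G₂ over the field with three elements.
-/
import Mathlib
import Cfsg.Agent.S0496
import Cfsg.Agent.Lib.Chev.BNNormal
import Cfsg.Agent.Lib.Chev.Twist.G2Main
import Cfsg.Agent.Lib.Chev.Twist.ReeThree

set_option autoImplicit false

namespace CfsgLib.Chev.TwG2.Three

open Cfsg.Lie Matrix
open scoped commutatorElement

/-- A group of order 1512 with these properties has a simple derived subgroup of order 504. -/
theorem simple_derived {G : Type*} [Group G] [Finite G] (hcard : Nat.card G = 1512)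
    (hK : ∀ K : Subgroup G, K.Normal → K ≠ ⊥ → 28 ∣ Nat.card K) (h3 : 3 ∣ (commutator G).index)
    {c : G} (hc : c ∈ commutator G) (hc9 : orderOf c = 9) :
    Nat.card (commutator G) = 504 ∧ IsSimpleGroup (commutator G) := by
  classical
  set D := commutator G with hD
  have hD504 : Nat.card D ∣ 504 := by
    obtain ⟨k, hk⟩ := h3
    have h := D.card_mul_index
    rw [hcard, hk] at h
    exact ⟨k, by linarith⟩
  have hDne : D ≠ ⊥ := fun h => by
    rw [h, Subgroup.mem_bot] at hc
    rw [hc, orderOf_one] at hc9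
    norm_num at hc9
  obtain ⟨N, ⟨hNn, hN0, hND⟩, hmin⟩ := (Set.toFinite {N : Subgroup G | N.Normal ∧ N ≠ ⊥ ∧ N ≤ D}).exists_minimal
    ⟨D, inferInstance, hDne, le_rfl⟩
  have hminle : ∀ K : Subgroup G, K.Normal → K ≤ N → K = ⊥ ∨ K = N := by
    intro K hKn hKN
    by_cases h : K = ⊥
    · exact Or.inl h
    · exact Or.inr (le_antisymm hKN (hmin ⟨hKn, h, hKN.trans hND⟩ hKN))
  have h7 : 7 ∣ Nat.card N := (by norm_num : (7 : ℕ) ∣ 28).trans (hK N hNn hN0)
  have hperf : commutator ↥N = ⊤ := by
    haveI := hNn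
    rcases hminle ((commutator ↥N).map N.subtype)
        (by haveI : (commutator ↥N).Characteristic := inferInstance
            exact ConjAct.normal_of_characteristic_of_normal)
        (Subgroup.map_subtype_le _) with h | h
    · exfalso
      haveI : Fact (Nat.Prime 7) := ⟨by norm_num⟩
      rw [Subgroup.map_eq_bot_iff_of_injective _ N.subtype_injective] at h
      have hab : ∀ a b : ↥N, a * b = b * a := by
        intro a b
        have hm : ⁅a, b⁆ ∈ commutator ↥N := by
          rw [commutator_def]; exact Subgroup.commutator_mem_commutator trivial trivial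
        rw [h, Subgroup.mem_bot, commutatorElement_eq_one_iff_mul_comm] at hm
        exact hm
      let P : Sylow 7 ↥N := default
      have hPn : (P : Subgroup ↥N).Normal := ⟨fun x hx g => by rwa [hab g x, mul_assoc, mul_inv_cancel, mul_one]⟩
      haveI := P.characteristic_of_normal hPn
      have hn : ((P : Subgroup ↥N).map N.subtype).Normal := ConjAct.normal_of_characteristic_of_normal
      have hne : (P : Subgroup ↥N).map N.subtype ≠ ⊥ := by
        rw [Ne, Subgroup.map_eq_bot_iff_of_injective _ N.subtype_injective]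
        exact P.ne_bot_of_dvd_card h7
      have h28 := hK _ hn hne
      rw [Nat.card_congr (Subgroup.equivMapOfInjective _ _ N.subtype_injective).symm.toEquiv] at h28
      obtain ⟨k, hk⟩ := IsPGroup.iff_card.1 P.isPGroup'
      rw [hk] at h28
      exact absurd (Nat.prime_two.dvd_of_dvd_pow ((by norm_num : (2 : ℕ) ∣ 28).trans h28)) (by norm_num)
    · refine eq_top_iff.2 fun x _ => ?_
      have hx : (x : G) ∈ (commutator ↥N).map N.subtype := h.symm ▸ x.2
      obtain ⟨y, hy, e⟩ := hx
      rwa [show x = y from Subtype.ext e.symm]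
  have hNdvd : Nat.card N ∣ 504 := (Subgroup.card_dvd_of_le hND).trans hD504
  haveI : Nontrivial ↥N := (Subgroup.nontrivial_iff_ne_bot N).2 hN0
  obtain ⟨M, ⟨hMn, hMtop⟩, hMmax⟩ := (Set.toFinite {M : Subgroup ↥N | M.Normal ∧ M ≠ ⊤}).exists_maximal
    ⟨⊥, inferInstance, bot_ne_top⟩
  haveI := hMn
  haveI : Nontrivial (↥N ⧸ M) := QuotientGroup.nontrivial_iff.2 hMtop
  haveI hQ : IsSimpleGroup (↥N ⧸ M) := by
    refine ⟨fun K hKn => ?_⟩
    by_cases h : K.comap (QuotientGroup.mk' M) = ⊤
    · refine Or.inr (eq_top_iff.2 fun x _ => ?_)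
      obtain ⟨y, rfl⟩ := QuotientGroup.mk'_surjective M x
      exact (show y ∈ K.comap (QuotientGroup.mk' M) by rw [h]; trivial)
    · refine Or.inl (eq_bot_iff.2 fun x hx => ?_)
      obtain ⟨y, rfl⟩ := QuotientGroup.mk'_surjective M x
      have hy : y ∈ M := hMmax ⟨hKn.comap _, h⟩
        (fun z hz => show QuotientGroup.mk' M z ∈ K by
          rw [show QuotientGroup.mk' M z = 1 from (QuotientGroup.eq_one_iff z).2 hz]; exact one_mem K) hx
      exact Subgroup.mem_bot.2 ((QuotientGroup.eq_one_iff y).2 hy)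
  have hnab : ¬ IsMulCommutative (↥N ⧸ M) := by
    intro h
    letI : CommGroup (↥N ⧸ M) := { mul_comm := h.is_comm.comm }
    refine hMtop (eq_top_iff.2 (hperf ▸ ?_))
    have := Abelianization.commutator_subset_ker (QuotientGroup.mk' M)
    rwa [QuotientGroup.ker_mk'] at this
  have hQdvd : Nat.card (↥N ⧸ M) ∣ 504 := (Subgroup.card_quotient_dvd_card M).trans hNdvd
  have hQle : Nat.card (↥N ⧸ M) ≤ 1092 := (Nat.le_of_dvd (by norm_num) hQdvd).trans (by norm_num)
  have hNeq : Nat.card N = Nat.card (↥N ⧸ M) * Nat.card M := Subgroup.card_eq_card_quotient_mul_card_subgroup M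
  have hN504 : Nat.card N ≤ 504 := Nat.le_of_dvd (by norm_num) hNdvd
  have hMpos : 0 < Nat.card M := Nat.card_pos
  rcases Cfsg.Agent.S0496.result hnab hQle with h | h | h | h | h | h <;> rw [h] at hQdvd hNeq <;>
    try (norm_num at hQdvd)
  · -- the quotient has order 168
    have hM3 : Nat.card M = 1 ∨ Nat.card M = 3 := by
      have : 168 * Nat.card M ∣ 504 := hNeq ▸ hNdvd
      have h3' : Nat.card M ∣ 3 := Nat.dvd_of_mul_dvd_mul_left (show 0 < 168 by norm_num) this
      exact (Nat.dvd_prime Nat.prime_three).1 h3'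
    exfalso
    rcases hM3 with hM | hM
    · -- order 168
      rw [hM, mul_one] at hNeq
      haveI := hNn
      have hidx : Nat.card (G ⧸ N) = 3 ^ 2 := by
        have := N.card_mul_index
        rw [hcard, hNeq] at this
        rw [← Subgroup.index]
        omega
      haveI : Fact (Nat.Prime 3) := ⟨Nat.prime_three⟩
      have hle : D ≤ N := by
        letI : CommGroup (G ⧸ N) := IsPGroup.commGroupOfCardEqPrimeSq hidx
        have := Abelianization.commutator_subset_ker (QuotientGroup.mk' N)
        rwa [QuotientGroup.ker_mk'] at this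
      have := orderOf_dvd_natCard (⟨c, hle hc⟩ : ↥N)
      rw [Subgroup.orderOf_mk, hc9, hNeq] at this
      norm_num at this
    · -- a central subgroup of order three
      have hMc : M ≤ Subgroup.center ↥N := by
        let f : ↥N →* MulAut ↥M := MulAut.conjNormal
        haveI : Fact (Nat.Prime 3) := ⟨Nat.prime_three⟩
        haveI : IsCyclic ↥M := isCyclic_of_prime_card hM
        have hcomm : ∀ a b : MulAut ↥M, a * b = b * a := by
          intro a b
          obtain ⟨g, hg⟩ := IsCyclic.exists_generator (α := ↥M)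
          obtain ⟨i, hi⟩ := Subgroup.mem_zpowers_iff.1 (hg (a g))
          obtain ⟨j, hj⟩ := Subgroup.mem_zpowers_iff.1 (hg (b g))
          ext x
          obtain ⟨k, rfl⟩ := Subgroup.mem_zpowers_iff.1 (hg x)
          simp only [MulAut.mul_apply, map_zpow]
          rw [← hj, map_zpow, ← hi, map_zpow, ← hj, ← _root_.zpow_mul, ← _root_.zpow_mul, ← _root_.zpow_mul, mul_left_comm i j k, ← _root_.zpow_mul]
        letI : CommGroup (MulAut ↥M) := { mul_comm := hcomm }
        have hker : commutator ↥N ≤ f.ker := Abelianization.commutator_subset_ker f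
        intro m hm
        rw [Subgroup.mem_center_iff]
        intro n
        have hn : f n = 1 := hker (hperf ▸ Subgroup.mem_top n)
        have := congrArg (fun e : MulAut ↥M => ((e ⟨m, hm⟩ : ↥M) : ↥N)) hn
        simp only [f, MulAut.conjNormal_apply, MulAut.one_apply] at this
        exact mul_inv_eq_iff_eq_mul.1 this
      haveI := hNn
      have hZn : ((Subgroup.center ↥N).map N.subtype).Normal := ConjAct.normal_of_characteristic_of_normal
      have hZne : (Subgroup.center ↥N).map N.subtype ≠ ⊥ := by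
        rw [Ne, Subgroup.map_eq_bot_iff_of_injective _ N.subtype_injective]
        intro h0
        rw [h0, le_bot_iff] at hMc
        rw [hMc, Subgroup.card_bot] at hM
        norm_num at hM
      have h28 := hK _ hZn hZne
      rw [Nat.card_congr (Subgroup.equivMapOfInjective _ _ N.subtype_injective).symm.toEquiv] at h28
      have hZM : Subgroup.center ↥N ≤ M := by
        intro z hz
        have hz' : QuotientGroup.mk' M z ∈ Subgroup.center (↥N ⧸ M) := by
          rw [Subgroup.mem_center_iff]
          intro y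
          obtain ⟨y, rfl⟩ := QuotientGroup.mk'_surjective M y
          rw [← map_mul, ← map_mul, Subgroup.mem_center_iff.1 hz y]
        rcases (inferInstance : (Subgroup.center (↥N ⧸ M)).Normal).eq_bot_or_eq_top with h' | h'
        · rw [h', Subgroup.mem_bot] at hz'
          exact (QuotientGroup.eq_one_iff z).1 hz'
        · refine absurd ⟨⟨fun a b => ?_⟩⟩ hnab
          exact Subgroup.mem_center_iff.1 (h' ▸ Subgroup.mem_top b) a
      have := Subgroup.card_le_of_le hZM
      rw [hM] at this
      have := Nat.le_of_dvd Nat.card_pos h28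
      omega
  · -- the quotient has order 504
    have hM : Nat.card M = 1 := by nlinarith
    rw [hM, mul_one] at hNeq
    have hND' : N = D := by
      refine Subgroup.eq_of_le_of_card_ge hND ?_
      rw [hNeq]
      exact Nat.le_of_dvd (by norm_num) hD504
    refine ⟨hND' ▸ hNeq, ?_⟩
    have hbot : M = ⊥ := Subgroup.eq_bot_of_card_eq M hM
    have hs : IsSimpleGroup ↥N := by
      haveI := hQ
      exact ((QuotientGroup.quotientMulEquivOfEq hbot).trans QuotientGroup.quotientBot).symm.isSimpleGroup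
    exact hND' ▸ hs

/-- The group. -/
abbrev G : Subgroup (GL chevG2.Idx (ZMod 3)) := twistedG2 (ZMod 3) 1

theorem exists_ctx : Nonempty (Ctx (ZMod 3) 0) := nonempty_ctx (by simp)

theorem word_lt (n : Fin 54) : ∀ p ∈ word n, p.1 < chevG2.nroots := fun p hp => by
  simpa using List.all_eq_true.1 (word_ok n) p hp

theorem word_mem (n : Fin 54) : word n ∈ g2Words (ZMod 3) 1 := by
  unfold word
  split
  · exact ⟨_, _, _, Or.inl rfl⟩
  · exact ⟨_, _, _, Or.inr rfl⟩

theorem wU_word_mem (n : Fin 54) : wU chevG2 (word n) ∈ G :=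
  Subgroup.subset_closure ⟨word n, word_mem n, DataG2.facts.wU_val (word_lt n)⟩

/-- A base element. -/
noncomputable def bk (k : Fin 6) : ↥G := ⟨wU chevG2 (baseW k), wU_word_mem _⟩

/-- The matrix of an element. -/
abbrev mT (g : ↥G) : Matrix chevG2.Idx chevG2.Idx (ZMod 3) := ((g : GL chevG2.Idx (ZMod 3)) : Matrix _ _ _)

theorem bk_enc (k : Fin 6) : Enc (mT (bk k)) (baseT k) := by
  show Enc ((wU chevG2 (baseW k) : GL chevG2.Idx (ZMod 3)) : Matrix _ _ _) _
  rw [DataG2.facts.wU_val (w := baseW k) (word_lt _)]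
  exact wordT_enc _ (word_lt _)

/-- The value of a word. -/
noncomputable def bw (w : List ℕ) : ↥G := (w.map fun k => bk (Fin.ofNat 6 k)).prod

theorem bw_enc : ∀ w : List ℕ, Enc (mT (bw w)) (prodT (w.map fun k => baseT (Fin.ofNat 6 k))) := by
  intro w
  induction w with
  | nil => simpa [bw, prodT, mT] using enc_one
  | cons k w ih =>
    have := enc_mul (bk_enc (Fin.ofNat 6 k)) ih
    simpa [bw, prodT, mT] using this

theorem bw_append (a b : List ℕ) : bw (a ++ b) = bw a * bw b := by simp [bw]

theorem mT_inj {a b : ↥G} (h : mT a = mT b) : a = b := Subtype.ext (Units.ext h)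

theorem closure_bk : Subgroup.closure (Set.range bk) = (⊤ : Subgroup ↥G) := by
  have hmem : ∀ (g : GL chevG2.Idx (ZMod 3)) (hg : g ∈ G),
      (⟨g, hg⟩ : ↥G) ∈ Subgroup.closure (Set.range bk) := by
    have hle : G ≤ (Subgroup.closure (Set.range bk)).map G.subtype := by
      refine (Subgroup.closure_le _).2 ?_
      rintro g ⟨w, ⟨t, u, v, hw⟩, hg⟩
      obtain ⟨n, rfl⟩ : ∃ n, word n = w := by
        rcases hw with rfl | rfl
        · exact (word_all t u v).1
        · exact (word_all t u v).2
      refine ⟨bw (wordTab.getD n.val []), ?_, ?_⟩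
      · refine list_prod_mem fun x hx => ?_
        obtain ⟨k, -, rfl⟩ := List.mem_map.1 hx
        exact Subgroup.subset_closure ⟨_, rfl⟩
      · refine Units.ext (enc_inj (bw_enc _) ?_)
        rw [← (wordTab_ok n).2, hg]
        exact wordT_enc _ (word_lt n)
    intro g hg
    obtain ⟨x, hx, e⟩ := hle hg
    rwa [show (⟨g, hg⟩ : ↥G) = x from Subtype.ext e.symm]
  exact eq_top_iff.2 fun x _ => hmem x.1 x.2

/-- A vector of the orbit. -/
def vv (i : ℕ) : chevG2.Idx → ZMod 3 := vT (vecTab.getD i [])

theorem vv_inj {i j : ℕ} (hi : i < 378) (hj : j < 378) (h : vv i = vv j) : i = j := by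
  have key : ∀ i j : ℕ, j < i → i < 378 → vv i ≠ vv j := by
    intro i j hji hi h
    have hd := List.all_eq_true.1 (List.all_eq_true.1 vec_inj i (List.mem_range.2 hi)) j (List.mem_range.2 hji)
    simp only [Bool.not_eq_true', beq_eq_false_iff_ne, ne_eq] at hd
    have hvi := List.all_eq_true.1 vec_ok i (List.mem_range.2 hi)
    have hvj := List.all_eq_true.1 vec_ok j (List.mem_range.2 (hji.trans hi))
    simp only [Bool.and_eq_true, beq_iff_eq, List.all_eq_true, decide_eq_true_eq] at hvi hvj
    refine hd (List.ext_getElem (hvi.1.1.trans hvj.1.1.symm) fun k hk hk' => ?_)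
    have e := congrFun h (eT ⟨k, hvi.1.1 ▸ hk⟩)
    simp only [vv, vT, Equiv.symm_apply_apply, List.getD_eq_getElem _ _ hk, List.getD_eq_getElem _ _ hk'] at e
    rw [ZMod.natCast_eq_natCast_iff'] at e
    rwa [Nat.mod_eq_of_lt (hvi.1.2 _ (List.getElem_mem hk)),
      Nat.mod_eq_of_lt (hvj.1.2 _ (List.getElem_mem hk'))] at e
  rcases lt_trichotomy i j with h' | h' | h'
  · exact absurd h.symm (key j i h' hj)
  · exact h'
  · exact absurd h (key i j h' hi)

/-- The element shifts all colours by the given amount. -/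
def Shifts (g : ↥G) (d : ZMod 3) : Prop :=
  ∀ i < 378, ∃ j < 378, mT g *ᵥ vv i = vv j ∧ (colTab.getD j 0 : ZMod 3) = colTab.getD i 0 + d

theorem shifts_mul {a b : ↥G} {d e : ZMod 3} (ha : Shifts a d) (hb : Shifts b e) : Shifts (a * b) (d + e) := by
  intro i hi
  obtain ⟨j, hj, h1, h2⟩ := hb i hi
  obtain ⟨k, hk, h3, h4⟩ := ha j hj
  refine ⟨k, hk, ?_, by rw [h4, h2]; ring⟩
  show (mT a * mT b) *ᵥ vv i = _
  rw [← Matrix.mulVec_mulVec, h1, h3]

theorem shifts_one : Shifts 1 0 := fun i hi => ⟨i, hi, by simp [mT], by simp⟩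

theorem shifts_unique {g : ↥G} {d e : ZMod 3} (h : Shifts g d) (h' : Shifts g e) : d = e := by
  obtain ⟨j, hj, h1, h2⟩ := h 0 (by norm_num)
  obtain ⟨k, hk, h3, h4⟩ := h' 0 (by norm_num)
  rw [vv_inj hk hj (h3.symm.trans h1)] at h4
  exact add_left_cancel (h2.symm.trans h4)

theorem shifts_bk (k : Fin 6) : Shifts (bk k) (shiftTab.getD k.val 0 : ℕ) := by
  intro i hi
  have h := List.all_eq_true.1 (orbit_ok k) i (List.mem_range.2 hi)
  have hvi := List.all_eq_true.1 vec_ok i (List.mem_range.2 hi)
  simp only [Bool.and_eq_true, beq_iff_eq, decide_eq_true_eq] at h hvi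
  obtain ⟨⟨hj, h1⟩, h2⟩ := h
  refine ⟨_, hj, ?_, ?_⟩
  · rw [vv, enc_mulVec (bk_enc k) hvi.1.1, h1, vv]
  · rw [← h2, ZMod.natCast_mod]
    push_cast
    rfl

theorem finite_G : Finite ↥G := inferInstance

theorem exists_shifts (g : ↥G) : ∃ d, Shifts g d := by
  let S : Submonoid ↥G :=
    { carrier := {g | ∃ d, Shifts g d}
      one_mem' := ⟨0, shifts_one⟩
      mul_mem' := fun ⟨d, hd⟩ ⟨e, he⟩ => ⟨d + e, shifts_mul hd he⟩ }
  let S' : Subgroup ↥G :=
    { S with
      inv_mem' := fun {a} ha => by
        show a⁻¹ ∈ S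
        have e : a⁻¹ = a ^ (orderOf a - 1) := by
          refine inv_eq_of_mul_eq_one_right ?_
          rw [← pow_succ', Nat.sub_add_cancel (orderOf_pos a), pow_orderOf_eq_one]
        rw [e]
        exact S.pow_mem ha _ }
  exact (Subgroup.closure_le S').2 (by rintro _ ⟨k, rfl⟩; exact ⟨_, shifts_bk k⟩)
    (closure_bk.symm ▸ Subgroup.mem_top g)

/-- The homomorphism onto the group of order three. -/
noncomputable def shiftHom : ↥G →* Multiplicative (ZMod 3) :=
  MonoidHom.mk' (fun g => Multiplicative.ofAdd (exists_shifts g).choose) fun a b => by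
    rw [← ofAdd_add]
    exact congrArg _ (shifts_unique (exists_shifts (a * b)).choose_spec
      (shifts_mul (exists_shifts a).choose_spec (exists_shifts b).choose_spec))

theorem three_dvd_index : 3 ∣ (commutator ↥G).index := by
  have hle : commutator ↥G ≤ shiftHom.ker := Abelianization.commutator_subset_ker _
  refine dvd_trans ?_ (Subgroup.index_dvd_of_le hle)
  have hsurj : Function.Surjective shiftHom := by
    have h1 : shiftHom (bk 0) = Multiplicative.ofAdd (1 : ZMod 3) :=
      congrArg Multiplicative.ofAdd ((shifts_unique (exists_shifts (bk 0)).choose_spec (shifts_bk 0)).trans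
        (by show ((shiftTab.getD 0 0 : ℕ) : ZMod 3) = 1; rw [shift_zero]; norm_num))
    intro x
    refine ⟨bk 0 ^ (Multiplicative.toAdd x).val, ?_⟩
    rw [map_pow, h1, ← ofAdd_nsmul, nsmul_one, ZMod.natCast_zmod_val]
    exact ofAdd_toAdd x
  rw [Subgroup.index_ker, MonoidHom.range_eq_top.2 hsurj, Subgroup.card_top, Nat.card_eq_fintype_card,
    Fintype.card_multiplicative, ZMod.card]

theorem card_G : Nat.card ↥G = 1512 := by
  obtain ⟨C⟩ := exists_ctx
  have h := C.card_twisted
  norm_num at h
  exact h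

theorem normal_card (K : Subgroup ↥G) (hK : K.Normal) (hK0 : K ≠ ⊥) : 28 ∣ Nat.card K := by
  obtain ⟨C⟩ := exists_ctx
  let B : Subgroup ↥G := (chevG2.borelSubgroup (ZMod 3) ⊓ G).subgroupOf G
  have hcore : B.normalCore = ⊥ := C.sys.normalCore_eq_bot fun h hh hc => C.sep hh hc
  have hsup : B ⊔ K = ⊤ := BN.sup_normal_eq_top C.sys.bnPair C.irr hcore K hK hK0
  have hB : Nat.card B = 54 := by
    rw [Nat.card_congr (Subgroup.subgroupOfEquivOfLe (inf_le_right :
      chevG2.borelSubgroup (ZMod 3) ⊓ G ≤ G)).toEquiv, inf_comm]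
    have h := C.sys.card_B
    have h1 := C.card_posU
    have h2 := C.card_torus
    rw [DataG2.facts.posUnipotent_eq] at h1
    rw [inf_comm] at h2
    have h3 : Nat.card ↥(fixS C.σ ⊓ rootClosure chevG2 (ZMod 3) (chevG2.nroots / 2 ≤ ·) :
        Subgroup (GL chevG2.Idx (ZMod 3))) = 27 := by
      have e : (fixS C.σ ⊓ rootClosure chevG2 (ZMod 3) (chevG2.nroots / 2 ≤ ·) :
          Subgroup (GL chevG2.Idx (ZMod 3))) =
          rootClosure chevG2 (ZMod 3) (chevG2.nroots / 2 ≤ ·) ⊓ twistedG2 (ZMod 3) (3 ^ 0) :=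
        le_antisymm (fun g hg => ⟨hg.2, C.sys.posU_le hg⟩) (fun g hg => ⟨C.sys.le_fix hg.2, hg.1⟩)
      rw [e, h1]
      norm_num
    rw [h3, h2] at h
    simpa using h
  haveI := hK
  have hsurj : Function.Surjective ((QuotientGroup.mk' K).comp B.subtype) := by
    intro x
    obtain ⟨g, rfl⟩ := QuotientGroup.mk'_surjective K x
    obtain ⟨b, hb, k, hk, rfl⟩ := Subgroup.mem_sup_of_normal_right.1 (show g ∈ B ⊔ K by rw [hsup]; trivial)
    refine ⟨⟨b, hb⟩, ?_⟩
    simp only [MonoidHom.comp_apply, Subgroup.subtype_apply, map_mul]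
    rw [show QuotientGroup.mk' K k = 1 from (QuotientGroup.eq_one_iff k).2 hk, mul_one]
  have hdvd := Subgroup.card_dvd_of_surjective _ hsurj
  rw [hB, ← Subgroup.index] at hdvd
  obtain ⟨k, hk⟩ := hdvd
  have hmul := K.card_mul_index
  rw [card_G] at hmul
  refine ⟨k, Nat.eq_of_mul_eq_mul_right (Nat.pos_of_ne_zero K.index_ne_zero_of_finite) ?_⟩
  rw [hmul, mul_assoc, mul_comm k, ← hk]; norm_num

theorem comm_cube_entry : ∃ i j : Fin 14,
    ((((prodT (List.replicate 3 commT)).getD j.val []).getD i.val 0 : ℕ) : ZMod 3) ≠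
      (((oneT.getD j.val []).getD i.val 0 : ℕ) : ZMod 3) := by
  decide +kernel

theorem exists_order_nine : ∃ c ∈ commutator ↥G, orderOf c = 9 := by
  obtain ⟨h1, -, h3, h4⟩ := comm_ok
  set w0 := bw (commTab.getD 0 []) with hw0
  set w1 := bw (commTab.getD 1 []) with hw1
  have one : ∀ {a : ↥G} {A}, Enc (mT a) A → A = oneT → a = 1 := fun ha e =>
    mT_inj (enc_inj ha (e ▸ (by simpa [mT] using enc_one)))
  have e02 : w0⁻¹ = bw (commTab.getD 2 []) :=
    inv_eq_of_mul_eq_one_right (by rw [hw0, ← bw_append]; exact one (bw_enc _) h3)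
  have e13 : w1⁻¹ = bw (commTab.getD 3 []) :=
    inv_eq_of_mul_eq_one_right (by rw [hw1, ← bw_append]; exact one (bw_enc _) h4)
  refine ⟨⁅w0, w1⁆, ?_, ?_⟩
  · rw [commutator_def]; exact Subgroup.commutator_mem_commutator trivial trivial
  have hc : Enc (mT ⁅w0, w1⁆) commT := by
    have e : ⁅w0, w1⁆ = bw commTab.flatten := by
      rw [commutatorElement_def, e02, e13, hw0, hw1, ← bw_append, ← bw_append, ← bw_append]
      rfl
    rw [e]
    exact bw_enc _
  have hpow : ∀ n, Enc (mT (⁅w0, w1⁆ ^ n)) (prodT (List.replicate n commT)) := by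
    intro n
    induction n with
    | zero => simpa [prodT, mT] using enc_one
    | succ n ih => rw [pow_succ', List.replicate_succ]; simpa [prodT, mT] using enc_mul hc ih
  haveI : Fact (Nat.Prime 3) := ⟨Nat.prime_three⟩
  refine (orderOf_eq_prime_pow (p := 3) (n := 1) ?_ (one (hpow 9) h1)).trans (by norm_num)
  intro h
  obtain ⟨i, j, hne⟩ := comm_cube_entry
  have e1 := hpow (3 ^ 1)
  rw [h] at e1
  have e2 : Enc (mT 1) oneT := by simpa [mT] using enc_one
  exact hne ((e1.2.2 i j).symm.trans (e2.2.2 i j))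

theorem result :
    Nat.card ↥(commutator ↥G) = 504 ∧ IsSimpleGroup ↥(commutator ↥G) := by
  obtain ⟨c, hc, h9⟩ := exists_order_nine
  exact simple_derived card_G normal_card three_dvd_index hc h9

end CfsgLib.Chev.TwG2.Three
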