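/-
The derived group of ²F₄(2) has no faithful doubly transitive action.
-/
import Mathlib
import Cfsg.Agent.Lib.Chev.Twist.TitsTwoTransWords

set_option autoImplicit false

namespace CfsgLib.Chev.TwF4.Tits.TwoTr

open Cfsg.Lie Bin Matrix Tr

theorem not_two_transitive {Ω : Type*} [Finite Ω] [MulAction ↥(commutator ↥G) Ω]
    [FaithfulSMul ↥(commutator ↥G) Ω] (h3 : 3 ≤ Nat.card Ω) :
    ¬ MulAction.IsMultiplyPretransitive ↥(commutator ↥G) Ω 2 := by
  intro h2
  haveI : Finite ↥G := Nat.finite_of_card_ne_zero (by rw [card_G]; norm_num)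
  let x := el wx (by decide)
  let g₀ := el wg (by decide)
  let g := x * g₀ * x⁻¹
  let hh := gw wh
  let y := el wy (by decide)
  let b := el wb (by decide)
  have hg8 : ((g ^ 8 : ↥(commutator ↥G)) : ↥G) = hh ^ 5 := by
    have e := gw_eq_of rel_xg
    rw [gw_append, gw_append, gw_rpw, gw_rpw] at e
    show ((x * g₀ * x⁻¹) ^ 8 : ↥(commutator ↥G)).1 = _
    rw [conj_pow, Subgroup.coe_mul, Subgroup.coe_mul, Subgroup.coe_pow, Subgroup.coe_inv]
    show gw wx * gw wg ^ 8 * (gw wx)⁻¹ = _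
    rw [e, mul_inv_cancel_right]
  refine no_two_transitive (T := ↥(commutator ↥G)) (y := y) (b := b) (g := g) ?_ h3 h2 ?_ ?_ ?_ ?_ ?_ ?_ ?_ ?_ ?_
  · rw [card_commutator]
  · refine Subtype.ext ?_
    rw [Subgroup.coe_pow, Subgroup.coe_one]
    exact (gw_rpw 5 wy).symm.trans ((gw_eq_of rel_y5).trans gw_nil)
  · exact fun e => gw_ne_of rel_y1 ((congrArg Subtype.val e).trans gw_nil.symm)
  · refine Subtype.ext ?_
    rw [Subgroup.coe_pow, Subgroup.coe_one]
    exact (gw_rpw 5 wb).symm.trans ((gw_eq_of rel_b5).trans gw_nil)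
  · have e := gw_eq_of rel_by
    rw [gw_append, gw_append] at e
    exact Subtype.ext e
  · intro i e
    have h := List.all_eq_true.1 rel_bne i.val (List.mem_range.2 i.isLt)
    refine gw_ne_of h ?_
    rw [gw_rpw]
    exact (congrArg Subtype.val e).trans (Subgroup.coe_pow _ _ _)
  · have e : g₀ ^ 16 = 1 := Subtype.ext (by
      rw [Subgroup.coe_pow, Subgroup.coe_one]
      exact (gw_rpw 16 wg).symm.trans ((gw_eq_of rel_g16).trans gw_nil))
    rw [show g = x * g₀ * x⁻¹ from rfl, conj_pow, e, mul_one, mul_inv_cancel]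
  · intro e
    rw [show g = x * g₀ * x⁻¹ from rfl, conj_pow, mul_inv_eq_one, mul_eq_left] at e
    refine gw_ne_of rel_g8 ?_
    rw [gw_rpw, gw_nil]
    have e2 : (g₀ : ↥G) ^ 8 = 1 := by rw [← Subgroup.coe_pow, e]; rfl
    exact e2
  · refine Subtype.ext ?_
    rw [Subgroup.coe_mul, Subgroup.coe_mul, hg8]
    have hyv : ((y : ↥(commutator ↥G)) : ↥G) = hh * hh := gw_append wh wh
    rw [hyv]
    exact ((Commute.pow_self hh 5).mul_right (Commute.pow_self hh 5)).eq
  · intro r hr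
    have hall : ∀ r ∈ reps, ∃ p ∈ us, p.1 = r := by decide
    obtain ⟨p, hp, rfl⟩ := hall r hr
    have h := List.all_eq_true.1 rel_us p hp
    rw [Bool.and_eq_true] at h
    refine ⟨el p.2 h.1, Subtype.ext ?_⟩
    have e := gw_eq_of h.2
    rw [gw_append, gw_append, gw_append, gw_rpw, gw_rpw] at e
    simp only [Subgroup.coe_mul, Subgroup.coe_pow]
    exact e

end CfsgLib.Chev.TwF4.Tits.TwoTr
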